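import Mathlib

/-!
# Artin–Schreier: ring-level lemmas (helper1)
-/

set_option autoImplicit false

namespace Groth.Agent.H1.ASRingH1

variable (p : ℕ) [Fact p.Prime]

/-- the ring homomorphism `ℤ/p → R` when `p = 0` in `R` -/
noncomputable def zmodHom (R : Type*) [CommRing R] (h : (p : R) = 0) : ZMod p →+* R :=
  (Ideal.Quotient.lift (Ideal.span {(p : ℤ)}) (Int.castRingHom R) (by
    intro a ha
    obtain ⟨b, rfl⟩ := Ideal.mem_span_singleton'.1 ha
    simp [h])).comp (Int.quotientSpanNatEquivZMod p).symm.toRingHom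

open Polynomial in
theorem prod_X_sub_C : ∏ a : ZMod p, (X - C a) = (X ^ p - X : (ZMod p)[X]) := by
  have hp1 : 1 < p := (Fact.out : p.Prime).one_lt
  have hroots : (X ^ p - X : (ZMod p)[X]).roots = Finset.univ.val := by
    have := FiniteField.roots_X_pow_card_sub_X (ZMod p)
    rwa [ZMod.card] at this
  have hdeg : (X ^ p - X : (ZMod p)[X]).natDegree = p :=
    FiniteField.X_pow_card_sub_X_natDegree_eq (ZMod p) hp1
  have hmonic : (X ^ p - X : (ZMod p)[X]).Monic := by
    apply Polynomial.monic_X_pow_sub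
    rw [degree_X]
    exact_mod_cast hp1
  have h := Polynomial.prod_multiset_X_sub_C_of_monic_of_roots_card_eq hmonic (by
    rw [hroots, hdeg]
    simp [ZMod.card])
  rw [hroots] at h
  exact h

theorem prod_sub_eq {R : Type*} [CommRing R] (φ : ZMod p →+* R) (d : R) :
    ∏ a : ZMod p, (d - φ a) = d ^ p - d := by
  have h := congrArg (Polynomial.eval₂ φ d) (prod_X_sub_C p)
  rw [Polynomial.eval₂_finsetProd] at h
  simpa using h

theorem add_pow_p {R : Type*} [CommRing R] (h : (p : R) = 0) (a b : R) :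
    (a + b) ^ p = a ^ p + b ^ p := by
  obtain ⟨r, hr⟩ := exists_add_pow_prime_eq (Fact.out : p.Prime) a b
  rw [hr, h]
  ring

/-- the Artin–Schreier map `x ↦ x ^ p - x` as an additive map -/
def asHom (R : Type*) [CommRing R] (h : (p : R) = 0) : R →+ R where
  toFun x := x ^ p - x
  map_zero' := by
    have hp : p ≠ 0 := (Fact.out : p.Prime).ne_zero
    simp [hp]
  map_add' a b := by
    rw [add_pow_p p h]
    ring

@[simp] theorem asHom_apply (R : Type*) [CommRing R] (h : (p : R) = 0) (x : R) :
    asHom p R h x = x ^ p - x := rfl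

theorem zmodHom_pow (R : Type*) [CommRing R] (h : (p : R) = 0) (c : ZMod p) :
    zmodHom p R h c ^ p = zmodHom p R h c := by
  rw [← map_pow, ZMod.pow_card]

theorem zmodHom_comp {R R' : Type*} [CommRing R] [CommRing R'] (f : R →+* R') (h : (p : R) = 0)
    (h' : (p : R') = 0) (c : ZMod p) : f (zmodHom p R h c) = zmodHom p R' h' c := by
  have : f.comp (zmodHom p R h) = zmodHom p R' h' := Subsingleton.elim _ _
  exact RingHom.congr_fun this c

/-- Lagrange idempotents: if `x ^ p = x` then `1 = ∑ e_c` with `e_c * (x - c) = 0`. -/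
theorem exists_idem (R : Type*) [CommRing R] (h : (p : R) = 0) (x : R) (hx : x ^ p = x) :
    ∃ e : ZMod p → R, ∑ c, e c = 1 ∧ ∀ c, e c * (x - zmodHom p R h c) = 0 := by
  classical
  let φ := zmodHom p R h
  refine ⟨fun c => Polynomial.eval₂ φ x (Lagrange.basis Finset.univ id c), ?_, ?_⟩
  · rw [← Polynomial.eval₂_finsetSum]
    rw [Lagrange.sum_basis (Set.injOn_id _) Finset.univ_nonempty]
    simp
  · intro c
    have h1 : (x - φ c) = Polynomial.eval₂ φ x (Polynomial.X - Polynomial.C c) := by simp
    change Polynomial.eval₂ φ x (Lagrange.basis Finset.univ id c) * (x - φ c) = 0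
    rw [h1, ← Polynomial.eval₂_mul]
    have h2 : Lagrange.basis Finset.univ id c * (Polynomial.X - Polynomial.C c) =
        Polynomial.C (∏ d ∈ Finset.univ.erase c, (c - d)⁻¹) *
          ∏ d : ZMod p, (Polynomial.X - Polynomial.C d) := by
      rw [Lagrange.basis]
      simp only [Lagrange.basisDivisor, id]
      rw [Finset.prod_mul_distrib, map_prod, mul_assoc, Finset.prod_erase_mul _ _ (Finset.mem_univ c)]
    rw [h2, prod_X_sub_C, Polynomial.eval₂_mul]
    have h3 : Polynomial.eval₂ φ x (Polynomial.X ^ p - Polynomial.X) = 0 := by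
      simp [hx]
    rw [h3, mul_zero]

end Groth.Agent.H1.ASRingH1
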