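import Mathlib
import Groth.Agent.Lib.Helper1.ASRingH1

/-!
# The Artin–Schreier standard étale algebra (helper1)
-/

set_option autoImplicit false

namespace Groth.Agent.H1.ASPair

open Polynomial

variable (p : ℕ) [Fact p.Prime]

theorem degree_lin_lt {R : Type*} [CommRing R] (a : R) : (X + C a : R[X]).degree < (p : WithBot ℕ) := by
  refine lt_of_le_of_lt ((degree_add_le _ _).trans
    (max_le degree_X_le (degree_C_le.trans zero_le_one))) ?_
  exact_mod_cast (Fact.out : p.Prime).one_lt

/-- The standard étale pair `(X ^ p - X - a, 1)`. -/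
noncomputable def asPair (R : Type*) [CommRing R] (h : (p : R) = 0) (a : R) :
    StandardEtalePair R where
  f := X ^ p - (X + C a)
  monic_f := Polynomial.monic_X_pow_sub (degree_lin_lt p a)
  g := 1
  cond := ⟨-1, 0, 0, by
    simp only [derivative_sub, derivative_X_pow, derivative_add, derivative_X, derivative_C,
      add_zero, mul_zero, pow_zero]
    rw [show (C ((p : ℕ) : R) : R[X]) = 0 by rw [h, C_0]]
    ring⟩

theorem asPair_f (R : Type*) [CommRing R] (h : (p : R) = 0) (a : R) :
    (asPair p R h a).f = X ^ p - (X + C a) := rfl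

theorem asPair_g (R : Type*) [CommRing R] (h : (p : R) = 0) (a : R) :
    (asPair p R h a).g = 1 := rfl

theorem asPair_root (R : Type*) [CommRing R] (h : (p : R) = 0) (a : R) :
    (asPair p R h a).X ^ p - (asPair p R h a).X = algebraMap R (asPair p R h a).Ring a := by
  have h1 := (asPair p R h a).hasMap_X.1
  rw [asPair_f] at h1
  simp only [map_sub, map_pow, aeval_X, map_add, aeval_C] at h1
  linear_combination h1

theorem comap_surjective (R : Type*) [CommRing R] (h : (p : R) = 0) (a : R) :
    Function.Surjective (PrimeSpectrum.comap (algebraMap R (asPair p R h a).Ring)) := by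
  intro q
  let K := AlgebraicClosure q.asIdeal.ResidueField
  have hdeg : ((asPair p R h a).f.map (algebraMap R K)).degree ≠ 0 := by
    have h1 : (asPair p R h a).f.map (algebraMap R K) = X ^ p - (X + C (algebraMap R K a)) := by
      rw [asPair_f]
      simp
    rw [h1, degree_sub_eq_left_of_degree_lt, degree_X_pow]
    · exact_mod_cast (Fact.out : p.Prime).ne_zero
    · rw [degree_X_pow]
      exact degree_lin_lt p _
  obtain ⟨r, hr⟩ := IsAlgClosed.exists_root _ hdeg
  have hmap : (asPair p R h a).HasMap r := by
    refine ⟨?_, ?_⟩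
    · rw [Polynomial.aeval_def, Polynomial.eval₂_eq_eval_map]
      exact hr
    · rw [asPair_g]
      simp
  let ψ : (asPair p R h a).Ring →ₐ[R] K := (asPair p R h a).lift r hmap
  refine ⟨⟨RingHom.ker ψ.toRingHom, RingHom.ker_isPrime _⟩, ?_⟩
  ext x
  simp only [PrimeSpectrum.comap_asIdeal, Ideal.mem_comap, RingHom.mem_ker]
  change ψ (algebraMap R _ x) = 0 ↔ _
  rw [AlgHom.commutes]
  rw [IsScalarTower.algebraMap_apply R q.asIdeal.ResidueField K, map_eq_zero_iff _
    (algebraMap q.asIdeal.ResidueField K).injective, Ideal.algebraMap_residueField_eq_zero]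

end Groth.Agent.H1.ASPair
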