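import Groth.Agent.Lib.Helper1.EtStalk

set_option autoImplicit false
universe u

namespace Groth.Agent.H1.EtGerm

open CategoryTheory CategoryTheory.Limits Opposite GrothendieckTopology AlgebraicGeometry
open Groth.Agent.H1.EtStalk

variable {X : Scheme.{u}} {Ω : Type u} [Field Ω] [IsSepClosed Ω]
  (ξ : Spec (CommRingCat.of Ω) ⟶ X)

/-- lifts of the geometric point `ξ` to an etale `X`-scheme `U` -/
abbrev Lift (U : X.Etale) : Type u := (Scheme.pointSmallEtale ξ).fiber.obj U

/-- constructor for lifts -/
noncomputable def Lift.mk {U : X.Etale} (l : Spec (CommRingCat.of Ω) ⟶ U.left) (hl : l ≫ U.hom = ξ) :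
    Lift ξ U := Over.homMk l hl

variable {ξ}

/-- the underlying morphism of a lift -/
noncomputable def Lift.hom {U : X.Etale} (x : Lift ξ U) : Spec (CommRingCat.of Ω) ⟶ U.left := CommaMorphism.left x

theorem Lift.hom_comp {U : X.Etale} (x : Lift ξ U) : x.hom ≫ U.hom = ξ := Over.w x

theorem Lift.ext {U : X.Etale} {x y : Lift ξ U} (h : x.hom = y.hom) : x = y :=
  Over.OverMorphism.ext h

@[simp] theorem Lift.mk_hom {U : X.Etale} (l : Spec (CommRingCat.of Ω) ⟶ U.left)
    (hl : l ≫ U.hom = ξ) : (Lift.mk ξ l hl).hom = l := rfl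

/-- transport of lifts along a morphism of the etale site -/
noncomputable abbrev Lift.map {U V : X.Etale} (g : V ⟶ U) (y : Lift ξ V) : Lift ξ U :=
  (Scheme.pointSmallEtale ξ).fiber.map g y

theorem Lift.map_hom {U V : X.Etale} (g : V ⟶ U) (y : Lift ξ V) :
    (Lift.map g y).hom = y.hom ≫ g.left := rfl

variable (ξ)

/-- the germ map `F(U) → F_ξ` at a lift of `ξ` to `U` -/
noncomputable def germ (F : EtCoh.Ab X) (U : X.Etale) (x : Lift ξ U) :
    F.obj.obj (op U) →+ (EtCoh.stalk ξ).obj F :=
  ((Scheme.pointSmallEtale ξ).toPresheafFiber U x F.obj).hom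

variable {ξ}

theorem germ_surjective (F : EtCoh.Ab X) (p : (EtCoh.stalk ξ).obj F) :
    ∃ (U : X.Etale) (x : Lift ξ U) (s : F.obj.obj (op U)), germ ξ F U x s = p :=
  (Scheme.pointSmallEtale ξ).toPresheafFiber_jointly_surjective p

theorem germ_res (F : EtCoh.Ab X) {U V : X.Etale} (g : V ⟶ U) (y : Lift ξ V)
    (s : F.obj.obj (op U)) :
    germ ξ F V y (F.obj.map g.op s) = germ ξ F U (Lift.map g y) s :=
  (Scheme.pointSmallEtale ξ).toPresheafFiber_w_apply g y F.obj s

theorem germ_eq_iff (F : EtCoh.Ab X) (U : X.Etale) (x : Lift ξ U) (s t : F.obj.obj (op U)) :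
    germ ξ F U x s = germ ξ F U x t ↔
      ∃ (V : X.Etale) (g : V ⟶ U) (y : Lift ξ V), Lift.map g y = x ∧
        F.obj.map g.op s = F.obj.map g.op t :=
  (Scheme.pointSmallEtale ξ).toPresheafFiber_eq_iff' U x s t

theorem germ_eq_zero_iff (F : EtCoh.Ab X) (U : X.Etale) (x : Lift ξ U) (s : F.obj.obj (op U)) :
    germ ξ F U x s = 0 ↔
      ∃ (V : X.Etale) (g : V ⟶ U) (y : Lift ξ V), Lift.map g y = x ∧ F.obj.map g.op s = 0 := by
  rw [← map_zero (germ ξ F U x), germ_eq_iff]
  simp only [map_zero]

theorem stalk_map_germ {F G : EtCoh.Ab X} (a : F ⟶ G) (U : X.Etale) (x : Lift ξ U)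
    (s : F.obj.obj (op U)) :
    (EtCoh.stalk ξ).map a (germ ξ F U x s) = germ ξ G U x (a.hom.app (op U) s) :=
  (Scheme.pointSmallEtale ξ).toPresheafFiber_naturality_apply a.hom U x s

/-! ### Open subschemes of etale schemes -/

/-- an open subscheme of an etale `X`-scheme, as an object of the small etale site -/
noncomputable def restrictOpen (U : X.Etale) (W : U.left.Opens) : X.Etale :=
  have : AlgebraicGeometry.Etale U.hom := U.prop
  Scheme.Etale.mk (W.ι ≫ U.hom)

/-- the inclusion of an open subscheme -/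
noncomputable def restrictOpenι (U : X.Etale) (W : U.left.Opens) : restrictOpen U W ⟶ U :=
  MorphismProperty.Over.homMk W.ι rfl trivial

@[simp] theorem restrictOpen_left (U : X.Etale) (W : U.left.Opens) :
    (restrictOpen U W).left = W.toScheme := rfl

@[simp] theorem restrictOpenι_left (U : X.Etale) (W : U.left.Opens) :
    (restrictOpenι U W).left = W.ι := rfl

/-- a lift whose point lies in an open `W` lifts to `W` -/
theorem exists_lift_restrictOpen {U : X.Etale} (W : U.left.Opens) (x : Lift ξ U)
    (hx : x.hom.base default ∈ W) :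
    ∃ y : Lift ξ (restrictOpen U W), Lift.map (restrictOpenι U W) y = x := by
  have hr : Set.range x.hom.base ⊆ Set.range W.ι.base := by
    rintro _ ⟨a, rfl⟩
    rw [Subsingleton.elim a default, Scheme.Opens.range_ι]
    exact hx
  let l : Spec (CommRingCat.of Ω) ⟶ W.toScheme := IsOpenImmersion.lift W.ι x.hom hr
  have hl : l ≫ W.ι = x.hom := IsOpenImmersion.lift_fac W.ι x.hom hr
  refine ⟨Lift.mk ξ l ?_, ?_⟩
  · change l ≫ W.ι ≫ U.hom = ξ
    rw [← Category.assoc, hl, x.hom_comp]
  · apply Lift.ext
    exact hl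

/-- sections of a sheaf over an empty etale scheme vanish -/
theorem subsingleton_of_isEmpty (F : EtCoh.Ab X) (E : X.Etale) [IsEmpty E.left] :
    Subsingleton (F.obj.obj (op E)) := by
  constructor
  intro a b
  have hcov : (⊥ : Sieve E) ∈ X.smallEtaleTopology E := by
    have eX : X.smallEtaleTopology =
        (X.smallPretopology (P := EtCoh.etaleMP) (Q := EtCoh.etaleMP)).toGrothendieck :=
      Scheme.smallGrothendieckTopology_eq_toGrothendieck_smallPretopology X le_rfl
    rw [eX]
    refine (Scheme.mem_toGrothendieck_smallPretopology E _).2 ?_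
    intro x
    exact (IsEmpty.false x).elim
  exact Sheaf.isSeparated F E ⊥ hcov a b (fun _ _ hf => hf.elim)

theorem geomPt_default (X : Scheme.{u}) (s : X) :
    (Groth.Agent.H1.EtStalk.geomPt X s).base default = s := by
  simp [Groth.Agent.H1.EtStalk.geomPt, Scheme.SpecToEquivOfField]

/-- morphisms of the small etale site are etale -/
theorem etale_left {U V : X.Etale} (g : V ⟶ U) : AlgebraicGeometry.Etale g.left := by
  have h1 : AlgebraicGeometry.Etale V.hom := V.prop
  have h2 : AlgebraicGeometry.Etale U.hom := U.prop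
  have e : g.left ≫ U.hom = V.hom := MorphismProperty.Over.w g
  have h3 : AlgebraicGeometry.Etale (g.left ≫ U.hom) := e ▸ h1
  exact MorphismProperty.of_postcomp (W := @AlgebraicGeometry.Etale)
    (W' := @AlgebraicGeometry.Etale) g.left U.hom h2 h3

/-- lifting a lift along a morphism of the etale site through a prescribed point -/
theorem exists_lift_of_point {U V : X.Etale} (g : V ⟶ U) (x : Lift ξ U) (v : V.left)
    (hv : g.left.base v = x.hom.base default) :
    ∃ y : Lift ξ V, Lift.map g y = x ∧ y.hom.base default = v := by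
  have := etale_left g
  obtain ⟨l, hl1, hl2⟩ := Scheme.exists_fac_of_etale_of_isSepClosed g.left x.hom v hv
  refine ⟨Lift.mk ξ l ?_, ?_, hl2⟩
  · have e : g.left ≫ U.hom = V.hom := MorphismProperty.Over.w g
    rw [← e, ← Category.assoc, hl1, x.hom_comp]
  · apply Lift.ext
    exact hl1

/-- every point of an etale `X`-scheme carries a geometric point: a geometric point of `X` together
with a lift to `U` through the given point -/
theorem exists_geomPt_lift (U : X.Etale) (x : U.left) :
    ∃ (ξ : Spec (CommRingCat.of (SeparableClosure (U.left.residueField x))) ⟶ X)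
      (y : Lift ξ U), y.hom.base default = x :=
  ⟨Groth.Agent.H1.EtStalk.geomPt U.left x ≫ U.hom,
    Lift.mk _ (Groth.Agent.H1.EtStalk.geomPt U.left x) rfl, geomPt_default U.left x⟩

theorem germ_nsmul (F : EtCoh.Ab X) (U : X.Etale) (x : Lift ξ U) (m : ℕ) (s : F.obj.obj (op U)) :
    germ ξ F U x (m • s) = m • germ ξ F U x s := map_nsmul _ _ _

end Groth.Agent.H1.EtGerm
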