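import Groth.Agent.Lib.Helper1.ClosedEtLift
import Groth.Agent.S0660

set_option autoImplicit false
universe u

namespace Groth.Agent.H1.ClosedDense

open CategoryTheory CategoryTheory.Limits AlgebraicGeometry Opposite
open Groth.Agent.H1.ClosedEtLift

variable {Z X : Scheme.{u}} (i : Z ⟶ X) [IsClosedImmersion i]

/-- covering criterion for sieves of the small etale site -/
theorem mem_smallEtaleTopology {Y : Scheme.{u}} (V : Y.Etale) (R : Sieve V)
    (h : ∀ x : V.left, ∃ (W : Y.Etale) (f : W ⟶ V) (y : W.left), R f ∧ f.left.base y = x) :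
    R ∈ Y.smallEtaleTopology V := by
  have eY : Y.smallEtaleTopology =
      (Y.smallPretopology (P := EtCoh.etaleMP) (Q := EtCoh.etaleMP)).toGrothendieck :=
    Scheme.smallGrothendieckTopology_eq_toGrothendieck_smallPretopology Y le_rfl
  rw [eY]
  refine (Scheme.mem_toGrothendieck_smallPretopology V R).2 ?_
  intro x
  obtain ⟨W, f, y, hf, hy⟩ := h x
  exact ⟨W, f, y, hf, Groth.Agent.H1.EtGerm.etale_left f, hy⟩

/-- base change of small etale sites along a closed immersion is cover dense -/
instance isCoverDense_bc : (EtCoh.bc i).IsCoverDense Z.smallEtaleTopology where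
  is_cover V := by
    have hV : AlgebraicGeometry.Etale V.hom := V.prop
    apply mem_smallEtaleTopology
    intro x
    obtain ⟨W, w, hw, h, h1, h2, ⟨y, hy⟩⟩ := exists_etale_lift_nhd i V.hom x
    let W' : X.Etale := @Scheme.Etale.mk _ _ w hw
    let h' : (EtCoh.bc i).obj W' ⟶ V := MorphismProperty.Over.homMk h h1 trivial
    exact ⟨(EtCoh.bc i).obj W', h', y, Presieve.in_coverByImage (EtCoh.bc i) h', hy⟩

/-- base change of small etale sites along a closed immersion is locally full -/
instance isLocallyFull_bc : (EtCoh.bc i).IsLocallyFull Z.smallEtaleTopology where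
  functorPushforward_imageSieve_mem {U V} f := by
    obtain ⟨W, a, b, ha, hab⟩ := Groth.Agent.S0660.main i U V f
    have h1 : ((EtCoh.bc i).imageSieve f).functorPushforward (EtCoh.bc i) ((EtCoh.bc i).map a) :=
      ⟨W, a, 𝟙 _, ⟨b, hab.symm⟩, (Category.id_comp _).symm⟩
    have h2 : ((EtCoh.bc i).imageSieve f).functorPushforward (EtCoh.bc i) = ⊤ := by
      rw [← Sieve.id_mem_iff_eq_top]
      have := Sieve.downward_closed _ h1 (inv ((EtCoh.bc i).map a))
      rwa [IsIso.inv_hom_id] at this
    rw [h2]
    exact GrothendieckTopology.top_mem _ _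

end Groth.Agent.H1.ClosedDense
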