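import Mathlib

/-!
# Elementwise criteria for exactness of complexes of abelian sheaves on a site (helper1)
-/

set_option autoImplicit false

namespace Groth.Agent.H1.SheafExactLoc

open CategoryTheory CategoryTheory.Limits Opposite

universe w v₁ u₁

variable {C : Type u₁} [Category.{v₁} C] {J : GrothendieckTopology C}

theorem injective_app_of_mono {F G : Sheaf J AddCommGrpCat.{w}} (f : F ⟶ G) [Mono f]
    (W : Cᵒᵖ) : Function.Injective (f.hom.app W) := by
  have h1 : Mono ((sheafToPresheaf J AddCommGrpCat.{w}).map f) := inferInstance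
  have h2 : Mono (f.hom.app W) :=
    (NatTrans.mono_iff_mono_app ((sheafToPresheaf J AddCommGrpCat.{w}).map f)).1 h1 W
  exact (AddCommGrpCat.mono_iff_injective _).1 h2

variable [HasSheafify J AddCommGrpCat.{w}] [J.HasSheafCompose (forget AddCommGrpCat.{w})]
  [J.WEqualsLocallyBijective AddCommGrpCat.{w}]

/-- sections of an exact complex with injective first map -/
theorem exact_app (Sx : ShortComplex (Sheaf J AddCommGrpCat.{w})) (hex : Sx.Exact) [Mono Sx.f]
    (W : Cᵒᵖ) (x : Sx.X₂.obj.obj W) (hx : Sx.g.hom.app W x = 0) :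
    ∃ a, Sx.f.hom.app W a = x := by
  let F : Sheaf J AddCommGrpCat.{w} ⥤ AddCommGrpCat.{w} :=
    sheafToPresheaf J AddCommGrpCat.{w} ⋙ (evaluation _ _).obj W
  haveI : F.PreservesZeroMorphisms := ⟨fun _ _ => rfl⟩
  have hex' : (Sx.map F).Exact :=
    hex.map_of_mono_of_preservesKernel F inferInstance inferInstance
  exact (ShortComplex.ab_exact_iff _).1 hex' x hx

/-- local criterion for the exactness of a short complex of abelian sheaves -/
theorem exact_of_locally (T : ShortComplex (Sheaf J AddCommGrpCat.{w}))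
    (h : ∀ (U : C) (x : T.X₂.obj.obj (op U)), T.g.hom.app (op U) x = 0 →
      ∃ R : Sieve U, R ∈ J U ∧ ∀ {V : C} (g : V ⟶ U), R g →
        ∃ y : T.X₁.obj.obj (op V), T.f.hom.app (op V) y = T.X₂.obj.map g.op x) : T.Exact := by
  rw [ShortComplex.exact_iff_epi_kernel_lift]
  have hls : Sheaf.IsLocallySurjective (kernel.lift T.g T.f T.zero) := by
    constructor
    intro U s
    have hι : kernel.lift T.g T.f T.zero ≫ kernel.ι T.g = T.f := kernel.lift_ι _ _ _
    have hc : kernel.ι T.g ≫ T.g = 0 := kernel.condition _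
    have hx : T.g.hom.app (op U) ((kernel.ι T.g).hom.app (op U) s) = 0 := by
      have := congrArg (fun k => k.hom.app (op U)) hc
      exact ConcreteCategory.congr_hom this s
    obtain ⟨R, hR, hR'⟩ := h U _ hx
    refine J.superset_covering ?_ hR
    intro V g hg
    obtain ⟨y, hy⟩ := hR' g hg
    refine ⟨y, ?_⟩
    apply injective_app_of_mono (kernel.ι T.g) (op V)
    have h1 := congrArg (fun k => k.hom.app (op V)) hι
    have h2 : (kernel.ι T.g).hom.app (op V) ((kernel.lift T.g T.f T.zero).hom.app (op V) y) =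
        T.f.hom.app (op V) y := ConcreteCategory.congr_hom h1 y
    rw [h2, hy]
    exact (ConcreteCategory.congr_hom ((kernel.ι T.g).hom.naturality g.op) s).symm
  exact (Sheaf.isLocallySurjective_iff_epi' (φ := kernel.lift T.g T.f T.zero)).1 hls

/-- the converse: in an exact complex of abelian sheaves, cocycles are locally coboundaries -/
theorem locally_of_exact (T : ShortComplex (Sheaf J AddCommGrpCat.{w})) (hT : T.Exact) (U : C)
    (x : T.X₂.obj.obj (op U)) (hx : T.g.hom.app (op U) x = 0) :
    ∃ R : Sieve U, R ∈ J U ∧ ∀ {V : C} (g : V ⟶ U), R g →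
      ∃ y : T.X₁.obj.obj (op V), T.f.hom.app (op V) y = T.X₂.obj.map g.op x := by
  have hepi : Epi (kernel.lift T.g T.f T.zero) := (ShortComplex.exact_iff_epi_kernel_lift _).1 hT
  have hls : Sheaf.IsLocallySurjective (kernel.lift T.g T.f T.zero) :=
    (Sheaf.isLocallySurjective_iff_epi' (φ := kernel.lift T.g T.f T.zero)).2 hepi
  have hk : (ShortComplex.mk (kernel.ι T.g) T.g (kernel.condition _)).Exact :=
    ShortComplex.exact_of_f_is_kernel _ (kernelIsKernel _)
  haveI : Mono (ShortComplex.mk (kernel.ι T.g) T.g (kernel.condition _)).f :=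
    inferInstanceAs (Mono (kernel.ι T.g))
  obtain ⟨s, hs⟩ := exact_app _ hk (op U) x hx
  have hι : kernel.lift T.g T.f T.zero ≫ kernel.ι T.g = T.f := kernel.lift_ι _ _ _
  refine ⟨_, hls.imageSieve_mem s, ?_⟩
  rintro V g ⟨y, hy⟩
  refine ⟨y, ?_⟩
  have h1 := congrArg (fun k => k.hom.app (op V)) hι
  have h2 : (kernel.ι T.g).hom.app (op V) ((kernel.lift T.g T.f T.zero).hom.app (op V) y) =
      T.f.hom.app (op V) y := ConcreteCategory.congr_hom h1 y
  rw [← h2]
  have h3 : (kernel.lift T.g T.f T.zero).hom.app (op V) y = (kernel T.g).obj.map g.op s := hy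
  rw [h3, ← hs]
  exact ConcreteCategory.congr_hom ((kernel.ι T.g).hom.naturality g.op) s

end Groth.Agent.H1.SheafExactLoc
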