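import Groth.Prelude.Def_EtGm
import Groth.Agent.Lib.Helper1.ASRingH1
import Groth.Agent.Lib.Helper1.ClosedDense
import Groth.Agent.Lib.Helper1.SheafExactLoc

/-!
# Artin–Schreier on the small étale site (helper1): the map `F - 1` on `G_a`
-/

set_option autoImplicit false
universe u

namespace Groth.Agent.H1.ASSheafA

open CategoryTheory CategoryTheory.Limits AlgebraicGeometry Opposite
open Groth.Agent.H1.ASRingH1

variable (S : Scheme.{u}) (p : ℕ) (hp : (p : Γ(S, ⊤)) = 0)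

include hp in
theorem natCast_eq_zero (U : S.Etale) : (p : Γ(U.left, ⊤)) = 0 := by
  have h := congrArg U.hom.appTop hp
  rwa [map_natCast, map_zero] at h

/-- sections of `G_a` -/
theorem ga_obj (U : (S.Etale)ᵒᵖ) :
    (EtCoh.Ga S).obj.obj U = AddCommGrpCat.of (ULift.{u+1} Γ(U.unop.left, ⊤)) := rfl

/-- the function underlying a section of `G_a` -/
def dn {S : Scheme.{u}} {U : (S.Etale)ᵒᵖ} (x : (EtCoh.Ga S).obj.obj U) : Γ(U.unop.left, ⊤) :=
  ULift.down x

/-- the section of `G_a` given by a function -/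
def up {S : Scheme.{u}} {U : (S.Etale)ᵒᵖ} (a : Γ(U.unop.left, ⊤)) : (EtCoh.Ga S).obj.obj U :=
  ULift.up a

@[simp] theorem dn_up {U : (S.Etale)ᵒᵖ} (a : Γ(U.unop.left, ⊤)) : dn (up a) = a := rfl
@[simp] theorem up_dn {U : (S.Etale)ᵒᵖ} (x : (EtCoh.Ga S).obj.obj U) : up (dn x) = x := rfl

theorem dn_injective {U : (S.Etale)ᵒᵖ} : Function.Injective (dn (S := S) (U := U)) :=
  fun _ _ h => ULift.ext _ _ h

theorem dn_map {U V : (S.Etale)ᵒᵖ} (f : U ⟶ V) (x : (EtCoh.Ga S).obj.obj U) :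
    dn ((EtCoh.Ga S).obj.map f x) = f.unop.left.appTop (dn x) := rfl

theorem dn_zero {U : (S.Etale)ᵒᵖ} : dn (0 : (EtCoh.Ga S).obj.obj U) = 0 := rfl

theorem dn_add {U : (S.Etale)ᵒᵖ} (x y : (EtCoh.Ga S).obj.obj U) : dn (x + y) = dn x + dn y := rfl

variable [Fact p.Prime]

/-- the Artin–Schreier map on sections -/
noncomputable def gApp (U : (S.Etale)ᵒᵖ) : (EtCoh.Ga S).obj.obj U ⟶ (EtCoh.Ga S).obj.obj U :=
  AddCommGrpCat.ofHom
    ((AddEquiv.ulift.symm.toAddMonoidHom.comp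
      (asHom p Γ(U.unop.left, ⊤) (natCast_eq_zero S p hp U.unop))).comp
        AddEquiv.ulift.toAddMonoidHom)

theorem gApp_dn (U : (S.Etale)ᵒᵖ) (x : (EtCoh.Ga S).obj.obj U) :
    dn (gApp S p hp U x) = dn x ^ p - dn x := rfl

/-- the Artin–Schreier map `F - 1 : G_a ⟶ G_a` -/
noncomputable def g : EtCoh.Ga S ⟶ EtCoh.Ga S :=
  ⟨{ app := fun U => gApp S p hp U
     naturality := by
      intro U V f
      ext x
      apply dn_injective
      change dn (gApp S p hp V ((EtCoh.Ga S).obj.map f x)) =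
        dn (((EtCoh.Ga S).obj.map f) (gApp S p hp U x))
      rw [dn_map, gApp_dn, gApp_dn, dn_map, map_sub, map_pow] }⟩

theorem g_dn (U : (S.Etale)ᵒᵖ) (x : (EtCoh.Ga S).obj.obj U) :
    dn ((g S p hp).hom.app U x) = dn x ^ p - dn x := rfl

end Groth.Agent.H1.ASSheafA
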