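import Groth.Agent.Lib.Helper1.ASSheafA
import Groth.Agent.Lib.Helper1.ASPair

/-!
# Artin–Schreier on the small étale site (helper1): `F - 1` is an epimorphism
-/

set_option autoImplicit false
universe u

namespace Groth.Agent.H1.ASSheafB

open CategoryTheory CategoryTheory.Limits AlgebraicGeometry Opposite
open Groth.Agent.H1.ASRingH1 Groth.Agent.H1.ASSheafA Groth.Agent.H1.ASPair

theorem isoSpec_inv_appTop (X : Scheme.{u}) [IsAffine X] :
    X.isoSpec.inv.appTop = (Scheme.ΓSpecIso Γ(X, ⊤)).inv := by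
  have h1 : X.isoSpec.hom.appTop = (Scheme.ΓSpecIso Γ(X, ⊤)).hom := Scheme.toSpecΓ_appTop X
  have h2 : X.isoSpec.hom.appTop ≫ X.isoSpec.inv.appTop = 𝟙 _ := by
    rw [← Scheme.Hom.comp_appTop, Iso.inv_hom_id]
    rfl
  rw [h1] at h2
  exact (Iso.inv_ext' h2)

/-- a root of `X ^ p - X - a` over an affine scheme, étale locally -/
theorem exists_root_affine (X : Scheme.{u}) [IsAffine X] (p : ℕ) [Fact p.Prime]
    (hp : (p : Γ(X, ⊤)) = 0) (a : Γ(X, ⊤)) :
    ∃ (V : Scheme.{u}) (j : V ⟶ X) (_ : Etale j) (_ : Surjective j) (y : Γ(V, ⊤)),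
      y ^ p - y = j.appTop a := by
  let P := asPair p Γ(X, ⊤) hp a
  let φ : Γ(X, ⊤) ⟶ CommRingCat.of P.Ring := CommRingCat.ofHom (algebraMap Γ(X, ⊤) P.Ring)
  have hφ : Etale (Spec.map φ) := by
    rw [HasRingHomProperty.Spec_iff (P := @Etale)]
    exact RingHom.etale_algebraMap.2 inferInstance
  have hs : Surjective (Spec.map φ) := by
    constructor
    exact comap_surjective p Γ(X, ⊤) hp a
  refine ⟨Spec (CommRingCat.of P.Ring), Spec.map φ ≫ X.isoSpec.inv, inferInstance, inferInstance,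
    (Scheme.ΓSpecIso (CommRingCat.of P.Ring)).inv P.X, ?_⟩
  rw [Scheme.Hom.comp_appTop, isoSpec_inv_appTop, ← Scheme.ΓSpecIso_inv_naturality]
  rw [← map_pow, ← map_sub, asPair_root]
  rfl

variable (S : Scheme.{u}) (p : ℕ) [Fact p.Prime] (hp : (p : Γ(S, ⊤)) = 0)

include hp in
theorem exists_root_cover (U : S.Etale) (a : Γ(U.left, ⊤)) (u : U.left) :
    ∃ (V : S.Etale) (f : V ⟶ U) (v : V.left) (y : Γ(V.left, ⊤)),
      f.left.base v = u ∧ y ^ p - y = f.left.appTop a := by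
  obtain ⟨_, ⟨W', hW, rfl⟩, huW, -⟩ := U.left.isBasis_affineOpens.exists_subset_of_mem_open
    (Set.mem_univ u) isOpen_univ
  obtain ⟨W, rfl⟩ : ∃ W : U.left.Opens, W = W' := ⟨W', rfl⟩
  haveI : IsAffine (W : Scheme.{u}) := hW
  have hpW : (p : Γ((W : Scheme.{u}), ⊤)) = 0 := by
    have h := congrArg W.ι.appTop (natCast_eq_zero S p hp U)
    rwa [map_natCast, map_zero] at h
  obtain ⟨V₀, j, hj, hjs, y, hy⟩ := exists_root_affine (W : Scheme.{u}) p hpW (W.ι.appTop a)
  haveI : Etale U.hom := U.prop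
  let V : S.Etale := Scheme.Etale.mk (j ≫ W.ι ≫ U.hom)
  let f : V ⟶ U := MorphismProperty.Over.homMk (j ≫ W.ι) (Category.assoc _ _ _) trivial
  obtain ⟨v, hv⟩ := hjs.surj (⟨u, huW⟩ : W)
  refine ⟨V, f, v, y, ?_, ?_⟩
  · change (j ≫ W.ι).base v = u
    rw [Scheme.Hom.comp_base, TopCat.comp_app]
    erw [hv]
    rfl
  · change y ^ p - y = (j ≫ W.ι).appTop a
    rw [hy, Scheme.Hom.comp_appTop]
    rfl

theorem isLocallySurjective_g : Sheaf.IsLocallySurjective (g S p hp) := by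
  constructor
  intro U s
  apply Groth.Agent.H1.ClosedDense.mem_smallEtaleTopology
  intro u
  obtain ⟨V, f, v, y, hv, hy⟩ := exists_root_cover S p hp U (dn (U := op U) s) u
  refine ⟨V, f, v, ⟨up (U := op V) y, ?_⟩, hv⟩
  apply dn_injective
  change dn ((g S p hp).hom.app (op V) (up (U := op V) y)) = dn ((EtCoh.Ga S).obj.map f.op s)
  rw [g_dn, dn_map]
  exact hy

instance epi_g : Epi (g S p hp) :=
  (Sheaf.isLocallySurjective_iff_epi' (φ := g S p hp)).1 (isLocallySurjective_g S p hp)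

end Groth.Agent.H1.ASSheafB
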