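import Groth.Agent.Lib.Helper1.ASSheafB
import Groth.Agent.Lib.Helper1.EtGerm

/-!
# Artin–Schreier on the small étale site (helper1): the short exact sequence
-/

set_option autoImplicit false
universe u

namespace Groth.Agent.H1.ASSheafC

open CategoryTheory CategoryTheory.Limits AlgebraicGeometry Opposite
open Groth.Agent.H1.ASRingH1 Groth.Agent.H1.ASSheafA Groth.Agent.H1.ASPair
open Groth.Agent.H1.ASSheafB

theorem isUnit_appTop {V X : Scheme.{u}} (j : V ⟶ X) (f : Γ(X, ⊤))
    (h : ∀ v, j.base v ∈ X.basicOpen f) : IsUnit (j.appTop f) := by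
  apply RingedSpace.isUnit_of_isUnit_germ (X := V.toLocallyRingedSpace.toRingedSpace) ⊤
  intro x hx
  have h1 : x ∈ V.basicOpen (j.appTop f) := by
    rw [← Scheme.preimage_basicOpen_top]
    exact h x
  exact (V.mem_basicOpen_top _ x).1 h1

variable (S : Scheme.{u}) (p : ℕ) [Fact p.Prime] (hp : (p : Γ(S, ⊤)) = 0)

/-- the constant presheaf `ℤ/p` -/
noncomputable abbrev cP : (S.Etale)ᵒᵖ ⥤ AddCommGrpCat.{u+1} :=
  (Functor.const (S.Etale)ᵒᵖ).obj (AddCommGrpCat.of (ULift.{u+1} (ZMod p)))

/-- the inclusion of the constant presheaf `ℤ/p` into `G_a` -/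
noncomputable def αPre : cP S p ⟶ (EtCoh.Ga S).obj where
  app U := AddCommGrpCat.ofHom
    ((AddEquiv.ulift.symm.toAddMonoidHom.comp
      (zmodHom p Γ(U.unop.left, ⊤) (natCast_eq_zero S p hp U.unop)).toAddMonoidHom).comp
        AddEquiv.ulift.toAddMonoidHom)
  naturality := by
    intro U V f
    ext x
    apply dn_injective
    change zmodHom p Γ(V.unop.left, ⊤) (natCast_eq_zero S p hp V.unop) x.down =
      f.unop.left.appTop (zmodHom p Γ(U.unop.left, ⊤) (natCast_eq_zero S p hp U.unop) x.down)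
    exact (zmodHom_comp p f.unop.left.appTop.hom _ _ x.down).symm

theorem αPre_dn (U : (S.Etale)ᵒᵖ) (c : ULift.{u+1} (ZMod p)) :
    dn ((αPre S p hp).app U c) = zmodHom p Γ(U.unop.left, ⊤) (natCast_eq_zero S p hp U.unop) c.down :=
  rfl

/-- the inclusion `ℤ/p ⟶ G_a` -/
noncomputable def α : EtCoh.const S (ZMod p) ⟶ EtCoh.Ga S :=
  ⟨sheafifyLift S.smallEtaleTopology (αPre S p hp) (EtCoh.Ga S).property⟩

theorem toSheafify_α :
    toSheafify S.smallEtaleTopology (cP S p) ≫ (α S p hp).hom = αPre S p hp :=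
  toSheafify_sheafifyLift _ _ _

theorem α_toSheafify (U : (S.Etale)ᵒᵖ) (c : ULift.{u+1} (ZMod p)) :
    (α S p hp).hom.app U ((toSheafify S.smallEtaleTopology (cP S p)).app U c) =
      (αPre S p hp).app U c := by
  have h := congrArg (fun k => k.app U) (toSheafify_α S p hp)
  exact ConcreteCategory.congr_hom h c

theorem isEmpty_of_one_eq_zero (X : Scheme.{u}) (h : (1 : Γ(X, ⊤)) = 0) : IsEmpty X := by
  constructor
  intro x
  have h1 := congrArg (X.presheaf.germ ⊤ x trivial) h
  rw [map_one, map_zero] at h1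
  exact one_ne_zero h1

theorem α_injective (U : (S.Etale)ᵒᵖ) : Function.Injective ((α S p hp).hom.app U) := by
  rw [injective_iff_map_eq_zero]
  intro s hs
  have hcov := Presheaf.imageSieve_mem S.smallEtaleTopology
    (toSheafify S.smallEtaleTopology (cP S p)) s
  refine Sheaf.isSeparated (EtCoh.const S (ZMod p)) U.unop _ hcov s 0 ?_
  rintro V f ⟨c, hc⟩
  have hc' : (EtCoh.const S (ZMod p)).obj.map f.op s =
      (toSheafify S.smallEtaleTopology (cP S p)).app (op V) c := hc.symm
  rw [map_zero, hc']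
  have h1 : (αPre S p hp).app (op V) c = 0 := by
    rw [← α_toSheafify, hc]
    have h2 := ConcreteCategory.congr_hom ((α S p hp).hom.naturality f.op) s
    refine h2.trans ?_
    change (EtCoh.Ga S).obj.map f.op ((α S p hp).hom.app U s) = 0
    rw [hs, map_zero]
  by_cases hc0 : c.down = 0
  · have : c = 0 := ULift.ext _ _ hc0
    rw [this, map_zero]
    rfl
  · have hz : zmodHom p Γ(V.left, ⊤) (natCast_eq_zero S p hp V) c.down = 0 := congrArg dn h1
    have hunit : IsUnit (zmodHom p Γ(V.left, ⊤) (natCast_eq_zero S p hp V) c.down) :=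
      (IsUnit.mk0 _ hc0).map _
    rw [hz] at hunit
    have h10 : (1 : Γ(V.left, ⊤)) = 0 := by
      obtain ⟨w, hw⟩ := hunit.exists_right_inv
      rw [← hw, zero_mul]
    haveI : IsEmpty V.left := isEmpty_of_one_eq_zero V.left h10
    exact (Groth.Agent.H1.EtGerm.subsingleton_of_isEmpty (EtCoh.const S (ZMod p)) V).elim _ _

instance mono_α : Mono (α S p hp) := by
  haveI : ∀ U, Mono ((α S p hp).hom.app U) := fun U =>
    (AddCommGrpCat.mono_iff_injective _).2 (α_injective S p hp U)
  haveI : Mono (α S p hp).hom := NatTrans.mono_of_mono_app _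
  exact Sheaf.Hom.mono_of_presheaf_mono _ _ _

theorem α_g : α S p hp ≫ g S p hp = 0 := by
  apply Sheaf.hom_ext
  apply sheafify_hom_ext _ _ _ (EtCoh.Ga S).property
  change toSheafify S.smallEtaleTopology (cP S p) ≫ (α S p hp).hom ≫ (g S p hp).hom =
    toSheafify S.smallEtaleTopology (cP S p) ≫ 0
  rw [comp_zero, ← Category.assoc, toSheafify_α]
  ext U c
  apply dn_injective
  change dn ((g S p hp).hom.app U ((αPre S p hp).app U c)) = 0
  rw [g_dn, αPre_dn, zmodHom_pow, sub_self]

/-- the Artin–Schreier complex -/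
noncomputable def T : ShortComplex (EtCoh.Ab S) := ShortComplex.mk (α S p hp) (g S p hp) (α_g S p hp)

theorem exists_basicOpen_of_sum_eq_one (X : Scheme.{u}) {ι : Type*} [Fintype ι]
    (e : ι → Γ(X, ⊤)) (h : ∑ c, e c = 1) (x : X) : ∃ c, x ∈ X.basicOpen (e c) := by
  by_contra hne
  push Not at hne
  have h1 : ∀ c, X.presheaf.germ ⊤ x trivial (e c) ∈
      IsLocalRing.maximalIdeal (X.presheaf.stalk x) := by
    intro c
    rw [IsLocalRing.mem_maximalIdeal, mem_nonunits_iff]
    intro hu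
    exact hne c ((X.mem_basicOpen_top _ x).2 hu)
  have h2 : X.presheaf.germ ⊤ x trivial (∑ c, e c) ∈
      IsLocalRing.maximalIdeal (X.presheaf.stalk x) := by
    rw [map_sum]
    exact Ideal.sum_mem _ (fun c _ => h1 c)
  rw [h, map_one] at h2
  exact (IsLocalRing.maximalIdeal.isMaximal _).ne_top ((Ideal.eq_top_iff_one _).2 h2)

theorem exact_T : (T S p hp).Exact := by
  apply Groth.Agent.H1.SheafExactLoc.exact_of_locally
  intro U x hx
  refine ⟨Presheaf.imageSieve (α S p hp).hom x, ?_, ?_⟩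
  · apply Groth.Agent.H1.ClosedDense.mem_smallEtaleTopology
    intro u
    have hx' : dn (U := op U) x ^ p = dn (U := op U) x := by
      have h1 : dn ((g S p hp).hom.app (op U) x) = 0 := congrArg dn hx
      rw [g_dn] at h1
      exact sub_eq_zero.1 h1
    obtain ⟨e, he1, he2⟩ := exists_idem p Γ(U.left, ⊤) (natCast_eq_zero S p hp U)
      (dn (U := op U) x) hx'
    obtain ⟨c, hc⟩ := exists_basicOpen_of_sum_eq_one U.left e he1 u
    obtain ⟨W, hW⟩ : ∃ W : U.left.Opens, W = U.left.basicOpen (e c) := ⟨_, rfl⟩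
    have hcW : u ∈ W := hW ▸ hc
    refine ⟨Groth.Agent.H1.EtGerm.restrictOpen U W, Groth.Agent.H1.EtGerm.restrictOpenι U W,
      ⟨u, hcW⟩, ⟨(toSheafify S.smallEtaleTopology (cP S p)).app (op _) ⟨c⟩, ?_⟩, rfl⟩
    refine (α_toSheafify S p hp _ _).trans ?_
    apply dn_injective
    rw [αPre_dn, dn_map]
    change zmodHom p Γ((W : Scheme.{u}), ⊤) _ c = W.ι.appTop (dn (U := op U) x)
    have hu : IsUnit (W.ι.appTop (e c)) := isUnit_appTop W.ι (e c) (fun v => hW ▸ v.2)
    have h3 := congrArg W.ι.appTop (he2 c)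
    rw [map_mul, map_zero, map_sub] at h3
    have h4 := (hu.mul_right_eq_zero).1 h3
    rw [sub_eq_zero] at h4
    rw [h4]
    exact (zmodHom_comp p W.ι.appTop.hom _ _ c).symm
  · intro V f hf
    exact hf

theorem shortExact_T : (T S p hp).ShortExact where
  exact := exact_T S p hp
  mono_f := mono_α S p hp
  epi_g := epi_g S p hp

end Groth.Agent.H1.ASSheafC
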