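import Mathlib
import Groth.Prelude.Def_CohCx

/-!
Helper library (helper1): elementwise description of the homology of cochain complexes of abelian
groups; consequences of `R^1 lim = 0` / isomorphism hypotheses on homology groups.
-/

set_option autoImplicit false
universe u
open CategoryTheory CategoryTheory.Limits

namespace Groth.Agent.H1.AbCxElem

variable (A : CochainComplex AddCommGrpCat.{u} ℤ)

lemma iCycles_injective (i : ℤ) : Function.Injective (A.iCycles i) :=
  (AddCommGrpCat.mono_iff_injective _).1 inferInstance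

lemma homologyπ_surjective (i : ℤ) : Function.Surjective (A.homologyπ i) :=
  (AddCommGrpCat.epi_iff_surjective _).1 inferInstance

/-- elements killed by `d` come from cycles -/
lemma exists_cycle (i j : ℤ) (hj : i + 1 = j) (x : A.X i) (hx : A.d i j x = 0) :
    ∃ z : A.cycles i, A.iCycles i z = x := by
  have hS : (ShortComplex.mk (A.iCycles i) (A.d i j) (A.iCycles_d i j)).Exact :=
    ShortComplex.exact_of_f_is_kernel _ (A.cyclesIsKernel i j (by simp [hj]))
  exact (ShortComplex.ab_exact_iff _).1 hS x hx

lemma d_iCycles (i j : ℤ) (z : A.cycles i) : A.d i j (A.iCycles i z) = 0 := by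
  have := congrArg (fun f => (ConcreteCategory.hom f) z) (A.iCycles_d i j)
  exact this

/-- cycles with zero class are boundaries -/
lemma exists_boundary (h i : ℤ) (hi : h + 1 = i) (z : A.cycles i) (hz : A.homologyπ i z = 0) :
    ∃ y : A.X h, A.toCycles h i y = z := by
  have hS : (ShortComplex.mk (A.toCycles h i) (A.homologyπ i)
      (A.toCycles_comp_homologyπ h i)).Exact :=
    ShortComplex.exact_of_g_is_cokernel _ (A.homologyIsCokernel h i (by simp [← hi]))
  exact (ShortComplex.ab_exact_iff _).1 hS z hz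

lemma iCycles_toCycles (h i : ℤ) (y : A.X h) : A.iCycles i (A.toCycles h i y) = A.d h i y := by
  have := congrArg (fun f => (ConcreteCategory.hom f) y) (A.toCycles_i h i)
  exact this

lemma homologyπ_toCycles (h i : ℤ) (y : A.X h) : A.homologyπ i (A.toCycles h i y) = 0 := by
  have := congrArg (fun f => (ConcreteCategory.hom f) y) (A.toCycles_comp_homologyπ h i)
  exact this

variable {A} {A' : CochainComplex AddCommGrpCat.{u} ℤ} (φ : A' ⟶ A)

lemma iCycles_cyclesMap (i : ℤ) (z : A'.cycles i) :
    A.iCycles i (HomologicalComplex.cyclesMap φ i z) = φ.f i (A'.iCycles i z) := by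
  have := congrArg (fun f => (ConcreteCategory.hom f) z) (HomologicalComplex.cyclesMap_i φ i)
  exact this

lemma homologyMap_homologyπ (i : ℤ) (z : A'.cycles i) :
    HomologicalComplex.homologyMap φ i (A'.homologyπ i z) =
      A.homologyπ i (HomologicalComplex.cyclesMap φ i z) := by
  have := congrArg (fun f => (ConcreteCategory.hom f) z)
    (HomologicalComplex.homologyπ_naturality φ i)
  exact this

/-- injectivity on homology, elementwise -/
lemma exists_bound_of_injective (h i j : ℤ) (hi : h + 1 = i) (hj : i + 1 = j)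
    (hφ : Function.Injective (HomologicalComplex.homologyMap φ i))
    (z : A'.X i) (hz : A'.d i j z = 0) (y : A.X h) (hy : φ.f i z = A.d h i y) :
    ∃ y' : A'.X h, z = A'.d h i y' := by
  obtain ⟨ζ, hζ⟩ := exists_cycle A' i j hj z hz
  have h1 : HomologicalComplex.homologyMap φ i (A'.homologyπ i ζ) = 0 := by
    rw [homologyMap_homologyπ]
    have h2 : HomologicalComplex.cyclesMap φ i ζ = A.toCycles h i y := by
      apply iCycles_injective A i
      rw [iCycles_cyclesMap, iCycles_toCycles, hζ, hy]
    rw [h2, homologyπ_toCycles]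
  have h3 : A'.homologyπ i ζ = 0 := hφ (h1.trans (map_zero _).symm)
  obtain ⟨y', hy'⟩ := exists_boundary A' h i hi ζ h3
  refine ⟨y', ?_⟩
  rw [← hζ, ← hy', iCycles_toCycles]

/-- surjectivity on homology, elementwise -/
lemma exists_lift_of_surjective (h i j : ℤ) (hi : h + 1 = i) (hj : i + 1 = j)
    (hφ : Function.Surjective (HomologicalComplex.homologyMap φ i))
    (z : A.X i) (hz : A.d i j z = 0) :
    ∃ (z' : A'.X i) (y : A.X h), A'.d i j z' = 0 ∧ φ.f i z' = z + A.d h i y := by
  obtain ⟨ζ, hζ⟩ := exists_cycle A i j hj z hz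
  obtain ⟨ξ', hξ'⟩ := hφ (A.homologyπ i ζ)
  obtain ⟨ζ', rfl⟩ := homologyπ_surjective A' i ξ'
  rw [homologyMap_homologyπ] at hξ'
  have h1 : A.homologyπ i (HomologicalComplex.cyclesMap φ i ζ' - ζ) = 0 := by
    rw [map_sub, hξ', sub_self]
  obtain ⟨y, hy⟩ := exists_boundary A h i hi _ h1
  refine ⟨A'.iCycles i ζ', y, d_iCycles A' i j ζ', ?_⟩
  have h2 := congrArg (A.iCycles i) hy
  rw [iCycles_toCycles, map_sub, iCycles_cyclesMap, hζ] at h2
  rw [h2]
  abel

section system

variable (A : ℕ → CochainComplex AddCommGrpCat.{u} ℤ) (τ : ∀ n, A (n + 1) ⟶ A n)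

/-- vanishing of `R^1 lim` of the homology groups, elementwise -/
lemma exists_of_limOne_homology (h i j : ℤ) (hi : h + 1 = i) (hj : i + 1 = j)
    (hb : CohCx.LimOneIsZero (fun n => (A n).homology i)
      (fun n => (HomologicalComplex.homologyMap (τ n) i).hom))
    (c : ∀ n, (A n).X i) (hc : ∀ n, (A n).d i j (c n) = 0) :
    ∃ (k : ∀ n, (A n).X i) (w : ∀ n, (A n).X h), (∀ n, (A n).d i j (k n) = 0) ∧
      ∀ n, c n = k n - (τ n).f i (k (n + 1)) + (A n).d h i (w n) := by
  choose ζ hζ using fun n => exists_cycle (A n) i j hj (c n) (hc n)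
  obtain ⟨η, hη⟩ := hb (fun n => (A n).homologyπ i (ζ n))
  choose κ hκ using fun n => homologyπ_surjective (A n) i (η n)
  have h1 : ∀ n, (A n).homologyπ i
      (ζ n - κ n + HomologicalComplex.cyclesMap (τ n) i (κ (n + 1))) = 0 := by
    intro n
    have h2 : η n - HomologicalComplex.homologyMap (τ n) i (η (n + 1)) =
        (A n).homologyπ i (ζ n) := congrFun hη n
    rw [map_add, map_sub, ← homologyMap_homologyπ, hκ, hκ, ← h2]
    abel
  choose w hw using fun n => exists_boundary (A n) h i hi _ (h1 n)
  refine ⟨fun n => (A n).iCycles i (κ n), w, fun n => d_iCycles (A n) i j (κ n), fun n => ?_⟩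
  have h3 := congrArg ((A n).iCycles i) (hw n)
  rw [iCycles_toCycles, map_add, map_sub, iCycles_cyclesMap, hζ] at h3
  rw [h3]
  abel

end system

end Groth.Agent.H1.AbCxElem
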