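import Mathlib

/-!
Helper library (helper1): elementary facts on towers `τ m : G (m + 1) → G m` of abelian groups
whose transition maps are eventually bijective (vanishing of lim¹, limit = eventual value).
-/

set_option autoImplicit false
universe u

namespace Groth.Agent.H1.SeqAlg

/-- `lim¹ = 0` for towers with eventually bijective transition maps -/
lemma exists_delta_eq (n₁ : ℕ) :
    ∀ (G : ℕ → Type u) [∀ m, AddCommGroup (G m)] (τ : ∀ m, G (m + 1) →+ G m),
      (∀ m, n₁ ≤ m → Function.Bijective (τ m)) →
      ∀ v : (∀ m, G m), ∃ w : (∀ m, G m), ∀ m, w m - τ m (w (m + 1)) = v m := by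
  induction n₁ with
  | zero =>
    intro G _ τ hτ v
    let e : ∀ m, G (m + 1) ≃ G m := fun m => Equiv.ofBijective _ (hτ m (Nat.zero_le m))
    let w : ∀ m, G m := fun m => Nat.rec (motive := fun m => G m) 0
      (fun m wm => (e m).symm (wm - v m)) m
    refine ⟨w, fun m => ?_⟩
    have : τ m (w (m + 1)) = w m - v m := (e m).apply_symm_apply (w m - v m)
    rw [this]
    abel
  | succ n₁ ih =>
    intro G _ τ hτ v
    obtain ⟨w', hw'⟩ := ih (fun m => G (m + 1)) (fun m => τ (m + 1))
      (fun m hm => hτ (m + 1) (by omega)) (fun m => v (m + 1))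
    refine ⟨fun m => Nat.casesOn (motive := fun m => G m) m (v 0 + τ 0 (w' 0)) (fun m => w' m),
      fun m => ?_⟩
    cases m with
    | zero => simp
    | succ m => exact hw' m

/-- every element of an eventually constant tower extends to a compatible family -/
lemma exists_compatible (n₁ : ℕ) :
    ∀ (G : ℕ → Type u) (τ : ∀ m, G (m + 1) → G m),
      (∀ m, n₁ ≤ m → Function.Bijective (τ m)) →
      ∀ (n : ℕ), n₁ ≤ n → ∀ x : G n, ∃ y : (∀ m, G m), (∀ m, τ m (y (m + 1)) = y m) ∧ y n = x := by
  induction n₁ with
  | zero =>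
    intro G τ hτ n
    induction n with
    | zero =>
      intro _ x
      let e : ∀ m, G (m + 1) ≃ G m := fun m => Equiv.ofBijective _ (hτ m (Nat.zero_le m))
      refine ⟨fun m => Nat.rec (motive := fun m => G m) x (fun m ym => (e m).symm ym) m,
        fun m => ?_, rfl⟩
      exact (e m).apply_symm_apply _
    | succ n ihn =>
      intro _ x
      obtain ⟨y, hy, hyn⟩ := ihn (Nat.zero_le n) (τ n x)
      refine ⟨y, hy, ?_⟩
      apply (hτ n (Nat.zero_le n)).1
      rw [hy n, hyn]
  | succ n₁ ih =>
    intro G τ hτ n hn x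
    obtain ⟨n', rfl⟩ : ∃ n', n = n' + 1 := ⟨n - 1, by omega⟩
    obtain ⟨y', hy', hyn'⟩ := ih (fun m => G (m + 1)) (fun m => τ (m + 1))
      (fun m hm => hτ (m + 1) (by omega)) n' (by omega) x
    refine ⟨fun m => Nat.casesOn (motive := fun m => G m) m (τ 0 (y' 0)) (fun m => y' m),
      fun m => ?_, hyn'⟩
    cases m with
    | zero => rfl
    | succ m => exact hy' m

/-- a compatible family which vanishes at some index beyond which transitions are injective
vanishes everywhere -/
lemma eq_zero_of_compatible (G : ℕ → Type u) [∀ m, AddCommGroup (G m)]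
    (τ : ∀ m, G (m + 1) →+ G m) (n₁ : ℕ)
    (hτ : ∀ m, n₁ ≤ m → Function.Injective (τ m)) (y : ∀ m, G m)
    (hy : ∀ m, τ m (y (m + 1)) = y m) (n : ℕ) (hn : n₁ ≤ n) (h0 : y n = 0) :
    ∀ m, y m = 0 := by
  have hup : ∀ m, n ≤ m → y m = 0 := by
    intro m hm
    induction m, hm using Nat.le_induction with
    | base => exact h0
    | succ m hm ih =>
      apply hτ m (by omega)
      rw [hy m, ih, map_zero]
  have hdown : ∀ k m, m + k = n → y m = 0 := by
    intro k
    induction k with
    | zero => intro m hm; exact hup m (by omega)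
    | succ k ih =>
      intro m hm
      rw [← hy m, ih (m + 1) (by omega), map_zero]
  intro m
  by_cases hm : n ≤ m
  · exact hup m hm
  · exact hdown (n - m) m (by omega)

end Groth.Agent.H1.SeqAlg
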