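import Mathlib
import Groth.Prelude.Def_CohCx
import Groth.Agent.Lib.Helper1.SeqAlg

/-!
Helper library (helper1): Milnor sequence consequences for `CohCx.IsRlimVia`: if the transition
maps of a tower induce bijections on `Hom(X, -)` and `Hom(X⟦1⟧, -)` from some index on, then
`Hom(X, R lim K) → Hom(X, K n)` is bijective for large `n`.
-/

set_option autoImplicit false
universe v u
open CategoryTheory CategoryTheory.Limits Pretriangulated

namespace Groth.Agent.H1.MilnorHom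

open Groth.Agent.H1.SeqAlg

variable {T : Type u} [Category.{v} T] [Preadditive T] [HasZeroObject T] [HasShift T ℤ]
  [∀ n : ℤ, (shiftFunctor T n).Additive] [Pretriangulated T]
  (K : ℕ → T) (t : ∀ n, K (n + 1) ⟶ K n) [HasProduct K] (L : T) (a : ∀ n, L ⟶ K n)

/-- the map `∏ K ⟶ ∏ K`, `(x_n) ↦ (x_n - t_n x_{n+1})` -/
noncomputable abbrev delta : ∏ᶜ K ⟶ ∏ᶜ K :=
  Pi.lift fun n => Pi.π K n - Pi.π K (n + 1) ≫ t n

variable {K t L a}

lemma a_compat (hL : CohCx.IsRlimVia K t L a) (n : ℕ) : a (n + 1) ≫ t n = a n := by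
  obtain ⟨c, hc⟩ := hL
  have h : Pi.lift a ≫ delta K t = 0 := comp_distTriang_mor_zero₁₂ _ hc
  have h2 : (Pi.lift a ≫ delta K t) ≫ Pi.π K n = 0 := by rw [h, zero_comp]
  rw [Category.assoc, Pi.lift_π, Preadditive.comp_sub, Pi.lift_π, Pi.lift_π_assoc] at h2
  exact (sub_eq_zero.1 h2).symm

variable (X : T)

/-- postcomposition with `t m` as an additive map -/
noncomputable def tau (m : ℕ) : (X ⟶ K (m + 1)) →+ (X ⟶ K m) where
  toFun σ := σ ≫ t m
  map_zero' := zero_comp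
  map_add' _ _ := Preadditive.add_comp _ _ _ _ _ _

theorem bijective_comp_a (hL : CohCx.IsRlimVia K t L a) (n₁ : ℕ)
    (h0 : ∀ m, n₁ ≤ m → Function.Bijective (fun σ : X ⟶ K (m + 1) => σ ≫ t m))
    (h1 : ∀ m, n₁ ≤ m → Function.Bijective (fun σ : X⟦(1 : ℤ)⟧ ⟶ K (m + 1) => σ ≫ t m))
    (n : ℕ) (hn : n₁ ≤ n) : Function.Bijective (fun σ : X ⟶ L => σ ≫ a n) := by
  obtain ⟨c, hc⟩ := hL
  have hcompat : ∀ m, a (m + 1) ≫ t m = a m := a_compat ⟨c, hc⟩
  constructor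
  · -- injectivity
    intro σ σ' hσ
    dsimp only at hσ
    have h0' : (σ - σ') ≫ a n = 0 := by rw [Preadditive.sub_comp, hσ, sub_self]
    have hall : ∀ m, (σ - σ') ≫ a m = 0 :=
      eq_zero_of_compatible (fun m => X ⟶ K m) (tau (K := K) (t := t) X) n₁
        (fun m hm => (h0 m hm).1) (fun m => (σ - σ') ≫ a m)
        (fun m => by
          change ((σ - σ') ≫ a (m + 1)) ≫ t m = _
          rw [Category.assoc, hcompat]) n hn h0'
    have hlift : (σ - σ') ≫ Pi.lift a = 0 := by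
      apply Pi.hom_ext
      intro m
      rw [Category.assoc, Pi.lift_π, zero_comp, hall]
    have h2 : (σ - σ')⟦(1 : ℤ)⟧' ≫ (Pi.lift a)⟦(1 : ℤ)⟧' = 0 := by
      rw [← Functor.map_comp, hlift, Functor.map_zero]
    obtain ⟨v, hv⟩ := Triangle.coyoneda_exact₁ (Triangle.mk (Pi.lift a) (delta K t) c) hc
      ((σ - σ')⟦(1 : ℤ)⟧') h2
    change X⟦(1 : ℤ)⟧ ⟶ ∏ᶜ K at v
    change (σ - σ')⟦(1 : ℤ)⟧' = v ≫ c at hv
    obtain ⟨w, hw⟩ := exists_delta_eq n₁ (fun m => X⟦(1 : ℤ)⟧ ⟶ K m)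
      (tau (K := K) (t := t) (X⟦(1 : ℤ)⟧)) (fun m hm => h1 m hm) (fun m => v ≫ Pi.π K m)
    have hvw : v = Pi.lift w ≫ delta K t := by
      apply Pi.hom_ext
      intro m
      rw [Category.assoc, Pi.lift_π, Preadditive.comp_sub, Pi.lift_π, Pi.lift_π_assoc]
      exact (hw m).symm
    have h3 : delta K t ≫ c = 0 := comp_distTriang_mor_zero₂₃ _ hc
    rw [hvw, Category.assoc, h3, comp_zero] at hv
    have : σ - σ' = 0 := (shiftFunctor T (1 : ℤ)).map_injective (by rw [hv, Functor.map_zero])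
    exact sub_eq_zero.1 this
  · -- surjectivity
    intro x
    obtain ⟨y, hy, hyn⟩ := exists_compatible n₁ (fun m => X ⟶ K m) (fun m σ => σ ≫ t m)
      (fun m hm => h0 m hm) n hn x
    have h2 : Pi.lift y ≫ delta K t = 0 := by
      apply Pi.hom_ext
      intro m
      rw [Category.assoc, Pi.lift_π, Preadditive.comp_sub, Pi.lift_π, Pi.lift_π_assoc, zero_comp,
        hy m, sub_self]
    obtain ⟨σ, hσ⟩ := Triangle.coyoneda_exact₂ (Triangle.mk (Pi.lift a) (delta K t) c) hc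
      (Pi.lift y) h2
    change X ⟶ L at σ
    change Pi.lift y = σ ≫ Pi.lift a at hσ
    refine ⟨σ, ?_⟩
    have h3 : (Pi.lift y) ≫ Pi.π K n = (σ ≫ Pi.lift a) ≫ Pi.π K n := by rw [hσ]
    rw [Pi.lift_π, Category.assoc, Pi.lift_π] at h3
    change σ ≫ a n = x
    rw [← h3, hyn]

end Groth.Agent.H1.MilnorHom
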