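import Groth.Agent.Lib.Helper1.RlimCoh

/-!
Helper library (helper1): abstract form of `RlimCoh.isIso_homology_a`: the hypotheses about a weak
Serre class are replaced by the bijectivity statement they are used to prove.
-/

set_option autoImplicit false
set_option linter.unusedSectionVars false
universe w u
open CategoryTheory CategoryTheory.Limits Opposite DerivedCategory Pretriangulated

namespace Groth.Agent.H1.RlimCoh2

open Groth.Agent.H1.FreeOnLoc Groth.Agent.H1.SingleHom Groth.Agent.H1.HjSite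
  Groth.Agent.H1.MilnorHom Groth.Agent.H1.RlimCoh

variable {C : Type u} [SmallCategory C] {J : GrothendieckTopology C} {O : Sheaf J CommRingCat.{u}}
  [HasDerivedCategory.{w} (ModSite.Mod O)]
  {K : ℕ → DerivedCategory (ModSite.Mod O)} {t : ∀ n, K (n + 1) ⟶ K n}

/-- abstract form of `isIso_homology_a` -/
theorem isIso_homology_a_of_key
    (L : DerivedCategory (ModSite.Mod O)) (a : ∀ n, L ⟶ K n)
    (hcompat : ∀ m, a (m + 1) ≫ t m = a m) (j : ℤ) (n : ℕ)
    (hn : ∀ m, n ≤ m → IsIso ((homologyFunctor (ModSite.Mod O) j).map (t m)))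
    (key : ∀ U : C, ∃ (ι : Type u) (V : ι → C) (gV : ∀ i, V i ⟶ U), Sieve.ofArrows V gV ∈ J U ∧
      ∀ i, ∃ (G : C → Prop) (k : ℕ),
        (∀ T ∈ J (V i), ∃ (ι' : Type u) (Y : ι' → C) (g : ∀ l, Y l ⟶ V i),
          (∀ l, T.arrows (g l)) ∧ Sieve.ofArrows Y g ∈ J (V i) ∧ ∀ l, G (Y l)) ∧
        (∀ W, G W → Function.Bijective (fun σ : Xj O W j ⟶ L => σ ≫ a (n + k)))) :
    IsIso ((homologyFunctor (ModSite.Mod O) j).map (a n)) := by
  apply isIso_of_sections O
  · -- injectivity on sections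
    intro X s hs
    obtain ⟨ι₀, V₀, gV₀, hcov₀, hV₀⟩ := key X
    apply eq_zero_of_family s V₀ gV₀ hcov₀
    intro i₀
    obtain ⟨G, k, hd, hbij⟩ := hV₀ i₀
    obtain ⟨htr, htriso⟩ := transition_spec K t a hcompat j n hn k
    set s' := fmap O (gV₀ i₀) ≫ s with hs'
    have hs0 : s' ≫ (homologyFunctor (ModSite.Mod O) j).map (a (n + k)) = 0 := by
      have h1 : s' ≫ (homologyFunctor (ModSite.Mod O) j).map (a n) = 0 := by
        rw [hs', Category.assoc, hs, comp_zero]
      rw [← htr, Functor.map_comp, ← Category.assoc] at h1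
      rw [← cancel_mono ((homologyFunctor (ModSite.Mod O) j).map (CohCx.transition K t n k)), h1,
        zero_comp]
    let T : Sieve (V₀ i₀) :=
      { arrows := fun Z f => ∃ σ : Xj O Z j ⟶ L, rho σ = fmap O f ≫ s' ∧ σ ≫ a (n + k) = 0
        downward_closed := by
          rintro Z Z' f ⟨σ, h1, h2⟩ u
          refine ⟨res O u j ≫ σ, ?_, ?_⟩
          · rw [rho_precomp, h1, fmap_comp, Category.assoc]
          · rw [Category.assoc, h2, comp_zero] }
    have hT : T ∈ J (V₀ i₀) := by
      obtain ⟨T₁, hT₁, hl₁⟩ := exists_local_rep O L j s'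
      refine J.transitive hT₁ T ?_
      intro Y f hf
      obtain ⟨σ, hσ⟩ := hl₁ f hf
      have h0 : rho (σ ≫ a (n + k)) = 0 := by
        rw [rho_comp, hσ, Category.assoc, hs0, comp_zero]
      obtain ⟨T₂, hT₂, hl₂⟩ := exists_local_zero O (K (n + k)) j (σ ≫ a (n + k)) h0
      refine J.superset_covering ?_ hT₂
      intro Z u hu
      refine ⟨res O u j ≫ σ, ?_, ?_⟩
      · rw [rho_precomp, hσ, fmap_comp, Category.assoc]
      · rw [Category.assoc]
        exact hl₂ u hu
    obtain ⟨ι, Y, gY, hYT, hYcov, hYgood⟩ := hd T hT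
    apply eq_zero_of_family s' Y gY hYcov
    intro i
    obtain ⟨σ, h1, h2⟩ := hYT i
    have : σ = 0 := (hbij (Y i) (hYgood i)).1 (by
      dsimp only
      rw [h2, zero_comp])
    rw [← h1, this, rho_zero]
  · -- local surjectivity on sections
    intro X s'
    let T : Sieve X :=
      { arrows := fun Z f => ∃ s : ModSite.freeOn O Z ⟶ (homologyFunctor (ModSite.Mod O) j).obj L,
          s ≫ (homologyFunctor (ModSite.Mod O) j).map (a n) = fmap O f ≫ s'
        downward_closed := by
          rintro Z Z' f ⟨s, hs⟩ u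
          exact ⟨fmap O u ≫ s, by rw [Category.assoc, hs, fmap_comp, Category.assoc]⟩ }
    refine ⟨T, ?_, fun Y g hg => hg⟩
    obtain ⟨ι, V, gV, hVcov, hVB⟩ := key X
    refine J.transitive hVcov T ?_
    intro Z f hf
    obtain ⟨i, u, rfl⟩ := (Sieve.mem_ofArrows_iff V gV f).1 hf
    rw [Sieve.pullback_comp]
    apply J.pullback_stable
    obtain ⟨G, k, hd, hbij⟩ := hVB i
    obtain ⟨htr, htriso⟩ := transition_spec K t a hcompat j n hn k
    let s'' : ModSite.freeOn O (V i) ⟶ (homologyFunctor (ModSite.Mod O) j).obj (K (n + k)) :=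
      fmap O (gV i) ≫ s' ≫ inv ((homologyFunctor (ModSite.Mod O) j).map (CohCx.transition K t n k))
    obtain ⟨T₁, hT₁, hl₁⟩ := exists_local_rep O (K (n + k)) j s''
    obtain ⟨ι', W, gW, hWT, hWcov, hWgood⟩ := hd T₁ hT₁
    refine J.superset_covering ?_ hWcov
    intro Z' f' hf'
    obtain ⟨i', u', rfl⟩ := (Sieve.mem_ofArrows_iff W gW f').1 hf'
    change T.arrows ((u' ≫ gW i') ≫ gV i)
    rw [Category.assoc]
    apply T.downward_closed
    obtain ⟨σ', hσ'⟩ := hl₁ (gW i') (hWT i')
    obtain ⟨σ, hσ⟩ := (hbij (W i') (hWgood i')).2 σ'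
    dsimp only at hσ
    refine ⟨rho σ, ?_⟩
    rw [← htr, Functor.map_comp, ← Category.assoc, ← rho_comp, hσ, hσ']
    simp only [s'', Category.assoc, IsIso.inv_hom_id, Category.comp_id]
    rw [fmap_comp, Category.assoc]

end Groth.Agent.H1.RlimCoh2
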