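import Groth.Agent.Lib.Helper1.TruncTower
import Groth.Agent.Lib.Helper1.RlimCoh2

/-!
Helper library (helper1): `E = R lim τ_{≥ -n} E` from pointwise vanishing hypotheses on the
cohomology sheaves of `E` (no weak Serre class).
-/

set_option autoImplicit false
set_option linter.unusedSectionVars false
universe w u
open CategoryTheory CategoryTheory.Limits Opposite DerivedCategory Pretriangulated

namespace Groth.Agent.H1.TruncTower2

open Groth.Agent.H1.FreeOnLoc Groth.Agent.H1.SingleHom Groth.Agent.H1.HjSite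
  Groth.Agent.H1.SingleVanish Groth.Agent.H1.MilnorHom Groth.Agent.H1.GoodCd
  Groth.Agent.H1.RlimCoh Groth.Agent.H1.TruncCoh Groth.Agent.H1.WSerreTri
  Groth.Agent.H1.TruncTower Groth.Agent.H1.RlimCoh2

section general

variable {𝒜 : Type (u + 1)} [Category.{u} 𝒜] [Abelian 𝒜] [HasDerivedCategory.{w} 𝒜]

/-- `E` is the derived limit of its truncations as soon as every derived limit of the
truncations has the expected cohomology. -/
theorem isRlimVia_truncTower_of_isIso (E : DerivedCategory 𝒜) [HasProduct (CohCx.truncTower E)]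
    (h : ∀ (L : DerivedCategory 𝒜) (a : ∀ n, L ⟶ CohCx.truncTower E n),
      CohCx.IsRlimVia (CohCx.truncTower E) (CohCx.truncTowerMap E) L a →
        ∀ i : ℤ, IsIso ((homologyFunctor 𝒜 i).map (a (-i).toNat))) :
    CohCx.IsRlimVia (CohCx.truncTower E) (CohCx.truncTowerMap E) E (CohCx.toTruncTower E) := by
  obtain ⟨L, a', c, hT⟩ := distinguished_cocone_triangle₁
    (delta (CohCx.truncTower E) (CohCx.truncTowerMap E))
  let a : ∀ n, L ⟶ CohCx.truncTower E n := fun n => a' ≫ Pi.π _ n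
  have ha' : a' = Pi.lift a := by
    apply Pi.hom_ext
    intro n
    rw [Pi.lift_π]
  rw [ha'] at hT
  have hL : CohCx.IsRlimVia (CohCx.truncTower E) (CohCx.truncTowerMap E) L a := ⟨c, hT⟩
  have h0 : Pi.lift (CohCx.toTruncTower E) ≫
      delta (CohCx.truncTower E) (CohCx.truncTowerMap E) = 0 := by
    apply Pi.hom_ext
    intro n
    rw [Category.assoc, Pi.lift_π, Preadditive.comp_sub, Pi.lift_π, Pi.lift_π_assoc, zero_comp,
      toTruncTower_comp, sub_self]
  obtain ⟨κ, hκ⟩ := Triangle.coyoneda_exact₂ _ hT (Pi.lift (CohCx.toTruncTower E)) h0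
  change E ⟶ L at κ
  change Pi.lift (CohCx.toTruncTower E) = κ ≫ Pi.lift a at hκ
  have hκn : ∀ n, κ ≫ a n = CohCx.toTruncTower E n := by
    intro n
    have h3 : (Pi.lift (CohCx.toTruncTower E)) ≫ Pi.π _ n = (κ ≫ Pi.lift a) ≫ Pi.π _ n := by
      rw [hκ]
    rw [Pi.lift_π, Category.assoc, Pi.lift_π] at h3
    exact h3.symm
  have hκiso : IsIso κ := by
    rw [DerivedCategory.isIso_iff]
    intro i
    let n : ℕ := (-i).toNat
    have h1 : IsIso ((homologyFunctor 𝒜 i).map (a n)) := h L a hL i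
    have h2 : IsIso ((homologyFunctor 𝒜 i).map (CohCx.toTruncTower E n)) :=
      isIso_homology_toTruncTower E n i (by omega)
    have h3 : (homologyFunctor 𝒜 i).map κ ≫ (homologyFunctor 𝒜 i).map (a n) =
        (homologyFunctor 𝒜 i).map (CohCx.toTruncTower E n) := by
      rw [← Functor.map_comp, hκn]
    exact IsIso.of_isIso_fac_right h3
  have : IsIso κ := hκiso
  let e : E ≅ L := asIso κ
  have he : e.hom = κ := rfl
  refine ⟨c ≫ e.inv⟦(1 : ℤ)⟧', ?_⟩
  refine isomorphic_distinguished _ hT _ ?_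
  refine Triangle.isoMk _ _ e (Iso.refl _) (Iso.refl _) ?_ ?_ ?_
  · simp only [Triangle.mk_mor₁, Iso.refl_hom]
    erw [Category.comp_id]
    rw [he]
    exact hκ
  · simp only [Triangle.mk_mor₂, Iso.refl_hom]
    erw [Category.comp_id, Category.id_comp]
  · simp only [Triangle.mk_mor₃, Iso.refl_hom]
    erw [Category.id_comp]
    have h5 : (c ≫ e.inv⟦(1 : ℤ)⟧') ≫ e.hom⟦(1 : ℤ)⟧' = c := by
      rw [Category.assoc, ← Functor.map_comp, Iso.inv_hom_id, CategoryTheory.Functor.map_id,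
        Category.comp_id]
    exact h5

/-- the cone of `τ_{≥ -(m+1)} E ⟶ τ_{≥ -m} E` is `H^{-(m+1)}(E)` placed in degree `-(m+2)` -/
lemma exists_iso_single_of_cone (E : DerivedCategory 𝒜) (m : ℕ)
    (C : DerivedCategory 𝒜) (g : CohCx.truncTower E m ⟶ C)
    (δ : C ⟶ (CohCx.truncTower E (m + 1))⟦(1 : ℤ)⟧)
    (hT : Triangle.mk (CohCx.truncTowerMap E m) g δ ∈ distTriang _) :
    Nonempty (C ≅ (singleFunctor 𝒜 (-(m : ℤ) - 2)).obj
      ((homologyFunctor 𝒜 (-(m : ℤ) - 1)).obj E)) := by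
  let T := Triangle.mk (CohCx.truncTowerMap E m) g δ
  have hGE1 : (CohCx.truncTower E (m + 1)).IsGE (-((m + 1 : ℕ) : ℤ)) := by
    change TStructure.t.IsGE ((TStructure.t.truncGE (-((m + 1 : ℕ) : ℤ))).obj E) _
    infer_instance
  have hGE0 : (CohCx.truncTower E m).IsGE (-(m : ℤ)) := by
    change TStructure.t.IsGE ((TStructure.t.truncGE (-(m : ℤ))).obj E) _
    infer_instance
  have z1 : ∀ i : ℤ, i < -(m : ℤ) - 1 →
      IsZero ((homologyFunctor 𝒜 i).obj (CohCx.truncTower E (m + 1))) := fun i hi =>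
    isZero_of_isGE _ (-((m + 1 : ℕ) : ℤ)) i (by push_cast; omega)
  have z0 : ∀ i : ℤ, i < -(m : ℤ) →
      IsZero ((homologyFunctor 𝒜 i).obj (CohCx.truncTower E m)) := fun i hi =>
    isZero_of_isGE _ (-(m : ℤ)) i hi
  have hiso : ∀ i : ℤ, -(m : ℤ) ≤ i →
      IsIso ((homologyFunctor 𝒜 i).map (CohCx.truncTowerMap E m)) := fun i hi =>
    isIso_homology_truncTowerMap E m i hi
  -- vanishing of the cohomology of the cone
  have hz : ∀ i : ℤ, i ≠ -(m : ℤ) - 2 → IsZero ((homologyFunctor 𝒜 i).obj C) := by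
    intro i hi
    have hepi : Epi ((homologyFunctor 𝒜 i).map T.mor₁) := by
      by_cases h1 : -(m : ℤ) ≤ i
      · have := hiso i h1
        exact (inferInstance : Epi ((homologyFunctor 𝒜 i).map (CohCx.truncTowerMap E m)))
      · exact ⟨fun _ _ _ => (z0 i (by omega)).eq_of_src _ _⟩
    have hmono : Mono ((homologyFunctor 𝒜 (i + 1)).map T.mor₁) := by
      by_cases h1 : -(m : ℤ) ≤ i + 1
      · have := hiso (i + 1) h1
        exact (inferInstance : Mono ((homologyFunctor 𝒜 (i + 1)).map (CohCx.truncTowerMap E m)))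
      · exact ⟨fun _ _ _ => (z1 (i + 1) (by omega)).eq_of_tgt _ _⟩
    exact isZero_homology_obj₃ T hT i hepi hmono
  have hCGE : C.IsGE (-(m : ℤ) - 2) := by
    rw [isGE_iff]
    intro i hi
    exact hz i (by omega)
  have hCLE : C.IsLE (-(m : ℤ) - 2) := by
    rw [isLE_iff]
    intro i hi
    exact hz i (by omega)
  obtain ⟨Y, ⟨e⟩⟩ := exists_iso_singleFunctor_obj_of_isGE_of_isLE C (-(m : ℤ) - 2)
  -- the connecting map is an isomorphism
  have hh : -(m : ℤ) - 2 + 1 = -(m : ℤ) - 1 := by omega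
  have hδ : IsIso (HomologySequence.δ T (-(m : ℤ) - 2) (-(m : ℤ) - 1) hh) := by
    have hm : Mono (HomologySequence.δ T (-(m : ℤ) - 2) (-(m : ℤ) - 1) hh) :=
      (HomologySequence.exact₃ T hT (-(m : ℤ) - 2) (-(m : ℤ) - 1) hh).mono_g
        ((z0 (-(m : ℤ) - 2) (by omega)).eq_of_src _ _)
    have he : Epi (HomologySequence.δ T (-(m : ℤ) - 2) (-(m : ℤ) - 1) hh) :=
      (HomologySequence.exact₁ T hT (-(m : ℤ) - 2) (-(m : ℤ) - 1) hh).epi_f
        ((z0 (-(m : ℤ) - 1) (by omega)).eq_of_tgt _ _)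
    exact isIso_of_mono_of_epi _
  have hπ : IsIso ((homologyFunctor 𝒜 (-(m : ℤ) - 1)).map (CohCx.toTruncTower E (m + 1))) :=
    isIso_homology_toTruncTower E (m + 1) _ (by push_cast; omega)
  let eY : Y ≅ (homologyFunctor 𝒜 (-(m : ℤ) - 1)).obj E :=
    ((singleFunctorCompHomologyFunctorIso 𝒜 (-(m : ℤ) - 2)).app Y).symm ≪≫
      (homologyFunctor 𝒜 (-(m : ℤ) - 2)).mapIso e.symm ≪≫
      (@asIso _ _ _ _ (HomologySequence.δ T (-(m : ℤ) - 2) (-(m : ℤ) - 1) hh) hδ) ≪≫
      (@asIso _ _ _ _ ((homologyFunctor 𝒜 (-(m : ℤ) - 1)).map (CohCx.toTruncTower E (m + 1)))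
        hπ).symm
  exact ⟨e ≪≫ (singleFunctor 𝒜 (-(m : ℤ) - 2)).mapIso eY⟩

/-- bijectivity of `Hom(X, τ_{≥ -(m+1)} E) → Hom(X, τ_{≥ -m} E)` from vanishing of maps to the
shifted cohomology object -/
lemma bijective_comp_truncTowerMap (E : DerivedCategory 𝒜) (m : ℕ) (X : DerivedCategory 𝒜)
    (h1 : ∀ σ : X ⟶ (singleFunctor 𝒜 (-(m : ℤ) - 2)).obj
      ((homologyFunctor 𝒜 (-(m : ℤ) - 1)).obj E), σ = 0)
    (h2 : ∀ σ : X ⟶ (singleFunctor 𝒜 (-(m : ℤ) - 1)).obj
      ((homologyFunctor 𝒜 (-(m : ℤ) - 1)).obj E), σ = 0) :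
    Function.Bijective
      (fun σ : X ⟶ CohCx.truncTower E (m + 1) => σ ≫ CohCx.truncTowerMap E m) := by
  obtain ⟨C, g, δ, hT⟩ := distinguished_cocone_triangle (CohCx.truncTowerMap E m)
  obtain ⟨e⟩ := exists_iso_single_of_cone E m C g δ hT
  let T := Triangle.mk (CohCx.truncTowerMap E m) g δ
  constructor
  · intro σ σ' hσ
    dsimp only at hσ
    have h0 : (σ - σ') ≫ T.mor₁ = 0 := by
      change (σ - σ') ≫ CohCx.truncTowerMap E m = 0
      rw [Preadditive.sub_comp, hσ, sub_self]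
    obtain ⟨ρ, hρ⟩ := Triangle.coyoneda_exact₂ T.invRotate (inv_rot_of_distTriang T hT)
      (σ - σ') h0
    change X ⟶ C⟦(-1 : ℤ)⟧ at ρ
    let e' : C⟦(-1 : ℤ)⟧ ≅ (singleFunctor 𝒜 (-(m : ℤ) - 1)).obj
        ((homologyFunctor 𝒜 (-(m : ℤ) - 1)).obj E) :=
      (shiftFunctor _ (-1 : ℤ)).mapIso e ≪≫
        ((singleFunctors 𝒜).shiftIso (-1) (-(m : ℤ) - 1) (-(m : ℤ) - 2) (by omega)).app _
    have hρ0 : ρ = 0 := by
      have := h2 (ρ ≫ e'.hom)
      rw [← cancel_mono e'.hom, this, zero_comp]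
    have hρ' : σ - σ' = 0 := by
      rw [hρ, hρ0]
      exact zero_comp
    exact sub_eq_zero.1 hρ'
  · intro σ'
    have h3 : σ' ≫ T.mor₂ = 0 := by
      have := h1 (σ' ≫ g ≫ e.hom)
      change σ' ≫ g = 0
      rw [← cancel_mono e.hom, Category.assoc, this, zero_comp]
    obtain ⟨σ, hσ⟩ := Triangle.coyoneda_exact₂ T hT σ' h3
    exact ⟨σ, hσ.symm⟩

end general

section site

variable {C : Type u} [SmallCategory C] {J : GrothendieckTopology C} {O : Sheaf J CommRingCat.{u}}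
  [HasDerivedCategory.{w} (ModSite.Mod O)]

/-- pointwise version of `extVanish_of_goodFor` -/
lemma hom_shift_eq_zero_of_HU {W : C} {F : ModSite.Mod O} {k : ℕ}
    (h : Subsingleton (ModSite.HU O F k W))
    (τ : (singleFunctor (ModSite.Mod O) 0).obj (ModSite.freeOn O W) ⟶
      ((singleFunctor (ModSite.Mod O) 0).obj F)⟦(k : ℤ)⟧) : τ = 0 := by
  have := Groth.Agent.Lib.Helper21.ModGroth.isGrothendieckAbelian_mod (ModSite.ringSh O)
  obtain ⟨e⟩ := Groth.Agent.H1.ExtFreeOn.ext_freeOn_equiv_HU O W F k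
  have hs : Subsingleton (Abelian.Ext.{u} (ModSite.freeOn O W) F k) := e.toEquiv.subsingleton
  have h1 : (Abelian.Ext.homEquiv (X := ModSite.freeOn O W) (Y := F) (n := k)).symm τ = 0 :=
    Subsingleton.elim _ _
  have h2 := congrArg (Abelian.Ext.homEquiv (X := ModSite.freeOn O W) (Y := F) (n := k)) h1
  rw [Equiv.apply_symm_apply] at h2
  rw [h2]
  exact Abelian.Ext.zero_hom (X := ModSite.freeOn O W) (Y := F) (n := k)

/-- maps `single_j (freeOn W) ⟶ single_b F` vanish if `H^{j-b}(W, F)` does -/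
lemma hom_single_eq_zero_of_HU (W : C) (F : ModSite.Mod O) (j b : ℤ)
    (h : b ≤ j → Subsingleton (ModSite.HU O F (j - b).toNat W))
    (σ : Xj O W j ⟶ (singleFunctor (ModSite.Mod O) b).obj F) : σ = 0 := by
  by_cases hjb : b ≤ j
  · obtain ⟨k, hk⟩ : ∃ k : ℕ, (k : ℤ) = j - b := ⟨(j - b).toNat, by omega⟩
    have hk' : (j - b).toNat = k := by omega
    have hs := h hjb
    rw [hk'] at hs
    let i₁ := ((singleFunctors (ModSite.Mod O)).shiftIso j 0 j (add_zero j)).app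
      (ModSite.freeOn O W)
    let i₂ := ((singleFunctors (ModSite.Mod O)).shiftIso j (-(k : ℤ)) b (by omega)).app F
    let i₃ := ((singleFunctors (ModSite.Mod O)).shiftIso (k : ℤ) (-(k : ℤ)) 0 (by omega)).app F
    have key := hom_shift_eq_zero_of_HU hs (i₁.inv ≫ σ⟦j⟧' ≫ i₂.hom ≫ i₃.inv)
    have h2 : σ⟦j⟧' = 0 := by
      have : σ⟦j⟧' = i₁.hom ≫ (i₁.inv ≫ σ⟦j⟧' ≫ i₂.hom ≫ i₃.inv) ≫ i₃.hom ≫ i₂.inv := by
        simp
      rw [this, key, zero_comp, comp_zero]
    exact (shiftFunctor (DerivedCategory (ModSite.Mod O)) j).map_injective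
      (by rw [h2, Functor.map_zero])
  · have g1 : ((singleFunctor (ModSite.Mod O) j).obj (ModSite.freeOn O W)).IsLE j :=
      inferInstance
    have g2 : ((singleFunctor (ModSite.Mod O) b).obj F).IsGE b := inferInstance
    exact TStructure.t.zero_of_isLE_of_isGE σ j b (by omega) g1 g2

/-- **Pointwise criterion**: `E` is the derived limit of its truncations if, cofinally locally,
the relevant cohomology groups of the cohomology sheaves of `E` vanish. -/
theorem isRlimVia_truncTower_of_pointwise (E : DerivedCategory (ModSite.Mod O))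
    [HasProduct (CohCx.truncTower E)]
    (hgood : ∀ (j : ℤ) (U : C), ∃ (ι : Type u) (V : ι → C) (gV : ∀ i, V i ⟶ U),
      Sieve.ofArrows V gV ∈ J U ∧
      ∀ i, ∃ (n₁ : ℕ), ∀ T ∈ J (V i), ∃ (ι' : Type u) (Y : ι' → C) (g : ∀ l, Y l ⟶ V i),
        (∀ l, T.arrows (g l)) ∧ Sieve.ofArrows Y g ∈ J (V i) ∧
        ∀ l, ∀ m, n₁ ≤ m → ∀ (j' : ℤ), j - 1 ≤ j' → j' ≤ j → ∀ b : ℤ,
          (b = -(m : ℤ) - 2 ∨ b = -(m : ℤ) - 1) → b ≤ j' →
          Subsingleton (ModSite.HU O ((homologyFunctor (ModSite.Mod O) (-(m : ℤ) - 1)).obj E)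
            (j' - b).toNat (Y l))) :
    CohCx.IsRlimVia (CohCx.truncTower E) (CohCx.truncTowerMap E) E (CohCx.toTruncTower E) := by
  apply isRlimVia_truncTower_of_isIso
  intro L a hL i
  apply isIso_homology_a_of_key L a (a_compat hL) i (-i).toNat
    (fun m hm => isIso_homology_truncTowerMap E m i (by omega))
  intro U
  obtain ⟨ι, V, gV, hcov, hV⟩ := hgood i U
  refine ⟨ι, V, gV, hcov, fun i₀ => ?_⟩
  obtain ⟨n₁, hn₁⟩ := hV i₀
  refine ⟨fun W => ∀ m, n₁ ≤ m → ∀ (j' : ℤ), i - 1 ≤ j' → j' ≤ i → ∀ b : ℤ,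
      (b = -(m : ℤ) - 2 ∨ b = -(m : ℤ) - 1) → b ≤ j' →
      Subsingleton (ModSite.HU O ((homologyFunctor (ModSite.Mod O) (-(m : ℤ) - 1)).obj E)
        (j' - b).toNat W), n₁, hn₁, fun W hW => ?_⟩
  have bij : ∀ (j' : ℤ), i - 1 ≤ j' → j' ≤ i → ∀ m, n₁ ≤ m →
      Function.Bijective (fun σ : Xj O W j' ⟶ CohCx.truncTower E (m + 1) =>
        σ ≫ CohCx.truncTowerMap E m) := by
    intro j' h1 h2 m hm
    exact bijective_comp_truncTowerMap E m (Xj O W j')
      (fun σ => hom_single_eq_zero_of_HU W _ j' _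
        (fun hb => hW m hm j' h1 h2 _ (Or.inl rfl) hb) σ)
      (fun σ => hom_single_eq_zero_of_HU W _ j' _
        (fun hb => hW m hm j' h1 h2 _ (Or.inr rfl) hb) σ)
  refine bijective_comp_a (Xj O W i) hL n₁ (fun m hm => bij i (by omega) le_rfl m hm)
    (fun m hm => ?_) ((-i).toNat + n₁) (by omega)
  exact bijective_comp_of_iso
    (((singleFunctors (ModSite.Mod O)).shiftIso 1 (i - 1) i (by omega)).app (ModSite.freeOn O W))
    (CohCx.truncTowerMap E m) (bij (i - 1) le_rfl (by omega) m hm)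

end site

end Groth.Agent.H1.TruncTower2
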