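import Groth.Agent.Lib.Helper1.RhoGE
import Groth.Agent.Lib.Helper1.TruncTower2
import Groth.Agent.Lib.Helper1.MilnorHom

/-!
Helper library (helper1): if `E = R lim τ_{≥ -n} E` and `P₀` is acyclic for all cohomology
objects of `E`, then `Hom(single_0 P₀, E) ≃ Hom(P₀, H^0 E)`.
-/

set_option autoImplicit false
set_option linter.unusedSectionVars false
universe w u
open CategoryTheory CategoryTheory.Limits DerivedCategory Pretriangulated

namespace Groth.Agent.H1.RhoAcyc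

open Groth.Agent.H1.SingleHom Groth.Agent.H1.RhoGE Groth.Agent.H1.TruncTower
  Groth.Agent.H1.TruncTower2 Groth.Agent.H1.MilnorHom

variable {𝒜 : Type (u + 1)} [Category.{u} 𝒜] [Abelian 𝒜] [HasDerivedCategory.{w} 𝒜]

lemma rho_bijective_of_isIso' {P : 𝒜} {j : ℤ} {M M' : DerivedCategory 𝒜} (φ : M ⟶ M')
    (h1 : Function.Bijective (fun σ : (singleFunctor 𝒜 j).obj P ⟶ M => σ ≫ φ))
    (h2 : IsIso ((homologyFunctor 𝒜 j).map φ))
    (h : Function.Bijective (rho : ((singleFunctor 𝒜 j).obj P ⟶ M') → _)) :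
    Function.Bijective (rho : ((singleFunctor 𝒜 j).obj P ⟶ M) → _) := by
  have key : (rho : ((singleFunctor 𝒜 j).obj P ⟶ M) → _) =
      (fun s => s ≫ inv ((homologyFunctor 𝒜 j).map φ)) ∘
        (rho : ((singleFunctor 𝒜 j).obj P ⟶ M') → _) ∘ (fun σ => σ ≫ φ) := by
    funext σ
    simp only [Function.comp_apply]
    rw [rho_comp, Category.assoc, IsIso.hom_inv_id, Category.comp_id]
  rw [key]
  refine Function.Bijective.comp ?_ (h.comp h1)
  constructor
  · intro a b hab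
    exact (cancel_mono _).1 hab
  · intro c
    exact ⟨c ≫ (homologyFunctor 𝒜 j).map φ, by simp⟩

theorem rho_bijective_of_acyclic (E : DerivedCategory 𝒜) [HasProduct (CohCx.truncTower E)]
    (hE : CohCx.IsRlimVia (CohCx.truncTower E) (CohCx.truncTowerMap E) E (CohCx.toTruncTower E))
    (P₀ : 𝒜)
    (hv : ∀ (i j b : ℤ), b < j → ∀ σ : (singleFunctor 𝒜 j).obj P₀ ⟶
      (singleFunctor 𝒜 b).obj ((homologyFunctor 𝒜 i).obj E), σ = 0) :
    Function.Bijective (rho : ((singleFunctor 𝒜 0).obj P₀ ⟶ E) → _) := by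
  have h0 : ∀ m : ℕ, Function.Bijective
      (fun σ : (singleFunctor 𝒜 0).obj P₀ ⟶ CohCx.truncTower E (m + 1) =>
        σ ≫ CohCx.truncTowerMap E m) := fun m =>
    bijective_comp_truncTowerMap E m _ (hv _ 0 _ (by omega)) (hv _ 0 _ (by omega))
  let i₁ := ((singleFunctors 𝒜).shiftIso 1 (-1) 0 (by omega)).app P₀
  have h1 : ∀ m : ℕ, 1 ≤ m → Function.Bijective
      (fun σ : ((singleFunctor 𝒜 0).obj P₀)⟦(1 : ℤ)⟧ ⟶ CohCx.truncTower E (m + 1) =>
        σ ≫ CohCx.truncTowerMap E m) := by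
    intro m hm
    refine bijective_comp_truncTowerMap E m _ ?_ ?_
    · intro σ
      have := hv (-(m : ℤ) - 1) (-1) (-(m : ℤ) - 2) (by omega) (i₁.inv ≫ σ)
      rw [← cancel_epi i₁.inv, this, comp_zero]
    · intro σ
      have := hv (-(m : ℤ) - 1) (-1) (-(m : ℤ) - 1) (by omega) (i₁.inv ≫ σ)
      rw [← cancel_epi i₁.inv, this, comp_zero]
  have hb1 := bijective_comp_a ((singleFunctor 𝒜 0).obj P₀) hE 1 (fun m _ => h0 m) h1 1 le_rfl
  have hb0 : Function.Bijective
      (fun σ : (singleFunctor 𝒜 0).obj P₀ ⟶ E => σ ≫ CohCx.toTruncTower E 0) := by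
    have : (fun σ : (singleFunctor 𝒜 0).obj P₀ ⟶ E => σ ≫ CohCx.toTruncTower E 0) =
        (fun σ => σ ≫ CohCx.truncTowerMap E 0) ∘ (fun σ => σ ≫ CohCx.toTruncTower E 1) := by
      funext σ
      simp only [Function.comp_apply, Category.assoc]
      rw [toTruncTower_comp]
    rw [this]
    exact (h0 0).comp hb1
  have hGE : (CohCx.truncTower E 0).IsGE 0 := by
    have : TStructure.t.IsGE ((TStructure.t.truncGE (-((0 : ℕ) : ℤ))).obj E) (-((0 : ℕ) : ℤ)) :=
      inferInstance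
    exact TStructure.t.isGE_of_ge _ 0 (-((0 : ℕ) : ℤ)) (by simp)
  exact rho_bijective_of_isIso' (CohCx.toTruncTower E 0) hb0
    (isIso_homology_toTruncTower E 0 0 (by simp)) (rho_bijective_of_isGE P₀ 0 _)

end Groth.Agent.H1.RhoAcyc
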