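import Groth.Agent.Lib.Helper1.HDUSections
import Groth.Agent.Lib.Helper1.RhoAcyc
import Groth.Agent.Lib.Helper25.KInjMain
import Groth.Agent.Lib.Helper25.DProd

/-!
Helper library (helper1): abelian sheaves on a small site: if the cohomology sheaves of `K` are
acyclic on a covering class `B`, then `H^q(U, K) ≃ H^q(K)(U)` for `U ∈ B`.
-/

set_option autoImplicit false
set_option linter.unusedSectionVars false
universe w u
open CategoryTheory CategoryTheory.Limits Opposite DerivedCategory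

namespace Groth.Agent.H1.AbSheafAcyc

open Groth.Agent.H1.LocProjGen Groth.Agent.Lib.helper7.FreeYoneda Groth.Agent.H1.SingleHom
  Groth.Agent.H1.AbSheafRlim Groth.Agent.H1.HDUSections Groth.Agent.H1.RhoAcyc

variable {C : Type u} [SmallCategory C] {J : GrothendieckTopology C}

/-- K-injective resolutions of complexes of abelian sheaves -/
theorem hKinjAb (K : CochainComplex (Sheaf J AddCommGrpCat.{u}) ℤ) :
    ∃ (I : CochainComplex (Sheaf J AddCommGrpCat.{u}) ℤ) (f : K ⟶ I),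
      I.IsKInjective ∧ QuasiIso f := by
  obtain ⟨I, f, hI, hf, -, -⟩ := Groth.Agent.Lib.Helper25.KInjMain.exists_kInjective_resolution K
  exact ⟨I, f, hI, hf⟩

variable [HasDerivedCategory.{w} (Sheaf J AddCommGrpCat.{u})]

/-- countable products exist in `D(Sh(C, J))` -/
theorem hasProduct_natAb (X : ℕ → DerivedCategory (Sheaf J AddCommGrpCat.{u})) : HasProduct X :=
  Groth.Agent.Lib.Helper25.DProd.hasProduct (hKinjAb (J := J)) X

omit [HasDerivedCategory.{w} (Sheaf J AddCommGrpCat.{u})] in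
lemma subsingleton_HU_of_iso {F F' : Sheaf J AddCommGrpCat.{u}} (e : F ≅ F') (k : ℕ) (U : C)
    (h : Subsingleton (CohSite.HU F k U)) : Subsingleton (CohSite.HU F' k U) := by
  let e' : (Sheaf.cohomologyPresheafFunctor J k).obj F ≅ (Sheaf.cohomologyPresheafFunctor J k).obj F' :=
    (Sheaf.cohomologyPresheafFunctor J k).mapIso e
  let e'' := (e'.app (op U)).addCommGroupIsoToAddEquiv
  exact e''.symm.toEquiv.subsingleton

/-- `rho` is bijective on `Hom(single_0 ℤ_U, E)` if the cohomology sheaves of `E` are acyclic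
on the covering class `B ∋ U` -/
theorem rho_bijective_of_acyclic_on (E : DerivedCategory (Sheaf J AddCommGrpCat.{u})) (B : Set C)
    (hB : ∀ U : C, ∃ (ι : Type u) (Y : ι → C) (f : ∀ i, Y i ⟶ U),
      Sieve.ofArrows Y f ∈ J U ∧ ∀ i, Y i ∈ B)
    (h : ∀ U ∈ B, ∀ (p : ℕ) (i : ℤ), Subsingleton (CohSite.HU (CohCx.HD E i) (p + 1) U))
    (U : C) (hU : U ∈ B) :
    Function.Bijective
      (rho : ((singleFunctor _ 0).obj ((freeSheaf J).obj U) ⟶ E) → _) := by
  have : HasProduct (CohCx.truncTower E) := hasProduct_natAb _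
  have hE : CohCx.IsRlimVia (CohCx.truncTower E) (CohCx.truncTowerMap E) E
      (CohCx.toTruncTower E) := by
    apply Groth.Agent.H1.AbSheafRlim.isRlimVia_truncTower_of_pointwise
    intro j U'
    obtain ⟨ι, V, gV, hcov, hV⟩ := hB U'
    refine ⟨ι, V, gV, hcov, fun i => ⟨(-j).toNat + 2, fun T hT => ?_⟩⟩
    obtain ⟨ι', Y, g, h1, h2, h3⟩ := exists_refinement B hB (V i) T hT
    refine ⟨ι', Y, g, h1, h2, fun l m hm j' hj1 hj2 b hb hbj => ?_⟩
    obtain ⟨p, hp⟩ : ∃ p : ℕ, (j' - b).toNat = p + 1 := ⟨(j' - b).toNat - 1, by omega⟩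
    rw [hp]
    exact h _ (h3 l) p _
  apply rho_bijective_of_acyclic E hE
  intro i j b hbj σ
  refine Groth.Agent.H1.AbSheafRlim.hom_single_eq_zero_of_HU U _ j b (fun _ => ?_) σ
  obtain ⟨p, hp⟩ : ∃ p : ℕ, (j - b).toNat = p + 1 := ⟨(j - b).toNat - 1, by omega⟩
  rw [hp]
  exact h U hU p i

/-- **Cohomology on a class of acyclic objects**: `H^q(U, K) ≃ H^q(K)(U)` for `U ∈ B` -/
theorem rhoHom_bijective (K : DerivedCategory (Sheaf J AddCommGrpCat.{u})) (B : Set C)
    (hB : ∀ U : C, ∃ (ι : Type u) (Y : ι → C) (f : ∀ i, Y i ⟶ U),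
      Sieve.ofArrows Y f ∈ J U ∧ ∀ i, Y i ∈ B)
    (h : ∀ U ∈ B, ∀ (p : ℕ) (q : ℤ), Subsingleton (CohSite.HU (CohCx.HD K q) (p + 1) U))
    (U : C) (hU : U ∈ B) (q : ℤ) : Function.Bijective (rhoHom K q U) := by
  have h' : ∀ U ∈ B, ∀ (p : ℕ) (i : ℤ),
      Subsingleton (CohSite.HU (CohCx.HD (K⟦q⟧) i) (p + 1) U) := by
    intro V hV p i
    exact subsingleton_HU_of_iso
      (((homologyFunctor (Sheaf J AddCommGrpCat.{u}) 0).shiftIso q i (q + i) rfl).app K).symm
      (p + 1) V (h V hV p (q + i))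
  have hb := rho_bijective_of_acyclic_on (K⟦q⟧) B hB h' U hU
  have key : (rhoHom K q U : CohCx.HDU K q U → _) =
      (homEquiv J U (CohCx.HD K q)) ∘ (fun s => s ≫ (shIso K q).hom) ∘ rho := by
    funext σ
    rfl
  rw [key]
  refine (Equiv.bijective _).comp (Function.Bijective.comp ?_ hb)
  constructor
  · intro a b hab
    exact (cancel_mono _).1 hab
  · intro c
    exact ⟨c ≫ (shIso K q).inv, by simp⟩

end Groth.Agent.H1.AbSheafAcyc
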