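import Groth.Agent.Lib.Helper1.LocProjGen
import Groth.Agent.Lib.Helper7.FreeYoneda
import Groth.Prelude.Def_CohSite

/-!
Helper library (helper1): abelian sheaves on a small site: the free abelian sheaves on
representables are locally projective generators; the pointwise criterion for
`E = R lim τ_{≥ -n} E` in `D(Sheaf J Ab)`.
-/

set_option autoImplicit false
set_option linter.unusedSectionVars false
universe w u
open CategoryTheory CategoryTheory.Limits Opposite DerivedCategory Pretriangulated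

namespace Groth.Agent.H1.AbSheafRlim

open Groth.Agent.H1.LocProjGen Groth.Agent.Lib.helper7.FreeYoneda

variable {C : Type u} [SmallCategory C] (J : GrothendieckTopology C)

theorem locProj_freeSheaf : LocProj J (freeSheaf J) where
  lift := by
    intro G' G'' π _ X s
    have h : Sheaf.IsLocallySurjective π := by
      rw [Sheaf.isLocallySurjective_iff_epi']
      infer_instance
    let x : G''.obj.obj (op X) := homEquiv J X G'' s
    refine ⟨Presheaf.imageSieve π.hom x, h.imageSieve_mem x, ?_⟩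
    intro Y g hg
    obtain ⟨t, ht⟩ := hg
    refine ⟨(homEquiv J Y G').symm t, ?_⟩
    apply (homEquiv J Y G'').injective
    rw [homEquiv_naturality_right, Equiv.apply_symm_apply, homEquiv_naturality_left]
    exact ht
  ext := by
    intro M X s s' T hT h
    apply (homEquiv J X M).injective
    have hM : Presheaf.IsSheaf J M.obj := M.property
    refine hM.isSeparated X T hT _ _ ?_
    intro Y g hg
    have := congrArg (homEquiv J Y M) (h g hg)
    rw [homEquiv_naturality_left, homEquiv_naturality_left] at this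
    exact this
  hom_ext := by
    intro G G' f f' h
    apply Sheaf.hom_ext
    apply NatTrans.ext
    funext U
    obtain ⟨X⟩ := U
    ext x
    have := congrArg (homEquiv J X G') (h X ((homEquiv J X G).symm x))
    rw [homEquiv_naturality_right, homEquiv_naturality_right, Equiv.apply_symm_apply] at this
    exact this

variable {J} [HasDerivedCategory.{w} (Sheaf J AddCommGrpCat.{u})]

lemma hom_shift_eq_zero_of_HU {W : C} {F : Sheaf J AddCommGrpCat.{u}} {k : ℕ}
    (h : Subsingleton (CohSite.HU F k W))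
    (τ : (singleFunctor (Sheaf J AddCommGrpCat.{u}) 0).obj ((freeSheaf J).obj W) ⟶
      ((singleFunctor (Sheaf J AddCommGrpCat.{u}) 0).obj F)⟦(k : ℤ)⟧) : τ = 0 := by
  have hs : Subsingleton (Abelian.Ext.{u} ((freeSheaf J).obj W) F k) := h
  have h1 : (Abelian.Ext.homEquiv (X := (freeSheaf J).obj W) (Y := F) (n := k)).symm τ = 0 :=
    Subsingleton.elim _ _
  have h2 := congrArg (Abelian.Ext.homEquiv (X := (freeSheaf J).obj W) (Y := F) (n := k)) h1
  rw [Equiv.apply_symm_apply] at h2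
  rw [h2]
  exact Abelian.Ext.zero_hom (X := (freeSheaf J).obj W) (Y := F) (n := k)

/-- maps `single_j (ℤ_W) ⟶ single_b F` vanish if `H^{j-b}(W, F)` does -/
lemma hom_single_eq_zero_of_HU (W : C) (F : Sheaf J AddCommGrpCat.{u}) (j b : ℤ)
    (h : b ≤ j → Subsingleton (CohSite.HU F (j - b).toNat W))
    (σ : Xj (freeSheaf J) W j ⟶ (singleFunctor (Sheaf J AddCommGrpCat.{u}) b).obj F) :
    σ = 0 := by
  by_cases hjb : b ≤ j
  · obtain ⟨k, hk⟩ : ∃ k : ℕ, (k : ℤ) = j - b := ⟨(j - b).toNat, by omega⟩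
    have hk' : (j - b).toNat = k := by omega
    have hs := h hjb
    rw [hk'] at hs
    let i₁ := ((singleFunctors (Sheaf J AddCommGrpCat.{u})).shiftIso j 0 j (add_zero j)).app
      ((freeSheaf J).obj W)
    let i₂ := ((singleFunctors (Sheaf J AddCommGrpCat.{u})).shiftIso j (-(k : ℤ)) b
      (by omega)).app F
    let i₃ := ((singleFunctors (Sheaf J AddCommGrpCat.{u})).shiftIso (k : ℤ) (-(k : ℤ)) 0
      (by omega)).app F
    have key := hom_shift_eq_zero_of_HU hs (i₁.inv ≫ σ⟦j⟧' ≫ i₂.hom ≫ i₃.inv)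
    have h2 : σ⟦j⟧' = 0 := by
      have : σ⟦j⟧' = i₁.hom ≫ (i₁.inv ≫ σ⟦j⟧' ≫ i₂.hom ≫ i₃.inv) ≫ i₃.hom ≫ i₂.inv := by
        simp
      rw [this, key, zero_comp, comp_zero]
    exact (shiftFunctor (DerivedCategory (Sheaf J AddCommGrpCat.{u})) j).map_injective
      (by rw [h2, Functor.map_zero])
  · have g1 : ((singleFunctor (Sheaf J AddCommGrpCat.{u}) j).obj ((freeSheaf J).obj W)).IsLE j :=
      inferInstance
    have g2 : ((singleFunctor (Sheaf J AddCommGrpCat.{u}) b).obj F).IsGE b := inferInstance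
    exact TStructure.t.zero_of_isLE_of_isGE σ j b (by omega) g1 g2

/-- **Pointwise criterion** for abelian sheaves on a small site. -/
theorem isRlimVia_truncTower_of_pointwise (E : DerivedCategory (Sheaf J AddCommGrpCat.{u}))
    [HasProduct (CohCx.truncTower E)]
    (hgood : ∀ (j : ℤ) (U : C), ∃ (ι : Type u) (V : ι → C) (gV : ∀ i, V i ⟶ U),
      Sieve.ofArrows V gV ∈ J U ∧
      ∀ i, ∃ (n₁ : ℕ), ∀ T ∈ J (V i), ∃ (ι' : Type u) (Y : ι' → C) (g : ∀ l, Y l ⟶ V i),
        (∀ l, T.arrows (g l)) ∧ Sieve.ofArrows Y g ∈ J (V i) ∧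
        ∀ l, ∀ m, n₁ ≤ m → ∀ (j' : ℤ), j - 1 ≤ j' → j' ≤ j → ∀ b : ℤ,
          (b = -(m : ℤ) - 2 ∨ b = -(m : ℤ) - 1) → b ≤ j' →
          Subsingleton (CohSite.HU
            ((homologyFunctor (Sheaf J AddCommGrpCat.{u}) (-(m : ℤ) - 1)).obj E)
            (j' - b).toNat (Y l))) :
    CohCx.IsRlimVia (CohCx.truncTower E) (CohCx.truncTowerMap E) E (CohCx.toTruncTower E) := by
  apply Groth.Agent.H1.LocProjGen.isRlimVia_truncTower_of_pointwise (locProj_freeSheaf J)
  intro j U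
  obtain ⟨ι, V, gV, hcov, hV⟩ := hgood j U
  refine ⟨ι, V, gV, hcov, fun i => ?_⟩
  obtain ⟨n₁, hn₁⟩ := hV i
  refine ⟨n₁, fun T hT => ?_⟩
  obtain ⟨ι', Y, g, h1, h2, h3⟩ := hn₁ T hT
  refine ⟨ι', Y, g, h1, h2, fun l m hm j' hj1 hj2 b hb σ => ?_⟩
  exact hom_single_eq_zero_of_HU (Y l) _ j' b (fun hbj => h3 l m hm j' hj1 hj2 b hb hbj) σ

omit [HasDerivedCategory.{w} (Sheaf J AddCommGrpCat.{u})] in
/-- arithmetic of the bound function -/
lemma of_fun_bound (HUq : ℤ → ℕ → Prop) (p : ℤ → ℤ)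
    (h : ∀ (m : ℤ) (k : ℕ), p m < k → HUq (m - k) k) (j : ℤ) (m : ℕ)
    (hm : (max (max (p (j - 1)) (p j)) (p (j + 1)) - j + 1).toNat ≤ m)
    (j' : ℤ) (hj1 : j - 1 ≤ j') (hj2 : j' ≤ j) (b : ℤ)
    (hb : b = -(m : ℤ) - 2 ∨ b = -(m : ℤ) - 1) (hbj : b ≤ j') :
    HUq (-(m : ℤ) - 1) (j' - b).toNat := by
  have hk : ((j' - b).toNat : ℤ) = j' - b := by omega
  have key := h (j' - b - m - 1) (j' - b).toNat
  have e : j' - b - (m : ℤ) - 1 - ((j' - b).toNat : ℤ) = -(m : ℤ) - 1 := by omega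
  rw [e] at key
  apply key
  have h4 : p (j - 1) ≤ max (max (p (j - 1)) (p j)) (p (j + 1)) :=
    le_trans (le_max_left _ _) (le_max_left _ _)
  have h5 : p j ≤ max (max (p (j - 1)) (p j)) (p (j + 1)) :=
    le_trans (le_max_right _ _) (le_max_left _ _)
  have h6 : p (j + 1) ≤ max (max (p (j - 1)) (p j)) (p (j + 1)) := le_max_right _ _
  have h7 : max (max (p (j - 1)) (p j)) (p (j + 1)) - j + 1 ≤ (m : ℤ) := by omega
  rw [hk]
  rcases hb with hb | hb
  · have e1 : j' - b - (m : ℤ) - 1 = j' + 1 := by omega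
    rw [e1]
    rcases (show j' = j - 1 ∨ j' = j by omega) with rfl | rfl
    · have e2 : j - 1 + 1 = j := by omega
      rw [e2]
      omega
    · omega
  · have e1 : j' - b - (m : ℤ) - 1 = j' := by omega
    rw [e1]
    rcases (show j' = j - 1 ∨ j' = j by omega) with rfl | rfl
    · omega
    · omega

omit [HasDerivedCategory.{w} (Sheaf J AddCommGrpCat.{u})] in
/-- every covering sieve can be refined by a covering family of members of `B` -/
lemma exists_refinement (B : Set C)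
    (hB : ∀ U : C, ∃ (ι : Type u) (Y : ι → C) (f : ∀ i, Y i ⟶ U),
      Sieve.ofArrows Y f ∈ J U ∧ ∀ i, Y i ∈ B)
    (V : C) (T : Sieve V) (hT : T ∈ J V) :
    ∃ (ι' : Type u) (Y : ι' → C) (g : ∀ l, Y l ⟶ V),
      (∀ l, T.arrows (g l)) ∧ Sieve.ofArrows Y g ∈ J V ∧ ∀ l, Y l ∈ B := by
  choose ι Y f hcov hYB using hB
  let ι' : Type u := Σ (a : Σ (W : C), {φ : W ⟶ V // T.arrows φ}), ι a.1
  refine ⟨ι', fun l => Y l.1.1 l.2, fun l => f l.1.1 l.2 ≫ l.1.2.1, ?_, ?_, fun l => hYB _ _⟩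
  · intro l
    exact T.downward_closed l.1.2.2 _
  · refine J.transitive hT _ ?_
    intro W φ hφ
    refine J.superset_covering ?_ (hcov W)
    intro Z ψ hψ
    obtain ⟨i, u, rfl⟩ := (Sieve.mem_ofArrows_iff (Y W) (f W) ψ).1 hψ
    change (Sieve.ofArrows _ _).arrows ((u ≫ f W i) ≫ φ)
    rw [Category.assoc]
    apply Sieve.downward_closed
    exact Sieve.ofArrows_mk _ _ (⟨⟨W, φ, hφ⟩, i⟩ : ι')

end Groth.Agent.H1.AbSheafRlim
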