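import Groth.Agent.Lib.Helper1.WayOut

set_option autoImplicit false
set_option linter.unusedSectionVars false
set_option linter.style.haveILetI false

universe w w' v v' u u'

open CategoryTheory Category Limits Pretriangulated

namespace Groth.Agent.H1.AdjExact

open Groth.Agent.H1.TriNat Groth.Agent.H1.WayOut DerivedCategory

variable {A : Type u} [Category.{v} A] [Abelian A] [HasDerivedCategory.{w} A]
  {B : Type u'} [Category.{v'} B] [Abelian B] [HasDerivedCategory.{w'} B]
  (Φ : B ⥤ A) [Φ.Additive] [PreservesFiniteLimits Φ] [PreservesFiniteColimits Φ]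

/-- exact functors commute with cohomology on the derived category (after helper23 `NCFree`). -/
noncomputable def homologyMapIso (Y : DerivedCategory B) (n : ℤ) :
    (homologyFunctor A n).obj (Φ.mapDerivedCategory.obj Y) ≅
      Φ.obj ((homologyFunctor B n).obj Y) := by
  let E := Q.objPreimage Y
  let e : Q.obj E ≅ Y := Q.objObjPreimageIso Y
  refine (homologyFunctor A n).mapIso (Φ.mapDerivedCategory.mapIso e.symm) ≪≫ ?_
  refine (homologyFunctor A n).mapIso (Φ.mapDerivedCategoryFactors.app E) ≪≫ ?_
  refine (homologyFunctorFactors A n).app _ ≪≫ ?_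
  refine (E.sc n).mapHomologyIso Φ ≪≫ ?_
  refine Φ.mapIso ((homologyFunctorFactors B n).app E).symm ≪≫ ?_
  exact Φ.mapIso ((homologyFunctor B n).mapIso e)

lemma isGE_map (Y : DerivedCategory B) (n : ℤ) (h : Y.IsGE n) :
    (Φ.mapDerivedCategory.obj Y).IsGE n := by
  rw [isGE_iff] at h ⊢
  intro i hi
  exact (Φ.map_isZero (h i hi)).of_iso (homologyMapIso Φ Y i)

lemma isLE_map (Y : DerivedCategory B) (n : ℤ) (h : Y.IsLE n) :
    (Φ.mapDerivedCategory.obj Y).IsLE n := by
  rw [isLE_iff] at h ⊢
  intro i hi
  exact (Φ.map_isZero (h i hi)).of_iso (homologyMapIso Φ Y i)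

variable {Φ} {R : DerivedCategory A ⥤ DerivedCategory B} (adj : Φ.mapDerivedCategory ⊣ R)

include adj in
/-- the right adjoint of the functor induced by an exact functor is left t-exact -/
lemma isGE_rightAdjoint (X : DerivedCategory A) (n : ℤ) (h : X.IsGE n) : (R.obj X).IsGE n := by
  change TStructure.t.IsGE (R.obj X) n
  rw [TStructure.t.isGE_iff_orthogonal (n - 1) n (by omega)]
  intro Y f hY
  have hLY : (Φ.mapDerivedCategory.obj Y).IsLE (n - 1) := isLE_map Φ Y (n - 1) hY
  have h0 : (adj.homEquiv Y X).symm f = 0 :=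
    TStructure.t.zero_of_isLE_of_isGE _ (n - 1) n (by omega) hLY h
  have := congrArg (adj.homEquiv Y X) h0
  rw [Equiv.apply_symm_apply] at this
  rw [this, Adjunction.homEquiv_unit]
  haveI : R.Additive := adj.right_adjoint_additive
  simp

include adj in
/-- **Counit**: if the counit of `Φ ⊣ R` is an isomorphism on the cohomology objects of a bounded
below `X`, it is an isomorphism on `X`. -/
theorem isIso_counit_app (X : DerivedCategory A) (n₀ : ℤ) (hX : X.IsGE n₀)
    (h : ∀ q : ℤ, IsIso (adj.counit.app ((singleFunctor A 0).obj ((homologyFunctor A q).obj X)))) :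
    IsIso (adj.counit.app X) := by
  letI : R.CommShift ℤ := adj.rightAdjointCommShift ℤ
  haveI : adj.CommShift ℤ := adj.commShift_of_leftAdjoint ℤ
  haveI : R.IsTriangulated := adj.isTriangulated_rightAdjoint
  refine isIso_app_of_isGE (F := R ⋙ Φ.mapDerivedCategory) (G := 𝟭 _) adj.counit ?_ ?_ X n₀ h
  · intro X n hX
    exact isGE_map Φ _ n (isGE_rightAdjoint adj X n hX)
  · intro X n hX
    exact hX

include adj in
/-- **Unit**: if the unit of `Φ ⊣ R` is an isomorphism on the cohomology objects of a bounded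
below `Y`, it is an isomorphism on `Y`. -/
theorem isIso_unit_app (Y : DerivedCategory B) (n₀ : ℤ) (hY : Y.IsGE n₀)
    (h : ∀ q : ℤ, IsIso (adj.unit.app ((singleFunctor B 0).obj ((homologyFunctor B q).obj Y)))) :
    IsIso (adj.unit.app Y) := by
  letI : R.CommShift ℤ := adj.rightAdjointCommShift ℤ
  haveI : adj.CommShift ℤ := adj.commShift_of_leftAdjoint ℤ
  haveI : R.IsTriangulated := adj.isTriangulated_rightAdjoint
  refine isIso_app_of_isGE (F := 𝟭 _) (G := Φ.mapDerivedCategory ⋙ R) adj.unit ?_ ?_ Y n₀ h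
  · intro X n hX
    exact hX
  · intro X n hX
    exact isGE_rightAdjoint adj _ n (isGE_map Φ X n hX)

end Groth.Agent.H1.AdjExact
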