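import Mathlib

set_option autoImplicit false
set_option linter.unusedSectionVars false
open CategoryTheory CategoryTheory.Limits Opposite

namespace Groth.Agent.H1.AdjFF

variable {𝒞 𝒟 : Type*} [Category 𝒞] [Category 𝒟] {L : 𝒟 ⥤ 𝒞} {R : 𝒞 ⥤ 𝒟} (adj : L ⊣ R)
  [R.Full] [R.Faithful] (A : ObjectProperty 𝒞)

include adj

lemma bijective_L_map_obj (F' : 𝒟) (G : 𝒞) :
    Function.Bijective (fun φ : F' ⟶ R.obj G => L.map φ) := by
  have h1 : (fun φ : F' ⟶ R.obj G => L.map φ) =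
      (fun ψ => ψ ≫ inv (adj.counit.app G)) ∘ (adj.homEquiv F' G).symm := by
    funext φ
    simp [Adjunction.homEquiv_counit]
  rw [h1]
  refine Function.Bijective.comp ?_ (adj.homEquiv F' G).symm.bijective
  constructor
  · intro a b hab
    exact (cancel_mono _).1 hab
  · intro c
    exact ⟨c ≫ adj.counit.app G, by simp⟩

lemma bijective_L_map {F' G' : 𝒟} (hG' : A.map R G') :
    Function.Bijective (fun φ : F' ⟶ G' => L.map φ) := by
  obtain ⟨G, -, ⟨e⟩⟩ := (A.prop_map_iff R G').1 hG'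
  have hb := bijective_L_map_obj adj F' G
  constructor
  · intro φ φ' hφ
    have : L.map (φ ≫ e.inv) = L.map (φ' ≫ e.inv) := by
      simp only [Functor.map_comp]
      rw [show L.map φ = L.map φ' from hφ]
    have := hb.1 this
    exact (cancel_mono _).1 this
  · intro ψ
    obtain ⟨φ₀, hφ₀⟩ := hb.2 (ψ ≫ L.map e.inv)
    refine ⟨φ₀ ≫ e.hom, ?_⟩
    change L.map φ₀ = _ at hφ₀
    change L.map (φ₀ ≫ e.hom) = ψ
    rw [Functor.map_comp, hφ₀, Category.assoc, ← Functor.map_comp, e.inv_hom_id,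
      CategoryTheory.Functor.map_id, Category.comp_id]

lemma prop_L_of_map [A.IsClosedUnderIsomorphisms] {F' : 𝒟} (hF' : A.map R F') :
    A (L.obj F') := by
  obtain ⟨F, hF, ⟨e⟩⟩ := (A.prop_map_iff R F').1 hF'
  exact A.prop_of_iso ((asIso (adj.counit.app F)).symm ≪≫ L.mapIso e) hF

lemma exists_preimage {F : 𝒞} (hF : A F) :
    ∃ F' : 𝒟, A.map R F' ∧ Nonempty (L.obj F' ≅ F) :=
  ⟨R.obj F, A.prop_map_obj R hF, ⟨asIso (adj.counit.app F)⟩⟩

lemma isIso_unit_of_map {F' : 𝒟} (hF' : A.map R F') : IsIso (adj.unit.app F') := by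
  obtain ⟨F, -, ⟨e⟩⟩ := (A.prop_map_iff R F').1 hF'
  exact adj.isIso_unit_app_of_iso e.symm

lemma map_of_isIso_unit {F' : 𝒟} (h1 : A (L.obj F')) (h2 : IsIso (adj.unit.app F')) :
    A.map R F' :=
  (A.prop_map_iff R F').2 ⟨L.obj F', h1, ⟨(asIso (adj.unit.app F')).symm⟩⟩

end Groth.Agent.H1.AdjFF
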