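import Groth.Agent.Lib.Helper1.CechStepA

/-!
# Cartan's criterion on the big étale site for affine objects, part A (helper1)

`GC π`: a single étale surjective morphism between affine `S`-schemes.  `CEx P`: the Čech complexes of
the presheaf `P` for all `GC`-covers are exact in positive degrees.  For `0 ⟶ A ⟶ I ⟶ Q ⟶ 0` exact with
`A` in `CEx`: sections of `Q` over affines lift to `I`; if moreover `I` is injective, `Q` is in `CEx`.
-/

set_option autoImplicit false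
universe u
open CategoryTheory CategoryTheory.Limits AlgebraicGeometry Opposite

namespace Groth.Agent.H1.AffCartan

open Groth.Agent.H1.CechK Groth.Agent.H1.CechRep Groth.Agent.H1.FppfDesc Groth.Agent.H1.CechCE

variable {S : Scheme.{u}}

/-- good covers: étale surjective morphisms between affine schemes -/
def GC {V T : Over S} (π : V ⟶ T) : Prop :=
  IsAffine V.left ∧ IsAffine T.left ∧ Etale π.left ∧ Surjective π.left

/-- global Čech exactness in positive degrees for all good covers -/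
def CEx (P : (Over S)ᵒᵖ ⥤ AddCommGrpCat.{u + 1}) : Prop :=
  ∀ {V T : Over S} (π : V ⟶ T), GC π → ∀ (p : ℕ) (c : K π (𝟙 T) (p + 2) ⟶ P),
    d (p + 2) ≫ c = 0 → ∃ b : K π (𝟙 T) (p + 1) ⟶ P, d (p + 1) ≫ b = c

/-- the elementwise data of a short exact sequence of big étale sheaves -/
structure GData {A I Q : (Over S)ᵒᵖ ⥤ AddCommGrpCat.{u + 1}} (ι : A ⟶ I) (q : I ⟶ Q) : Prop where
  inj : ∀ W, Function.Injective (ι.app W)
  exact : ∀ W (x : I.obj W), q.app W x = 0 → ∃ a, ι.app W a = x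
  zero : ι ≫ q = 0
  glueI : ∀ {V Y : Over S} (p : V ⟶ Y), GC p → ∀ x : I.obj (op V),
      (∀ {Z : Over S} (p₁ p₂ : Z ⟶ V), p₁ ≫ p = p₂ ≫ p → I.map p₁.op x = I.map p₂.op x) →
      ∃ y : I.obj (op Y), I.map p.op y = x
  sepQ : ∀ {V Y : Over S} (p : V ⟶ Y), GC p → ∀ y y' : Q.obj (op Y),
      Q.map p.op y = Q.map p.op y' → y = y'
  loc : ∀ (T : Over S), IsAffine T.left → ∀ s : Q.obj (op T),
    ∃ (V : Over S) (π : V ⟶ T) (r : I.obj (op V)), GC π ∧ q.app (op V) r = Q.map π.op s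

section Factor

variable {A I Q : (Over S)ᵒᵖ ⥤ AddCommGrpCat.{u + 1}} {ι : A ⟶ I} {q : I ⟶ Q}
  {V T T₁ : Over S} {π : V ⟶ T} {e : T₁ ⟶ T}

theorem exists_factor_cochain (D : GData ι q) {n : ℕ} (c : K π e n ⟶ I) (hc : c ≫ q = 0) :
    ∃ g : K π e n ⟶ A, g ≫ ι = c := by
  have h1 : ∀ (W : Over S) (x : Tup π e n W), ∃ a : A.obj (op W),
      ι.app (op W) a = c.app (op W) (gen x) := by
    intro W x
    apply D.exact
    have := congrArg (fun α => α.app (op W)) hc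
    exact ConcreteCategory.congr_hom this (gen x)
  choose a ha using h1
  refine ⟨lift A a ?_, ?_⟩
  · intro W W' g x
    apply D.inj
    rw [ha, map_app_apply, ha, app_map_gen]
  · apply hom_ext_gen
    intro W x
    rw [comp_app_apply, lift_gen, ha]

theorem cancel_inj (D : GData ι q) {n : ℕ} (g g' : K π e n ⟶ A) (h : g ≫ ι = g' ≫ ι) :
    g = g' := by
  apply hom_ext_gen
  intro W x
  apply D.inj
  have := congrArg (fun α => α.app (op W)) h
  exact ConcreteCategory.congr_hom this (gen x)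

end Factor

section OfSec

variable {V T T₁ : Over S} (π : V ⟶ T) (e : T₁ ⟶ T) {P : (Over S)ᵒᵖ ⥤ AddCommGrpCat.{u + 1}}

theorem ofSec_aux (n : ℕ) (σ : P.obj (op (Eobj π e n))) {W W' : Over S} (g : W' ⟶ W)
    (x : Tup π e n W) :
    P.map (liftE n (Tup.map g x)).op σ = P.map g.op (P.map (liftE n x).op σ) := by
  rw [liftE_map, op_comp, Functor.map_comp]
  rfl

/-- the cochain defined by a section over the representing object -/
noncomputable def ofSec (n : ℕ) (σ : P.obj (op (Eobj π e n))) : K π e n ⟶ P :=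
  lift P (fun W x => P.map (liftE n x).op σ) (fun g x => ofSec_aux π e n σ g x)

theorem ofSec_gen (n : ℕ) (σ : P.obj (op (Eobj π e n))) {W : Over S} (x : Tup π e n W) :
    (ofSec π e n σ).app (op W) (gen x) = P.map (liftE n x).op σ :=
  lift_gen P (fun W x => P.map (liftE n x).op σ) (fun g x => ofSec_aux π e n σ g x) x

theorem toSec_ofSec (n : ℕ) (σ : P.obj (op (Eobj π e n))) : toSec P (ofSec π e n σ) = σ := by
  rw [toSec, ofSec_gen, liftE_univ]
  change P.map (𝟙 _) σ = σ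
  rw [P.map_id]
  rfl

theorem ofSec_toSec (n : ℕ) (c : K π e n ⟶ P) : ofSec π e n (toSec P c) = c := by
  apply hom_ext_gen
  intro W x
  rw [ofSec_gen, app_gen_eq]

end OfSec

theorem isAffine_Eobj {V T T₁ : Over S} (π : V ⟶ T) (e : T₁ ⟶ T) (hV : IsAffine V.left)
    (hT : IsAffine T.left) (hT₁ : IsAffine T₁.left) : ∀ n, IsAffine (Eobj π e n).left
  | 0 => hT₁
  | n + 1 => by
    haveI := isAffine_Eobj π e hV hT hT₁ n
    change IsAffine (pullback (Eto π e n ≫ e).left π.left)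
    infer_instance

theorem gc_Eto {V T : Over S} (π : V ⟶ T) (hπ : GC π) : ∀ n, GC (Eto π (𝟙 T) n)
  | n => by
    obtain ⟨hV, hT, het, hsurj⟩ := hπ
    refine ⟨isAffine_Eobj π (𝟙 T) hV hT hT n, hT, ?_, ?_⟩
    · exact prop_Eto (@Etale) (inferInstanceAs (Etale (𝟙 T.left))) het n
    · exact prop_Eto (@Surjective) (inferInstanceAs (Surjective (𝟙 T.left))) hsurj n

section Steps

variable {A I Q : (Over S)ᵒᵖ ⥤ AddCommGrpCat.{u + 1}} {ι : A ⟶ I} {q : I ⟶ Q}

/-- **Step (a)**: sections of the quotient over affine objects lift. -/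
theorem surj_of_cex (D : GData ι q) (hA : CEx A) (T : Over S) (hT : IsAffine T.left)
    (s : Q.obj (op T)) : ∃ σ : I.obj (op T), q.app (op T) σ = s := by
  obtain ⟨V, π, r₁, hπ, hr₁⟩ := D.loc T hT s
  obtain ⟨rc, hrcd⟩ : ∃ rc : K π (𝟙 T) 1 ⟶ I, rc = cochainOfSec π (𝟙 T) I r₁ := ⟨_, rfl⟩
  have hqrc : ∀ {W' : Over S} (x : Tup π (𝟙 T) 1 W'),
      q.app (op W') (rc.app (op W') (gen x)) = Q.map x.base.op s := by
    intro W' x
    rw [hrcd, cochainOfSec_gen, map_app_apply, hr₁, pmap_map, x.comm 0, Category.comp_id]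
  have h1 : (d 1 ≫ rc) ≫ q = 0 := by
    apply hom_ext_gen
    intro W' x
    rw [comp_app_apply, d_comp_app_gen, map_sum, Fin.sum_univ_two, map_zsmul, map_zsmul, hqrc,
      hqrc, zero_app_apply]
    change (-1 : ℤ) ^ ((0 : Fin 2) : ℕ) • Q.map x.base.op s +
      (-1 : ℤ) ^ ((1 : Fin 2) : ℕ) • Q.map x.base.op s = 0
    simp
  obtain ⟨g, hg⟩ := exists_factor_cochain D (d 1 ≫ rc) h1
  have hg2 : d 2 ≫ g = 0 := by
    apply cancel_inj D
    rw [Category.assoc, hg, ← Category.assoc, d_comp_d 0, zero_comp, zero_comp]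
  obtain ⟨b, hb⟩ := hA π hπ 0 g hg2
  obtain ⟨r', hr'd⟩ : ∃ r' : K π (𝟙 T) 1 ⟶ I, r' = rc - b ≫ ι := ⟨_, rfl⟩
  have hr' : d 1 ≫ r' = 0 := by
    rw [hr'd, Preadditive.comp_sub, sub_eq_zero, ← hg, ← hb, Category.assoc]
  have hcompat : ∀ {Z : Over S} (p₁ p₂ : Z ⟶ Eobj π (𝟙 T) 1),
      p₁ ≫ Eto π (𝟙 T) 1 = p₂ ≫ Eto π (𝟙 T) 1 →
      I.map p₁.op (toSec I r') = I.map p₂.op (toSec I r') := by
    intro Z p₁ p₂ hp
    have hbase : (Tup.map p₁ (univ π (𝟙 T) 1)).base = (Tup.map p₂ (univ π (𝟙 T) 1)).base := by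
      change p₁ ≫ (univ π (𝟙 T) 1).base = p₂ ≫ (univ π (𝟙 T) 1).base
      rw [univ_base]
      exact hp
    have hv : (Tup.map p₂ (univ π (𝟙 T) 1)).sec 0 ≫ π =
        (Tup.map p₁ (univ π (𝟙 T) 1)).base ≫ 𝟙 T := by
      rw [hbase]
      exact (Tup.map p₂ (univ π (𝟙 T) 1)).comm 0
    rw [toSec, ← app_map_gen, ← app_map_gen,
      cocycle_cons r' hr' (Tup.map p₁ (univ π (𝟙 T) 1)) _ hv, Fin.sum_univ_one]
    simp only [Fin.val_zero, pow_zero, one_smul]
    congr 2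
    apply Tup.ext
    · exact hbase
    · funext j
      obtain rfl : j = 0 := Fin.fin_one_eq_zero j
      rfl
  have hgc := gc_Eto π hπ 1
  obtain ⟨σ, hσ⟩ := D.glueI (Eto π (𝟙 T) 1) hgc (toSec I r') hcompat
  refine ⟨σ, ?_⟩
  apply D.sepQ (Eto π (𝟙 T) 1) hgc
  rw [← map_app_apply, hσ, toSec, hr'd, sub_app_apply, map_sub, comp_app_apply, hqrc]
  have hz : q.app _ (ι.app _ (b.app (op (Eobj π (𝟙 T) 1)) (gen (univ π (𝟙 T) 1)))) = 0 := by
    have := congrArg (fun α => α.app (op (Eobj π (𝟙 T) 1))) D.zero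
    exact ConcreteCategory.congr_hom this _
  rw [hz, sub_zero, univ_base]

/-- **Step (b)**: the quotient is globally Čech exact. -/
theorem cex_of_step (D : GData ι q) (hA : CEx A) [Injective I] : CEx Q := by
  intro V T π hπ p c hc
  have hE : IsAffine (Eobj π (𝟙 T) (p + 2)).left := (gc_Eto π hπ (p + 2)).1
  obtain ⟨τ, hτ⟩ := surj_of_cex D hA (Eobj π (𝟙 T) (p + 2)) hE (toSec Q c)
  obtain ⟨ch, hchd⟩ : ∃ ch : K π (𝟙 T) (p + 2) ⟶ I, ch = ofSec π (𝟙 T) (p + 2) τ := ⟨_, rfl⟩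
  have hch : ch ≫ q = c := by
    apply hom_ext_gen
    intro W x
    rw [comp_app_apply, hchd, ofSec_gen, map_app_apply, hτ, app_gen_eq]
  have h5 : (d (p + 2) ≫ ch) ≫ q = 0 := by
    rw [Category.assoc, hch, hc]
  obtain ⟨a, ha⟩ := exists_factor_cochain D (d (p + 2) ≫ ch) h5
  have ha2 : d (p + 3) ≫ a = 0 := by
    apply cancel_inj D
    rw [Category.assoc, ha, ← Category.assoc, d_comp_d (p + 1), zero_comp, zero_comp]
  obtain ⟨g, hg⟩ := hA π hπ (p + 1) a ha2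
  obtain ⟨ct, hctd⟩ : ∃ ct : K π (𝟙 T) (p + 2) ⟶ I, ct = ch - g ≫ ι := ⟨_, rfl⟩
  have hct : d (p + 2) ≫ ct = 0 := by
    rw [hctd, Preadditive.comp_sub, sub_eq_zero, ← ha, ← hg, Category.assoc]
  obtain ⟨bh, hbh⟩ := exists_primitive I p ct hct
  refine ⟨bh ≫ q, ?_⟩
  rw [← Category.assoc, hbh, hctd, Preadditive.sub_comp, Category.assoc, D.zero, comp_zero,
    sub_zero, hch]

end Steps

end Groth.Agent.H1.AffCartan
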