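import Groth.Agent.Lib.Helper1.AffCartanA
import Groth.Agent.Lib.Helper1.SheafExactLoc

/-!
# Cartan's criterion on the big étale site for affine objects, part B (helper1)

The elementwise data `GData` of a short exact sequence of big étale abelian sheaves.
-/

set_option autoImplicit false
universe u
open CategoryTheory CategoryTheory.Limits AlgebraicGeometry Opposite

namespace Groth.Agent.H1.AffCartan

open Groth.Agent.H1.CechK Groth.Agent.H1.CechRep Groth.Agent.H1.FppfDesc Groth.Agent.H1.CechCE

local notation "Et" => Scheme.etalePrecoverage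

variable {S : Scheme.{u}}

/-- étale-local surjectivity of an epimorphism of big étale sheaves, in concrete form -/
theorem exists_local_lift_etale {F G : BigSite.Ab Et S} (q : F ⟶ G) [Epi q] (W : Over S)
    (s : G.obj.obj (op W)) (w : W.left) :
    ∃ (X₀ : Over S) (f₀ : X₀ ⟶ W) (x : X₀.left), Etale f₀.left ∧ f₀.left x = w ∧
        ∃ r : F.obj.obj (op X₀), q.hom.app (op X₀) r = G.obj.map f₀.op s := by
  have h : Sheaf.IsLocallySurjective q := by
    rw [Sheaf.isLocallySurjective_iff_epi']
    infer_instance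
  have hmem := h.imageSieve_mem s
  haveI : Scheme.etalePrecoverage.{u}.HasIsos := by
    unfold Scheme.etalePrecoverage
    infer_instance
  haveI : Scheme.etalePrecoverage.{u}.IsStableUnderBaseChange := by
    unfold Scheme.etalePrecoverage
    infer_instance
  haveI : Scheme.etalePrecoverage.{u}.IsStableUnderComposition := by
    unfold Scheme.etalePrecoverage
    infer_instance
  change Presheaf.imageSieve q.hom s ∈ Scheme.etalePrecoverage.toGrothendieck.over S W at hmem
  rw [CategoryTheory.over_toGrothendieck_eq_toGrothendieck_comap_forget,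
    Precoverage.mem_toGrothendieck_iff_of_isStableUnderComposition] at hmem
  obtain ⟨R, hR, hle⟩ := hmem
  rw [Precoverage.mem_comap_iff] at hR
  obtain ⟨Y₀, f', hf', x, hx⟩ := hR.1 w
  obtain ⟨hf''⟩ := hf'
  have hP := hR.2 hf''
  obtain ⟨hf₀⟩ := hf''
  rename_i X₀ f₀
  obtain ⟨r, hr⟩ := hle X₀ f₀ hf₀
  exact ⟨X₀, f₀, x, hP, hx, r, hr⟩

theorem singleton_mem_etale {V Y : Over S} (p : V ⟶ Y) (h1 : Etale p.left)
    (h2 : Surjective p.left) :
    Sieve.generate (Presieve.singleton p) ∈ Scheme.etaleTopology.over S Y := by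
  change Sieve.generate (Presieve.singleton p) ∈
    (Scheme.precoverage @Etale).toGrothendieck.over S Y
  rw [CategoryTheory.over_toGrothendieck_eq_toGrothendieck_comap_forget]
  apply Precoverage.generate_mem_toGrothendieck
  rw [Precoverage.mem_comap_iff, Presieve.map_singleton, Scheme.singleton_mem_precoverage_iff]
  exact ⟨h2.surj, h1⟩

theorem isSheafFor_singleton_etale (F : BigSite.Ab Et S) {V Y : Over S} (p : V ⟶ Y)
    (h1 : Etale p.left) (h2 : Surjective p.left) :
    Presieve.IsSheafFor (F.obj ⋙ forget AddCommGrpCat) (Presieve.singleton p) := by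
  rw [Presieve.isSheafFor_iff_generate]
  exact isSheaf_type F _ (singleton_mem_etale p h1 h2)

/-- local lifts over affine étale neighbourhoods -/
theorem exists_affine_local_lift {F G : BigSite.Ab Et S} (q : F ⟶ G) [Epi q] (T : Over S)
    (s : G.obj.obj (op T)) (t : T.left) :
    ∃ (X : Over S) (f : X ⟶ T) (x : X.left) (r : F.obj.obj (op X)), IsAffine X.left ∧
      Etale f.left ∧ f.left x = t ∧ q.hom.app (op X) r = G.obj.map f.op s := by
  obtain ⟨X₀, f₀, x, hf₀, hx, r, hr⟩ := exists_local_lift_etale q T s t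
  obtain ⟨U, hU, hxU⟩ : ∃ U : X₀.left.Opens, IsAffineOpen U ∧ x ∈ U := by
    obtain ⟨_, ⟨U, hU, rfl⟩, hxU, -⟩ :=
      X₀.left.isBasis_affineOpens.exists_subset_of_mem_open (Set.mem_univ x) isOpen_univ
    exact ⟨U, hU, hxU⟩
  let X : Over S := Over.mk (U.ι ≫ X₀.hom)
  let j : X ⟶ X₀ := Over.homMk U.ι rfl
  haveI : IsAffine X.left := hU
  haveI := hf₀
  refine ⟨X, j ≫ f₀, ⟨x, hxU⟩, F.obj.map j.op r, hU, ?_, ?_, ?_⟩
  · change Etale (U.ι ≫ f₀.left)
    infer_instance
  · change (U.ι ≫ f₀.left) ⟨x, hxU⟩ = t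
    rw [Scheme.Hom.comp_apply]
    exact hx
  · rw [map_app_apply, hr, pmap_map]

theorem subsingleton_of_isEmpty (G : BigSite.Ab Et S) (Z : Over S) [IsEmpty Z.left] :
    Subsingleton (G.obj.obj (op Z)) := by
  constructor
  intro a b
  rw [← sub_eq_zero]
  exact eq_zero_of_etale_local G (a - b) (fun t => (IsEmpty.false t).elim)

/-- over an affine object, sections of the target of an epimorphism lift along a single étale
surjective morphism from an affine scheme -/
theorem exists_affine_cover_lift {F G : BigSite.Ab Et S} (q : F ⟶ G) [Epi q] (T : Over S)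
    (hT : IsAffine T.left) (s : G.obj.obj (op T)) :
    ∃ (V : Over S) (π : V ⟶ T) (r : F.obj.obj (op V)), GC π ∧
      q.hom.app (op V) r = G.obj.map π.op s := by
  classical
  choose X f x r hX hf hx hr using exists_affine_local_lift q T s
  haveI := hT
  have hopen : ∀ t, IsOpen (Set.range (f t).left) := by
    intro t
    haveI := hf t
    exact (f t).left.isOpenMap.isOpen_range
  obtain ⟨F₀, hF₀⟩ := CompactSpace.elim_nhds_subcover (fun t => Set.range (f t).left)
    (fun t => (hopen t).mem_nhds ⟨x t, hx t⟩)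
  let ι : Type u := {t : T.left // t ∈ F₀}
  haveI : Finite ι := inferInstanceAs (Finite {t : T.left // t ∈ F₀})
  let g : ι → Scheme.{u} := fun i => (X i.1).left
  haveI : ∀ i, IsAffine (g i) := fun i => hX i.1
  let V : Over S := Over.mk (Sigma.desc (fun i : ι => (X i.1).hom))
  have hπw : Sigma.desc (fun i : ι => (f i.1).left) ≫ T.hom = V.hom := by
    apply Sigma.hom_ext
    intro i
    rw [Sigma.ι_desc_assoc]
    change (f i.1).left ≫ T.hom = Sigma.ι g i ≫ Sigma.desc (fun i : ι => (X i.1).hom)
    rw [Sigma.ι_desc, Over.w]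
  let π : V ⟶ T := Over.homMk (Sigma.desc (fun i : ι => (f i.1).left)) hπw
  let inc : ∀ i : ι, X i.1 ⟶ V := fun i => Over.homMk (Sigma.ι g i) (Sigma.ι_desc _ i)
  have hincπ : ∀ i, inc i ≫ π = f i.1 := by
    intro i
    apply Over.OverMorphism.ext
    exact Sigma.ι_desc _ i
  have hinc_et : ∀ i, Etale (inc i).left := fun i =>
    inferInstanceAs (Etale (Sigma.ι g i))
  have hinc_cov : ∀ v : V.left, ∃ i, v ∈ Set.range (inc i).left := by
    intro v
    obtain ⟨⟨i, y⟩, hy⟩ := (sigmaMk g).surjective v
    rw [sigmaMk_mk] at hy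
    exact ⟨i, y, hy⟩
  have hπ : GC π := by
    refine ⟨inferInstanceAs (IsAffine (∐ g)), hT, ?_, ?_⟩
    · exact IsZariskiLocalAtSource.sigmaDesc (P := @Etale) (fun i => hf i.1)
    · constructor
      intro t
      have ht : t ∈ ⋃ t' ∈ F₀, Set.range (f t').left := by rw [hF₀]; trivial
      simp only [Set.mem_iUnion] at ht
      obtain ⟨t', ht', y, hy⟩ := ht
      refine ⟨(inc ⟨t', ht'⟩).left y, ?_⟩
      have := congrArg (fun k => k.left) (hincπ ⟨t', ht'⟩)
      change (inc ⟨t', ht'⟩).left ≫ π.left = (f t').left at this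
      rw [← Scheme.Hom.comp_apply, this]
      exact hy
  -- glue
  obtain ⟨ρ, hρ⟩ := exists_glue F (fun i : ι => X i.1) inc hinc_et hinc_cov (fun i => r i.1) (by
    intro i j Z a b hab
    by_cases hij : i = j
    · subst hij
      have : a = b := by
        apply Over.OverMorphism.ext
        have h' : a.left ≫ Sigma.ι g i = b.left ≫ Sigma.ι g i := congrArg (fun k => k.left) hab
        exact (cancel_mono (Sigma.ι g i)).mp h'
      rw [this]
    · haveI : IsEmpty Z.left := by
        constructor
        intro z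
        have h' : a.left ≫ Sigma.ι g i = b.left ≫ Sigma.ι g j := congrArg (fun k => k.left) hab
        have h1 : (a.left ≫ Sigma.ι g i) z ∈ Set.range (Sigma.ι g i) := ⟨a.left z, rfl⟩
        have h2 : (a.left ≫ Sigma.ι g i) z ∈ Set.range (Sigma.ι g j) := by
          rw [h']
          exact ⟨b.left z, rfl⟩
        have hd := disjoint_opensRange_sigmaι g i j hij
        exact (disjoint_iff.mp hd).le ⟨h1, h2⟩
      exact (subsingleton_of_isEmpty F Z).elim _ _)
  refine ⟨V, π, ρ, hπ, ?_⟩
  rw [← sub_eq_zero]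
  apply eq_zero_of_etale_local G
  intro v
  obtain ⟨i, hi⟩ := hinc_cov v
  refine ⟨X i.1, inc i, hinc_et i, hi, ?_⟩
  rw [map_sub, ← map_app_apply, hρ, hr, pmap_map, hincπ, sub_self]

/-- the elementwise data of a short exact sequence of big étale sheaves -/
theorem gdata_of_shortExact (Sx : ShortComplex (BigSite.Ab Et S)) (hS : Sx.ShortExact) :
    GData (A := Sx.X₁.obj) (I := Sx.X₂.obj) (Q := Sx.X₃.obj) Sx.f.hom Sx.g.hom where
  inj W := by
    haveI := hS.mono_f
    exact Groth.Agent.H1.SheafExactLoc.injective_app_of_mono Sx.f W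
  exact W x hx := by
    haveI := hS.mono_f
    exact Groth.Agent.H1.SheafExactLoc.exact_app Sx hS.exact W x hx
  zero := by
    have : (sheafToPresheaf _ AddCommGrpCat.{u + 1}).map Sx.f ≫
        (sheafToPresheaf _ AddCommGrpCat.{u + 1}).map Sx.g = 0 := by
      rw [← Functor.map_comp, Sx.zero, Functor.map_zero]
    exact this
  glueI p hp x hx := by
    have h := isSheafFor_singleton_etale Sx.X₂ p hp.2.2.1 hp.2.2.2
    rw [Presieve.isSheafFor_singleton] at h
    obtain ⟨y, hy, -⟩ := h x hx
    exact ⟨y, hy⟩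
  sepQ p hp y y' hyy := by
    have h := (isSheafFor_singleton_etale Sx.X₃ p hp.2.2.1 hp.2.2.2).isSeparatedFor
    rw [Presieve.isSeparatedFor_singleton] at h
    exact h hyy
  loc T hT s := by
    haveI := hS.epi_g
    exact exists_affine_cover_lift Sx.g T hT s

end Groth.Agent.H1.AffCartan
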