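import Mathlib

/-!
# Comparison of `Ext` along an exact functor (helper1)

`U : 𝒜 ⥤ ℬ` exact, `ι : Z ⟶ U P`.  `cmp U ι F n : Ext^n(P, F) → Ext^n(Z, U F)`, `e ↦ ι ≫ U(e)`.
`cmp_bijective`: if `cmp` is bijective in degree `0` and `Ext^{>0}(Z, U I) = 0` for `I` injective,
then `cmp` is bijective in all degrees.
-/

set_option autoImplicit false
universe w w' v v' u u'
open CategoryTheory CategoryTheory.Limits CategoryTheory.Abelian

namespace Groth.Agent.H1.ExtCompare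

variable {𝒜 : Type u} [Category.{v} 𝒜] [Abelian 𝒜] {ℬ : Type u'} [Category.{v'} ℬ] [Abelian ℬ]
  [HasExt.{w} 𝒜] [HasExt.{w'} ℬ] (U : 𝒜 ⥤ ℬ) [U.Additive] [PreservesFiniteLimits U]
  [PreservesFiniteColimits U] {P : 𝒜} {Z : ℬ} (ι : Z ⟶ U.obj P)

/-- the comparison map `Ext^n(P, F) → Ext^n(Z, U F)` -/
noncomputable def cmp (F : 𝒜) (n : ℕ) : Ext.{w} P F n →+ Ext.{w'} Z (U.obj F) n :=
  AddMonoidHom.comp
    (AddMonoidHom.mk' (fun e => (Ext.mk₀ ι).comp e (zero_add n))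
      (fun _ _ => Ext.comp_add _ _ _ _))
    (U.mapExtAddHom _ _ n)

lemma cmp_apply (F : 𝒜) (n : ℕ) (e : Ext.{w} P F n) :
    cmp U ι F n e = (Ext.mk₀ ι).comp (e.mapExactFunctor U) (zero_add n) := rfl

lemma cmp_comp_mk₀ {F G : 𝒜} (n : ℕ) (e : Ext.{w} P F n) (f : F ⟶ G) :
    cmp U ι G n (e.comp (Ext.mk₀ f) (add_zero n)) =
      (cmp U ι F n e).comp (Ext.mk₀ (U.map f)) (add_zero n) := by
  rw [cmp_apply, cmp_apply, Ext.mapExactFunctor_comp, Ext.mapExactFunctor_mk₀,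
    Ext.comp_assoc_of_third_deg_zero]

lemma cmp_comp_extClass {S : ShortComplex 𝒜} (hS : S.ShortExact) (n : ℕ)
    (e : Ext.{w} P S.X₃ n) :
    cmp U ι S.X₁ (n + 1) (e.comp hS.extClass rfl) =
      (cmp U ι S.X₃ n e).comp (hS.map_of_exact U).extClass rfl := by
  rw [cmp_apply, cmp_apply, Ext.mapExactFunctor_comp, Ext.mapExactFunctor_extClass]
  exact (Ext.comp_assoc _ _ _ (zero_add n) rfl (by omega)).symm

/-- the short exact sequence `0 ⟶ B ⟶ I(B) ⟶ I(B)/B ⟶ 0` -/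
noncomputable def injSeq [EnoughInjectives 𝒜] (B : 𝒜) : ShortComplex 𝒜 :=
  ShortComplex.mk (Injective.ι B) (cokernel.π (Injective.ι B)) (by simp)

omit [HasExt.{w} 𝒜] in
lemma injSeq_shortExact [EnoughInjectives 𝒜] (B : 𝒜) : (injSeq B).ShortExact :=
  { exact := ShortComplex.exact_cokernel (Injective.ι B)
    mono_f := inferInstanceAs (Mono (Injective.ι B))
    epi_g := inferInstanceAs (Epi (cokernel.π (Injective.ι B))) }

theorem cmp_bijective [EnoughInjectives 𝒜]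
    (h0 : ∀ F : 𝒜, Function.Bijective (cmp U ι F 0))
    (hv : ∀ (I : 𝒜), Injective I → ∀ (n : ℕ) (x : Ext.{w'} Z (U.obj I) (n + 1)), x = 0) :
    ∀ (n : ℕ) (F : 𝒜), Function.Bijective (cmp U ι F n) := by
  intro n
  induction n with
  | zero => exact h0
  | succ n ih =>
    intro F
    let S := injSeq F
    have hS : S.ShortExact := injSeq_shortExact F
    have : Injective S.X₂ := inferInstanceAs (Injective (Injective.under F))
    have hUS : (S.map U).ShortExact := hS.map_of_exact U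
    constructor
    · rw [injective_iff_map_eq_zero]
      intro x hx
      change Ext.{w} P S.X₁ (n + 1) at x
      obtain ⟨y, rfl⟩ := Ext.covariant_sequence_exact₁ P hS x
        (Ext.eq_zero_of_injective _) (rfl : n + 1 = n + 1)
      have hx' : cmp U ι S.X₁ (n + 1) (y.comp hS.extClass rfl) = 0 := hx
      rw [cmp_comp_extClass] at hx'
      obtain ⟨z, hz⟩ := Ext.covariant_sequence_exact₃ Z hUS (cmp U ι S.X₃ n y) rfl hx'
      obtain ⟨w, rfl⟩ := (ih S.X₂).2 z
      have h1 : cmp U ι S.X₃ n (w.comp (Ext.mk₀ S.g) (add_zero n)) = cmp U ι S.X₃ n y := by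
        rw [cmp_comp_mk₀]; exact hz
      have h2 := (ih S.X₃).1 h1
      rw [← h2, Ext.comp_assoc_of_second_deg_zero, hS.comp_extClass, Ext.comp_zero]
      rfl
    · intro x'
      change Ext.{w'} Z (S.map U).X₁ (n + 1) at x'
      obtain ⟨y', rfl⟩ := Ext.covariant_sequence_exact₁ Z hUS x'
        (hv S.X₂ inferInstance n _) (rfl : n + 1 = n + 1)
      obtain ⟨y, rfl⟩ := (ih S.X₃).2 y'
      exact ⟨y.comp hS.extClass rfl, cmp_comp_extClass U ι hS n y⟩

end Groth.Agent.H1.ExtCompare
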