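import Groth.Agent.Lib.Helper1.AffCartanB
import Groth.Agent.Lib.Helper1.ExtCompare

/-!
# Cartan's criterion on the big étale site for affine objects, part C (helper1)

If `S` is affine and the abelian sheaf `G` on the big étale site of `S` is globally Čech exact
(`CEx G.obj`), then `H^{n+1}(S, G) = 0`.
-/

set_option autoImplicit false
universe u
open CategoryTheory CategoryTheory.Limits AlgebraicGeometry Opposite

namespace Groth.Agent.H1.AffCartan

open Groth.Agent.H1.CechK Groth.Agent.H1.CechRep Groth.Agent.H1.FppfDesc Groth.Agent.H1.CechCE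
open Groth.Agent.H1.ExtCompare Abelian

local notation "Et" => Scheme.etalePrecoverage

variable {S : Scheme.{u}}

theorem projective_ulift_int : Projective (AddCommGrpCat.of (ULift.{u + 1} ℤ)) where
  factors {E X} f e _ := by
    have hs : Function.Surjective e.hom := (AddCommGrpCat.epi_iff_surjective e).1 inferInstance
    obtain ⟨x, hx⟩ := hs (f.hom ⟨1⟩)
    let d : ULift.{u + 1} ℤ →+ ℤ := AddEquiv.ulift.toAddMonoidHom
    refine ⟨AddCommGrpCat.ofHom ((zmultiplesHom E x).comp d), ?_⟩
    ext ⟨n⟩
    change e.hom (n • x) = f.hom ⟨n⟩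
    rw [map_zsmul, hx, ← map_zsmul]
    congr 1
    ext
    simp

theorem injective_presheaf (I : BigSite.Ab Et S) [Injective I] : Injective I.obj :=
  Injective.injective_of_adjoint
    (sheafificationAdjunction (QuotSh.J Et S) AddCommGrpCat.{u + 1}) I

/-- the constant sheaf `ℤ` on the big étale site -/
noncomputable abbrev ZZ (S : Scheme.{u}) : BigSite.Ab Et S :=
  (constantSheaf (QuotSh.J Et S) AddCommGrpCat.{u + 1}).obj (AddCommGrpCat.of (ULift ℤ))

/-- global sections on the big étale site -/
noncomputable abbrev gsec (S : Scheme.{u}) : BigSite.Ab Et S ⥤ AddCommGrpCat.{u + 1} :=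
  (sheafSections (QuotSh.J Et S) AddCommGrpCat.{u + 1}).obj (op (Over.mk (𝟙 S)))

noncomputable abbrev constAdj (S : Scheme.{u}) :
    constantSheaf (QuotSh.J Et S) AddCommGrpCat.{u + 1} ⊣ gsec S :=
  constantSheafAdj (QuotSh.J Et S) AddCommGrpCat.{u + 1} Over.mkIdTerminal

/-- morphisms from the constant sheaf `ℤ` lift along a morphism which is surjective on global
sections -/
theorem exists_lift_ZZ {I Q : BigSite.Ab Et S} (g : I ⟶ Q)
    (hg : Function.Surjective (g.hom.app (op (Over.mk (𝟙 S))))) (φ : ZZ S ⟶ Q) :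
    ∃ ψ : ZZ S ⟶ I, ψ ≫ g = φ := by
  haveI := projective_ulift_int.{u}
  haveI : Epi ((gsec S).map g) := (AddCommGrpCat.epi_iff_surjective _).2 hg
  let φ' := (constAdj S).homEquiv _ _ φ
  refine ⟨((constAdj S).homEquiv _ _).symm (Projective.factorThru φ' ((gsec S).map g)), ?_⟩
  apply ((constAdj S).homEquiv _ _).injective
  rw [Adjunction.homEquiv_naturality_right, Equiv.apply_symm_apply, Projective.factorThru_comp]

theorem subsingleton_H_of_cex [IsAffine S] (n : ℕ) :
    ∀ (G : BigSite.Ab Et S), CEx G.obj → Subsingleton (BigSite.H Et S G (n + 1)) := by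
  induction n with
  | zero =>
    intro G hG
    have hS := injSeq_shortExact G
    haveI : Injective (injSeq G).X₂ := inferInstanceAs (Injective (Injective.under G))
    have D := gdata_of_shortExact (injSeq G) hS
    have hsurj : Function.Surjective ((injSeq G).g.hom.app (op (Over.mk (𝟙 S)))) :=
      fun s => surj_of_cex D (by exact @hG) (Over.mk (𝟙 S)) (inferInstanceAs (IsAffine S)) s
    refine ⟨fun a b => ?_⟩
    suffices h : ∀ x : Ext (ZZ S) G 1, x = 0 by rw [h a, h b]
    intro x
    change Ext (ZZ S) (injSeq G).X₁ 1 at x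
    obtain ⟨y, rfl⟩ := Ext.covariant_sequence_exact₁ (ZZ S) hS x
      (Ext.eq_zero_of_injective _) (rfl : 0 + 1 = 1)
    obtain ⟨φ, rfl⟩ := (Ext.mk₀_bijective _ _).2 y
    obtain ⟨ψ, rfl⟩ := exists_lift_ZZ (injSeq G).g hsurj φ
    rw [← Ext.mk₀_comp_mk₀, Ext.comp_assoc_of_second_deg_zero, hS.comp_extClass, Ext.comp_zero]
    rfl
  | succ n ih =>
    intro G hG
    have hS := injSeq_shortExact G
    haveI : Injective (injSeq G).X₂ := inferInstanceAs (Injective (Injective.under G))
    haveI : Injective (injSeq G).X₂.obj := injective_presheaf _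
    have D := gdata_of_shortExact (injSeq G) hS
    have hQ : CEx (injSeq G).X₃.obj := cex_of_step D (by exact @hG)
    haveI := ih (injSeq G).X₃ (by exact @hQ)
    refine ⟨fun a b => ?_⟩
    suffices h : ∀ x : Ext (ZZ S) G (n + 1 + 1), x = 0 by rw [h a, h b]
    intro x
    change Ext (ZZ S) (injSeq G).X₁ (n + 1 + 1) at x
    obtain ⟨y, rfl⟩ := Ext.covariant_sequence_exact₁ (ZZ S) hS x
      (Ext.eq_zero_of_injective _) (rfl : n + 1 + 1 = n + 1 + 1)
    have hy : y = 0 := Subsingleton.elim (α := BigSite.H Et S (injSeq G).X₃ (n + 1)) _ _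
    rw [hy, Ext.zero_comp]
    rfl

end Groth.Agent.H1.AffCartan
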