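import Mathlib.AlgebraicGeometry.Normalization

/-!
# Lifting against affine morphisms (helper1)
-/

set_option autoImplicit false
universe u

namespace Groth.Agent.H1.AffLift

open CategoryTheory CategoryTheory.Limits AlgebraicGeometry

/-- key identity -/
theorem ι_eq_toSpecΓ {T Z : Scheme.{u}} (f : T ⟶ Z) {U : Z.Opens} (hU : IsAffineOpen U)
    (V : T.Opens) (hUV : V ≤ f ⁻¹ᵁ U) :
    V.ι ≫ f = V.toSpecΓ ≫ Spec.map (f.appLE U V hUV) ≫ hU.fromSpec := by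
  rw [Scheme.Opens.toSpecΓ_SpecMap_appLE_assoc, IsAffineOpen.toSpecΓ_fromSpec,
    Scheme.Hom.resLE_comp_ι]

variable {W Y Z S : Scheme.{u}} (π : W ⟶ Y) (p : Y ⟶ S) (q : Z ⟶ S) (g : W ⟶ Z)

theorem lift_unique_local [IsAffineHom q] (U : S.affineOpens)
    (hπ : Function.Injective (π.app (p ⁻¹ᵁ U.1)))
    (h₁ h₂ : Y ⟶ Z) (e₁ : h₁ ≫ q = p) (e₂ : h₂ ≫ q = p) (e : π ≫ h₁ = π ≫ h₂) :
    (p ⁻¹ᵁ U.1).ι ≫ h₁ = (p ⁻¹ᵁ U.1).ι ≫ h₂ := by
  have hU : IsAffineOpen (q ⁻¹ᵁ U.1) := U.2.preimage q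
  have l₁ : p ⁻¹ᵁ U.1 ≤ h₁ ⁻¹ᵁ (q ⁻¹ᵁ U.1) := by rw [← Scheme.Hom.comp_preimage, e₁]
  have l₂ : p ⁻¹ᵁ U.1 ≤ h₂ ⁻¹ᵁ (q ⁻¹ᵁ U.1) := by rw [← Scheme.Hom.comp_preimage, e₂]
  rw [ι_eq_toSpecΓ h₁ hU _ l₁, ι_eq_toSpecΓ h₂ hU _ l₂]
  have : Mono (π.app (p ⁻¹ᵁ U.1)) := ConcreteCategory.mono_of_injective _ hπ
  have key : h₁.appLE (q ⁻¹ᵁ U.1) (p ⁻¹ᵁ U.1) l₁ = h₂.appLE (q ⁻¹ᵁ U.1) (p ⁻¹ᵁ U.1) l₂ := by
    rw [← cancel_mono (π.app (p ⁻¹ᵁ U.1))]
    rw [Scheme.Hom.app_eq_appLE, Scheme.Hom.appLE_comp_appLE, Scheme.Hom.appLE_comp_appLE]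
    simp only [e]
  rw [key]

theorem lift_unique [IsAffineHom q]
    (hπ : ∀ U : S.affineOpens, Function.Injective (π.app (p ⁻¹ᵁ U.1)))
    (h₁ h₂ : Y ⟶ Z) (e₁ : h₁ ≫ q = p) (e₂ : h₂ ≫ q = p) (e : π ≫ h₁ = π ≫ h₂) : h₁ = h₂ := by
  refine Scheme.Cover.hom_ext (Y.openCoverOfIsOpenCover _
    (.comap (iSup_affineOpens_eq_top S) p.base.hom)) _ _ fun U ↦ ?_
  exact lift_unique_local π p q U (hπ U) h₁ h₂ e₁ e₂ e


section Existence

open Scheme.AffineZariskiSite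

variable (hsq : π ≫ p = g ≫ q)

include hsq in
theorem le_aux (U : S.Opens) : π ⁻¹ᵁ p ⁻¹ᵁ U ≤ g ⁻¹ᵁ q ⁻¹ᵁ U := by
  rw [← Scheme.Hom.comp_preimage, ← Scheme.Hom.comp_preimage, hsq]

/-- the ring map `Γ(Z, q⁻¹U) ⟶ Γ(Y, p⁻¹U)` -/
noncomputable def phi (U : S.Opens) (hπ : Function.Bijective (π.app (p ⁻¹ᵁ U))) :
    Γ(Z, q ⁻¹ᵁ U) ⟶ Γ(Y, p ⁻¹ᵁ U) :=
  haveI : IsIso (π.app (p ⁻¹ᵁ U)) := (ConcreteCategory.isIso_iff_bijective _).mpr hπ
  g.appLE (q ⁻¹ᵁ U) (π ⁻¹ᵁ p ⁻¹ᵁ U) (le_aux π p q g hsq U) ≫ inv (π.app (p ⁻¹ᵁ U))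

theorem phi_comp_app (U : S.Opens) (hπ : Function.Bijective (π.app (p ⁻¹ᵁ U))) :
    phi π p q g hsq U hπ ≫ π.app (p ⁻¹ᵁ U) =
      g.appLE (q ⁻¹ᵁ U) (π ⁻¹ᵁ p ⁻¹ᵁ U) (le_aux π p q g hsq U) := by
  have : IsIso (π.app (p ⁻¹ᵁ U)) := (ConcreteCategory.isIso_iff_bijective _).mpr hπ
  simp [phi]

theorem phi_naturality {U V : S.Opens} (hUV : U ≤ V)
    (hπU : Function.Bijective (π.app (p ⁻¹ᵁ U))) (hπV : Function.Bijective (π.app (p ⁻¹ᵁ V))) :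
    phi π p q g hsq V hπV ≫ Y.presheaf.map (homOfLE (p.preimage_mono hUV)).op =
      Z.presheaf.map (homOfLE (q.preimage_mono hUV)).op ≫ phi π p q g hsq U hπU := by
  have : Mono (π.app (p ⁻¹ᵁ U)) := ConcreteCategory.mono_of_injective _ hπU.1
  rw [← cancel_mono (π.app (p ⁻¹ᵁ U)), Category.assoc, Category.assoc, phi_comp_app]
  have hn := π.naturality (homOfLE (p.preimage_mono hUV)).op
  erw [hn]
  rw [← Category.assoc, phi_comp_app]
  simp [Scheme.Hom.appLE_map, Scheme.Hom.map_appLE]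

variable [IsAffineHom q]
  (hπ : ∀ U : S.Opens, IsAffineOpen U → Function.Bijective (π.app (p ⁻¹ᵁ U)))

/-- the local pieces of the lift -/
noncomputable def liftLocal (U : S.Opens) (hU : IsAffineOpen U) : (p ⁻¹ᵁ U).toScheme ⟶ Z :=
  (p ⁻¹ᵁ U).toSpecΓ ≫ Spec.map (phi π p q g hsq U (hπ U hU)) ≫ (hU.preimage q).fromSpec

theorem liftLocal_compat {U V : S.Opens} (hU : IsAffineOpen U) (hV : IsAffineOpen V) (hUV : U ≤ V) :
    Y.homOfLE (p.preimage_mono hUV) ≫ liftLocal π p q g hsq hπ V hV =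
      liftLocal π p q g hsq hπ U hU := by
  unfold liftLocal
  rw [← Scheme.Opens.toSpecΓ_SpecMap_presheaf_map_assoc, ← Spec.map_comp_assoc,
    phi_naturality π p q g hsq hUV (hπ U hU) (hπ V hV), Spec.map_comp_assoc]
  congr 2
  exact (hV.preimage q).map_fromSpec (hU.preimage q) (homOfLE (q.preimage_mono hUV)).op

/-- the pieces, on the pulled back cover -/
noncomputable def liftPiece (U : S.AffineZariskiSite) :
    ((directedCover S).pullback₁ p).X U ⟶ Z :=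
  (pullbackRestrictIsoRestrict p U.1).hom ≫ liftLocal π p q g hsq hπ U.1 U.2

set_option backward.defeqAttrib.useBackward true in
set_option backward.isDefEq.respectTransparency false in
theorem liftPiece_compat {U V : S.AffineZariskiSite} (i : U ⟶ V) :
    Scheme.Cover.trans ((directedCover S).pullback₁ p) i ≫ liftPiece π p q g hsq hπ V =
      liftPiece π p q g hsq hπ U := by
  have : (pullbackRestrictIsoRestrict p U.1).inv ≫
      Scheme.Cover.trans ((directedCover S).pullback₁ p) i ≫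
      (pullbackRestrictIsoRestrict p V.1).hom = Y.homOfLE
        (p.preimage_mono (toOpens_mono i.1.1)) := by
    rw [← cancel_mono (Scheme.Opens.ι _)]
    simp +instances [Scheme.Cover.trans, Scheme.Cover.locallyDirectedPullbackCover]
  unfold liftPiece
  rw [← Iso.inv_comp_eq, reassoc_of% this]
  exact liftLocal_compat π p q g hsq hπ U.2 V.2 (toOpens_mono i.1.1)

/-- the lift -/
noncomputable def lift : Y ⟶ Z :=
  Scheme.OpenCover.glueMorphismsOfLocallyDirected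
    ((directedCover S).pullback₁ p) (liftPiece π p q g hsq hπ)
    (fun i ↦ liftPiece_compat π p q g hsq hπ i)

theorem ι_lift' (U : S.AffineZariskiSite) :
    ((directedCover S).pullback₁ p).f U ≫ lift π p q g hsq hπ = liftPiece π p q g hsq hπ U :=
  Scheme.OpenCover.map_glueMorphismsOfLocallyDirected ((directedCover S).pullback₁ p) _
    (fun i ↦ liftPiece_compat π p q g hsq hπ i) U

set_option backward.isDefEq.respectTransparency.types false in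
set_option backward.defeqAttrib.useBackward true in
theorem ι_lift (U : S.Opens) (hU : IsAffineOpen U) :
    (p ⁻¹ᵁ U).ι ≫ lift π p q g hsq hπ = liftLocal π p q g hsq hπ U hU := by
  rw [← cancel_epi (pullbackRestrictIsoRestrict p U).hom, ← Category.assoc]
  refine Eq.trans ?_ (ι_lift' π p q g hsq hπ ⟨U, hU⟩)
  congr 1; simp

omit [IsAffineHom q] in
theorem app_phi (U : S.Opens) (hπU : Function.Bijective (π.app (p ⁻¹ᵁ U))) :
    q.app U ≫ phi π p q g hsq U hπU = p.app U := by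
  have : Mono (π.app (p ⁻¹ᵁ U)) := ConcreteCategory.mono_of_injective _ hπU.1
  rw [← cancel_mono (π.app (p ⁻¹ᵁ U)), Category.assoc, phi_comp_app]
  simp only [Scheme.Hom.app_eq_appLE, Scheme.Hom.appLE_comp_appLE]
  simp only [hsq]

theorem lift_comp : lift π p q g hsq hπ ≫ q = p := by
  refine Scheme.Cover.hom_ext (Y.openCoverOfIsOpenCover _
    (.comap (iSup_affineOpens_eq_top S) p.base.hom)) _ _ fun U ↦ ?_
  change (p ⁻¹ᵁ U.1).ι ≫ lift π p q g hsq hπ ≫ q = (p ⁻¹ᵁ U.1).ι ≫ p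
  rw [← Category.assoc, ι_lift π p q g hsq hπ U.1 U.2, ι_eq_toSpecΓ p U.2 (p ⁻¹ᵁ U.1) le_rfl]
  unfold liftLocal
  rw [Category.assoc, Category.assoc,
    ← IsAffineOpen.SpecMap_appLE_fromSpec q U.2 (U.2.preimage q) le_rfl,
    ← Spec.map_comp_assoc, ← Scheme.Hom.app_eq_appLE, app_phi, Scheme.Hom.app_eq_appLE]

theorem comp_lift : π ≫ lift π p q g hsq hπ = g := by
  refine Scheme.Cover.hom_ext (W.openCoverOfIsOpenCover _
    (.comap (.comap (iSup_affineOpens_eq_top S) p.base.hom) π.base.hom)) _ _ fun U ↦ ?_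
  change (π ⁻¹ᵁ p ⁻¹ᵁ U.1).ι ≫ π ≫ lift π p q g hsq hπ = (π ⁻¹ᵁ p ⁻¹ᵁ U.1).ι ≫ g
  rw [← Category.assoc, ← morphismRestrict_ι, Category.assoc, ι_lift π p q g hsq hπ U.1 U.2,
    ι_eq_toSpecΓ g (U.2.preimage q) (π ⁻¹ᵁ p ⁻¹ᵁ U.1) (le_aux π p q g hsq U.1)]
  unfold liftLocal
  rw [← Scheme.Opens.toSpecΓ_naturality_assoc, ← Spec.map_comp_assoc, phi_comp_app]

end Existence

end Groth.Agent.H1.AffLift
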