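import Groth.Prelude.Def_AlgSpRep
import Groth.Agent.S10089
import Mathlib

/-!
# Bootstrap for algebraic spaces (helper1)

`a : F ⟶ G` representable by algebraic spaces and `G` an algebraic space ⟹ `F` an algebraic space,
and consequences.
-/

set_option autoImplicit false
universe u
open CategoryTheory CategoryTheory.Limits AlgebraicGeometry
open AlgSp

namespace Groth.Agent.H1.AlgSpBootstrap

variable {S : Scheme.{u}}

/-- Sheaf-level "representable by algebraic spaces". -/
def RepS {F G : Sp S} (f : F ⟶ G) : Prop :=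
  ∀ ⦃U : Over S⦄ (ξ : (yon S).obj U ⟶ G) ⦃F' : Sp S⦄ (fst : F' ⟶ F)
      (snd : F' ⟶ (yon S).obj U), IsPullback fst snd f ξ → IsAlgSpace F'

theorem repS_iff {F G : Sp S} (f : F ⟶ G) : RepS f ↔ RepBySp f.hom :=
  (repBySp_hom_iff f).symm

theorem diagonal_aux {F G : Sp S} (f : F ⟶ G) (hf : RepS f) {T : Over S}
    (x y : (yon S).obj T ⟶ F) (hxy : x ≫ f = y ≫ f) :
    ∃ (V : Over S) (v : V ⟶ T) (fst : (yon S).obj V ⟶ F),
      IsPullback fst ((yon S).map v) (pullback.diagonal f) (pullback.lift x y hxy) := by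
  have hP : IsAlgSpace (pullback f (x ≫ f)) := hf (x ≫ f) _ _ (IsPullback.of_hasPullback f (x ≫ f))
  let sx : (yon S).obj T ⟶ pullback f (x ≫ f) := pullback.lift x (𝟙 _) (by simp)
  let sy : (yon S).obj T ⟶ pullback f (x ≫ f) := pullback.lift y (𝟙 _) (by simp [hxy])
  have hsx1 : sx ≫ pullback.fst f (x ≫ f) = x := pullback.lift_fst _ _ _
  have hsx2 : sx ≫ pullback.snd f (x ≫ f) = 𝟙 _ := pullback.lift_snd _ _ _
  have hsy1 : sy ≫ pullback.fst f (x ≫ f) = y := pullback.lift_fst _ _ _
  have hsy2 : sy ≫ pullback.snd f (x ≫ f) = 𝟙 _ := pullback.lift_snd _ _ _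
  obtain ⟨V, v, fst', sq⟩ := hP.diag (prod.lift sx sy)
  have h1 : fst' = (yon S).map v ≫ sx := by
    have := congrArg (· ≫ prod.fst) sq.w
    rw [Category.assoc, Category.assoc, prod.lift_fst, prod.lift_fst,
      Category.comp_id] at this
    exact this
  have h2 : fst' = (yon S).map v ≫ sy := by
    have := congrArg (· ≫ prod.snd) sq.w
    rw [Category.assoc, Category.assoc, prod.lift_snd, prod.lift_snd,
      Category.comp_id] at this
    exact this
  have key : ∀ (s : PullbackCone (pullback.diagonal f) (pullback.lift x y hxy)),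
      s.fst = s.snd ≫ x ∧ s.fst = s.snd ≫ y := by
    intro s
    have c := s.condition
    constructor
    · have := congrArg (· ≫ pullback.fst f f) c
      rw [Category.assoc, Category.assoc, pullback.diagonal_fst, pullback.lift_fst,
        Category.comp_id] at this
      exact this
    · have := congrArg (· ≫ pullback.snd f f) c
      rw [Category.assoc, Category.assoc, pullback.diagonal_snd, pullback.lift_snd,
        Category.comp_id] at this
      exact this
  have key2 : ∀ (s : PullbackCone (pullback.diagonal f) (pullback.lift x y hxy)),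
      s.snd ≫ sx = s.snd ≫ sy := by
    intro s
    apply pullback.hom_ext
    · rw [Category.assoc, Category.assoc, hsx1, hsy1, ← (key s).1, ← (key s).2]
    · rw [Category.assoc, Category.assoc, hsx2, hsy2]
  have key3 : ∀ (s : PullbackCone (pullback.diagonal f) (pullback.lift x y hxy)),
      (s.snd ≫ sx) ≫ Limits.diag (pullback f (x ≫ f)) = s.snd ≫ prod.lift sx sy := by
    intro s
    apply Limits.prod.hom_ext
    · rw [Category.assoc, Category.assoc, prod.lift_fst, Category.assoc, prod.lift_fst,
        Category.comp_id]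
    · rw [Category.assoc, Category.assoc, prod.lift_snd, Category.assoc, prod.lift_snd,
        Category.comp_id, key2 s]
  refine ⟨V, v, fst' ≫ pullback.fst f (x ≫ f), ?_⟩
  refine ⟨⟨?_⟩, ⟨PullbackCone.IsLimit.mk _ (fun s => sq.lift (s.snd ≫ sx) s.snd (key3 s))
    ?_ ?_ ?_⟩⟩
  · apply pullback.hom_ext
    · rw [Category.assoc, Category.assoc, pullback.diagonal_fst, Category.comp_id, Category.assoc,
        pullback.lift_fst, h1, Category.assoc, hsx1]
    · rw [Category.assoc, Category.assoc, pullback.diagonal_snd, Category.comp_id, Category.assoc,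
        pullback.lift_snd, h2, Category.assoc, hsy1]
  · intro s
    rw [← Category.assoc, sq.lift_fst, Category.assoc, hsx1, (key s).1]
  · intro s
    exact sq.lift_snd _ _ _
  · intro s m hm1 hm2
    apply sq.hom_ext
    · rw [sq.lift_fst, h1, ← Category.assoc, hm2]
    · rw [sq.lift_snd, hm2]

/-- The relative diagonal of a map representable by algebraic spaces is representable by schemes. -/
theorem representable_diagonal_of_repS {F G : Sp S} (f : F ⟶ G) (hf : RepS f) :
    Representable (pullback.diagonal f) := by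
  intro T g
  obtain ⟨V, v, fst, sq⟩ := diagonal_aux f hf (g ≫ pullback.fst f f) (g ≫ pullback.snd f f)
    (by rw [Category.assoc, Category.assoc, pullback.condition])
  have hg : pullback.lift (g ≫ pullback.fst f f) (g ≫ pullback.snd f f)
      (by rw [Category.assoc, Category.assoc, pullback.condition]) = g := by
    apply pullback.hom_ext
    · rw [pullback.lift_fst]
    · rw [pullback.lift_snd]
  rw [hg] at sq
  exact ⟨V, v, fst, sq⟩

/-- Every map from a scheme to the source of a map representable by algebraic spaces whose target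
is an algebraic space is representable by schemes. -/
theorem representable_from_yon_of_repS {F G : Sp S} (f : F ⟶ G) (hf : RepS f) (hG : IsAlgSpace G)
    {T : Over S} (x : (yon S).obj T ⟶ F) : Representable x := by
  have h1 : Representable (x ≫ f) := hG.representable_from_yon (x ≫ f)
  have h2 : (Representable (S := S)).diagonal f := representable_diagonal_of_repS f hf
  have : (Representable (S := S)).HasOfPostcompProperty (Representable (S := S)).diagonal :=
    MorphismProperty.hasOfPostcompProperty_iff_le_diagonal.2 le_rfl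
  exact MorphismProperty.of_postcomp (W := Representable (S := S))
    (W' := (Representable (S := S)).diagonal) x f h2 h1

/-- **Bootstrap**: the source of a map representable by algebraic spaces whose target is an
algebraic space is an algebraic space. -/
theorem isAlgSpace_of_repS {F G : Sp S} (f : F ⟶ G) (hf : RepS f) (hG : IsAlgSpace G) :
    IsAlgSpace F where
  diag := Functor.relativelyRepresentable.diag_of_map_from_obj
    (fun _ x => representable_from_yon_of_repS f hf hG x)
  atlas := by
    obtain ⟨U, p, hp1, hp2⟩ := hG.atlas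
    have hP : IsAlgSpace (pullback f p) := hf p _ _ (IsPullback.of_hasPullback f p)
    obtain ⟨V, q, hq1, hq2⟩ := hP.atlas
    refine ⟨V, q ≫ pullback.fst f p, ?_, ?_⟩
    · exact (RepWith @Etale).comp_mem _ _ hq1 (MorphismProperty.pullback_fst f p hp1)
    · exact (RepWith @Surjective).comp_mem _ _ hq2 (MorphismProperty.pullback_fst f p hp2)

/-- **Bootstrap**, presheaf form (S10091). -/
theorem isAlgSpaceP_of_repBySp {F G : PSp S} (a : F ⟶ G) (ha : RepBySp a) (hG : IsAlgSpaceP G) :
    IsAlgSpaceP F := by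
  obtain ⟨hGs, hG'⟩ := hG
  have hFs : Presheaf.IsSheaf (J S) F := Groth.Agent.S10089.main S F G a ha hGs
  refine ⟨hFs, ?_⟩
  let f : (⟨F, hFs⟩ : Sp S) ⟶ ⟨G, hGs⟩ := ObjectProperty.homMk a
  exact isAlgSpace_of_repS f ((repS_iff f).2 ha) hG'

/-- `RepBySp` is stable under base change (any pullback square of presheaves). -/
theorem repBySp_of_isPullback {F G F' G' : PSp S} {a : F ⟶ G} {a' : F' ⟶ G'} {u : F' ⟶ F}
    {v : G' ⟶ G} (sq : IsPullback u a' a v) (ha : RepBySp a) : RepBySp a' := by
  intro U ξ F'' fst snd sq'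
  exact ha (ξ ≫ v) (fst ≫ u) snd (sq'.paste_horiz sq)

/-- Base change of a map representable by algebraic spaces to an algebraic space (S10092). -/
theorem isAlgSpaceP_of_isPullback {F G X F' : PSp S} {a : F ⟶ G} (ha : RepBySp a)
    (hX : IsAlgSpaceP X) {ξ : X ⟶ G} {fst : F' ⟶ X} {snd : F' ⟶ F}
    (sq : IsPullback fst snd ξ a) : IsAlgSpaceP F' :=
  isAlgSpaceP_of_repBySp fst (repBySp_of_isPullback sq.flip ha) hX

/-- Composition (S10093). -/
theorem repBySp_comp {F G H : PSp S} {a : F ⟶ G} {b : G ⟶ H} (ha : RepBySp a) (hb : RepBySp b) :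
    RepBySp (a ≫ b) := by
  intro U ξ F' fst snd sq
  have hG' : IsAlgSpaceP (pullback b ξ) := hb ξ _ _ (IsPullback.of_hasPullback b ξ)
  let l : F' ⟶ pullback b ξ := pullback.lift (fst ≫ a) snd (by rw [Category.assoc, sq.w])
  have hl1 : l ≫ pullback.fst b ξ = fst ≫ a := pullback.lift_fst _ _ _
  have hl2 : l ≫ pullback.snd b ξ = snd := pullback.lift_snd _ _ _
  have sq2 : IsPullback fst l a (pullback.fst b ξ) := by
    refine IsPullback.of_bot ?_ hl1.symm (IsPullback.of_hasPullback b ξ)
    rw [hl2]; exact sq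
  exact isAlgSpaceP_of_isPullback ha hG' sq2.flip

/-- Cancellation (S10095). -/
theorem repBySp_of_comp_of_diagonal {F G H : PSp S} {a : F ⟶ G} {b : G ⟶ H}
    (hΔ : RepBySp (pullback.diagonal b)) (hab : RepBySp (a ≫ b)) : RepBySp a := by
  intro U ξ F' fst snd sq
  have hW : IsAlgSpaceP (pullback (a ≫ b) (ξ ≫ b)) :=
    hab (ξ ≫ b) _ _ (IsPullback.of_hasPullback _ _)
  have sqD := pullback_map_diagonal_isPullback a ξ b
  have hP : IsAlgSpaceP (pullback a ξ) := isAlgSpaceP_of_isPullback hΔ hW sqD.flip
  exact hP.of_iso sq.isoPullback.symm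

set_option backward.defeqAttrib.useBackward true in
set_option backward.isDefEq.respectTransparency false in
lemma isPullback_prod_snd_with_id {C : Type*} [Category C] {A B : C} (f : A ⟶ B) (X : C)
    [HasBinaryProduct X A] [HasBinaryProduct X B] :
    IsPullback prod.snd (prod.map (𝟙 X) f) f prod.snd where
  w := by simp
  isLimit' := ⟨PullbackCone.isLimitAux' _ (fun s ↦ by
    refine ⟨prod.lift (s.snd ≫ prod.fst) s.fst, ?_, ?_, ?_⟩
    · simp
    · ext
      · simp
      · simp [PullbackCone.condition]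
    · intro m h₁ h₂
      dsimp at m h₁ h₂ ⊢
      ext
      · simp [← h₂]
      · simpa using h₁)⟩

/-- Products (S10094). -/
theorem repBySp_prod_map {F₁ G₁ F₂ G₂ : PSp S} {a₁ : F₁ ⟶ G₁} {a₂ : F₂ ⟶ G₂}
    (h₁ : RepBySp a₁) (h₂ : RepBySp a₂) : RepBySp (prod.map a₁ a₂) := by
  have e : prod.map a₁ a₂ = prod.map a₁ (𝟙 F₂) ≫ prod.map (𝟙 G₁) a₂ := by
    rw [prod.map_map, Category.comp_id, Category.id_comp]
  rw [e]
  exact repBySp_comp (repBySp_of_isPullback (IsPullback.of_prod_fst_with_id a₁ F₂) h₁)
    (repBySp_of_isPullback (isPullback_prod_snd_with_id a₂ G₁) h₂)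

section cat

variable {C : Type*} [Category C] [HasBinaryProducts C]

set_option backward.isDefEq.respectTransparency false in
/-- The fibre product `A ×_F B` is the pullback of the diagonal of `F` along `ξ × η`. -/
theorem isPullback_diag_prod_map {A B F F' : C} {ξ : A ⟶ F} {η : B ⟶ F} {fst : F' ⟶ A}
    {snd : F' ⟶ B} (sq : IsPullback fst snd ξ η) :
    IsPullback (fst ≫ ξ) (prod.lift fst snd) (Limits.diag F) (prod.map ξ η) := by
  have key : ∀ (s : PullbackCone (Limits.diag F) (prod.map ξ η)),
      s.fst = s.snd ≫ prod.fst ≫ ξ ∧ s.fst = s.snd ≫ prod.snd ≫ η := by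
    intro s
    have c := s.condition
    constructor
    · simpa using congrArg (· ≫ prod.fst) c
    · simpa using congrArg (· ≫ prod.snd) c
  refine ⟨⟨?_⟩, ⟨PullbackCone.IsLimit.mk _
    (fun s => sq.lift (s.snd ≫ prod.fst) (s.snd ≫ prod.snd)
      (by rw [Category.assoc, Category.assoc, ← (key s).1, ← (key s).2])) ?_ ?_ ?_⟩⟩
  · apply Limits.prod.hom_ext
    · simp
    · simp [sq.w]
  · intro s
    rw [← Category.assoc, sq.lift_fst, Category.assoc, ← (key s).1]
  · intro s
    apply Limits.prod.hom_ext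
    · rw [Category.assoc, prod.lift_fst, sq.lift_fst]
    · rw [Category.assoc, prod.lift_snd, sq.lift_snd]
  · intro s m hm1 hm2
    apply sq.hom_ext
    · rw [sq.lift_fst, ← hm2, Category.assoc, prod.lift_fst]
    · rw [sq.lift_snd, ← hm2, Category.assoc, prod.lift_snd]

set_option backward.isDefEq.respectTransparency false in
/-- The equalizer of `ζ₁, ζ₂ : A ⟶ F` (as pullback of the diagonal of `F`) is the pullback of the
diagonal of `A` along `A ×_F A ⟶ A × A`. -/
theorem isPullback_diag_of_equalizer {A F F' W : C} {ζ₁ ζ₂ : A ⟶ F} {fst : F' ⟶ F} {snd : F' ⟶ A}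
    (sq : IsPullback fst snd (Limits.diag F) (prod.lift ζ₁ ζ₂))
    {p₁ p₂ : W ⟶ A} (sqW : IsPullback p₁ p₂ ζ₁ ζ₂) {j : F' ⟶ W} (hj1 : j ≫ p₁ = snd)
    (hj2 : j ≫ p₂ = snd) :
    IsPullback snd j (Limits.diag A) (prod.lift p₁ p₂) := by
  have hfst : fst = snd ≫ ζ₁ := by
    simpa using congrArg (· ≫ prod.fst) sq.w
  have key : ∀ (s : PullbackCone (Limits.diag A) (prod.lift p₁ p₂)),
      s.fst = s.snd ≫ p₁ ∧ s.fst = s.snd ≫ p₂ := by
    intro s
    have c := s.condition
    constructor
    · simpa using congrArg (· ≫ prod.fst) c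
    · simpa using congrArg (· ≫ prod.snd) c
  have key2 : ∀ (s : PullbackCone (Limits.diag A) (prod.lift p₁ p₂)),
      (s.fst ≫ ζ₁) ≫ Limits.diag F = s.fst ≫ prod.lift ζ₁ ζ₂ := by
    intro s
    have e : s.fst ≫ ζ₁ = s.fst ≫ ζ₂ := by
      conv_lhs => rw [(key s).1, Category.assoc, sqW.w, ← Category.assoc, ← (key s).2]
    apply Limits.prod.hom_ext
    · simp
    · simp [e]
  refine ⟨⟨?_⟩, ⟨PullbackCone.IsLimit.mk _
    (fun s => sq.lift (s.fst ≫ ζ₁) s.fst (key2 s)) ?_ ?_ ?_⟩⟩
  · apply Limits.prod.hom_ext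
    · simp [hj1]
    · simp [hj2]
  · intro s
    exact sq.lift_snd _ _ _
  · intro s
    apply sqW.hom_ext
    · rw [Category.assoc, hj1, sq.lift_snd, ← (key s).1]
    · rw [Category.assoc, hj2, sq.lift_snd, ← (key s).2]
  · intro s m hm1 hm2
    apply sq.hom_ext
    · rw [sq.lift_fst, hfst, ← Category.assoc, hm1]
    · rw [sq.lift_snd, hm1]

end cat

theorem diag_pyon_obj (U : Over S) :
    Limits.diag ((pyon S).obj U) = (pyon S).map (Limits.diag U) ≫ prodComparison (pyon S) U U := by
  simp only [Limits.diag, prodComparison, prod.comp_lift, ← Functor.map_comp, prod.lift_fst,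
    prod.lift_snd]
  erw [(pyon S).map_id U]

theorem isAlgSpaceP_pyon (U : Over S) : IsAlgSpaceP ((pyon S).obj U) :=
  (isAlgSpaceP_obj_iff ((yon S).obj U)).2 (IsAlgSpace.yon_obj U)

theorem repBySp_pyon_map {U V : Over S} (g : U ⟶ V) : RepBySp ((pyon S).map g) :=
  (representable_yon_map g).repBySp

set_option backward.isDefEq.respectTransparency false in
/-- (S10097, ⇒) -/
theorem repBySp_of_diag {F : PSp S} (hΔ : RepBySp (Limits.diag F)) {T : Over S}
    (ξ : (pyon S).obj T ⟶ F) : RepBySp ξ := by
  intro U η F' fst snd sq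
  have sq1 := isPullback_diag_prod_map sq
  let e := PreservesLimitPair.iso (pyon S) T U
  have sq2 : IsPullback (fst ≫ ξ) (prod.lift fst snd ≫ e.inv) (Limits.diag F)
      (e.hom ≫ prod.map ξ η) := by
    refine IsPullback.of_iso sq1 (Iso.refl _) (Iso.refl _) e.symm (Iso.refl _) ?_ ?_ ?_ ?_
    · simp
    · simp
    · simp
    · simp
  exact hΔ (e.hom ≫ prod.map ξ η) _ _ sq2

set_option backward.isDefEq.respectTransparency false in
/-- (S10097, ⇐) -/
theorem repBySp_diag_of_forall {F : PSp S}
    (h : ∀ (T : Over S) (ξ : (pyon S).obj T ⟶ F), RepBySp ξ) : RepBySp (Limits.diag F) := by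
  intro U ζ F' fst snd sq
  have sq' : IsPullback fst snd (Limits.diag F) (prod.lift (ζ ≫ prod.fst) (ζ ≫ prod.snd)) := by
    have : prod.lift (ζ ≫ prod.fst) (ζ ≫ prod.snd) = ζ := by
      apply Limits.prod.hom_ext <;> simp
    rw [this]; exact sq
  have hW : IsAlgSpaceP (pullback (ζ ≫ prod.fst) (ζ ≫ prod.snd)) :=
    h U _ _ _ _ (IsPullback.of_hasPullback _ _)
  have hfst1 : fst = snd ≫ ζ ≫ prod.fst := by
    simpa using congrArg (· ≫ prod.fst) sq.w
  have hfst2 : fst = snd ≫ ζ ≫ prod.snd := by
    simpa using congrArg (· ≫ prod.snd) sq.w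
  let j : F' ⟶ pullback (ζ ≫ prod.fst) (ζ ≫ prod.snd) :=
    pullback.lift snd snd (by rw [← hfst1, ← hfst2])
  have sq2 := isPullback_diag_of_equalizer sq' (IsPullback.of_hasPullback _ _) (j := j)
    (pullback.lift_fst _ _ _) (pullback.lift_snd _ _ _)
  let e := PreservesLimitPair.iso (pyon S) U U
  have sq3 : IsPullback snd j ((pyon S).map (Limits.diag U))
      (prod.lift (pullback.fst (ζ ≫ prod.fst) (ζ ≫ prod.snd))
        (pullback.snd (ζ ≫ prod.fst) (ζ ≫ prod.snd)) ≫ e.inv) := by
    refine IsPullback.of_iso sq2 (Iso.refl _) (Iso.refl _) (Iso.refl _) e.symm ?_ ?_ ?_ ?_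
    · simp
    · simp
    · show Limits.diag ((pyon S).obj U) ≫ e.inv = 𝟙 _ ≫ (pyon S).map (Limits.diag U)
      rw [Category.id_comp, diag_pyon_obj, Category.assoc, ← PreservesLimitPair.iso_hom,
        Iso.hom_inv_id, Category.comp_id]
    · simp
  exact isAlgSpaceP_of_isPullback (repBySp_pyon_map (Limits.diag U)) hW sq3.flip

section cat2

variable {C : Type*} [Category C] [HasBinaryProducts C] [HasPullbacks C]

set_option backward.isDefEq.respectTransparency false in
/-- Generic form of `diagonal_aux`: the pullback of the relative diagonal of `f` along `(x, y)` is the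
pullback of the absolute diagonal of `P = F ×_G T` along the two sections `(s_x, s_y)`. -/
theorem isPullback_diagonal_of_sections {F G T V : C} (f : F ⟶ G) (x y : T ⟶ F)
    (hxy : x ≫ f = y ≫ f) {fst' : V ⟶ pullback f (x ≫ f)} {v : V ⟶ T}
    (sq : IsPullback fst' v (Limits.diag (pullback f (x ≫ f)))
      (prod.lift (pullback.lift x (𝟙 T) (by simp)) (pullback.lift y (𝟙 T) (by simp [hxy])))) :
    IsPullback (fst' ≫ pullback.fst f (x ≫ f)) v (pullback.diagonal f)
      (pullback.lift x y hxy) := by
  have h1 : fst' = v ≫ pullback.lift x (𝟙 T) (by simp) := by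
    simpa using congrArg (· ≫ prod.fst) sq.w
  have h2 : fst' = v ≫ pullback.lift y (𝟙 T) (by simp [hxy]) := by
    simpa using congrArg (· ≫ prod.snd) sq.w
  have key : ∀ (s : PullbackCone (pullback.diagonal f) (pullback.lift x y hxy)),
      s.fst = s.snd ≫ x ∧ s.fst = s.snd ≫ y := by
    intro s
    have c := s.condition
    constructor
    · simpa using congrArg (· ≫ pullback.fst f f) c
    · simpa using congrArg (· ≫ pullback.snd f f) c
  have key3 : ∀ (s : PullbackCone (pullback.diagonal f) (pullback.lift x y hxy)),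
      (s.snd ≫ pullback.lift x (𝟙 T) (by simp)) ≫ Limits.diag (pullback f (x ≫ f)) =
        s.snd ≫ prod.lift (pullback.lift x (𝟙 T) (by simp))
          (pullback.lift y (𝟙 T) (by simp [hxy])) := by
    intro s
    apply Limits.prod.hom_ext
    · simp
    · simp only [Category.assoc, prod.lift_snd, Category.comp_id]
      apply pullback.hom_ext
      · simp [← (key s).1, ← (key s).2]
      · simp
  refine ⟨⟨?_⟩, ⟨PullbackCone.IsLimit.mk _
    (fun s => sq.lift (s.snd ≫ pullback.lift x (𝟙 T) (by simp)) s.snd (key3 s)) ?_ ?_ ?_⟩⟩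
  · apply pullback.hom_ext
    · simp only [Category.assoc, pullback.diagonal_fst, Category.comp_id, pullback.lift_fst]
      rw [h1]; simp
    · simp only [Category.assoc, pullback.diagonal_snd, Category.comp_id, pullback.lift_snd]
      rw [h2]; simp
  · intro s
    rw [← Category.assoc, sq.lift_fst, Category.assoc, pullback.lift_fst, (key s).1]
  · intro s
    exact sq.lift_snd _ _ _
  · intro s m hm1 hm2
    apply sq.hom_ext
    · rw [sq.lift_fst, h1, ← Category.assoc, hm2]
    · rw [sq.lift_snd, hm2]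

end cat2

/-- The diagonal of an algebraic space is representable by algebraic spaces (even schemes). -/
theorem repBySp_diag_of_isAlgSpaceP {P : PSp S} (hP : IsAlgSpaceP P) : RepBySp (Limits.diag P) := by
  obtain ⟨hs, hP'⟩ := hP
  apply repBySp_diag_of_forall
  intro T ξ
  let ξ' : (yon S).obj T ⟶ (⟨P, hs⟩ : Sp S) := ObjectProperty.homMk ξ
  exact (hP'.representable_from_yon ξ').repBySp

set_option backward.isDefEq.respectTransparency false in
/-- (S10090) the relative diagonal of a map representable by algebraic spaces is representable by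
algebraic spaces. -/
theorem repBySp_diagonal {F G : PSp S} {a : F ⟶ G} (ha : RepBySp a) :
    RepBySp (pullback.diagonal a) := by
  intro T g F' fst snd sq
  have hxy : (g ≫ pullback.fst a a) ≫ a = (g ≫ pullback.snd a a) ≫ a := by
    simp [pullback.condition]
  have hg : pullback.lift (g ≫ pullback.fst a a) (g ≫ pullback.snd a a) hxy = g := by
    apply pullback.hom_ext <;> simp
  have hP : IsAlgSpaceP (pullback a ((g ≫ pullback.fst a a) ≫ a)) :=
    ha _ _ _ (IsPullback.of_hasPullback _ _)
  have sqQ := IsPullback.of_hasPullback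
    (Limits.diag (pullback a ((g ≫ pullback.fst a a) ≫ a)))
    (prod.lift (pullback.lift (g ≫ pullback.fst a a) (𝟙 _) (by simp))
      (pullback.lift (g ≫ pullback.snd a a) (𝟙 _) (by simp [hxy])))
  have hQ := repBySp_diag_of_isAlgSpaceP hP _ _ _ sqQ
  have sq2 := isPullback_diagonal_of_sections a _ _ hxy sqQ
  rw [hg] at sq2
  exact hQ.of_iso (sq2.isoIsPullback _ _ sq)

end Groth.Agent.H1.AlgSpBootstrap
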