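import Groth.Agent.Lib.Helper1.FFDescent
import Groth.Agent.Lib.Helper8.PullbackUnit

/-!
# Abstract exactness of an Amitsur-type complex of modules (helper1)

Data: rings `Mr k` with coface maps `fr k i`, modules `Nn k` over `Mr k` with semilinear coface maps
`fN k i` and a contraction `hN`, such that `Mr (k+1) = A ⊗[R] Mr k` and `Nn (k+1)` is the base change
of `Nn k` along `fr k 0`, with `R → A` faithfully flat.  Then the alternating-sum complex is exact.
-/

set_option autoImplicit false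
universe u

namespace Groth.Agent.H1.AmitsurAbstract

open CategoryTheory CategoryTheory.Limits Groth.Agent.Lib.helper8.PullbackUnit

variable {R A : Type u} [CommRing R] [CommRing A] (φ : R →+* A)
  {Mr : ℕ → Type u} [∀ k, CommRing (Mr k)] {Nn : ℕ → Type u} [∀ k, AddCommGroup (Nn k)]
  [∀ k, Module (Mr k) (Nn k)]
  (fr : ∀ k, Fin (k + 1) → (Mr k →+* Mr (k + 1))) (bR : ∀ k, R →+* Mr k)
  (sA : ∀ k, A →+* Mr (k + 1))
  (fN : ∀ k, Fin (k + 1) → (Nn k →+ Nn (k + 1))) (hN : ∀ k, Nn (k + 1 + 1) →+ Nn (k + 1))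

/-- the alternating sum of all cofaces -/
def δ (n : ℕ) (m : Nn n) : Nn (n + 1) := ∑ i : Fin (n + 1), (-1 : ℤ) ^ (i : ℕ) • fN n i m

/-- the alternating sum of the cofaces fixing the zeroth factor -/
def δ' (n : ℕ) (m : Nn (n + 1)) : Nn (n + 1 + 1) :=
  ∑ i : Fin (n + 1), (-1 : ℤ) ^ (i : ℕ) • fN (n + 1) i.succ m

theorem δ_add (n : ℕ) (x y : Nn n) : δ fN n (x + y) = δ fN n x + δ fN n y := by
  simp only [δ, map_add, smul_add, Finset.sum_add_distrib]

theorem δ'_add (n : ℕ) (x y : Nn (n + 1)) : δ' fN n (x + y) = δ' fN n x + δ' fN n y := by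
  simp only [δ', map_add, smul_add, Finset.sum_add_distrib]

variable (fN_fN : ∀ (n : ℕ) (i : Fin (n + 1)) (m : Nn n),
    fN (n + 1) i.succ (fN n 0 m) = fN (n + 1) 0 (fN n i m))
  (hN_one : ∀ (n : ℕ) (m : Nn (n + 1 + 1)), hN (n + 1) (fN (n + 1 + 1) (0 : Fin (n + 1 + 1)).succ m) = m)
  (hN_succ : ∀ (n : ℕ) (k : Fin (n + 1)) (m : Nn (n + 1 + 1)),
    hN (n + 1) (fN (n + 1 + 1) k.succ.succ m) = fN (n + 1) k.succ (hN n m))
  (fr_bR : ∀ (n : ℕ) (i : Fin (n + 1)) (r : R), fr n i (bR n r) = bR (n + 1) r)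
  (sA_phi : ∀ (n : ℕ) (r : R), sA n (φ r) = bR (n + 1) r)
  (fr_sA : ∀ (n : ℕ) (i : Fin (n + 1)) (a : A), fr (n + 1) i.succ (sA n a) = sA (n + 1) a)
  (fN_smul : ∀ (n : ℕ) (i : Fin (n + 1)) (r : Mr n) (x : Nn n),
    fN n i (r • x) = fr n i r • fN n i x)

include fN_fN in
theorem δ'_fN (n : ℕ) (m : Nn n) : δ' fN n (fN n 0 m) = fN (n + 1) 0 (δ fN n m) := by
  rw [δ', δ, map_sum]
  refine Finset.sum_congr rfl (fun i _ => ?_)
  rw [map_zsmul, fN_fN]

include hN_one hN_succ in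
/-- the contracting homotopy for `δ'` -/
theorem homotopy (n : ℕ) (m : Nn (n + 1 + 1)) :
    δ' fN n (hN n m) + hN (n + 1) (δ' fN (n + 1) m) = m := by
  have h1 : hN (n + 1) (δ' fN (n + 1) m) =
      m + ∑ k : Fin (n + 1), (-1 : ℤ) ^ ((k : ℕ) + 1) • fN (n + 1) k.succ (hN n m) := by
    rw [δ', map_sum, Fin.sum_univ_succ]
    congr 1
    · rw [map_zsmul, hN_one, Fin.val_zero, pow_zero, one_smul]
    · refine Finset.sum_congr rfl (fun k _ => ?_)
      rw [map_zsmul, hN_succ, Fin.val_succ]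
  rw [h1, δ', add_left_comm, ← Finset.sum_add_distrib, Finset.sum_eq_zero, add_zero]
  intro k _
  rw [pow_succ, mul_neg_one, neg_smul, add_neg_cancel]

include fr_bR fN_smul in
theorem δ_smul (n : ℕ) (r : R) (x : Nn n) :
    δ fN n (bR n r • x) = bR (n + 1) r • δ fN n x := by
  simp only [δ, fN_smul, fr_bR, Finset.smul_sum]
  refine Finset.sum_congr rfl (fun i _ => ?_)
  rw [smul_comm]

include fr_sA fN_smul in
theorem δ'_smul (n : ℕ) (a : A) (x : Nn (n + 1)) :
    δ' fN n (sA n a • x) = sA (n + 1) a • δ' fN n x := by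
  simp only [δ', fN_smul, fr_sA, Finset.smul_sum]
  refine Finset.sum_congr rfl (fun i _ => ?_)
  rw [smul_comm]

include fN_fN hN_one hN_succ fr_bR sA_phi fr_sA fN_smul in
/-- **Exactness of the Amitsur complex of modules.** -/
theorem exact_δ (hφ : φ.FaithfullyFlat)
    (po : ∀ n, IsPushout (CommRingCat.ofHom φ) (CommRingCat.ofHom (bR n))
      (CommRingCat.ofHom (sA n)) (CommRingCat.ofHom (fr n 0)))
    (bc : ∀ n, IsBC (fr n 0) (fN n 0))
    (n : ℕ) (hδδ : ∀ x : Nn n, δ fN (n + 1) (δ fN n x) = 0)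
    (m : Nn (n + 1)) (hm : δ fN (n + 1) m = 0) : ∃ m', δ fN n m' = m := by
  letI : Algebra R A := φ.toAlgebra
  letI mT : ∀ k, Module R (Nn k) := fun k => Module.compHom (Nn k) (bR k)
  letI mV : ∀ k, Module A (Nn (k + 1)) := fun k => Module.compHom (Nn (k + 1)) (sA k)
  haveI tw : ∀ k, IsScalarTower R A (Nn (k + 1)) := fun k => ⟨fun r a x => by
    change sA k (φ r * a) • x = bR (k + 1) r • (sA k a • x)
    rw [map_mul, mul_smul, sA_phi]⟩
  haveI : Module.FaithfullyFlat R A := hφ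
  let β : ∀ k, Nn k →ₗ[R] Nn (k + 1) := fun k =>
    { toFun := fN k 0
      map_add' := (fN k 0).map_add
      map_smul' := fun r x => by
        change fN k 0 (bR k r • x) = bR (k + 1) r • fN k 0 x
        rw [fN_smul, fr_bR] }
  have hbc : ∀ k, IsBaseChange A (β k) := fun k =>
    IsBC.isBaseChange (β k) (IsBC.cancel (po k) (bc k))
  let D : ∀ k, Nn k →ₗ[R] Nn (k + 1) := fun k =>
    { toFun := δ fN k
      map_add' := δ_add fN k
      map_smul' := fun r x => δ_smul fr bR fN fr_bR fN_smul k r x }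
  let D' : ∀ k, Nn (k + 1) →ₗ[A] Nn (k + 1 + 1) := fun k =>
    { toFun := δ' fN k
      map_add' := δ'_add fN k
      map_smul' := fun a x => δ'_smul fr sA fN fr_sA fN_smul k a x }
  have key := Groth.Agent.H1.FFDescent.exact_of_baseChange (D n) (D (n + 1)) (D' n) (D' (n + 1))
    (β n) (β (n + 1)) (β (n + 1 + 1)) (hbc n) (hbc (n + 1)) (hbc (n + 1 + 1))
    (fun x => δ'_fN fN fN_fN n x) (fun x => δ'_fN fN fN_fN (n + 1) x)
    hδδ (fun z hz => ⟨hN n z, by
      have h := homotopy fN hN hN_one hN_succ n z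
      have hz' : δ' fN (n + 1) z = 0 := hz
      rw [hz', map_zero, add_zero] at h
      exact h⟩)
  exact (key m).1 hm

end Groth.Agent.H1.AmitsurAbstract
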