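import Groth.Agent.Lib.Helper1.AffCartanA

/-!
# Face and degeneracy maps of the Čech nerve of a morphism in `Over S` (helper1)
-/

set_option autoImplicit false
universe u
open CategoryTheory CategoryTheory.Limits AlgebraicGeometry Opposite

namespace Groth.Agent.H1.AmitsurFace

open Groth.Agent.H1.CechK Groth.Agent.H1.CechRep Groth.Agent.H1.FppfDesc Groth.Agent.H1.CechCE
  Groth.Agent.H1.AffCartan

variable {S : Scheme.{u}} {V T T₁ : Over S} (π : V ⟶ T) (e : T₁ ⟶ T)

/-- the face maps of the Čech nerve -/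
noncomputable def face (n : ℕ) (i : Fin (n + 1)) : Eobj π e (n + 1) ⟶ Eobj π e n :=
  liftE n (Tup.reindex (Fin.succAbove i) (univ π e (n + 1)))

variable {π e}

theorem liftE_face (n : ℕ) (i : Fin (n + 1)) {W : Over S} (x : Tup π e (n + 1) W) :
    liftE (n + 1) x ≫ face π e n i = liftE n (Tup.reindex (Fin.succAbove i) x) := by
  rw [face, ← liftE_map, ← Tup.reindex_map, map_liftE]

theorem comp_face (n : ℕ) (i : Fin (n + 1)) {W : Over S} (g : W ⟶ Eobj π e (n + 1)) :
    g ≫ face π e n i = liftE n (Tup.reindex (Fin.succAbove i) (Tup.map g (univ π e (n + 1)))) := by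
  rw [← liftE_face, liftE_map_univ]

theorem face_Eto (n : ℕ) (i : Fin (n + 1)) : face π e n i ≫ Eto π e n = Eto π e (n + 1) := by
  rw [face, liftE_Eto]
  exact univ_base π e (n + 1)

theorem face_sec (n : ℕ) (i : Fin (n + 1)) (k : Fin n) :
    face π e n i ≫ (univ π e n).sec k = (univ π e (n + 1)).sec (Fin.succAbove i k) := by
  have := congrFun (congrArg Tup.sec (map_liftE n (Tup.reindex (Fin.succAbove i) (univ π e (n + 1))))) k
  exact this

theorem face_zero (n : ℕ) : face π e n 0 = pbFst (Eto π e n ≫ e) π := by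
  apply hom_ext_E
  rw [face, map_liftE]
  apply Tup.ext
  · change (univ π e (n + 1)).base = pbFst (Eto π e n ≫ e) π ≫ (univ π e n).base
    rw [univ_base, univ_base, Eto_succ]
  · funext k
    change (univ π e (n + 1)).sec (Fin.succAbove 0 k) = pbFst (Eto π e n ≫ e) π ≫ (univ π e n).sec k
    rw [Fin.succAbove_zero, univ_sec_succ]

theorem face_face (n : ℕ) (i : Fin (n + 1)) :
    face π e (n + 1) i.succ ≫ face π e n 0 = face π e (n + 1) 0 ≫ face π e n i := by
  rw [comp_face, comp_face]
  congr 1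
  rw [← liftE_map_univ (n + 1) (face π e (n + 1) i.succ),
    ← liftE_map_univ (n + 1) (face π e (n + 1) 0)]
  simp only [liftE_map_univ]
  rw [face, face, map_liftE, map_liftE, Tup.reindex_comp, Tup.reindex_comp]
  congr 1
  funext k
  simp only [Function.comp_apply, Fin.succAbove_zero]
  exact Fin.succ_succAbove_succ i k

/-- the degeneracy duplicating the zeroth section -/
noncomputable def dup (n : ℕ) : Eobj π e (n + 1) ⟶ Eobj π e (n + 2) :=
  liftE (n + 2) (Tup.cons ((univ π e (n + 1)).sec 0) (univ π e (n + 1)) ((univ π e (n + 1)).comm 0))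

theorem cons_sec_zero_reindex {n : ℕ} {W : Over S} (x : Tup π e (n + 1) W) :
    Tup.cons (x.sec 0) (Tup.reindex (Fin.succAbove 0) x) (x.comm 0) = x := by
  apply Tup.ext
  · rfl
  · funext k
    refine Fin.cases ?_ (fun k => ?_) k
    · rfl
    · change x.sec (Fin.succAbove 0 k) = x.sec k.succ
      rw [Fin.succAbove_zero]

theorem map_cons {n : ℕ} {W W' : Over S} (g : W' ⟶ W) (v : W ⟶ V) (x : Tup π e n W)
    (hv : v ≫ π = x.base ≫ e) :
    Tup.map g (Tup.cons v x hv) = Tup.cons (g ≫ v) (Tup.map g x)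
      (by rw [Category.assoc, hv]; exact (Category.assoc _ _ _).symm) := by
  apply Tup.ext
  · rfl
  · funext k
    refine Fin.cases ?_ (fun k => ?_) k
    · rfl
    · rfl

theorem cons_congr' {n : ℕ} {W : Over S} {v v' : W ⟶ V} {x x' : Tup π e n W} (hv : v = v')
    (hx : x = x') (h : v ≫ π = x.base ≫ e) (h' : v' ≫ π = x'.base ≫ e) :
    Tup.cons v x h = Tup.cons v' x' h' := by
  subst hv hx
  rfl

theorem dup_face_one (n : ℕ) : dup (π := π) (e := e) n ≫ face π e (n + 1) (0 : Fin (n + 1)).succ = 𝟙 _ := by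
  rw [dup, liftE_face, Tup.reindex_succ_cons, cons_sec_zero_reindex, liftE_univ]

theorem dup_face_succ (n : ℕ) (k : Fin (n + 1)) :
    dup (π := π) (e := e) (n + 1) ≫ face π e (n + 2) k.succ.succ =
      face π e (n + 1) k.succ ≫ dup n := by
  rw [dup, liftE_face, Tup.reindex_succ_cons, dup, ← liftE_map, map_cons]
  congr 1
  apply cons_congr'
  · exact ((face_sec (n + 1) k.succ 0).trans (by rw [Fin.succ_succAbove_zero])).symm
  · rw [face, map_liftE]

theorem face_succ_sec_zero (n : ℕ) (i : Fin (n + 1)) :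
    face π e (n + 1) i.succ ≫ pbSnd (Eto π e n ≫ e) π = pbSnd (Eto π e (n + 1) ≫ e) π := by
  have := face_sec (π := π) (e := e) (n + 1) i.succ 0
  rw [Fin.succ_succAbove_zero] at this
  exact this

theorem dup_sec_zero (n : ℕ) :
    dup (π := π) (e := e) n ≫ pbSnd (Eto π e (n + 1) ≫ e) π = pbSnd (Eto π e n ≫ e) π := by
  have := congrFun (congrArg Tup.sec (map_liftE (n + 2)
    (Tup.cons ((univ π e (n + 1)).sec 0) (univ π e (n + 1)) ((univ π e (n + 1)).comm 0)))) 0
  exact this

/-- the differential in terms of sections over the representing objects -/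
theorem toSec_d (P : (Over S)ᵒᵖ ⥤ AddCommGrpCat.{u + 1}) (n : ℕ) (c : K π e n ⟶ P) :
    toSec P (d n ≫ c) =
      ∑ i : Fin (n + 1), (-1 : ℤ) ^ (i : ℕ) • P.map (face π e n i).op (toSec P c) := by
  rw [toSec, d_comp_app_gen]
  refine Finset.sum_congr rfl (fun i _ => ?_)
  rw [app_gen_eq]
  rfl

end Groth.Agent.H1.AmitsurFace
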