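import Mathlib

/-!
# Faithfully flat descent of exactness along base-change maps (helper1)
-/

set_option autoImplicit false

namespace Groth.Agent.H1.FFDescent

open TensorProduct

universe u

variable {R A : Type u} [CommRing R] [CommRing A] [Algebra R A] [Module.FaithfullyFlat R A]
  {M₁ M₂ M₃ N₁ N₂ N₃ : Type u}
  [AddCommGroup M₁] [AddCommGroup M₂] [AddCommGroup M₃]
  [AddCommGroup N₁] [AddCommGroup N₂] [AddCommGroup N₃]
  [Module R M₁] [Module R M₂] [Module R M₃]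
  [Module R N₁] [Module R N₂] [Module R N₃]
  [Module A N₁] [Module A N₂] [Module A N₃]
  [IsScalarTower R A N₁] [IsScalarTower R A N₂] [IsScalarTower R A N₃]

/-- exactness descends along a faithfully flat base change -/
theorem exact_of_baseChange (d₁ : M₁ →ₗ[R] M₂) (d₂ : M₂ →ₗ[R] M₃) (d₁' : N₁ →ₗ[A] N₂)
    (d₂' : N₂ →ₗ[A] N₃) (β₁ : M₁ →ₗ[R] N₁) (β₂ : M₂ →ₗ[R] N₂) (β₃ : M₃ →ₗ[R] N₃)
    (hβ₁ : IsBaseChange A β₁) (hβ₂ : IsBaseChange A β₂) (hβ₃ : IsBaseChange A β₃)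
    (h1 : ∀ m, d₁' (β₁ m) = β₂ (d₁ m)) (h2 : ∀ m, d₂' (β₂ m) = β₃ (d₂ m))
    (hd : ∀ m, d₂ (d₁ m) = 0)
    (hex : ∀ z : N₂, d₂' z = 0 → ∃ w, d₁' w = z) : Function.Exact d₁ d₂ := by
  rw [← Module.FaithfullyFlat.lTensor_exact_iff_exact R A]
  have c1 : ∀ x : A ⊗[R] M₁, hβ₂.equiv (d₁.lTensor A x) = d₁' (hβ₁.equiv x) := by
    intro x
    induction x using TensorProduct.induction_on with
    | zero => simp
    | tmul a m =>
      rw [LinearMap.lTensor_tmul, IsBaseChange.equiv_tmul, IsBaseChange.equiv_tmul, map_smul, h1]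
    | add x y hx hy => rw [map_add, map_add, hx, hy, map_add, map_add]
  have c2 : ∀ x : A ⊗[R] M₂, hβ₃.equiv (d₂.lTensor A x) = d₂' (hβ₂.equiv x) := by
    intro x
    induction x using TensorProduct.induction_on with
    | zero => simp
    | tmul a m =>
      rw [LinearMap.lTensor_tmul, IsBaseChange.equiv_tmul, IsBaseChange.equiv_tmul, map_smul, h2]
    | add x y hx hy => rw [map_add, map_add, hx, hy, map_add, map_add]
  intro y
  constructor
  · intro hy
    have : d₂' (hβ₂.equiv y) = 0 := by rw [← c2, hy, map_zero]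
    obtain ⟨w, hw⟩ := hex _ this
    refine ⟨hβ₁.equiv.symm w, ?_⟩
    apply hβ₂.equiv.injective
    rw [c1, LinearEquiv.apply_symm_apply, hw]
  · rintro ⟨x, rfl⟩
    have : d₂.lTensor A (d₁.lTensor A x) = (d₂ ∘ₗ d₁).lTensor A x := by
      rw [LinearMap.lTensor_comp]; rfl
    rw [this]
    have h0 : d₂ ∘ₗ d₁ = 0 := by
      ext m
      exact hd m
    rw [h0, LinearMap.lTensor_zero]
    rfl

end Groth.Agent.H1.FFDescent
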