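import Groth.Agent.Lib.Helper1.AmitsurFace
import Groth.Agent.Lib.Helper1.FFDescent
import Groth.Prelude.Def_EtGm

/-!
# Čech exactness of the additive group on the big étale site for affine covers (helper1)
-/

set_option autoImplicit false
universe u
open CategoryTheory CategoryTheory.Limits AlgebraicGeometry Opposite

namespace Groth.Agent.H1.AmitsurGa

open Groth.Agent.H1.CechK Groth.Agent.H1.CechRep Groth.Agent.H1.FppfDesc Groth.Agent.H1.CechCE
  Groth.Agent.H1.AffCartan Groth.Agent.H1.AmitsurFace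

variable {S : Scheme.{u}}

/-- the pullback of functions along a morphism of `S`-schemes -/
noncomputable def sharp {X Y : Over S} (g : X ⟶ Y) : Γ(Y.left, ⊤) →+* Γ(X.left, ⊤) :=
  g.left.appTop.hom

theorem sharp_comp {X Y Z : Over S} (a : X ⟶ Y) (b : Y ⟶ Z) :
    sharp (a ≫ b) = (sharp a).comp (sharp b) := by
  change (a.left ≫ b.left).appTop.hom = _
  rw [Scheme.Hom.comp_appTop]
  rfl

theorem sharp_comp_apply {X Y Z : Over S} (a : X ⟶ Y) (b : Y ⟶ Z) (m : Γ(Z.left, ⊤)) :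
    sharp (a ≫ b) m = sharp a (sharp b m) := by
  rw [sharp_comp]
  rfl

theorem sharp_id (X : Over S) (m : Γ(X.left, ⊤)) : sharp (𝟙 X) m = m := by
  change (𝟙 X.left : X.left ⟶ X.left).appTop.hom m = m
  rw [Scheme.Hom.id_appTop]
  rfl

section Core

variable {V T : Over S} (π : V ⟶ T)

/-- the rings of functions on the terms of the Čech nerve -/
abbrev M (n : ℕ) : Type u := Γ((Eobj π (𝟙 T) n).left, ⊤)

/-- the coface maps -/
noncomputable def fr (n : ℕ) (i : Fin (n + 1)) : M π n →+* M π (n + 1) := sharp (face π (𝟙 T) n i)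

/-- the alternating sum of all cofaces -/
noncomputable def δ (n : ℕ) (m : M π n) : M π (n + 1) :=
  ∑ i : Fin (n + 1), (-1 : ℤ) ^ (i : ℕ) • fr π n i m

/-- the alternating sum of the cofaces fixing the zeroth factor -/
noncomputable def δ' (n : ℕ) (m : M π (n + 1)) : M π (n + 2) :=
  ∑ i : Fin (n + 1), (-1 : ℤ) ^ (i : ℕ) • fr π (n + 1) i.succ m

/-- the contraction -/
noncomputable def hr (n : ℕ) : M π (n + 2) →+* M π (n + 1) := sharp (dup (π := π) (e := 𝟙 T) n)

theorem fr_fr (n : ℕ) (i : Fin (n + 1)) (m : M π n) :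
    fr π (n + 1) i.succ (fr π n 0 m) = fr π (n + 1) 0 (fr π n i m) := by
  change sharp _ (sharp _ m) = sharp _ (sharp _ m)
  rw [← sharp_comp_apply, ← sharp_comp_apply, face_face]

theorem δ'_fr (n : ℕ) (m : M π n) : δ' π n (fr π n 0 m) = fr π (n + 1) 0 (δ π n m) := by
  rw [δ', δ, map_sum]
  refine Finset.sum_congr rfl (fun i _ => ?_)
  rw [map_zsmul, fr_fr]

theorem hr_fr_one (n : ℕ) (m : M π (n + 2)) :
    hr π (n + 1) (fr π (n + 2) (0 : Fin (n + 2)).succ m) = m := by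
  change sharp _ (sharp _ m) = m
  rw [← sharp_comp_apply, dup_face_one, sharp_id]

theorem hr_fr_succ (n : ℕ) (k : Fin (n + 1)) (m : M π (n + 2)) :
    hr π (n + 1) (fr π (n + 2) k.succ.succ m) = fr π (n + 1) k.succ (hr π n m) := by
  change sharp _ (sharp _ m) = sharp _ (sharp _ m)
  rw [← sharp_comp_apply, ← sharp_comp_apply, dup_face_succ]

/-- the contracting homotopy for `δ'` -/
theorem homotopy (n : ℕ) (m : M π (n + 2)) :
    δ' π n (hr π n m) + hr π (n + 1) (δ' π (n + 1) m) = m := by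
  have h1 : hr π (n + 1) (δ' π (n + 1) m) =
      m + ∑ k : Fin (n + 1), (-1 : ℤ) ^ ((k : ℕ) + 1) • fr π (n + 1) k.succ (hr π n m) := by
    rw [δ', map_sum, Fin.sum_univ_succ]
    congr 1
    · rw [map_zsmul, hr_fr_one, Fin.val_zero, pow_zero, one_smul]
    · refine Finset.sum_congr rfl (fun k _ => ?_)
      rw [map_zsmul, hr_fr_succ, Fin.val_succ]
  rw [h1, δ', add_left_comm, ← Finset.sum_add_distrib, Finset.sum_eq_zero, add_zero]
  intro k _
  rw [pow_succ, mul_neg_one, neg_smul, add_neg_cancel]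

/-- the structure maps from the base -/
noncomputable def bR (n : ℕ) : Γ(T.left, ⊤) →+* M π n := sharp (Eto π (𝟙 T) n ≫ 𝟙 T)

/-- the structure maps from the zeroth factor -/
noncomputable def sA (n : ℕ) : Γ(V.left, ⊤) →+* M π (n + 1) :=
  sharp (pbSnd (Eto π (𝟙 T) n ≫ 𝟙 T) π)

theorem fr_bR (n : ℕ) (i : Fin (n + 1)) (r : Γ(T.left, ⊤)) :
    fr π n i (bR π n r) = bR π (n + 1) r := by
  change sharp _ (sharp _ r) = sharp _ r
  rw [← sharp_comp_apply, ← Category.assoc, face_Eto]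

theorem sA_sharp (n : ℕ) (r : Γ(T.left, ⊤)) : sA π n (sharp π r) = bR π (n + 1) r := by
  have h : (show Eobj π (𝟙 T) (n + 1) ⟶ V from pbSnd (Eto π (𝟙 T) n ≫ 𝟙 T) π) ≫ π =
      Eto π (𝟙 T) (n + 1) ≫ 𝟙 T :=
    (pb_condition (Eto π (𝟙 T) n ≫ 𝟙 T) π).symm.trans (Category.assoc _ _ _).symm
  change sharp _ (sharp _ r) = sharp _ r
  rw [← sharp_comp_apply]
  exact congrArg (fun g => sharp g r) h

theorem fr_sA (n : ℕ) (i : Fin (n + 1)) (a : Γ(V.left, ⊤)) :
    fr π (n + 1) i.succ (sA π n a) = sA π (n + 1) a := by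
  change sharp _ (sharp _ a) = sharp _ a
  rw [← sharp_comp_apply, face_succ_sec_zero]

theorem fr_zero_eq (n : ℕ) : fr π n 0 = sharp (pbFst (Eto π (𝟙 T) n ≫ 𝟙 T) π) :=
  congrArg sharp (face_zero (π := π) (e := 𝟙 T) n)

theorem isPushout_core (hπ : GC π) (n : ℕ) :
    IsPushout (CommRingCat.ofHom (sharp π)) (CommRingCat.ofHom (bR π n))
      (CommRingCat.ofHom (sA π n)) (CommRingCat.ofHom (fr π n 0)) := by
  obtain ⟨hV, hT, _, _⟩ := hπ
  haveI := hV
  haveI := hT
  haveI : IsAffine (Eobj π (𝟙 T) n).left := isAffine_Eobj π (𝟙 T) hV hT hT n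
  have h := (IsPullback.of_hasPullback (Eto π (𝟙 T) n ≫ 𝟙 T).left π.left).flip
  have := isPushout_appTop_of_isPullback h
  rw [fr_zero_eq]
  exact this

theorem δ_add (n : ℕ) (x y : M π n) : δ π n (x + y) = δ π n x + δ π n y := by
  simp only [δ, map_add, smul_add, Finset.sum_add_distrib]

theorem δ'_add (n : ℕ) (x y : M π (n + 1)) : δ' π n (x + y) = δ' π n x + δ' π n y := by
  simp only [δ', map_add, smul_add, Finset.sum_add_distrib]

theorem δ_mul (n : ℕ) (r : Γ(T.left, ⊤)) (x : M π n) :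
    δ π n (bR π n r * x) = bR π (n + 1) r * δ π n x := by
  simp only [δ, map_mul, fr_bR, Finset.mul_sum, mul_smul_comm]

theorem δ'_mul (n : ℕ) (a : Γ(V.left, ⊤)) (x : M π (n + 1)) :
    δ' π n (sA π n a * x) = sA π (n + 1) a * δ' π n x := by
  simp only [δ', map_mul, fr_sA, Finset.mul_sum, mul_smul_comm]

theorem δ'_zero (n : ℕ) : δ' π n 0 = 0 := by
  simp only [δ', map_zero, smul_zero, Finset.sum_const_zero]

/-- **Exactness of the Amitsur complex** (in terms of the coface maps of the Čech nerve). -/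
theorem exact_δ (hπ : GC π) (n : ℕ) (hδδ : ∀ x : M π n, δ π (n + 1) (δ π n x) = 0)
    (m : M π (n + 1)) (hm : δ π (n + 1) m = 0) : ∃ m', δ π n m' = m := by
  letI : Algebra Γ(T.left, ⊤) Γ(V.left, ⊤) := (sharp π).toAlgebra
  letI aM : ∀ k, Algebra Γ(T.left, ⊤) (M π k) := fun k => (bR π k).toAlgebra
  letI aA : ∀ k, Algebra Γ(V.left, ⊤) (M π (k + 1)) := fun k => (sA π k).toAlgebra
  letI aF : ∀ k, Algebra (M π k) (M π (k + 1)) := fun k => (fr π k 0).toAlgebra
  haveI tw1 : ∀ k, IsScalarTower Γ(T.left, ⊤) Γ(V.left, ⊤) (M π (k + 1)) := fun k =>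
    IsScalarTower.of_algebraMap_eq (fun r => (sA_sharp π k r).symm)
  haveI tw2 : ∀ k, IsScalarTower Γ(T.left, ⊤) (M π k) (M π (k + 1)) := fun k =>
    IsScalarTower.of_algebraMap_eq (fun r => (fr_bR π k 0 r).symm)
  haveI : Module.FaithfullyFlat Γ(T.left, ⊤) Γ(V.left, ⊤) := by
    obtain ⟨hV, hT, het, hsurj⟩ := hπ
    haveI := hV
    haveI := hT
    haveI := het
    haveI := hsurj
    have h0 : π.left.appTop.hom.FaithfullyFlat :=
      (Flat.flat_and_surjective_iff_faithfullyFlat_of_isAffine (f := π.left)).mp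
        ⟨inferInstance, inferInstance⟩
    exact h0
  have hbc : ∀ k, IsBaseChange Γ(V.left, ⊤)
      (IsScalarTower.toAlgHom Γ(T.left, ⊤) (M π k) (M π (k + 1))).toLinearMap := fun k =>
    ((CommRingCat.isPushout_iff_isPushout).1 (isPushout_core π hπ k)).out
  let D : ∀ k, M π k →ₗ[Γ(T.left, ⊤)] M π (k + 1) := fun k =>
    { toFun := δ π k
      map_add' := δ_add π k
      map_smul' := fun r x => by
        rw [Algebra.smul_def, Algebra.smul_def]
        exact δ_mul π k r x }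
  let D' : ∀ k, M π (k + 1) →ₗ[Γ(V.left, ⊤)] M π (k + 2) := fun k =>
    { toFun := δ' π k
      map_add' := δ'_add π k
      map_smul' := fun a x => by
        rw [Algebra.smul_def, Algebra.smul_def]
        exact δ'_mul π k a x }
  have key := Groth.Agent.H1.FFDescent.exact_of_baseChange (D n) (D (n + 1)) (D' n) (D' (n + 1))
    _ _ _ (hbc n) (hbc (n + 1)) (hbc (n + 2)) (fun x => δ'_fr π n x) (fun x => δ'_fr π (n + 1) x)
    hδδ (fun z hz => ⟨hr π n z, by
      have h := homotopy π n z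
      have hz' : δ' π (n + 1) z = 0 := hz
      rw [hz', map_zero, add_zero] at h
      exact h⟩)
  exact (key m).1 hm

end Core

/-- the additive group presheaf on the big site of `S` -/
noncomputable abbrev gaPre (S : Scheme.{u}) : (Over S)ᵒᵖ ⥤ AddCommGrpCat.{u + 1} :=
  (Over.forget S).op ⋙ EtCoh.ΓAdd

/-- functions as sections of the additive group -/
noncomputable def up {X : Over S} : Γ(X.left, ⊤) ≃+ (gaPre S).obj (op X) := AddEquiv.ulift.symm

theorem map_up {X Y : Over S} (g : X ⟶ Y) (m : Γ(Y.left, ⊤)) :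
    (gaPre S).map g.op (up m) = up (sharp g m) := rfl

section Final

variable {V T : Over S} (π : V ⟶ T)

theorem D_up (n : ℕ) (m : M π n) :
    ∑ i : Fin (n + 1), (-1 : ℤ) ^ (i : ℕ) • (gaPre S).map (face π (𝟙 T) n i).op (up m) =
      up (δ π n m) := by
  rw [δ, map_sum]
  refine Finset.sum_congr rfl (fun i _ => ?_)
  rw [map_zsmul, map_up]
  rfl

theorem δ_δ (n : ℕ) (x : M π (n + 1)) : δ π (n + 2) (δ π (n + 1) x) = 0 := by
  apply up.injective
  rw [map_zero, ← D_up, ← D_up]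
  have h1 : toSec (gaPre S) (d (n + 1) ≫ ofSec π (𝟙 T) (n + 1) (up x)) =
      ∑ i : Fin (n + 2), (-1 : ℤ) ^ (i : ℕ) •
        (gaPre S).map (face π (𝟙 T) (n + 1) i).op (up x) := by
    rw [toSec_d, toSec_ofSec]
  have h2 := toSec_d (gaPre S) (n + 2) (d (n + 1) ≫ ofSec π (𝟙 T) (n + 1) (up x))
  rw [h1] at h2
  rw [← h2, ← Category.assoc, d_comp_d n, zero_comp]
  rfl

end Final

/-- **The additive group is globally Čech exact** for étale surjective morphisms of affine schemes. -/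
theorem cex_gaPre : CEx (gaPre S) := by
  intro V T π hπ p c hc
  obtain ⟨m, hm⟩ := (up (S := S)).surjective (toSec (gaPre S) c)
  have hm0 : δ π (p + 2) m = 0 := by
    apply (up (S := S)).injective
    rw [map_zero, ← D_up, hm, ← toSec_d, hc]
    rfl
  obtain ⟨m', hm'⟩ := exact_δ π hπ (p + 1) (δ_δ π p) m hm0
  refine ⟨ofSec π (𝟙 T) (p + 1) (up m'), ?_⟩
  rw [← ofSec_toSec π (𝟙 T) (p + 2) c,
    ← ofSec_toSec π (𝟙 T) (p + 2) (d (p + 1) ≫ ofSec π (𝟙 T) (p + 1) (up m'))]
  congr 1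
  rw [toSec_d, toSec_ofSec, D_up, hm', hm]

end Groth.Agent.H1.AmitsurGa
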