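import Groth.Agent.Lib.Helper1.TowerSec

/-!
# Base change of a tower of schemes over a base (helper1)

`V_i ⟶ S` a tower over `S` (`ε i`) with limit `g : S̄ ⟶ S`, `f : X ⟶ S`.  The tower `X_i = V_i ×_S X` over `X`,
its cone with vertex `X ×_S S̄` and the fact that it is a limit cone.
-/

set_option autoImplicit false
set_option linter.unusedSectionVars false
universe u
open CategoryTheory CategoryTheory.Limits AlgebraicGeometry Opposite

namespace Groth.Agent.H1.BcTower

open Groth.Agent.H1.LimCoh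

section Plain

variable {T V S X P : Scheme.{u}}

lemma isPullback_of_lift (ε : V ⟶ S) (f : X ⟶ S) (a : T ⟶ V) (p₁ : P ⟶ T) (p₂ : P ⟶ X)
    (hP : IsPullback p₂ p₁ f (a ≫ ε)) (l : P ⟶ pullback ε f)
    (h1 : l ≫ pullback.fst ε f = p₁ ≫ a) (h2 : l ≫ pullback.snd ε f = p₂) :
    IsPullback l p₁ (pullback.fst ε f) a :=
  IsPullback.of_right (h₁₂ := pullback.snd ε f) (h₂₂ := ε) (v₁₃ := f) (by rw [h2]; exact hP) h1
    (IsPullback.of_hasPullback ε f).flip

end Plain

variable {ι : Type u} [Preorder ι] {Vs : ιᵒᵖ ⥤ Scheme.{u}} (cS : Cone Vs) {S X : Scheme.{u}}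
  (ε : ∀ i : ι, Vs.obj (op i) ⟶ S) (hε : ∀ ⦃i j : ι⦄ (h : i ≤ j), tr Vs h ≫ ε i = ε j)
  (g : cS.pt ⟶ S) (hg : ∀ i, pj Vs cS i ≫ ε i = g) (f : X ⟶ S)

include hε in
lemma hε' {a b : ιᵒᵖ} (φ : a ⟶ b) : Vs.map φ ≫ ε b.unop = ε a.unop := by
  have h := hε (leOfHom φ.unop)
  have e : (homOfLE (leOfHom φ.unop)).op = φ := Quiver.Hom.unop_inj (Subsingleton.elim _ _)
  rw [tr, e] at h
  exact h

/-- the transition maps of the tower `V_i ×_S X` -/
noncomputable def xmap {a b : ιᵒᵖ} (φ : a ⟶ b) : pullback (ε a.unop) f ⟶ pullback (ε b.unop) f :=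
  pullback.lift (pullback.fst _ _ ≫ Vs.map φ) (pullback.snd _ _)
    (by rw [Category.assoc, hε' ε hε φ, pullback.condition])

lemma xmap_fst {a b : ιᵒᵖ} (φ : a ⟶ b) :
    xmap ε hε f φ ≫ pullback.fst (ε b.unop) f = pullback.fst (ε a.unop) f ≫ Vs.map φ :=
  pullback.lift_fst _ _ _

lemma xmap_snd {a b : ιᵒᵖ} (φ : a ⟶ b) :
    xmap ε hε f φ ≫ pullback.snd (ε b.unop) f = pullback.snd (ε a.unop) f :=
  pullback.lift_snd _ _ _

/-- the tower `V_i ×_S X` -/
noncomputable def Xs : ιᵒᵖ ⥤ Scheme.{u} where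
  obj a := pullback (ε a.unop) f
  map {a b} φ := xmap ε hε f φ
  map_id a := by
    apply pullback.hom_ext
    · rw [xmap_fst, Vs.map_id, Category.comp_id, Category.id_comp]
    · rw [xmap_snd, Category.id_comp]
  map_comp φ ψ := by
    apply pullback.hom_ext
    · rw [xmap_fst, Category.assoc, xmap_fst, ← Category.assoc, xmap_fst, Category.assoc,
        Vs.map_comp]
    · rw [xmap_snd, Category.assoc, xmap_snd, xmap_snd]

/-- the projection to `X` -/
noncomputable abbrev e (i : ι) : (Xs ε hε f).obj (op i) ⟶ X := pullback.snd (ε i) f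

lemma Xs_map_fst {a b : ιᵒᵖ} (φ : a ⟶ b) :
    (Xs ε hε f).map φ ≫ pullback.fst (ε b.unop) f = pullback.fst (ε a.unop) f ≫ Vs.map φ :=
  xmap_fst ε hε f φ

lemma Xs_map_snd {a b : ιᵒᵖ} (φ : a ⟶ b) :
    (Xs ε hε f).map φ ≫ pullback.snd (ε b.unop) f = pullback.snd (ε a.unop) f :=
  xmap_snd ε hε f φ

lemma he ⦃i j : ι⦄ (h : i ≤ j) : tr (Xs ε hε f) h ≫ e ε hε f i = e ε hε f j :=
  Xs_map_snd ε hε f (homOfLE h).op

/-- the projections from `X ×_S S̄` -/
noncomputable def xπ (a : ιᵒᵖ) : pullback f g ⟶ pullback (ε a.unop) f :=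
  pullback.lift (pullback.snd f g ≫ cS.π.app a) (pullback.fst f g)
    (by rw [Category.assoc, hg a.unop, pullback.condition])

lemma xπ_fst (a : ιᵒᵖ) : xπ cS ε g hg f a ≫ pullback.fst (ε a.unop) f =
    pullback.snd f g ≫ cS.π.app a := pullback.lift_fst _ _ _

lemma xπ_snd (a : ιᵒᵖ) : xπ cS ε g hg f a ≫ pullback.snd (ε a.unop) f =
    pullback.fst f g := pullback.lift_snd _ _ _

/-- the cone with vertex `X ×_S S̄` -/
noncomputable def cX : Cone (Xs ε hε f) where
  pt := pullback f g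
  π :=
  { app a := xπ cS ε g hg f a
    naturality a b φ := by
      refine (Category.id_comp _).trans ?_
      change xπ cS ε g hg f b = xπ cS ε g hg f a ≫ xmap ε hε f φ
      apply pullback.hom_ext
      · rw [Category.assoc, xmap_fst, ← Category.assoc, xπ_fst, xπ_fst, Category.assoc, cS.w φ]
      · rw [Category.assoc, xmap_snd, xπ_snd, xπ_snd] }

lemma cX_π_fst (a : ιᵒᵖ) : (cX cS ε hε g hg f).π.app a ≫ pullback.fst (ε a.unop) f =
    pullback.snd f g ≫ cS.π.app a := pullback.lift_fst _ _ _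

lemma cX_π_snd (a : ιᵒᵖ) : (cX cS ε hε g hg f).π.app a ≫ pullback.snd (ε a.unop) f =
    pullback.fst f g := pullback.lift_snd _ _ _

lemma hgX (i : ι) : pj (Xs ε hε f) (cX cS ε hε g hg f) i ≫ e ε hε f i = pullback.fst f g :=
  pullback.lift_snd _ _ _

/-- the projection of towers -/
noncomputable def α : Xs ε hε f ⟶ Vs where
  app a := pullback.fst (ε a.unop) f
  naturality a b φ := Xs_map_fst ε hε f φ

variable [IsDirected ι (· ≤ ·)] [Nonempty ι]

/-- the base change of a limit cone is a limit cone -/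
noncomputable def isLimitCX (hcS : IsLimit cS) : IsLimit (cX cS ε hε g hg f) := by
  haveI : IsConnected ιᵒᵖ := IsCofiltered.isConnected _
  refine isLimitOfIsPullbackOfIsConnected (α ε hε f) _ cS
    { hom := pullback.snd f g, w := fun a => (cX_π_fst cS ε hε g hg f a).symm } (fun a => ?_) hcS
  refine isPullback_of_lift (ε a.unop) f (cS.π.app a) (pullback.snd f g) (pullback.fst f g) ?_ _
    (cX_π_fst cS ε hε g hg f a) (cX_π_snd cS ε hε g hg f a)
  rw [hg a.unop]
  exact IsPullback.of_hasPullback f g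

theorem isAffineHom_Xs_map (haff : ∀ ⦃a b : ιᵒᵖ⦄ (h : a ⟶ b), IsAffineHom (Vs.map h))
    ⦃a b : ιᵒᵖ⦄ (φ : a ⟶ b) : IsAffineHom ((Xs ε hε f).map φ) := by
  have hp : IsPullback ((Xs ε hε f).map φ) (pullback.fst (ε a.unop) f) (pullback.fst (ε b.unop) f)
      (Vs.map φ) := by
    refine isPullback_of_lift (ε b.unop) f (Vs.map φ) (pullback.fst (ε a.unop) f)
      (pullback.snd (ε a.unop) f) ?_ _ (Xs_map_fst ε hε f φ) (Xs_map_snd ε hε f φ)
    rw [hε' ε hε φ]
    exact (IsPullback.of_hasPullback (ε a.unop) f).flip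
  exact MorphismProperty.of_isPullback (P := @IsAffineHom) hp.flip (haff φ)

theorem compactSpace_Xs [QuasiCompact f] [∀ i : ι, CompactSpace (Vs.obj (op i))] (i : ι) :
    CompactSpace ((Xs ε hε f).obj (op i)) := by
  let p : (Xs ε hε f).obj (op i) ⟶ Vs.obj (op i) := pullback.fst (ε i) f
  haveI : QuasiCompact p := inferInstanceAs (QuasiCompact (pullback.fst (ε i) f))
  exact QuasiCompact.compactSpace_of_compactSpace p

theorem quasiSeparatedSpace_Xs [QuasiSeparated f] [∀ i : ι, QuasiSeparatedSpace (Vs.obj (op i))]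
    (i : ι) : QuasiSeparatedSpace ((Xs ε hε f).obj (op i)) := by
  let p : (Xs ε hε f).obj (op i) ⟶ Vs.obj (op i) := pullback.fst (ε i) f
  haveI : QuasiSeparated p := inferInstanceAs (QuasiSeparated (pullback.fst (ε i) f))
  exact quasiSeparatedSpace_of_quasiSeparated p

end Groth.Agent.H1.BcTower
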