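import Mathlib
import Groth.Prelude.Def_WeakSerre

set_option autoImplicit false
set_option linter.unusedSectionVars false

universe w v u

open CategoryTheory Category Limits Pretriangulated

namespace Groth.Agent.H1.WSerreTri

section five

variable {C : Type u} [Category.{v} C] [Abelian C] (P : ObjectProperty C) [WSerre.IsWeakSerre P]

/-- the five-term characterisation of weak Serre subcategories -/
lemma prop_of_five_term {A₁ A₂ A₃ A₄ A₅ : C} (f : A₁ ⟶ A₂) (g : A₂ ⟶ A₃) (h : A₃ ⟶ A₄)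
    (k : A₄ ⟶ A₅) (w₁ : f ≫ g = 0) (w₂ : g ≫ h = 0) (w₃ : h ≫ k = 0)
    (e₁ : (ShortComplex.mk f g w₁).Exact) (e₂ : (ShortComplex.mk g h w₂).Exact)
    (e₃ : (ShortComplex.mk h k w₃).Exact)
    (p₁ : P A₁) (p₂ : P A₂) (p₄ : P A₄) (p₅ : P A₅) : P A₃ := by
  have hc : P (cokernel f) := P.prop_cokernel f p₁ p₂
  have hk : P (kernel k) := P.prop_kernel k p₄ p₅
  have hm : Mono (cokernel.desc f g w₁) := e₁.mono_cokernelDesc
  have he : Epi (kernel.lift k h w₃) := e₃.epi_kernelLift
  have w : cokernel.desc f g w₁ ≫ kernel.lift k h w₃ = 0 := by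
    rw [← cancel_epi (cokernel.π f), ← cancel_mono (kernel.ι k)]
    simp [w₂]
  have w' : g ≫ kernel.lift k h w₃ = 0 := by
    rw [← cancel_mono (kernel.ι k)]
    simp [w₂]
  let S' : ShortComplex C := ShortComplex.mk g (kernel.lift k h w₃) w'
  let S'' : ShortComplex C := ShortComplex.mk (cokernel.desc f g w₁) (kernel.lift k h w₃) w
  let φ : S' ⟶ ShortComplex.mk g h w₂ :=
    { τ₁ := 𝟙 _
      τ₂ := 𝟙 _
      τ₃ := kernel.ι k
      comm₁₂ := by simp [S']
      comm₂₃ := by simp [S'] }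
  have : Epi φ.τ₁ := by dsimp [φ]; infer_instance
  have : IsIso φ.τ₂ := by dsimp [φ]; infer_instance
  have : Mono φ.τ₃ := by dsimp [φ]; infer_instance
  have eS' : S'.Exact := (ShortComplex.exact_iff_of_epi_of_isIso_of_mono φ).2 e₂
  let ψ : S' ⟶ S'' :=
    { τ₁ := cokernel.π f
      τ₂ := 𝟙 _
      τ₃ := 𝟙 _
      comm₁₂ := by simp [S', S'']
      comm₂₃ := by simp [S', S''] }
  have : Epi ψ.τ₁ := by dsimp [ψ]; infer_instance
  have : IsIso ψ.τ₂ := by dsimp [ψ]; infer_instance
  have : Mono ψ.τ₃ := by dsimp [ψ]; infer_instance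
  have eS'' : S''.Exact := (ShortComplex.exact_iff_of_epi_of_isIso_of_mono ψ).1 eS'
  have hS : S''.ShortExact := ShortComplex.ShortExact.mk' eS'' hm he
  exact P.prop_X₂_of_shortExact hS hc hk

end five

section derived

open DerivedCategory

variable {C : Type u} [Category.{v} C] [Abelian C] [HasDerivedCategory.{w} C]
  (P : ObjectProperty C) [WSerre.IsWeakSerre P]

lemma cohIn_of_iso {X Y : DerivedCategory C} (e : X ≅ Y) (h : WSerre.cohIn P X) :
    WSerre.cohIn P Y := fun i =>
  P.prop_of_iso ((homologyFunctor C i).mapIso e) (h i)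

lemma cohIn_of_isZero {X : DerivedCategory C} (hX : IsZero X) : WSerre.cohIn P X := fun i =>
  P.prop_of_isZero ((homologyFunctor C i).map_isZero hX)

lemma cohIn_shift {X : DerivedCategory C} (n : ℤ) (h : WSerre.cohIn P X) :
    WSerre.cohIn P (X⟦n⟧) := fun i =>
  P.prop_of_iso (((homologyFunctor C 0).shiftIso n i (n + i) rfl).app X).symm (h (n + i))

/-- `D_P(C)` is closed under extensions in distinguished triangles. -/
lemma cohIn_obj₂ (T : Triangle (DerivedCategory C)) (hT : T ∈ distTriang _)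
    (h₁ : WSerre.cohIn P T.obj₁) (h₃ : WSerre.cohIn P T.obj₃) : WSerre.cohIn P T.obj₂ := by
  intro i
  exact prop_of_five_term P _ _ _ _ _ _ _
    (HomologySequence.exact₁ T hT (i - 1) i (by omega))
    (HomologySequence.exact₂ T hT i)
    (HomologySequence.exact₃ T hT i (i + 1) rfl)
    (h₃ (i - 1)) (h₁ i) (h₃ i) (h₁ (i + 1))

lemma cohIn_single (M : C) (hM : P M) : WSerre.cohIn P ((singleFunctor C 0).obj M) := by
  intro i
  by_cases hi : i = 0
  · subst hi
    exact P.prop_of_iso ((singleFunctorCompHomologyFunctorIso C 0).app M).symm hM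
  · refine P.prop_of_isZero ?_
    rcases lt_or_gt_of_ne hi with h | h
    · exact isZero_of_isGE ((singleFunctor C 0).obj M) 0 i h
    · exact isZero_of_isLE ((singleFunctor C 0).obj M) 0 i h

end derived

end Groth.Agent.H1.WSerreTri
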