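import Groth.Agent.Lib.Helper1.WayOut
import Groth.Agent.Lib.Helper1.WSerreTri

set_option autoImplicit false
set_option linter.unusedSectionVars false

universe w w' v v' u u'

open CategoryTheory Category Limits Pretriangulated

namespace Groth.Agent.H1.WayOutCoh

open Groth.Agent.H1.TriNat Groth.Agent.H1.WayOut Groth.Agent.H1.WSerreTri DerivedCategory

variable {A : Type u} [Category.{v} A] [Abelian A] [HasDerivedCategory.{w} A]
  {B : Type u'} [Category.{v'} B] [Abelian B] [HasDerivedCategory.{w'} B]
  (H : DerivedCategory A ⥤ DerivedCategory B) [H.CommShift ℤ] [H.IsTriangulated]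

/-- for a left t-exact triangulated functor `H`, `H^i(H(τ_{≤ j} X)) → H^i(H X)` is an
isomorphism for `i ≤ j`. -/
lemma isIso_homology_map_truncLEι
    (hH : ∀ (X : DerivedCategory A) (n : ℤ), X.IsGE n → (H.obj X).IsGE n)
    (X : DerivedCategory A) (j i : ℤ) (hi : i ≤ j) :
    IsIso ((homologyFunctor B i).map (H.map ((TStructure.t.truncLEι j).app X))) := by
  let t : Triangulated.TStructure (DerivedCategory A) := TStructure.t
  let T := (t.triangleLEGE j (j + 1) rfl).obj X
  have hT : T ∈ distTriang _ := t.triangleLEGE_distinguished j (j + 1) rfl X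
  have h3GE : T.obj₃.IsGE (j + 1) := by
    change t.IsGE ((t.truncGE (j + 1)).obj X) (j + 1)
    infer_instance
  have hT' := H.map_distinguished T hT
  have : (H.obj T.obj₃).IsGE (j + 1) := hH _ _ h3GE
  exact isIso_homology_mor₁ _ hT' i (isZero_of_isGE (H.obj T.obj₃) (j + 1) i (by omega))
    (isZero_of_isGE (H.obj T.obj₃) (j + 1) (i - 1) (by omega))

lemma isIso_homology_truncLEι (X : DerivedCategory A) (j i : ℤ) (hi : i ≤ j) :
    IsIso ((homologyFunctor A i).map ((TStructure.t.truncLEι j).app X)) :=
  isIso_homology_map_truncLEι (𝟭 _) (fun _ _ h => h) X j i hi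

variable (P : ObjectProperty B) [WSerre.IsWeakSerre P]

/-- dévissage for `D_P`: bounded case -/
theorem cohIn_map_of_bounded (X : DerivedCategory A) (a b : ℤ) [X.IsGE a] [X.IsLE b]
    (h : ∀ i : ℤ, WSerre.cohIn P
      (H.obj ((singleFunctor A 0).obj ((homologyFunctor A i).obj X)))) :
    WSerre.cohIn P (H.obj X) := by
  refine Groth.Agent.Lib.helper23.Devissage.devissage_homology
    (fun X => WSerre.cohIn P (H.obj X)) (fun X Y e hX => cohIn_of_iso P (H.mapIso e) hX)
    (fun X hX => cohIn_of_isZero P (H.map_isZero hX))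
    (fun X n hX => cohIn_of_iso P ((H.commShiftIso n).app X).symm (cohIn_shift P n hX))
    (fun T hT h₁ h₃ => cohIn_obj₂ P (H.mapTriangle.obj T) (H.map_distinguished T hT) h₁ h₃)
    (b - a + 1).toNat b X ?_ ?_ h
  · intro i hi
    exact isZero_of_isLE X b i hi
  · intro i hi
    exact isZero_of_isGE X a i (by omega)

/-- way-out for `D_P`: bounded below case, for a left t-exact triangulated functor -/
theorem cohIn_map_of_isGE
    (hH : ∀ (X : DerivedCategory A) (n : ℤ), X.IsGE n → (H.obj X).IsGE n)
    (X : DerivedCategory A) (n₀ : ℤ) [X.IsGE n₀]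
    (h : ∀ i : ℤ, WSerre.cohIn P
      (H.obj ((singleFunctor A 0).obj ((homologyFunctor A i).obj X)))) :
    WSerre.cohIn P (H.obj X) := by
  intro j
  let t : Triangulated.TStructure (DerivedCategory A) := TStructure.t
  let X' := (t.truncLE j).obj X
  let ι : X' ⟶ X := (t.truncLEι j).app X
  have hX'GE : X'.IsGE n₀ := by
    change t.IsGE ((t.truncLE j).obj X) n₀
    infer_instance
  have hX'LE : X'.IsLE j := by
    change t.IsLE ((t.truncLE j).obj X) j
    infer_instance
  have c3 : WSerre.cohIn P (H.obj X') := by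
    refine cohIn_map_of_bounded H P X' n₀ j ?_
    intro i
    by_cases hi : i ≤ j
    · have := isIso_homology_truncLEι X j i hi
      exact cohIn_of_iso P (H.mapIso ((singleFunctor A 0).mapIso
        (asIso ((homologyFunctor A i).map ι))).symm) (h i)
    · exact cohIn_of_isZero P (H.map_isZero
        (Functor.map_isZero _ (isZero_of_isLE X' j i (by omega))))
  have := isIso_homology_map_truncLEι H hH X j j le_rfl
  exact P.prop_of_iso (asIso ((homologyFunctor B j).map (H.map ι))) (c3 j)

end Groth.Agent.H1.WayOutCoh
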