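import Groth.Agent.Lib.Helper1.TriFF
import Groth.Agent.Lib.Helper1.AdjExact
import Groth.Agent.Lib.Helper1.WayOutCoh

set_option autoImplicit false
set_option linter.unusedSectionVars false

universe w w' v v' u u'

open CategoryTheory Category Limits Pretriangulated

namespace Groth.Agent.H1.BddEquiv

open Groth.Agent.H1.FiveHom Groth.Agent.H1.TriFF Groth.Agent.H1.WSerreTri
  Groth.Agent.H1.AdjExact DerivedCategory

section cohInBdd

variable {A : Type u} [Category.{v} A] [Abelian A] [HasDerivedCategory.{w} A]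
  (P : ObjectProperty A) [WSerre.IsWeakSerre P]

lemma cohInBdd_of_iso {X Y : DerivedCategory A} (e : X ≅ Y) (h : WSerre.cohInBdd P X) :
    WSerre.cohInBdd P Y :=
  ⟨cohIn_of_iso P e h.1, (TStructure.t.bounded).prop_of_iso e h.2⟩

lemma cohInBdd_of_isZero {X : DerivedCategory A} (hX : IsZero X) : WSerre.cohInBdd P X :=
  ⟨cohIn_of_isZero P hX, (TStructure.t.bounded).prop_of_isZero hX⟩

lemma cohInBdd_shift {X : DerivedCategory A} (n : ℤ) (h : WSerre.cohInBdd P X) :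
    WSerre.cohInBdd P (X⟦n⟧) :=
  ⟨cohIn_shift P n h.1, (TStructure.t.bounded).le_shift n _ h.2⟩

lemma cohInBdd_obj₂ (T : Triangle (DerivedCategory A)) (hT : T ∈ distTriang _)
    (h₁ : WSerre.cohInBdd P T.obj₁) (h₃ : WSerre.cohInBdd P T.obj₃) :
    WSerre.cohInBdd P T.obj₂ :=
  ⟨cohIn_obj₂ P T hT h₁.1 h₃.1,
    (TStructure.t.bounded).ext_of_isTriangulatedClosed₂ T hT h₁.2 h₃.2⟩

lemma cohInBdd_single (M : A) (hM : P M) :
    WSerre.cohInBdd P ((singleFunctor A 0).obj M) :=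
  ⟨cohIn_single P M hM, ⟨0, inferInstance⟩, ⟨0, inferInstance⟩⟩

end cohInBdd

section main

variable {A : Type u} [Category.{v} A] [Abelian A] [HasDerivedCategory.{w} A]
  {B : Type u'} [Category.{v'} B] [Abelian B] [HasDerivedCategory.{w'} B]
  (Φ : A ⥤ B) [Φ.Additive] [PreservesFiniteLimits Φ] [PreservesFiniteColimits Φ]
  (PA : ObjectProperty A) [WSerre.IsWeakSerre PA] (PB : ObjectProperty B) [WSerre.IsWeakSerre PB]

lemma exists_bounds {X : DerivedCategory A} (h : WSerre.cohInBdd PA X) :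
    ∃ a b : ℤ, X.IsGE a ∧ X.IsLE b := by
  obtain ⟨_, ⟨a, ha⟩, ⟨b, hb⟩⟩ := h
  exact ⟨a, b, ha, hb⟩

include PA in
/-- dévissage on bounded objects with cohomology in `PA` -/
lemma devissage_bdd (Pr : DerivedCategory A → Prop)
    (hiso : ∀ X Y : DerivedCategory A, (X ≅ Y) → Pr X → Pr Y)
    (hzero : ∀ X : DerivedCategory A, IsZero X → Pr X)
    (hshift : ∀ (X : DerivedCategory A) (n : ℤ), Pr X → Pr (X⟦n⟧))
    (hext : ∀ T : Triangle (DerivedCategory A), T ∈ distTriang _ → Pr T.obj₁ → Pr T.obj₃ →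
      Pr T.obj₂)
    (hsingle : ∀ F : A, PA F → Pr ((singleFunctor A 0).obj F))
    (X : DerivedCategory A) (hX : WSerre.cohInBdd PA X) : Pr X := by
  obtain ⟨a, b, ha, hb⟩ := exists_bounds PA hX
  refine Groth.Agent.Lib.helper23.Devissage.devissage_homology Pr hiso hzero hshift hext
    (b - a + 1).toNat b X ?_ ?_ (fun i => hsingle _ (hX.1 i))
  · intro i hi
    exact isZero_of_isLE X b i hi
  · intro i hi
    exact isZero_of_isGE X a i (by omega)

/-- (a) `Φ` maps `D^b_{PA}` to `D^b_{PB}` -/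
lemma cohInBdd_map (h1 : ∀ F : A, PA F → PB (Φ.obj F)) (K : DerivedCategory A)
    (hK : WSerre.cohInBdd PA K) : WSerre.cohInBdd PB (Φ.mapDerivedCategory.obj K) := by
  obtain ⟨hc, ⟨a, ha⟩, ⟨b, hb⟩⟩ := hK
  refine ⟨fun i => PB.prop_of_iso (homologyMapIso Φ K i).symm (h1 _ (hc i)),
    ⟨a, isGE_map Φ K a ha⟩, ⟨b, isLE_map Φ K b hb⟩⟩

variable (h2 : ∀ F F' : A, PA F → PA F' → ∀ n : ℤ,
  BF Φ.mapDerivedCategory ((singleFunctor A 0).obj F) (((singleFunctor A 0).obj F')⟦n⟧))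

include h2 in
lemma ff_single (F : A) (hF : PA F) (M : DerivedCategory A) (hM : WSerre.cohInBdd PA M) :
    FF Φ.mapDerivedCategory ((singleFunctor A 0).obj F) M := by
  refine devissage_bdd PA
    (fun M => ∀ F : A, PA F → FF Φ.mapDerivedCategory ((singleFunctor A 0).obj F) M)
    (fun X Y e h F hF => (h F hF).of_iso_right e)
    (fun X hX F hF => FF.of_isZero_right hX)
    (fun X n h F hF => (h F hF).shift_right n)
    (fun T hT h₁ h₃ F hF => FF.triangle_right T hT (h₁ F hF) (h₃ F hF))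
    (fun F' hF' F hF n => h2 F F' hF hF' n) M hM F hF

include h2 in
/-- (b) `Φ` is fully faithful on `D^b_{PA}` (all shifts) -/
lemma ff (K M : DerivedCategory A) (hK : WSerre.cohInBdd PA K) (hM : WSerre.cohInBdd PA M) :
    FF Φ.mapDerivedCategory K M := by
  refine devissage_bdd PA
    (fun K => ∀ M : DerivedCategory A, WSerre.cohInBdd PA M → FF Φ.mapDerivedCategory K M)
    (fun X Y e h M hM => (h M hM).of_iso_left e)
    (fun X hX M hM => FF.of_isZero_left hX)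
    (fun X n h M hM => (h M hM).shift_left n)
    (fun T hT h₁ h₃ M hM => FF.triangle_left T hT (h₁ M hM) (h₃ M hM))
    (fun F hF M hM => ff_single Φ PA h2 F hF M hM) K hK M hM

include h2 in
/-- (c) essential surjectivity onto `D^b_{PB}` -/
lemma essSurj (hes : ∀ N : B, PB N → ∃ F : A, PA F ∧ Nonempty (Φ.obj F ≅ N))
    (M : DerivedCategory B) (hM : WSerre.cohInBdd PB M) :
    ∃ K : DerivedCategory A, WSerre.cohInBdd PA K ∧
      Nonempty (Φ.mapDerivedCategory.obj K ≅ M) := by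
  refine devissage_bdd PB
    (fun M => ∃ K : DerivedCategory A, WSerre.cohInBdd PA K ∧
      Nonempty (Φ.mapDerivedCategory.obj K ≅ M)) ?_ ?_ ?_ ?_ ?_ M hM
  · rintro X Y e ⟨K, hK, ⟨e'⟩⟩
    exact ⟨K, hK, ⟨e' ≪≫ e⟩⟩
  · intro X hX
    obtain ⟨Z, hZ⟩ : ∃ Z : DerivedCategory A, IsZero Z := ⟨_, isZero_zero _⟩
    exact ⟨Z, cohInBdd_of_isZero PA hZ, ⟨(Φ.mapDerivedCategory.map_isZero hZ).iso hX⟩⟩
  · rintro X n ⟨K, hK, ⟨e'⟩⟩
    exact ⟨K⟦n⟧, cohInBdd_shift PA n hK,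
      ⟨(Φ.mapDerivedCategory.commShiftIso n).app K ≪≫ (shiftFunctor _ n).mapIso e'⟩⟩
  · rintro T hT ⟨K₁, hK₁, ⟨e₁⟩⟩ ⟨K₃, hK₃, ⟨e₃⟩⟩
    let L := Φ.mapDerivedCategory
    let δ' : L.obj K₃ ⟶ L.obj (K₁⟦(1 : ℤ)⟧) :=
      e₃.hom ≫ T.mor₃ ≫ (e₁.inv)⟦(1 : ℤ)⟧' ≫ (L.commShiftIso (1 : ℤ)).inv.app K₁
    obtain ⟨δ, hδ⟩ := (ff Φ PA h2 K₃ (K₁⟦(1 : ℤ)⟧) hK₃ (cohInBdd_shift PA 1 hK₁)).bf.2 δ'
    dsimp at hδ
    obtain ⟨K₂, f, g, hT'⟩ := distinguished_cocone_triangle₂ δ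
    have hK₂ : WSerre.cohInBdd PA K₂ := cohInBdd_obj₂ PA (Triangle.mk f g δ) hT' hK₁ hK₃
    have hLT' := L.map_distinguished _ hT'
    have comm : (L.mapTriangle.obj (Triangle.mk f g δ)).mor₃ ≫ (e₁.hom)⟦(1 : ℤ)⟧' =
        e₃.hom ≫ T.mor₃ := by
      change (L.map δ ≫ (L.commShiftIso (1 : ℤ)).hom.app K₁) ≫ (e₁.hom)⟦(1 : ℤ)⟧' = _
      rw [hδ]
      simp only [δ', assoc, Iso.inv_hom_id_app_assoc]
      rw [← CategoryTheory.Functor.map_comp, e₁.inv_hom_id, CategoryTheory.Functor.map_id,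
        comp_id]
    obtain ⟨b, hb₁, hb₂⟩ := complete_distinguished_triangle_morphism₂ _ T hLT' hT
      e₁.hom e₃.hom comm
    let φ : L.mapTriangle.obj (Triangle.mk f g δ) ⟶ T :=
      { hom₁ := e₁.hom
        hom₂ := b
        hom₃ := e₃.hom
        comm₁ := hb₁
        comm₂ := hb₂
        comm₃ := comm }
    have hb : IsIso φ.hom₂ := isIso₂_of_isIso₁₃ φ hLT' hT
      (by dsimp [φ]; infer_instance) (by dsimp [φ]; infer_instance)
    exact ⟨K₂, hK₂, ⟨@asIso _ _ _ _ φ.hom₂ hb⟩⟩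
  · intro N hN
    obtain ⟨F, hF, ⟨e⟩⟩ := hes N hN
    exact ⟨(singleFunctor A 0).obj F, cohInBdd_single PA F hF,
      ⟨(Φ.mapDerivedCategorySingleFunctor 0).app F ≪≫ (singleFunctor B 0).mapIso e⟩⟩

end main

end Groth.Agent.H1.BddEquiv
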