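import Mathlib

/-!
# Beck–Chevalley isomorphism for slice categories and big-site base change (helper1)
-/

set_option autoImplicit false

namespace Groth.Agent.H1.BigBC

open CategoryTheory Limits

universe v u

section Over

variable {C : Type u} [Category.{v} C] [HasPullbacks C]
  {T S T' S' : C} {f : T ⟶ S} {g : S' ⟶ S} {g' : T' ⟶ T} {f' : T' ⟶ S'}

/-- the pasted pullback square -/
theorem isPullback_paste (c : IsPullback g' f' f g) (V : Over S') :
    IsPullback (pullback.fst V.hom f') (pullback.snd V.hom f' ≫ g') (V.hom ≫ g) f :=
  ((IsPullback.of_hasPullback V.hom f').flip.paste_horiz c).flip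

/-- the comparison isomorphism of objects -/
noncomputable def objIso (c : IsPullback g' f' f g) (V : Over S') :
    pullback V.hom f' ≅ pullback (V.hom ≫ g) f :=
  (isPullback_paste c V).isoPullback

@[reassoc (attr := simp)]
theorem objIso_hom_fst (c : IsPullback g' f' f g) (V : Over S') :
    (objIso c V).hom ≫ pullback.fst (V.hom ≫ g) f = pullback.fst V.hom f' :=
  (isPullback_paste c V).isoPullback_hom_fst

@[reassoc (attr := simp)]
theorem objIso_hom_snd (c : IsPullback g' f' f g) (V : Over S') :
    (objIso c V).hom ≫ pullback.snd (V.hom ≫ g) f = pullback.snd V.hom f' ≫ g' :=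
  (isPullback_paste c V).isoPullback_hom_snd

/-- Beck–Chevalley for slice categories: base change along `f` after composing with `g` is
base change along `f'` followed by composing with `g'`. -/
noncomputable def overBC (c : IsPullback g' f' f g) :
    Over.pullback f' ⋙ Over.map g' ≅ Over.map g ⋙ Over.pullback f :=
  NatIso.ofComponents (fun V => Over.isoMk (objIso c V) (by simp)) (by
    intro V W m
    ext
    apply pullback.hom_ext
    · simp
      rw [pullback.lift_fst, pullback.lift_fst, objIso_hom_fst_assoc]
    · simp
      rw [pullback.lift_snd_assoc, pullback.lift_snd, objIso_hom_snd])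

end Over

end Groth.Agent.H1.BigBC
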