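import Groth.Agent.Lib.Helper1.BigSmallBC
import Groth.Agent.Lib.Helper5.FinitePush

/-!
# The direct image along a finite morphism is exact on the big étale site (helper1)
-/

set_option autoImplicit false
universe u

namespace Groth.Agent.H1.BigPushEpi

open CategoryTheory CategoryTheory.Limits Opposite AlgebraicGeometry
open Groth.Agent.H1.PullGerm Groth.Agent.H1.BigSmall Groth.Agent.H1.BigBC Groth.Agent.H1.BigSmallBC

local notation "Et" => Scheme.etalePrecoverage

variable {T S T' V : Scheme.{u}} (f : T ⟶ S) (j : V ⟶ S) (f' : T' ⟶ V) (j' : T' ⟶ T)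
  (h : IsPullback j' f' f j)

theorem kappa_natural {A B : BigSite.Ab Et T} (e : A ⟶ B) :
    (rho j).map ((BigSite.pushBig Et f AddCommGrpCat.{u + 1}).map e) ≫ (kappa f j f' j' h B).hom =
      (kappa f j f' j' h A).hom ≫ (EtCoh.push f').map ((rho j').map e) := by
  apply Sheaf.hom_ext
  ext U : 2
  exact (e.hom.naturality ((Ebc f j f' j' h).hom.app U.unop).op).symm

theorem rho_preservesEpi : (rho j).PreservesEpimorphisms := by
  have h1 : (BigSite.pullBig Et j AddCommGrpCat.{u + 1}).PreservesEpimorphisms :=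
    Functor.preservesEpimorphisms_of_adjunction (BigSite.bigAdj Et j AddCommGrpCat.{u + 1})
  have h2 : (BigSite.resEt Et V).PreservesEpimorphisms :=
    Functor.preservesEpimorphisms_of_adjunction (BigSite.iEtAdj Et V)
  infer_instance

include h in
theorem epi_rho_pushBig [IsFinite f] {A B : BigSite.Ab Et T} (e : A ⟶ B) [Epi e] :
    Epi ((rho j).map ((BigSite.pushBig Et f AddCommGrpCat.{u + 1}).map e)) := by
  have hf' : IsFinite f' := Groth.Agent.S0621.isFinite_of_isPullback f j f' j' h
  have h1 := rho_preservesEpi j'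
  have h2 := Groth.Agent.Lib.helper5.FinitePush.preservesEpimorphisms_push_of_isFinite f'
  have h3 : Epi ((rho j').map e) := inferInstance
  have h4 : Epi ((EtCoh.push f').map ((rho j').map e)) := inferInstance
  have e1 : (rho j).map ((BigSite.pushBig Et f AddCommGrpCat.{u + 1}).map e) =
      ((kappa f j f' j' h A).hom ≫ (EtCoh.push f').map ((rho j').map e)) ≫
        (kappa f j f' j' h B).inv := by
    rw [← kappa_natural, Category.assoc, Iso.hom_inv_id, Category.comp_id]
  rw [e1]
  infer_instance

theorem epi_of_rho {A B : BigSite.Ab Et S} (m : A ⟶ B)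
    (hm : ∀ (V : Scheme.{u}) (j : V ⟶ S), Epi ((rho j).map m)) : Epi m := by
  apply Abelian.epi_of_cokernel_π_eq_zero
  apply Sheaf.hom_ext
  ext W : 2
  induction W using Opposite.rec with | _ W => ?_
  have h1 := hm W.left W.hom
  have h0 : (rho W.hom).map m ≫ (rho W.hom).map (cokernel.π m) = 0 := by
    rw [← Functor.map_comp, cokernel.condition, Functor.map_zero]
  have h2 : (rho W.hom).map (cokernel.π m) = 0 := by
    rw [← cancel_epi ((rho W.hom).map m), h0, comp_zero]
  have h3 : (cokernel.π m).hom.app (op ((Over.map W.hom).obj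
      ((EtFppf.a W.left).obj (EtCoh.top W.left)))) = 0 :=
    congrArg (fun t => t.hom.app (op (EtCoh.top W.left))) h2
  rw [app_eq_of_eW (cokernel.π m) W, h3]
  simp

theorem preservesEpi_pushBig [IsFinite f] :
    (BigSite.pushBig Et f AddCommGrpCat.{u + 1}).PreservesEpimorphisms :=
  ⟨fun e _ => epi_of_rho _ (fun _ j =>
    epi_rho_pushBig f j (pullback.snd f j) (pullback.fst f j) (IsPullback.of_hasPullback f j) e)⟩

theorem preservesHomology_pushBig [IsFinite f] :
    (BigSite.pushBig Et f AddCommGrpCat.{u + 1}).PreservesHomology := by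
  have := preservesEpi_pushBig f
  exact Groth.Agent.Lib.helper5.FinitePush.preservesHomology_of_rightAdjoint_of_preservesEpi
    (BigSite.pushBig Et f AddCommGrpCat.{u + 1}) (BigSite.bigAdj Et f AddCommGrpCat.{u + 1})

theorem isZero_RpushBig [IsFinite f] (H : BigSite.Ab Et T) (q : ℕ) (hq : 1 ≤ q) :
    IsZero ((BigSite.RpushBig Et f q).obj H) := by
  have := preservesHomology_pushBig f
  obtain ⟨n, rfl⟩ : ∃ n, q = n + 1 := ⟨q - 1, by omega⟩
  exact Groth.Agent.Lib.helper5.FinitePush.isZero_rightDerived_succ_of_preservesHomology _ n H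

end Groth.Agent.H1.BigPushEpi
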