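import Mathlib

/-!
# Fully faithful continuous and cocontinuous functors between sites (helper1)

For `u : C ⥤ D` fully faithful, continuous and cocontinuous, in the adjoint triple
`u_s ⊣ u^s ⊣ u_*` (`sheafPullback ⊣ sheafPushforwardContinuous ⊣ sheafPushforwardCocontinuous`)
the counit `u^s u_* ⟶ 𝟭` and the unit `𝟭 ⟶ u^s u_s` are isomorphisms.
-/

set_option autoImplicit false

namespace Groth.Agent.H1.FFSite

open CategoryTheory Limits

universe v₁ v₂ v₃ u₁ u₂ u₃

variable {C : Type u₁} [Category.{v₁} C] {D : Type u₂} [Category.{v₂} D]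
  (J : GrothendieckTopology C) (K : GrothendieckTopology D) (u : C ⥤ D)
  [u.Full] [u.Faithful] [u.IsContinuous J K] [u.IsCocontinuous J K]
  (A : Type u₃) [Category.{v₃} A]
  [∀ (F : Cᵒᵖ ⥤ A), u.op.HasPointwiseRightKanExtension F]

instance isIso_counit_app (F : Sheaf J A) :
    IsIso ((u.sheafAdjunctionCocontinuous A J K).counit.app F) := by
  have h : IsIso ((sheafToPresheaf J A).map ((u.sheafAdjunctionCocontinuous A J K).counit.app F)) := by
    change IsIso ((u.sheafAdjunctionCocontinuous A J K).counit.app F).hom
    rw [Functor.sheafAdjunctionCocontinuous_counit_app_hom]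
    have h1 : IsIso ((u.op.ranAdjunction A).counit.app F.obj) := inferInstance
    exact h1
  exact isIso_of_reflects_iso _ (sheafToPresheaf J A)

instance isIso_counit : IsIso (u.sheafAdjunctionCocontinuous A J K).counit :=
  NatIso.isIso_of_isIso_app _

variable [(u.sheafPushforwardContinuous A J K).IsRightAdjoint]

instance isIso_unit : IsIso (u.sheafAdjunctionContinuous A J K).unit := by
  let t : Adjunction.Triple (u.sheafPullback A J K) (u.sheafPushforwardContinuous A J K)
      (u.sheafPushforwardCocontinuous A J K) :=
    { adj₁ := u.sheafAdjunctionContinuous A J K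
      adj₂ := u.sheafAdjunctionCocontinuous A J K }
  exact t.isIso_unit_iff_isIso_counit.2 (isIso_counit J K u A)

end Groth.Agent.H1.FFSite
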