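import Mathlib

/-!
# Germs and the inverse image of a point (helper1)

Compatibility of Mathlib's `Point.sheafFiberComapIso` with the canonical maps to the fibres.
-/

set_option autoImplicit false

namespace Groth.Agent.H1.ComapGerm

open CategoryTheory Limits Opposite GrothendieckTopology

universe w v

section

variable {C : Type*} [Category* C] {J : GrothendieckTopology C} (Ψ : Point.{w} J)
  {A : Type*} [Category.{v} A] [HasProducts.{w} A] [HasColimitsOfSize.{w, w} A]

theorem germ_counit (M : A) (V : C) (y : Ψ.fiber.obj V) :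
    Ψ.toPresheafFiber V y (Ψ.skyscraperPresheaf M) ≫ Ψ.skyscraperSheafAdjunction.counit.app M =
      Pi.π (fun _ : Ψ.fiber.obj V => M) y := by
  have h0 : Ψ.skyscraperSheafAdjunction.counit.app M =
      (Ψ.skyscraperSheafAdjunction.homEquiv (Ψ.skyscraperSheaf M) M).symm (𝟙 _) := by
    rw [Adjunction.homEquiv_counit]
    simp
  have h1 : (Ψ.skyscraperSheafAdjunction.homEquiv (Ψ.skyscraperSheaf M) M).symm (𝟙 _) =
      Ψ.skyscraperPresheafHomEquiv.symm (𝟙 (Ψ.skyscraperPresheaf M)) :=
    Point.skyscraperSheafAdjunction_homEquiv_symm_apply Ψ (F := Ψ.skyscraperSheaf M) (M := M) (𝟙 _)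
  have h2 := Point.toPresheafFiber_skyscraperPresheafHomEquiv_symm Ψ
    (𝟙 (Ψ.skyscraperPresheaf M)) V y
  rw [NatTrans.id_app, Category.id_comp] at h2
  rw [h0, h1]
  exact h2

theorem unit_germ (P : Sheaf J A) (V : C) (y : Ψ.fiber.obj V) :
    (Ψ.skyscraperSheafAdjunction.unit.app P).hom.app (op V) ≫
      Pi.π (fun _ : Ψ.fiber.obj V => Ψ.sheafFiber.obj P) y = Ψ.toPresheafFiber V y P.obj := by
  have h0 : Ψ.skyscraperSheafAdjunction.unit.app P =
      Ψ.skyscraperSheafAdjunction.homEquiv P (Ψ.sheafFiber.obj P) (𝟙 _) :=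
    (Adjunction.homEquiv_id _ _).symm
  have h1 : (Ψ.skyscraperSheafAdjunction.homEquiv P (Ψ.sheafFiber.obj P) (𝟙 _)).hom =
      Ψ.skyscraperPresheafHomEquiv (𝟙 (Ψ.presheafFiber.obj P.obj)) :=
    Point.skyscraperSheafAdjunction_homEquiv_apply_hom Ψ (F := P)
      (M := Ψ.presheafFiber.obj P.obj) (𝟙 _)
  have h2 := Point.skyscraperPresheafHomEquiv_app_π Ψ (𝟙 (Ψ.presheafFiber.obj P.obj)) V y
  rw [Category.comp_id] at h2
  rw [h0]
  exact (congrArg (fun t => t.app (op V) ≫ Pi.π (fun _ : Ψ.fiber.obj V => Ψ.sheafFiber.obj P) y)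
    h1).trans h2

end

section

variable {C D : Type*} [Category* C] [Category* D]
  {K : GrothendieckTopology D}
  (Φ : Point.{w} K) (F : C ⥤ D) [RepresentablyFlat F] {J : GrothendieckTopology C}
  (hF : CoverPreserving J K F)
  [InitiallySmall (F ⋙ Φ.fiber).Elements]
  (A : Type*) [Category.{v} A] [HasProducts.{w} A]
  [Functor.IsContinuous F J K]
  [(F.sheafPushforwardContinuous A J K).IsRightAdjoint]
  [HasColimitsOfSize.{w, w} A]

theorem toPresheafFiber_comap_hom (G : Sheaf J A) (V : C) (y : (Φ.comap F hF).fiber.obj V) :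
    (Φ.comap F hF).toPresheafFiber V y G.obj ≫ (Φ.sheafFiberComapIso F hF A).hom.app G =
      ((F.sheafAdjunctionContinuous A J K).unit.app G).hom.app (op V) ≫
        Φ.toPresheafFiber (F.obj V) y ((F.sheafPullback A J K).obj G).obj := by
  rw [Point.sheafFiberComapIso_hom_app]
  change (Φ.comap F hF).toPresheafFiber V y G.obj ≫
    (Φ.comap F hF).presheafFiber.map ((F.sheafAdjunctionContinuous A J K).unit.app G).hom ≫
    (Φ.comap F hF).presheafFiber.map ((F.sheafPushforwardContinuous A J K).map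
      (Φ.skyscraperSheafAdjunction.unit.app ((F.sheafPullback A J K).obj G))).hom ≫
    (Φ.comap F hF).presheafFiber.map
      ((Φ.skyscraperSheafFunctorCompSheafPushforwardContinuous F hF A).hom.app
        (Φ.sheafFiber.obj ((F.sheafPullback A J K).obj G))).hom ≫
    (Φ.comap F hF).skyscraperSheafAdjunction.counit.app
      (Φ.sheafFiber.obj ((F.sheafPullback A J K).obj G)) = _
  rw [Point.toPresheafFiber_naturality_assoc, Point.toPresheafFiber_naturality_assoc,
    Point.toPresheafFiber_naturality_assoc]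
  have h1 := germ_counit (Φ.comap F hF) (Φ.sheafFiber.obj ((F.sheafPullback A J K).obj G)) V y
  have h2 := unit_germ Φ ((F.sheafPullback A J K).obj G) (F.obj V) y
  congr 1
  rw [← h2]
  congr 1
  exact (congrArg (fun t => ((Φ.skyscraperSheafFunctorCompSheafPushforwardContinuous F hF A).hom.app
      (Φ.sheafFiber.obj ((F.sheafPullback A J K).obj G))).hom.app (op V) ≫ t) h1).trans
    (Category.id_comp _)

end

end Groth.Agent.H1.ComapGerm
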