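import Groth.Agent.Lib.Helper1.EtStalkPull
import Groth.Agent.Lib.Helper1.ComapGerm

/-!
# Germs of inverse images of étale sheaves (helper1)

For `f : X ⟶ Y`, a geometric point `ξ` of `X` and an abelian étale sheaf `G` on `Y`, the explicit
isomorphism `τ : G_{ξ ≫ f} ≅ (f⁻¹ G)_ξ`, given on germs by `germ (V, v, s) ↦ germ (V ×_Y X, (v, ξ), unit s)`.
-/

set_option autoImplicit false
universe u

namespace Groth.Agent.H1.PullGerm

open CategoryTheory CategoryTheory.Limits Opposite GrothendieckTopology AlgebraicGeometry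
open Groth.Agent.H1.EtStalk Groth.Agent.H1.EtGerm Groth.Agent.H1.EtStalkPull

variable {X Y : Scheme.{u}} (f : X ⟶ Y) {Ω : Type u} [Field Ω] [IsSepClosed Ω]

section Plain

variable {V W X Y T : Scheme.{u}}

theorem plain_fst_comp (vh : V ⟶ Y) (f : X ⟶ Y) (l : T ⟶ pullback vh f) (ξ : T ⟶ X) (η : T ⟶ Y)
    (e2 : l ≫ pullback.snd vh f = ξ) (h : ξ ≫ f = η) : (l ≫ pullback.fst vh f) ≫ vh = η := by
  rw [Category.assoc, pullback.condition, ← Category.assoc, e2, h]

theorem plain_ext (vh : V ⟶ Y) (f : X ⟶ Y) (l l' : T ⟶ pullback vh f)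
    (h1 : l ≫ pullback.fst vh f = l' ≫ pullback.fst vh f)
    (h2 : l ≫ pullback.snd vh f = l' ≫ pullback.snd vh f) : l = l' :=
  pullback.hom_ext h1 h2

end Plain

section Lifts

variable (ξ : Spec (CommRingCat.of Ω) ⟶ X) {η : Spec (CommRingCat.of Ω) ⟶ Y} (h : ξ ≫ f = η)

theorem bc_obj_hom (V : Y.Etale) : ((EtCoh.bc f).obj V).hom = pullback.snd V.hom f := rfl

/-- the canonical lift `(v, ξ)` of `ξ` to `V ×_Y X` -/
noncomputable def liftBc {V : Y.Etale} (v : Lift η V) : Lift ξ ((EtCoh.bc f).obj V) :=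
  Lift.mk ξ (pullback.lift v.hom ξ (by rw [v.hom_comp, h])) (pullback.lift_snd _ _ _)

/-- the `V`-component of a lift of `ξ` to `V ×_Y X` -/
noncomputable def fstLift {V : Y.Etale} (y : Lift ξ ((EtCoh.bc f).obj V)) : Lift η V :=
  Lift.mk η (y.hom ≫ pullback.fst V.hom f)
    (plain_fst_comp V.hom f y.hom ξ η y.hom_comp h)

theorem liftBc_hom_fst {V : Y.Etale} (v : Lift η V) :
    (liftBc f ξ h v).hom ≫ pullback.fst V.hom f = v.hom := pullback.lift_fst _ _ _

theorem liftBc_hom_snd {V : Y.Etale} (v : Lift η V) :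
    (liftBc f ξ h v).hom ≫ pullback.snd V.hom f = ξ := pullback.lift_snd _ _ _

theorem fstLift_hom {V : Y.Etale} (y : Lift ξ ((EtCoh.bc f).obj V)) :
    (fstLift f ξ h y).hom = y.hom ≫ pullback.fst V.hom f := rfl

theorem fstLift_liftBc {V : Y.Etale} (v : Lift η V) : fstLift f ξ h (liftBc f ξ h v) = v :=
  Lift.ext (pullback.lift_fst _ _ _)

theorem liftBc_fstLift {V : Y.Etale} (y : Lift ξ ((EtCoh.bc f).obj V)) :
    liftBc f ξ h (fstLift f ξ h y) = y := by
  apply Lift.ext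
  refine plain_ext V.hom f _ _ ?_ ?_
  · exact (liftBc_hom_fst f ξ h _).trans (fstLift_hom f ξ h y)
  · exact (liftBc_hom_snd f ξ h _).trans y.hom_comp.symm

theorem bc_map_left_fst {V W : Y.Etale} (g : W ⟶ V) :
    ((EtCoh.bc f).map g).left ≫ pullback.fst V.hom f = pullback.fst W.hom f ≫ g.left := by
  dsimp [EtCoh.bc]
  exact pullback.lift_fst _ _ _

theorem bc_map_left_snd {V W : Y.Etale} (g : W ⟶ V) :
    ((EtCoh.bc f).map g).left ≫ pullback.snd V.hom f = pullback.snd W.hom f := by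
  dsimp [EtCoh.bc]
  exact pullback.lift_snd _ _ _

theorem fstLift_map {V W : Y.Etale} (g : W ⟶ V) (y : Lift ξ ((EtCoh.bc f).obj W)) :
    fstLift f ξ h (Lift.map ((EtCoh.bc f).map g) y) = Lift.map g (fstLift f ξ h y) := by
  apply Lift.ext
  change (y.hom ≫ ((EtCoh.bc f).map g).left) ≫ pullback.fst V.hom f =
    (y.hom ≫ pullback.fst W.hom f) ≫ g.left
  exact (Category.assoc _ _ _).trans ((congrArg (y.hom ≫ ·) (bc_map_left_fst f g)).trans
    (Category.assoc _ _ _).symm)

theorem liftBc_map {V W : Y.Etale} (g : W ⟶ V) (w : Lift η W) :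
    Lift.map ((EtCoh.bc f).map g) (liftBc f ξ h w) = liftBc f ξ h (Lift.map g w) := by
  rw [← liftBc_fstLift f ξ h (Lift.map ((EtCoh.bc f).map g) (liftBc f ξ h w)), fstLift_map,
    fstLift_liftBc]

end Lifts

section Tau

variable (ξ : Spec (CommRingCat.of Ω) ⟶ X)

theorem initiallySmall_bc :
    InitiallySmall.{u} (EtCoh.bc f ⋙ (Scheme.pointSmallEtale ξ).fiber).Elements := by
  let Ψ := Scheme.pointSmallEtale (ξ ≫ f)
  let e := Groth.Agent.S0100.fiberIso f ξ
  have : InitiallySmall.{u} Ψ.fiber.Elements := Ψ.initiallySmall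
  let E := Cat.equivOfIso (Functor.elementsFunctor.mapIso e.symm)
  let F : Ψ.fiber.Elements ⥤ (EtCoh.bc f ⋙ (Scheme.pointSmallEtale ξ).fiber).Elements := E.functor
  have : F.IsEquivalence := E.isEquivalence_functor
  exact initiallySmall_of_initial_of_initiallySmall F

/-- the point of `Y_et` with fibre functor `V ↦ {lifts of ξ to V ×_Y X}` -/
noncomputable def comapPt : Point.{u} Y.smallEtaleTopology :=
  haveI := initiallySmall_bc f ξ
  (Scheme.pointSmallEtale ξ).comap (EtCoh.bc f) (EtCoh.coverPreserving_bc f)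

/-- Mathlib's identification of the stalk of a pullback with the fibre at the inverse image point -/
noncomputable def comapIso :
    (comapPt f ξ).sheafFiber (A := AddCommGrpCat.{u + 1}) ≅ EtCoh.pull f ⋙ EtCoh.stalk ξ :=
  haveI := initiallySmall_bc f ξ
  (Scheme.pointSmallEtale ξ).sheafFiberComapIso (EtCoh.bc f) (EtCoh.coverPreserving_bc f)
    AddCommGrpCat.{u + 1}

/-- the image in `(f⁻¹G)(V ×_Y X)` of a section of `G` over `V` -/
noncomputable def usec (G : EtCoh.Ab Y) (V : Y.Etale) :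
    G.obj.obj (op V) →+ ((EtCoh.pull f).obj G).obj.obj (op ((EtCoh.bc f).obj V)) :=
  (((EtCoh.pullPushAdj f).unit.app G).hom.app (op V)).hom

theorem usec_res (G : EtCoh.Ab Y) {V W : Y.Etale} (g : W ⟶ V) (s : G.obj.obj (op V)) :
    usec f G W (G.obj.map g.op s) =
      ((EtCoh.pull f).obj G).obj.map ((EtCoh.bc f).map g).op (usec f G V s) :=
  NatTrans.naturality_apply ((EtCoh.pullPushAdj f).unit.app G).hom g.op s

theorem comapIso_germ (G : EtCoh.Ab Y) (V : Y.Etale) (y : Lift ξ ((EtCoh.bc f).obj V))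
    (s : G.obj.obj (op V)) :
    (comapIso f ξ).hom.app G ((comapPt f ξ).toPresheafFiber V y G.obj s) =
      germ ξ ((EtCoh.pull f).obj G) ((EtCoh.bc f).obj V) y (usec f G V s) := by
  have := initiallySmall_bc f ξ
  have h := Groth.Agent.H1.ComapGerm.toPresheafFiber_comap_hom (Scheme.pointSmallEtale ξ)
    (EtCoh.bc f) (EtCoh.coverPreserving_bc f) AddCommGrpCat.{u + 1} G V y
  exact ConcreteCategory.congr_hom h s

variable {η : Spec (CommRingCat.of Ω) ⟶ Y} (h : ξ ≫ f = η)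

/-- the germ at `ξ` of the pullback of a section of `G` -/
noncomputable def pgerm (G : EtCoh.Ab Y) (V : Y.Etale) (y : Lift ξ ((EtCoh.bc f).obj V)) :
    G.obj.obj (op V) →+ (EtCoh.stalk ξ).obj ((EtCoh.pull f).obj G) :=
  (germ ξ ((EtCoh.pull f).obj G) ((EtCoh.bc f).obj V) y).comp (usec f G V)

theorem pgerm_res (G : EtCoh.Ab Y) {V W : Y.Etale} (g : W ⟶ V)
    (y : Lift ξ ((EtCoh.bc f).obj W)) (s : G.obj.obj (op V)) :
    pgerm f ξ G W y (G.obj.map g.op s) = pgerm f ξ G V (Lift.map ((EtCoh.bc f).map g) y) s := by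
  change germ ξ _ _ y (usec f G W (G.obj.map g.op s)) = germ ξ _ _ _ (usec f G V s)
  rw [usec_res, germ_res]

theorem pgerm_surjective (G : EtCoh.Ab Y) (p : (EtCoh.stalk ξ).obj ((EtCoh.pull f).obj G)) :
    ∃ (V : Y.Etale) (y : Lift ξ ((EtCoh.bc f).obj V)) (s : G.obj.obj (op V)),
      pgerm f ξ G V y s = p := by
  have hiso : IsIso ((comapIso f ξ).hom.app G) := inferInstance
  obtain ⟨b, rfl⟩ := (ConcreteCategory.bijective_of_isIso ((comapIso f ξ).hom.app G)).2 p
  obtain ⟨V, y, s, rfl⟩ := (comapPt f ξ).toPresheafFiber_jointly_surjective b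
  exact ⟨V, y, s, (comapIso_germ f ξ G V y s).symm⟩

theorem pgerm_eq_zero (G : EtCoh.Ab Y) (V : Y.Etale) (y : Lift ξ ((EtCoh.bc f).obj V))
    (s : G.obj.obj (op V)) (hs : pgerm f ξ G V y s = 0) :
    ∃ (W : Y.Etale) (g : W ⟶ V) (w : Lift ξ ((EtCoh.bc f).obj W)),
      Lift.map ((EtCoh.bc f).map g) w = y ∧ G.obj.map g.op s = 0 := by
  have hiso : IsIso ((comapIso f ξ).hom.app G) := inferInstance
  have h1 : (comapIso f ξ).hom.app G ((comapPt f ξ).toPresheafFiber V y G.obj s) =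
      (comapIso f ξ).hom.app G ((comapPt f ξ).toPresheafFiber V y G.obj 0) := by
    rw [comapIso_germ, comapIso_germ]
    change pgerm f ξ G V y s = pgerm f ξ G V y 0
    rw [hs, map_zero]
  have h2 := (ConcreteCategory.bijective_of_isIso ((comapIso f ξ).hom.app G)).1 h1
  obtain ⟨W, g, w, hw, hg⟩ := ((comapPt f ξ).toPresheafFiber_eq_iff' V y s 0).1 h2
  refine ⟨W, g, w, hw, ?_⟩
  rw [hg]
  exact map_zero _

/-- the comparison map `G_{ξ ≫ f} ⟶ (f⁻¹G)_ξ` -/
noncomputable def tau (G : EtCoh.Ab Y) :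
    (EtCoh.stalk η).obj G ⟶ (EtCoh.stalk ξ).obj ((EtCoh.pull f).obj G) :=
  (Scheme.pointSmallEtale η).presheafFiberDesc (P := G.obj)
    (fun V v => AddCommGrpCat.ofHom (pgerm f ξ G V (liftBc f ξ h v))) (by
      intro W V g w
      ext s
      change pgerm f ξ G W (liftBc f ξ h w) (G.obj.map g.op s) = pgerm f ξ G V (liftBc f ξ h _) s
      rw [pgerm_res, liftBc_map])

theorem tau_germ (G : EtCoh.Ab Y) (V : Y.Etale) (v : Lift η V) (s : G.obj.obj (op V)) :
    tau f ξ h G (germ η G V v s) = pgerm f ξ G V (liftBc f ξ h v) s := by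
  have := (Scheme.pointSmallEtale η).toPresheafFiber_presheafFiberDesc (P := G.obj)
    (fun V v => AddCommGrpCat.ofHom (pgerm f ξ G V (liftBc f ξ h v))) (by
      intro W V g w
      ext s
      change pgerm f ξ G W (liftBc f ξ h w) (G.obj.map g.op s) = pgerm f ξ G V (liftBc f ξ h _) s
      rw [pgerm_res, liftBc_map]) V v
  exact ConcreteCategory.congr_hom this s

theorem tau_bijective (G : EtCoh.Ab Y) : Function.Bijective (tau f ξ h G) := by
  constructor
  · rw [← AddMonoidHom.coe_coe, injective_iff_map_eq_zero]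
    intro q hq
    obtain ⟨V, v, s, rfl⟩ := germ_surjective G q
    change tau f ξ h G (germ η G V v s) = 0 at hq
    rw [tau_germ] at hq
    obtain ⟨W, g, w, hw, hg⟩ := pgerm_eq_zero f ξ G V _ s hq
    have h1 : Lift.map g (fstLift f ξ h w) = v := by
      rw [← fstLift_map, hw, fstLift_liftBc]
    rw [← h1, ← germ_res, hg, map_zero]
  · intro p
    obtain ⟨V, y, s, rfl⟩ := pgerm_surjective f ξ G p
    refine ⟨germ η G V (fstLift f ξ h y) s, ?_⟩
    rw [tau_germ, liftBc_fstLift]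

end Tau

end Groth.Agent.H1.PullGerm
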