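import Groth.Prelude.Def_BigSite
import Groth.Agent.Lib.Helper1.FFSite
import Groth.Agent.Lib.Helper1.PullGerm
import Groth.Agent.S6184

/-!
# Comparing small and big étale sites (helper1)
-/

set_option autoImplicit false
universe u

namespace Groth.Agent.H1.BigSmall

open CategoryTheory CategoryTheory.Limits Opposite AlgebraicGeometry
open Groth.Agent.H1.PullGerm

variable {V S : Scheme.{u}} (j : V ⟶ S)

local notation "Et" => Scheme.etalePrecoverage

/-- restriction to the small site commutes with direct images -/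
noncomputable def gammaIso :
    BigSite.pushBig Et j AddCommGrpCat.{u + 1} ⋙ BigSite.resEt Et S ≅ BigSite.resEt Et V ⋙ EtCoh.push j :=
  Iso.refl _

/-- the adjunction `π_S⁻¹ ⋙ j_big⁻¹ ⊣ j_big,* ⋙ res_S`, with right adjoint written `res_V ⋙ j_*` -/
noncomputable def adjA :
    BigSite.piEtPull Et S ⋙ BigSite.pullBig Et j AddCommGrpCat.{u + 1} ⊣
      BigSite.resEt Et V ⋙ EtCoh.push j :=
  (BigSite.piEtAdj Et S).comp (BigSite.bigAdj Et j AddCommGrpCat.{u + 1})

theorem adjA_unit_app (G : EtCoh.Ab S) :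
    (adjA j).unit.app G = (BigSite.piEtAdj Et S).unit.app G ≫
      (BigSite.resEt Et S).map
        ((BigSite.bigAdj Et j AddCommGrpCat.{u + 1}).unit.app ((BigSite.piEtPull Et S).obj G)) :=
  Adjunction.comp_unit_app _ _ _

/-- the adjunction `j⁻¹ ⋙ π_V⁻¹ ⊣ res_V ⋙ j_*` -/
noncomputable def adjB :
    EtCoh.pull j ⋙ BigSite.piEtPull Et V ⊣ BigSite.resEt Et V ⋙ EtCoh.push j :=
  (EtCoh.pullPushAdj j).comp (BigSite.piEtAdj Et V)

theorem adjB_unit_app (G : EtCoh.Ab S) :
    (adjB j).unit.app G = (EtCoh.pullPushAdj j).unit.app G ≫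
      (EtCoh.push j).map ((BigSite.piEtAdj Et V).unit.app ((EtCoh.pull j).obj G)) :=
  Adjunction.comp_unit_app _ _ _

/-- `j_big⁻¹ π_S⁻¹ ≅ π_V⁻¹ j_small⁻¹` -/
noncomputable def psiIso :
    BigSite.piEtPull Et S ⋙ BigSite.pullBig Et j AddCommGrpCat.{u + 1} ≅
      EtCoh.pull j ⋙ BigSite.piEtPull Et V :=
  (adjA j).leftAdjointUniq (adjB j)

/-- the restriction to `V_et` of a sheaf on the big site of `S` -/
noncomputable abbrev rho : BigSite.Ab Et S ⥤ EtCoh.Ab V :=
  BigSite.pullBig Et j AddCommGrpCat.{u + 1} ⋙ BigSite.resEt Et V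

/-- `j⁻¹ G ≅ (π_S⁻¹ G)|_{V_et}` -/
noncomputable def omega (G : EtCoh.Ab S) :
    (EtCoh.pull j).obj G ≅ (rho j).obj ((BigSite.piEtPull Et S).obj G) :=
  haveI := (Groth.Agent.S6184.main V).2 ((EtCoh.pull j).obj G)
  asIso ((BigSite.piEtAdj Et V).unit.app ((EtCoh.pull j).obj G)) ≪≫
    (BigSite.resEt Et V).mapIso ((psiIso j).symm.app G)

theorem omega_hom (G : EtCoh.Ab S) :
    (omega j G).hom = (BigSite.piEtAdj Et V).unit.app ((EtCoh.pull j).obj G) ≫
      (BigSite.resEt Et V).map ((psiIso j).inv.app G) := rfl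

theorem unit_omega (G : EtCoh.Ab S) :
    (EtCoh.pullPushAdj j).unit.app G ≫ (EtCoh.push j).map (omega j G).hom =
      (adjA j).unit.app G := by
  have h := Adjunction.unit_leftAdjointUniq_hom_app (adjA j) (adjB j) G
  have h2 : (adjB j).unit.app G ≫
      (BigSite.resEt Et V ⋙ EtCoh.push j).map ((psiIso j).inv.app G) = (adjA j).unit.app G := by
    rw [← h, Category.assoc, ← Functor.map_comp]
    erw [Iso.hom_inv_id_app]
    rw [CategoryTheory.Functor.map_id]
    exact Category.comp_id _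
  rw [← h2, adjB_unit_app, omega_hom, Functor.map_comp, Category.assoc]
  rfl

/-- the unit of `π_S⁻¹ ⊣ res_S` on sections -/
noncomputable def unitS (G : EtCoh.Ab S) (U₀ : S.Etale) :
    G.obj.obj (op U₀) →+
      ((BigSite.piEtPull Et S).obj G).obj.obj (op ((EtFppf.a S).obj U₀)) :=
  (((BigSite.piEtAdj Et S).unit.app G).hom.app (op U₀)).hom

/-- the projection `(U₀ ×_S V → S) ⟶ (U₀ → S)` in `Over S` -/
noncomputable def mproj (U₀ : S.Etale) :
    (Over.map j).obj ((EtFppf.a V).obj ((EtCoh.bc j).obj U₀)) ⟶ (EtFppf.a S).obj U₀ :=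
  (Over.mapPullbackAdj j).counit.app ((EtFppf.a S).obj U₀)

theorem omega_usec (G : EtCoh.Ab S) (U₀ : S.Etale) (s : G.obj.obj (op U₀)) :
    (omega j G).hom.hom.app (op ((EtCoh.bc j).obj U₀)) (usec j G U₀ s) =
      ((BigSite.piEtPull Et S).obj G).obj.map (mproj j U₀).op (unitS G U₀ s) := by
  have h := unit_omega j G
  rw [adjA_unit_app] at h
  have h2 := congrArg (fun t => t.hom.app (op U₀)) h
  exact ConcreteCategory.congr_hom h2 s

end Groth.Agent.H1.BigSmall
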