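import Mathlib
import Groth.Agent.Lib.Helper5.FinSplit3

/-!
# Pointed étale-local splitting of a finite morphism at a geometric point (helper1)
-/

set_option autoImplicit false

namespace Groth.Agent.H1.FinStalkGeom

open AlgebraicGeometry CategoryTheory Limits
open Groth.Agent.Lib.helper13 Groth.Agent.Lib.helper5

universe u

/-- a geometric point with algebraically closed field lifts through any point of the fibre with
algebraic residue field extension -/
theorem exists_geomPt_of_isIntegral {P V : Scheme.{u}} (p : P ⟶ V) {Ω : Type u} [Field Ω]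
    [IsAlgClosed Ω] (v : Spec (.of Ω) ⟶ V) (x : P) (hx : p x = v default)
    (halg : (p.residueFieldMap x).hom.IsIntegral) :
    ∃ ζ : Spec (.of Ω) ⟶ P, ζ ≫ p = v ∧ ζ default = x := by
  obtain ⟨⟨s, a⟩, rfl⟩ := (Scheme.SpecToEquivOfField Ω V).symm.surjective v
  obtain rfl : p x = s := by simp [hx, Scheme.SpecToEquivOfField]
  let m := (p.residueFieldMap x).hom
  dsimp at m
  algebraize [m, a.hom]
  have : Algebra.IsAlgebraic (V.residueField (p x)) (P.residueField x) := by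
    have : Algebra.IsIntegral (V.residueField (p x)) (P.residueField x) := ⟨halg⟩
    infer_instance
  let b : P.residueField x →ₐ[V.residueField (p x)] Ω := IsAlgClosed.lift
  have : p.residueFieldMap x ≫ CommRingCat.ofHom b.toRingHom = a := by
    ext1; exact b.comp_algebraMap
  refine ⟨Spec.map (CommRingCat.ofHom b.toRingHom) ≫ P.fromSpecResidueField x, ?_, ?_⟩
  · simp [Scheme.SpecToEquivOfField, ← this]
    rfl
  · dsimp
    apply Scheme.fromSpecResidueField_apply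

/-- a geometric point is determined by its image point and its composite with a morphism which is
purely inseparable at that point -/
theorem geomPt_ext_of_isPurelyInseparable {P V : Scheme.{u}} (p : P ⟶ V) {Ω : Type u} [Field Ω]
    (ζ ζ' : Spec (.of Ω) ⟶ P) (h1 : ζ default = ζ' default) (h2 : ζ ≫ p = ζ' ≫ p)
    (hPI : (p.residueFieldMap (ζ default)).hom.IsPurelyInseparable) : ζ = ζ' := by
  obtain ⟨⟨x, a⟩, rfl⟩ := (Scheme.SpecToEquivOfField Ω P).symm.surjective ζ
  obtain ⟨⟨x', a'⟩, rfl⟩ := (Scheme.SpecToEquivOfField Ω P).symm.surjective ζ'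
  obtain rfl : x = x' := by simpa [Scheme.SpecToEquivOfField] using h1
  have hx : ((Scheme.SpecToEquivOfField Ω P).symm ⟨x, a⟩) default = x := by
    simp [Scheme.SpecToEquivOfField]
  suffices a = a' by rw [this]
  have h3 : (Scheme.SpecToEquivOfField Ω V).symm ⟨p x, p.residueFieldMap x ≫ a⟩ =
      (Scheme.SpecToEquivOfField Ω V).symm ⟨p x, p.residueFieldMap x ≫ a'⟩ := by
    simp only [Scheme.SpecToEquivOfField, Equiv.coe_fn_symm_mk, Spec.map_comp, Category.assoc,
      Scheme.Hom.SpecMap_residueFieldMap_fromSpecResidueField]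
    simpa [Scheme.SpecToEquivOfField] using h2
  have h4 := (Scheme.SpecToEquivOfField Ω V).symm.injective h3
  have h5 : p.residueFieldMap x ≫ a = p.residueFieldMap x ≫ a' := eq_of_heq (Sigma.mk.inj h4).2
  have hPI' : (p.residueFieldMap x).hom.IsPurelyInseparable := by
    rw [hx] at hPI; exact hPI
  let m := (p.residueFieldMap x).hom
  dsimp at m
  algebraize [m]
  have : IsPurelyInseparable (V.residueField (p x)) (P.residueField x) := hPI'
  ext1
  apply IsPurelyInseparable.injective_comp_algebraMap (V.residueField (p x)) (P.residueField x) Ω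
  have h6 := congrArg CommRingCat.Hom.hom h5
  exact h6


theorem range_geomPt {P : Scheme.{u}} {Ω : Type u} [Field Ω] (ζ : Spec (.of Ω) ⟶ P) :
    Set.range ζ = {ζ default} := by
  ext y
  constructor
  · rintro ⟨a, rfl⟩
    rw [Subsingleton.elim a default]
    rfl
  · rintro rfl
    exact ⟨default, rfl⟩

/-- lifting a geometric point through an open containing its image -/
theorem exists_lift_opens {P : Scheme.{u}} {Ω : Type u} [Field Ω] (ζ : Spec (.of Ω) ⟶ P)
    (W : P.Opens) (h : ζ default ∈ W) : ∃ ω : Spec (.of Ω) ⟶ (W : Scheme.{u}), ω ≫ W.ι = ζ := by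
  have hr : Set.range ζ ⊆ Set.range W.ι := by
    rw [range_geomPt, Scheme.Opens.range_ι]
    simpa using h
  exact ⟨IsOpenImmersion.lift W.ι ζ hr, IsOpenImmersion.lift_fac W.ι ζ hr⟩

theorem exists_pointed_split {P V U : Scheme.{u}} (p : P ⟶ V) [IsFinite p] (g : U ⟶ P) [Etale g]
    {Ω : Type u} [Field Ω] [IsAlgClosed Ω] (v : Spec (.of Ω) ⟶ V)
    {M : Type} [Finite M] (ζ : M → (Spec (.of Ω) ⟶ P)) (hζ : ∀ k, ζ k ≫ p = v)
    (hinj : Function.Injective ζ) (hsurj : ∀ ζ' : Spec (.of Ω) ⟶ P, ζ' ≫ p = v → ∃ k, ζ k = ζ')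
    (uu : M → (Spec (.of Ω) ⟶ U)) (hu : ∀ k, uu k ≫ g = ζ k) :
    ∃ (V₁ : Scheme.{u}) (e : V₁ ⟶ V) (_ : Etale e) (v₁ : Spec (.of Ω) ⟶ V₁) (hv₁ : v₁ ≫ e = v)
      (A : Type u) (_ : Finite A) (W : A → (pullback p e).Opens),
        (∀ a b, a ≠ b → Disjoint (W a) (W b)) ∧ (⨆ a, W a) = ⊤ ∧
        ∃ h : ∀ a, (W a : Scheme.{u}) ⟶ U, (∀ a, h a ≫ g = (W a).ι ≫ pullback.fst p e) ∧
          ∀ k, ∃ (a : A) (w : Spec (.of Ω) ⟶ (W a : Scheme.{u})),
            w ≫ (W a).ι = pullback.lift (ζ k) v₁ ((hζ k).trans hv₁.symm) ∧ w ≫ h a = uu k := by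
  classical
  set y : V := v default with hy
  have hcov : ∀ x, p x = y → x ∈ Set.range g := by
    intro x hx
    have hfin : (p.residueFieldMap x).hom.Finite :=
      EL.finite_residueFieldMap_of_quasiFiniteAt (Scheme.Hom.quasiFiniteAt _ _)
    obtain ⟨ζ', h1, h2⟩ := exists_geomPt_of_isIntegral p v x hx hfin.to_isIntegral
    obtain ⟨k, rfl⟩ := hsurj ζ' h1
    refine ⟨uu k default, ?_⟩
    rw [← h2, ← hu k, Scheme.Hom.comp_apply]
  have hm : ∀ k, p (g (uu k default)) = y := by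
    intro k
    rw [← Scheme.Hom.comp_apply, ← Scheme.Hom.comp_apply, ← Category.assoc, hu k, hζ k]
  obtain ⟨Y', e, y', he, hey, Y'', hy'', A, hA, W, z, hzW, hzy, huniq, hdisj, hcover, hPI, hσ,
    hmark⟩ := FinSplit.exists_split_pre p g y hcov (fun k => uu k default) hm
  obtain ⟨v', hv'e, hv'y⟩ := Scheme.exists_fac_of_etale_of_isSepClosed e v y' hey
  -- the geometric points upstairs
  have hcu : ∀ k, uu k ≫ (g ≫ p) = v' ≫ e := fun k => by rw [← Category.assoc, hu k, hζ k, hv'e]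
  have hcζ : ∀ k, ζ k ≫ p = v' ≫ e := fun k => by rw [hζ k, hv'e]
  let ut : ∀ k, Spec (.of Ω) ⟶ pullback (g ≫ p) e := fun k => pullback.lift (uu k) v' (hcu k)
  let zt : ∀ k, Spec (.of Ω) ⟶ pullback p e := fun k => pullback.lift (ζ k) v' (hcζ k)
  have hutΦ : ∀ k, ut k ≫ FinSplit.Φ p g e = zt k := by
    intro k
    apply pullback.hom_ext
    · rw [Category.assoc, WT.mapComp_fst, pullback.lift_fst_assoc, pullback.lift_fst, hu k]
    · rw [Category.assoc, WT.mapComp_snd, pullback.lift_snd, pullback.lift_snd]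
  have key : ∀ k, ∃ (a : A) (σ : (W a : Scheme.{u}) ⟶ pullback (g ≫ p) e)
      (ω : Spec (.of Ω) ⟶ (W a : Scheme.{u})), σ ≫ FinSplit.Φ p g e = (W a).ι ∧
        ω ≫ (W a).ι = zt k ∧ ω ≫ σ = ut k := by
    intro k
    have h1 : pullback.fst (g ≫ p) e (ut k default) = uu k default := by
      rw [← Scheme.Hom.comp_apply, pullback.lift_fst]
    have h2 : pullback.snd (g ≫ p) e (ut k default) = y' := by
      rw [← Scheme.Hom.comp_apply, pullback.lift_snd, hv'y]
    obtain ⟨a, σ, T, hσΦ, hΦw, hwT, hσT, hinjT⟩ := hmark k (ut k default) h1 h2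
    have h3 : zt k default = z a := by
      rw [← hutΦ k, Scheme.Hom.comp_apply, hΦw]
    obtain ⟨ω, hω⟩ := exists_lift_opens (zt k) (W a) (by rw [h3]; exact hzW a)
    refine ⟨a, σ, ω, hσΦ, hω, ?_⟩
    apply hinjT
    · intro t
      rw [Scheme.Hom.comp_apply]
      exact hσT _
    · intro t
      rw [Subsingleton.elim t default]
      exact hwT
    · intro t
      rw [← Scheme.Hom.comp_apply, Category.assoc, hσΦ]
      exact ((ω t)).2
    · rw [Category.assoc, hσΦ, hω, hutΦ k]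
  choose ak σk ωk hσk hωk hωσk using key
  have hzk : ∀ k, zt k default = z (ak k) := by
    intro k
    apply huniq (ak k)
    · rw [← hωk k, Scheme.Hom.comp_apply]
      exact (ωk k default).2
    · rw [← Scheme.Hom.comp_apply, pullback.lift_snd, hv'y]
  have akinj : Function.Injective ak := by
    intro k l hkl
    apply hinj
    have h1 : zt k default = zt l default := by rw [hzk k, hzk l, hkl]
    have h2 : zt k ≫ pullback.snd p e = zt l ≫ pullback.snd p e := by
      rw [pullback.lift_snd, pullback.lift_snd]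
    have h3 : ((pullback.snd p e).residueFieldMap (zt k default)).hom.IsPurelyInseparable := by
      rw [hzk k]
      exact hPI (ak k)
    have h4 := geomPt_ext_of_isPurelyInseparable (pullback.snd p e) (zt k) (zt l) h1 h2 h3
    have h5 : zt k ≫ pullback.fst p e = zt l ≫ pullback.fst p e := by rw [h4]
    rw [pullback.lift_fst, pullback.lift_fst] at h5
    exact h5
  have key2 : ∀ a, ∃ σ : (W a : Scheme.{u}) ⟶ pullback (g ≫ p) e,
      σ ≫ FinSplit.Φ p g e = (W a).ι ∧ ∀ k, ak k = a →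
        ∃ ω : Spec (.of Ω) ⟶ (W a : Scheme.{u}), ω ≫ (W a).ι = zt k ∧ ω ≫ σ = ut k := by
    intro a
    by_cases hex : ∃ k, ak k = a
    · obtain ⟨k, rfl⟩ := hex
      refine ⟨σk k, hσk k, fun l hl => ?_⟩
      obtain rfl := akinj hl
      exact ⟨ωk l, hωk l, hωσk l⟩
    · obtain ⟨σ, hσa⟩ := hσ a
      exact ⟨σ, hσa, fun k hk => (hex ⟨k, hk⟩).elim⟩
  choose σ' hσ' hσ'pt using key2
  -- restrict to `Y''`
  obtain ⟨v₁, hv₁⟩ := exists_lift_opens v' Y'' (by rw [hv'y]; exact hy'')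
  have hv₁e : v₁ ≫ Y''.ι ≫ e = v := by rw [← Category.assoc, hv₁, hv'e]
  refine ⟨Y'', Y''.ι ≫ e, inferInstance, v₁, hv₁e, A, hA,
    fun a => (UR.resMap p e Y'') ⁻¹ᵁ W a, ?_, ?_,
    fun a => (UR.resMap p e Y'' ∣_ W a) ≫ σ' a ≫ pullback.fst (g ≫ p) e, ?_, ?_⟩
  · intro a b hab
    rw [disjoint_iff, eq_bot_iff]
    rintro w ⟨hw, hw'⟩
    exfalso
    refine hdisj a b hab (UR.resMap p e Y'' w) hw hw' ?_
    rw [EL.refineMap_snd_apply]
    exact (pullback.snd p (Y''.ι ≫ e) w).2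
  · rw [eq_top_iff]
    intro w _
    have h1 : pullback.snd p e (UR.resMap p e Y'' w) ∈ Y'' := by
      rw [EL.refineMap_snd_apply]
      exact (pullback.snd p (Y''.ι ≫ e) w).2
    obtain ⟨a, ha⟩ := hcover _ h1
    exact TopologicalSpace.Opens.mem_iSup.mpr ⟨a, ha⟩
  · intro a
    have h1 : pullback.fst (g ≫ p) e ≫ g = FinSplit.Φ p g e ≫ pullback.fst p e :=
      (WT.mapComp_fst g p e).symm
    rw [Category.assoc, Category.assoc, h1, ← Category.assoc (σ' a), hσ' a, ← Category.assoc,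
      morphismRestrict_ι, Category.assoc, EL.refineMap_fst]
  · intro k
    obtain ⟨ω, hω1, hω2⟩ := hσ'pt (ak k) k rfl
    set ζ₁ : Spec (.of Ω) ⟶ pullback p (Y''.ι ≫ e) :=
      pullback.lift (ζ k) v₁ ((hζ k).trans hv₁e.symm) with hζ₁
    have h1 : ζ₁ ≫ UR.resMap p e Y'' = zt k := by
      apply pullback.hom_ext
      · rw [Category.assoc, EL.refineMap_fst, pullback.lift_fst, pullback.lift_fst]
      · rw [Category.assoc, EL.refineMap_snd, pullback.lift_snd_assoc, pullback.lift_snd, hv₁]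
    have h2 : ζ₁ default ∈ (UR.resMap p e Y'') ⁻¹ᵁ W (ak k) := by
      show UR.resMap p e Y'' (ζ₁ default) ∈ W (ak k)
      rw [← Scheme.Hom.comp_apply, h1, ← hω1, Scheme.Hom.comp_apply]
      exact (ω default).2
    obtain ⟨ω₁, hω₁⟩ := exists_lift_opens ζ₁ _ h2
    refine ⟨ak k, ω₁, hω₁, ?_⟩
    have h3 : ω₁ ≫ (UR.resMap p e Y'' ∣_ W (ak k)) = ω := by
      rw [← cancel_mono (W (ak k)).ι, Category.assoc, morphismRestrict_ι, ← Category.assoc, hω₁,
        h1, hω1]
    rw [← Category.assoc, h3, ← Category.assoc, hω2, pullback.lift_fst]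


/-- the set of geometric points of a finite morphism over a given geometric point is finite -/
theorem finite_geomPts {P V : Scheme.{u}} (p : P ⟶ V) [IsFinite p] {Ω : Type u} [Field Ω]
    [IsAlgClosed Ω] (v : Spec (.of Ω) ⟶ V) : Finite {ζ : Spec (.of Ω) ⟶ P // ζ ≫ p = v} := by
  classical
  obtain ⟨Y', e, y', he, hey, Y'', hy'', A, hA, W, z, hzW, hzy, huniq, hdisj, hcover, hPI, -, -⟩ :=
    FinSplit.exists_split_pre p (𝟙 P) (v default) (fun x _ => ⟨x, rfl⟩) (M := PEmpty)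
      (fun k => k.elim) (fun k => k.elim)
  obtain ⟨v', hv'e, hv'y⟩ := Scheme.exists_fac_of_etale_of_isSepClosed e v y' hey
  let zt : {ζ : Spec (.of Ω) ⟶ P // ζ ≫ p = v} → (Spec (.of Ω) ⟶ pullback p e) :=
    fun ζ => pullback.lift ζ.1 v' (by rw [ζ.2, hv'e])
  have hsnd : ∀ ζ, pullback.snd p e (zt ζ default) = y' := by
    intro ζ
    rw [← Scheme.Hom.comp_apply, pullback.lift_snd, hv'y]
  have hex : ∀ ζ, ∃ a, zt ζ default = z a := by
    intro ζ
    obtain ⟨a, ha⟩ := hcover (zt ζ default) (by rw [hsnd]; exact hy'')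
    exact ⟨a, huniq a _ ha (hsnd ζ)⟩
  choose ak hak using hex
  refine Finite.of_injective ak ?_
  intro ζ ζ' h
  have h1 : zt ζ default = zt ζ' default := by rw [hak ζ, hak ζ', h]
  have h2 : zt ζ ≫ pullback.snd p e = zt ζ' ≫ pullback.snd p e := by
    rw [pullback.lift_snd, pullback.lift_snd]
  have h3 : ((pullback.snd p e).residueFieldMap (zt ζ default)).hom.IsPurelyInseparable := by
    rw [hak ζ]
    exact hPI (ak ζ)
  have h4 := geomPt_ext_of_isPurelyInseparable (pullback.snd p e) (zt ζ) (zt ζ') h1 h2 h3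
  have h5 : zt ζ ≫ pullback.fst p e = zt ζ' ≫ pullback.fst p e := by rw [h4]
  rw [pullback.lift_fst, pullback.lift_fst] at h5
  exact Subtype.ext h5


/-- the base change map `V₁ ×_Y X ⟶ V₀ ×_Y X` induced by `e : V₁ ⟶ V₀` -/
noncomputable def bcMap {X Y V₀ V₁ : Scheme.{u}} (f : X ⟶ Y) (vh : V₀ ⟶ Y) (e : V₁ ⟶ V₀) :
    pullback (e ≫ vh) f ⟶ pullback vh f :=
  pullback.lift (pullback.fst (e ≫ vh) f ≫ e) (pullback.snd (e ≫ vh) f)
    (by rw [Category.assoc, pullback.condition])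

@[reassoc (attr := simp)]
theorem bcMap_fst {X Y V₀ V₁ : Scheme.{u}} (f : X ⟶ Y) (vh : V₀ ⟶ Y) (e : V₁ ⟶ V₀) :
    bcMap f vh e ≫ pullback.fst vh f = pullback.fst (e ≫ vh) f ≫ e := pullback.lift_fst _ _ _

@[reassoc (attr := simp)]
theorem bcMap_snd {X Y V₀ V₁ : Scheme.{u}} (f : X ⟶ Y) (vh : V₀ ⟶ Y) (e : V₁ ⟶ V₀) :
    bcMap f vh e ≫ pullback.snd vh f = pullback.snd (e ≫ vh) f := pullback.lift_snd _ _ _

/-- pointed splitting, in the form used for the small étale site: `V₀` is an étale neighbourhood of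
`η` in `Y`, `U` is étale over `V₀ ×_Y X` and carries a lift `u ξ` of every geometric point `ξ` of
`X` over `η`. -/
theorem exists_pointed_split_bc {X Y V₀ U : Scheme.{u}} (f : X ⟶ Y) [IsFinite f] (vh : V₀ ⟶ Y)
    (aU : U ⟶ pullback vh f) [Etale aU] {Ω : Type u} [Field Ω] [IsAlgClosed Ω]
    (η : Spec (.of Ω) ⟶ Y) (v₀ : Spec (.of Ω) ⟶ V₀) (hv₀ : v₀ ≫ vh = η)
    (u : {ξ : Spec (.of Ω) ⟶ X // ξ ≫ f = η} → (Spec (.of Ω) ⟶ U))
    (hu : ∀ ξ, u ξ ≫ aU = pullback.lift v₀ ξ.1 (by rw [hv₀, ξ.2])) :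
    ∃ (V₁ : Scheme.{u}) (e : V₁ ⟶ V₀) (_ : Etale e) (v₁ : Spec (.of Ω) ⟶ V₁) (hv₁ : v₁ ≫ e = v₀)
      (A : Type u) (_ : Finite A) (W : A → (pullback (e ≫ vh) f).Opens),
        (∀ a b, a ≠ b → Disjoint (W a) (W b)) ∧ (⨆ a, W a) = ⊤ ∧
        ∃ hh : ∀ a, (W a : Scheme.{u}) ⟶ U, (∀ a, hh a ≫ aU = (W a).ι ≫ bcMap f vh e) ∧
          ∀ ξ : {ξ : Spec (.of Ω) ⟶ X // ξ ≫ f = η},
            ∃ (a : A) (w : Spec (.of Ω) ⟶ (W a : Scheme.{u})),
              w ≫ (W a).ι = pullback.lift v₁ ξ.1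
                (by rw [← Category.assoc, hv₁, hv₀, ξ.2]) ∧ w ≫ hh a = u ξ := by
  classical
  have hfinΞ : Finite {ξ : Spec (.of Ω) ⟶ X // ξ ≫ f = η} := finite_geomPts f η
  let n := Nat.card {ξ : Spec (.of Ω) ⟶ X // ξ ≫ f = η}
  let en : {ξ : Spec (.of Ω) ⟶ X // ξ ≫ f = η} ≃ Fin n := Finite.equivFin _
  let p : pullback vh f ⟶ V₀ := pullback.fst vh f
  have hcζ : ∀ ξ : {ξ : Spec (.of Ω) ⟶ X // ξ ≫ f = η}, v₀ ≫ vh = ξ.1 ≫ f := fun ξ => by
    rw [hv₀, ξ.2]
  let ζ : Fin n → (Spec (.of Ω) ⟶ pullback vh f) := fun k =>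
    pullback.lift v₀ (en.symm k).1 (hcζ _)
  have hζ : ∀ k, ζ k ≫ p = v₀ := fun k => pullback.lift_fst _ _ _
  have hinj : Function.Injective ζ := by
    intro k l hkl
    have h1 : ζ k ≫ pullback.snd vh f = ζ l ≫ pullback.snd vh f := by rw [hkl]
    rw [pullback.lift_snd, pullback.lift_snd] at h1
    exact en.symm.injective (Subtype.ext h1)
  have hsurj : ∀ ζ' : Spec (.of Ω) ⟶ pullback vh f, ζ' ≫ p = v₀ → ∃ k, ζ k = ζ' := by
    intro ζ' hζ'
    have h1 : (ζ' ≫ pullback.snd vh f) ≫ f = η := by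
      rw [Category.assoc, ← pullback.condition, ← Category.assoc, hζ', hv₀]
    refine ⟨en ⟨ζ' ≫ pullback.snd vh f, h1⟩, ?_⟩
    apply pullback.hom_ext
    · rw [pullback.lift_fst, hζ']
    · rw [pullback.lift_snd, Equiv.symm_apply_apply]
  obtain ⟨V₁, e, he, v₁, hv₁, A, hA, W, hdisj, hcov, hh, hhg, hpt⟩ :=
    exists_pointed_split p aU v₀ ζ hζ hinj hsurj (fun k => u (en.symm k)) (fun k => hu _)
  -- the comparison isomorphism
  let θ : pullback p e ≅ pullback (e ≫ vh) f :=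
    pullbackSymmetry p e ≪≫ pullbackRightPullbackFstIso vh f e
  have hθfst : θ.hom ≫ pullback.fst (e ≫ vh) f = pullback.snd p e := by
    show (pullbackSymmetry p e ≪≫ pullbackRightPullbackFstIso vh f e).hom ≫ _ = _
    rw [Iso.trans_hom, Category.assoc, pullbackRightPullbackFstIso_hom_fst]
    exact pullbackSymmetry_hom_comp_fst _ _
  have hθsnd : θ.hom ≫ pullback.snd (e ≫ vh) f = pullback.fst p e ≫ pullback.snd vh f := by
    show (pullbackSymmetry p e ≪≫ pullbackRightPullbackFstIso vh f e).hom ≫ _ = _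
    rw [Iso.trans_hom, Category.assoc, pullbackRightPullbackFstIso_hom_snd, ← Category.assoc]
    congr 1
    exact pullbackSymmetry_hom_comp_snd _ _
  have hθbc : θ.inv ≫ pullback.fst p e = bcMap f vh e := by
    rw [Iso.inv_comp_eq]
    apply pullback.hom_ext
    · rw [Category.assoc, bcMap_fst, ← Category.assoc, hθfst, pullback.condition]
    · rw [Category.assoc, bcMap_snd, hθsnd]
  refine ⟨V₁, e, he, v₁, hv₁, A, hA, fun a => θ.inv ⁻¹ᵁ W a, ?_, ?_,
    fun a => (θ.inv ∣_ W a) ≫ hh a, ?_, ?_⟩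
  · intro a b hab
    rw [disjoint_iff, eq_bot_iff]
    rintro w ⟨hw, hw'⟩
    have := (hdisj a b hab).le_bot ⟨hw, hw'⟩
    exact this.elim
  · rw [eq_top_iff]
    intro w _
    have h1 : θ.inv w ∈ (⨆ a, W a : (pullback p e).Opens) := by rw [hcov]; trivial
    obtain ⟨a, ha⟩ := TopologicalSpace.Opens.mem_iSup.mp h1
    exact TopologicalSpace.Opens.mem_iSup.mpr ⟨a, ha⟩
  · intro a
    rw [Category.assoc, hhg a, ← Category.assoc, morphismRestrict_ι, Category.assoc, hθbc]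
  · intro ξ
    obtain ⟨a, w, hw1, hw2⟩ := hpt (en ξ)
    have hξ : en.symm (en ξ) = ξ := Equiv.symm_apply_apply en ξ
    have hw1' : w ≫ (W a).ι ≫ pullback.fst p e = pullback.lift v₀ ξ.1 (hcζ ξ) := by
      rw [← Category.assoc, hw1, pullback.lift_fst]
      show pullback.lift v₀ (en.symm (en ξ)).1 _ = _
      congr 1
      rw [hξ]
    have hw1'' : w ≫ (W a).ι ≫ pullback.snd p e = v₁ := by
      rw [← Category.assoc, hw1, pullback.lift_snd]
    set ζ₁ : Spec (.of Ω) ⟶ pullback (e ≫ vh) f := w ≫ (W a).ι ≫ θ.hom with hζ₁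
    have hζ₁inv : ζ₁ ≫ θ.inv = w ≫ (W a).ι := by
      rw [hζ₁, Category.assoc, Category.assoc, Iso.hom_inv_id, Category.comp_id]
    have hmem : ζ₁ default ∈ θ.inv ⁻¹ᵁ W a := by
      show θ.inv (ζ₁ default) ∈ W a
      rw [← Scheme.Hom.comp_apply, hζ₁inv, Scheme.Hom.comp_apply]
      exact (w default).2
    obtain ⟨ω, hω⟩ := exists_lift_opens ζ₁ _ hmem
    refine ⟨a, ω, ?_, ?_⟩
    · rw [hω]
      apply pullback.hom_ext
      · rw [pullback.lift_fst, hζ₁, Category.assoc, Category.assoc, hθfst, hw1'']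
      · rw [pullback.lift_snd, hζ₁, Category.assoc, Category.assoc, hθsnd, ← Category.assoc,
          ← Category.assoc, Category.assoc w, hw1', pullback.lift_snd]
    · have h3 : ω ≫ (θ.inv ∣_ W a) = w := by
        rw [← cancel_mono (W a).ι, Category.assoc, morphismRestrict_ι, ← Category.assoc, hω,
          hζ₁inv]
      rw [← Category.assoc, h3, hw2, hξ]

end Groth.Agent.H1.FinStalkGeom
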