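import Groth.Agent.Lib.Helper1.PullGerm
import Groth.Agent.Lib.Helper1.FinStalkGeom
import Groth.Agent.Lib.Helper1.ClosedDense

/-!
# Stalks of the direct image along a finite morphism (helper1)

For `f : X ⟶ Y` finite, `η` a geometric point of `Y` with algebraically closed field and `F` an abelian
étale sheaf on `X`: the map `(f_* F)_η ⟶ ∏_{ξ over η} F_ξ` is bijective (in "section form":
`inj` and `surj`).
-/

set_option autoImplicit false
universe u

namespace Groth.Agent.H1.FinStalk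

open CategoryTheory CategoryTheory.Limits Opposite GrothendieckTopology AlgebraicGeometry
open Groth.Agent.H1.EtStalk Groth.Agent.H1.EtGerm Groth.Agent.H1.PullGerm
  Groth.Agent.H1.FinStalkGeom

variable {X : Scheme.{u}}

section Glue

variable (F : EtCoh.Ab X)

theorem mono_of_isOpenImmersion {T W Z : X.Etale} (j : W ⟶ T) [IsOpenImmersion j.left]
    (g₁ g₂ : Z ⟶ W) (h : g₁ ≫ j = g₂ ≫ j) : g₁ = g₂ := by
  apply MorphismProperty.Over.Hom.ext
  have h' : g₁.left ≫ j.left = g₂.left ≫ j.left := congrArg (fun k => k.left) h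
  exact (cancel_mono j.left).mp h'

/-- gluing sections over a family of pairwise disjoint open immersions covering `T` -/
theorem existsUnique_glue (T : X.Etale) {A : Type*} (W : A → X.Etale) (j : ∀ a, W a ⟶ T)
    (hoi : ∀ a, IsOpenImmersion (j a).left)
    (hdisj : ∀ a b, a ≠ b → Disjoint (Set.range (j a).left.base) (Set.range (j b).left.base))
    (hcov : ∀ x : T.left, ∃ a, x ∈ Set.range (j a).left.base)
    (t : ∀ a, F.obj.obj (op (W a))) :
    ∃! s : F.obj.obj (op T), ∀ a, F.obj.map (j a).op s = t a := by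
  classical
  have hmem : Sieve.generate (Presieve.ofArrows W j) ∈ X.smallEtaleTopology T := by
    apply Groth.Agent.H1.ClosedDense.mem_smallEtaleTopology
    intro x
    obtain ⟨a, y, hy⟩ := hcov x
    exact ⟨W a, j a, y, ⟨_, 𝟙 _, j a, Presieve.ofArrows.mk a, Category.id_comp _⟩, hy⟩
  have hsh : Presieve.IsSheafFor (F.obj ⋙ forget AddCommGrpCat) (Presieve.ofArrows W j) := by
    rw [Presieve.isSheafFor_iff_generate]
    exact ((isSheaf_iff_isSheaf_of_type _ _).1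
      ((Presheaf.isSheaf_iff_isSheaf_forget _ F.obj (forget _)).1 F.property)) _ hmem
  rw [Presieve.isSheafFor_arrows_iff] at hsh
  have hx : Presieve.Arrows.Compatible (F.obj ⋙ forget AddCommGrpCat) j t := by
    intro a b Z ga gb hg
    by_cases hab : a = b
    · subst hab
      have := hoi a
      rw [mono_of_isOpenImmersion (j a) ga gb hg]
    · have : IsEmpty Z.left := by
        constructor
        intro z
        have h' : ga.left ≫ (j a).left = gb.left ≫ (j b).left := congrArg (fun k => k.left) hg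
        have h1 : (ga.left ≫ (j a).left).base z ∈ Set.range (j a).left.base :=
          ⟨ga.left.base z, rfl⟩
        have h2 : (ga.left ≫ (j a).left).base z ∈ Set.range (j b).left.base := by
          rw [h']
          exact ⟨gb.left.base z, rfl⟩
        exact (Set.disjoint_left.mp (hdisj a b hab)) h1 h2
      exact (subsingleton_of_isEmpty F Z).elim _ _
  obtain ⟨s, hs, hsu⟩ := hsh t hx
  exact ⟨s, hs, fun s' hs' => hsu s' hs'⟩

theorem eq_zero_of_cover (T : X.Etale) {A : Type*} (W : A → X.Etale) (j : ∀ a, W a ⟶ T)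
    (hoi : ∀ a, IsOpenImmersion (j a).left)
    (hdisj : ∀ a b, a ≠ b → Disjoint (Set.range (j a).left.base) (Set.range (j b).left.base))
    (hcov : ∀ x : T.left, ∃ a, x ∈ Set.range (j a).left.base)
    (s : F.obj.obj (op T)) (hs : ∀ a, F.obj.map (j a).op s = 0) : s = 0 := by
  obtain ⟨s₀, -, hu⟩ := existsUnique_glue F T W j hoi hdisj hcov (fun _ => 0)
  rw [hu s hs, hu 0 (fun a => map_zero _)]

/-- the coproduct of a family of étale `X`-schemes mapping to `T`, as an object of the small étale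
site -/
theorem exists_coprod {ι : Type u} (T : X.Etale) (U : ι → X.Etale) (a : ∀ i, U i ⟶ T) :
    ∃ (S : X.Etale) (inc : ∀ i, U i ⟶ S) (b : S ⟶ T), (∀ i, inc i ≫ b = a i) ∧
      (∀ i, IsOpenImmersion (inc i).left) ∧
      (∀ i k, i ≠ k → Disjoint (Set.range (inc i).left.base) (Set.range (inc k).left.base)) ∧
      (∀ x : S.left, ∃ i, x ∈ Set.range (inc i).left.base) := by
  let g : ι → Scheme.{u} := fun i => (U i).left
  let d : ∀ i, g i ⟶ X := fun i => (U i).hom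
  have hd : ∀ i, AlgebraicGeometry.Etale (d i) := fun i => (U i).prop
  have : AlgebraicGeometry.Etale (Sigma.desc d) :=
    IsZariskiLocalAtSource.sigmaDesc (P := @AlgebraicGeometry.Etale) hd
  let S : X.Etale := Scheme.Etale.mk (Sigma.desc d)
  let inc : ∀ i, U i ⟶ S := fun i =>
    MorphismProperty.Over.homMk (Sigma.ι g i) (Sigma.ι_desc d i) trivial
  have hb : Sigma.desc (fun i => (a i).left) ≫ T.hom = Sigma.desc d := by
    apply Sigma.hom_ext
    intro i
    rw [Sigma.ι_desc_assoc, Sigma.ι_desc]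
    exact MorphismProperty.Over.w (a i)
  let b : S ⟶ T := MorphismProperty.Over.homMk (Sigma.desc (fun i => (a i).left)) hb trivial
  refine ⟨S, inc, b, ?_, ?_, ?_, ?_⟩
  · intro i
    apply MorphismProperty.Over.Hom.ext
    exact Sigma.ι_desc _ i
  · intro i
    exact inferInstanceAs (IsOpenImmersion (Sigma.ι g i))
  · intro i k hik
    have h := disjoint_opensRange_sigmaι g i k hik
    rw [Set.disjoint_left]
    rintro x ⟨y, rfl⟩ ⟨y', hy'⟩
    exact (disjoint_iff.mp h).le ⟨⟨y, rfl⟩, ⟨y', hy'⟩⟩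
  · intro x
    obtain ⟨⟨i, y⟩, hy⟩ := (sigmaMk g).surjective x
    rw [sigmaMk_mk] at hy
    exact ⟨i, y, hy⟩

end Glue

section Split

variable {Y : Scheme.{u}} (f : X ⟶ Y)

theorem plain_hh_over {V₀ V₁ U' X' Y' W' : Scheme.{u}} (f : X' ⟶ Y') (vh : V₀ ⟶ Y') (e : V₁ ⟶ V₀)
    (aU : U' ⟶ pullback vh f) (uh : U' ⟶ X') (hU : aU ≫ pullback.snd vh f = uh)
    (ι : W' ⟶ pullback (e ≫ vh) f) (hh : W' ⟶ U') (h : hh ≫ aU = ι ≫ bcMap f vh e) :
    hh ≫ uh = ι ≫ pullback.snd (e ≫ vh) f := by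
  rw [← hU, ← Category.assoc, h, Category.assoc, bcMap_snd]

/-- an étale scheme over an object of the small étale site, as an object of the site -/
noncomputable def overObj (V₀ : Y.Etale) {V₁s : Scheme.{u}} (e : V₁s ⟶ V₀.left)
    [AlgebraicGeometry.Etale e] : Y.Etale :=
  have : AlgebraicGeometry.Etale V₀.hom := V₀.prop
  Scheme.Etale.mk (e ≫ V₀.hom)

/-- the structure morphism of `overObj` -/
noncomputable def overHom (V₀ : Y.Etale) {V₁s : Scheme.{u}} (e : V₁s ⟶ V₀.left)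
    [AlgebraicGeometry.Etale e] : overObj V₀ e ⟶ V₀ :=
  MorphismProperty.Over.homMk e rfl trivial

theorem bc_map_overHom_left (V₀ : Y.Etale) {V₁s : Scheme.{u}} (e : V₁s ⟶ V₀.left)
    [AlgebraicGeometry.Etale e] :
    ((EtCoh.bc f).map (overHom V₀ e)).left = bcMap f V₀.hom e := by
  refine plain_ext V₀.hom f _ _ ?_ ?_
  · exact (bc_map_left_fst f (overHom V₀ e)).trans (bcMap_fst f V₀.hom e).symm
  · exact (bc_map_left_snd f (overHom V₀ e)).trans (bcMap_snd f V₀.hom e).symm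

theorem exists_split_etale [IsFinite f] {Ω : Type u} [Field Ω] [IsAlgClosed Ω]
    (η : Spec (CommRingCat.of Ω) ⟶ Y) (V₀ : Y.Etale) (v₀ : Lift η V₀)
    (U : X.Etale) (a : U ⟶ (EtCoh.bc f).obj V₀)
    (u : ∀ ξ : {ξ : Spec (CommRingCat.of Ω) ⟶ X // ξ ≫ f = η}, Lift ξ.1 U)
    (hu : ∀ ξ, Lift.map a (u ξ) = liftBc f ξ.1 ξ.2 v₀) :
    ∃ (V₁ : Y.Etale) (g : V₁ ⟶ V₀) (v₁ : Lift η V₁), Lift.map g v₁ = v₀ ∧
      ∃ (A : Type u) (_ : Finite A) (W : A → X.Etale) (j : ∀ k, W k ⟶ (EtCoh.bc f).obj V₁)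
        (hh : ∀ k, W k ⟶ U),
        (∀ k, IsOpenImmersion (j k).left) ∧
        (∀ k l, k ≠ l → Disjoint (Set.range (j k).left.base) (Set.range (j l).left.base)) ∧
        (∀ x : ((EtCoh.bc f).obj V₁).left, ∃ k, x ∈ Set.range (j k).left.base) ∧
        (∀ k, hh k ≫ a = j k ≫ (EtCoh.bc f).map g) ∧
        ∀ ξ, ∃ (k : A) (w : Lift ξ.1 (W k)),
          Lift.map (j k) w = liftBc f ξ.1 ξ.2 v₁ ∧ Lift.map (hh k) w = u ξ := by
  have hea : AlgebraicGeometry.Etale (a.left : U.left ⟶ pullback V₀.hom f) := etale_left a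
  have hu' : ∀ ξ : {ξ : Spec (CommRingCat.of Ω) ⟶ X // ξ ≫ f = η},
      (u ξ).hom ≫ a.left = pullback.lift v₀.hom ξ.1 (by rw [v₀.hom_comp, ξ.2]) :=
    fun ξ => congrArg Lift.hom (hu ξ)
  obtain ⟨V₁s, e, he, v₁s, hv₁, A, hA, W, hdisj, hcov, hh, hhg, hpt⟩ :=
    @exists_pointed_split_bc X Y V₀.left U.left f _ V₀.hom a.left hea Ω _ _ η v₀.hom v₀.hom_comp
      (fun ξ => (u ξ).hom) hu'
  let V₁ : Y.Etale := overObj V₀ e
  let g : V₁ ⟶ V₀ := overHom V₀ e
  have hv₁η : v₁s ≫ V₁.hom = η := by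
    change v₁s ≫ e ≫ V₀.hom = η
    rw [← Category.assoc, hv₁]
    exact v₀.hom_comp
  let v₁ : Lift η V₁ := Lift.mk η v₁s hv₁η
  have hUhom : a.left ≫ pullback.snd V₀.hom f = U.hom := MorphismProperty.Over.w a
  refine ⟨V₁, g, v₁, Lift.ext hv₁, A, hA, fun k => restrictOpen ((EtCoh.bc f).obj V₁) (W k),
    fun k => restrictOpenι ((EtCoh.bc f).obj V₁) (W k),
    fun k => MorphismProperty.Over.homMk (hh k)
      (plain_hh_over f V₀.hom e a.left U.hom hUhom (W k).ι (hh k) (hhg k)) trivial,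
    ?_, ?_, ?_, ?_, ?_⟩
  · intro k
    exact inferInstanceAs (IsOpenImmersion (W k).ι)
  · intro k l hkl
    change Disjoint (Set.range (W k).ι.base) (Set.range (W l).ι.base)
    rw [Scheme.Opens.range_ι, Scheme.Opens.range_ι]
    exact (TopologicalSpace.Opens.coe_disjoint).mpr (hdisj k l hkl)
  · intro x
    have hx : x ∈ (⨆ k, W k : (pullback (e ≫ V₀.hom) f).Opens) := by rw [hcov]; trivial
    obtain ⟨k, hk⟩ := TopologicalSpace.Opens.mem_iSup.mp hx
    refine ⟨k, ?_⟩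
    change x ∈ Set.range (W k).ι.base
    rw [Scheme.Opens.range_ι]
    exact hk
  · intro k
    apply MorphismProperty.Over.Hom.ext
    change hh k ≫ a.left = (W k).ι ≫ ((EtCoh.bc f).map g).left
    rw [bc_map_overHom_left]
    exact hhg k
  · intro ξ
    obtain ⟨k, w, hw1, hw2⟩ := hpt ξ
    have hwξ : w ≫ (W k).ι ≫ pullback.snd (e ≫ V₀.hom) f = ξ.1 := by
      rw [← Category.assoc, hw1, pullback.lift_snd]
    refine ⟨k, Lift.mk ξ.1 w hwξ, Lift.ext ?_, Lift.ext hw2⟩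
    exact hw1

end Split

section InjSurj

variable {Y : Scheme.{u}} (f : X ⟶ Y) [IsFinite f] {Ω : Type u} [Field Ω] [IsAlgClosed Ω]
  (η : Spec (CommRingCat.of Ω) ⟶ Y) (F : EtCoh.Ab X)

omit [IsFinite f] [IsAlgClosed Ω] in
theorem lift_map_comp [IsSepClosed Ω] {ξ : Spec (CommRingCat.of Ω) ⟶ X} {U V W : X.Etale} (g : V ⟶ U) (k : W ⟶ V)
    (y : Lift ξ W) : Lift.map g (Lift.map k y) = Lift.map (k ≫ g) y := by
  apply Lift.ext
  change (y.hom ≫ k.left) ≫ g.left = y.hom ≫ (k ≫ g).left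
  rw [Category.assoc]
  rfl

omit [IsFinite f] [IsAlgClosed Ω] in
theorem map_map_apply {U V W : X.Etale} (g : V ⟶ U) (k : W ⟶ V) (s : F.obj.obj (op U)) :
    F.obj.map k.op (F.obj.map g.op s) = F.obj.map (k ≫ g).op s := by
  rw [op_comp, Functor.map_comp]
  rfl

/-- **Injectivity** of `(f_* F)_η ⟶ ∏_ξ F_ξ` in section form. -/
theorem inj (V₀ : Y.Etale) (v₀ : Lift η V₀) (s : F.obj.obj (op ((EtCoh.bc f).obj V₀)))
    (hs : ∀ ξ : {ξ : Spec (CommRingCat.of Ω) ⟶ X // ξ ≫ f = η},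
      germ ξ.1 F ((EtCoh.bc f).obj V₀) (liftBc f ξ.1 ξ.2 v₀) s = 0) :
    ∃ (V₁ : Y.Etale) (g : V₁ ⟶ V₀) (v₁ : Lift η V₁), Lift.map g v₁ = v₀ ∧
      F.obj.map ((EtCoh.bc f).map g).op s = 0 := by
  have h1 : ∀ ξ : {ξ : Spec (CommRingCat.of Ω) ⟶ X // ξ ≫ f = η},
      ∃ (U : X.Etale) (a : U ⟶ (EtCoh.bc f).obj V₀) (y : Lift ξ.1 U),
        Lift.map a y = liftBc f ξ.1 ξ.2 v₀ ∧ F.obj.map a.op s = 0 :=
    fun ξ => (germ_eq_zero_iff F _ _ s).1 (hs ξ)
  choose U a y hy hz using h1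
  obtain ⟨S, inc, b, hb, hoi, hdisj, hcov⟩ := exists_coprod ((EtCoh.bc f).obj V₀) U a
  have hbs : F.obj.map b.op s = 0 := by
    apply eq_zero_of_cover F S U inc hoi hdisj hcov
    intro ξ
    rw [map_map_apply, hb]
    exact hz ξ
  obtain ⟨V₁, g, v₁, hv₁, A, hA, W, j, hh, hoi', hdisj', hcov', hhg, -⟩ :=
    exists_split_etale f η V₀ v₀ S b (fun ξ => Lift.map (inc ξ) (y ξ)) (by
      intro ξ
      rw [lift_map_comp, hb]
      exact hy ξ)
  refine ⟨V₁, g, v₁, hv₁, ?_⟩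
  apply eq_zero_of_cover F _ W j hoi' hdisj' hcov'
  intro k
  rw [map_map_apply, ← hhg, ← map_map_apply, hbs, map_zero]

/-- the canonical morphism from an étale `X`-scheme to `Y ×_Y X` -/
noncomputable def toBcTop (U : X.Etale) : U ⟶ (EtCoh.bc f).obj (EtCoh.top Y) :=
  MorphismProperty.Over.homMk (pullback.lift (U.hom ≫ f) U.hom (Category.comp_id _))
    (pullback.lift_snd _ _ _) trivial

/-- the tautological lift of `η` to `Y` -/
noncomputable def topLift : Lift η (EtCoh.top Y) := Lift.mk η η (Category.comp_id _)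

theorem plain_toBcTop {T U' X' Y' : Scheme.{u}} (f : X' ⟶ Y') (uh : U' ⟶ X') (l : T ⟶ U') (ξ : T ⟶ X')
    (η : T ⟶ Y') (h : ξ ≫ f = η) (hl : l ≫ uh = ξ) :
    l ≫ pullback.lift (uh ≫ f) uh (Category.comp_id _) =
      pullback.lift η ξ (by rw [h, Category.comp_id]) := by
  apply pullback.hom_ext
  · rw [Category.assoc, pullback.lift_fst, pullback.lift_fst, ← Category.assoc, hl, h]
  · rw [Category.assoc, pullback.lift_snd, pullback.lift_snd, hl]

omit [IsFinite f] in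
theorem map_toBcTop {ξ : Spec (CommRingCat.of Ω) ⟶ X} (h : ξ ≫ f = η) (U : X.Etale) (y : Lift ξ U) :
    Lift.map (toBcTop f U) y = liftBc f ξ h (topLift η) := by
  apply Lift.ext
  exact plain_toBcTop f U.hom y.hom ξ η h y.hom_comp

/-- **Surjectivity** of `(f_* F)_η ⟶ ∏_ξ F_ξ` in section form. -/
theorem surj (p : ∀ ξ : {ξ : Spec (CommRingCat.of Ω) ⟶ X // ξ ≫ f = η}, (EtCoh.stalk ξ.1).obj F) :
    ∃ (V : Y.Etale) (v : Lift η V) (s : F.obj.obj (op ((EtCoh.bc f).obj V))),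
      ∀ ξ : {ξ : Spec (CommRingCat.of Ω) ⟶ X // ξ ≫ f = η},
        germ ξ.1 F ((EtCoh.bc f).obj V) (liftBc f ξ.1 ξ.2 v) s = p ξ := by
  have h1 : ∀ ξ : {ξ : Spec (CommRingCat.of Ω) ⟶ X // ξ ≫ f = η},
      ∃ (U : X.Etale) (y : Lift ξ.1 U) (σ : F.obj.obj (op U)), germ ξ.1 F U y σ = p ξ :=
    fun ξ => germ_surjective F (p ξ)
  choose U y σ hσ using h1
  obtain ⟨S, inc, b, hb, hoi, hdisj, hcov⟩ :=
    exists_coprod ((EtCoh.bc f).obj (EtCoh.top Y)) U (fun ξ => toBcTop f (U ξ))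
  obtain ⟨τ, hτ, -⟩ := existsUnique_glue F S U inc hoi hdisj hcov σ
  obtain ⟨V₁, g, v₁, hv₁, A, hA, W, j, hh, hoi', hdisj', hcov', hhg, hpt⟩ :=
    exists_split_etale f η (EtCoh.top Y) (topLift η) S b (fun ξ => Lift.map (inc ξ) (y ξ)) (by
      intro ξ
      rw [lift_map_comp, hb]
      exact map_toBcTop f η ξ.2 (U ξ) (y ξ))
  obtain ⟨s, hs, -⟩ := existsUnique_glue F _ W j hoi' hdisj' hcov' (fun k => F.obj.map (hh k).op τ)
  refine ⟨V₁, v₁, s, ?_⟩
  intro ξ
  obtain ⟨k, w, hw1, hw2⟩ := hpt ξ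
  rw [← hw1, ← germ_res, hs, germ_res, hw2, ← germ_res, hτ]
  exact hσ ξ

end InjSurj

end Groth.Agent.H1.FinStalk
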