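import Groth.Agent.Lib.Helper1.BigSmall
import Groth.Agent.Lib.Helper1.BigBC
import Groth.Agent.S0621

/-!
# Finite base change on the big étale site (helper1)
-/

set_option autoImplicit false
universe u

namespace Groth.Agent.H1.BigSmallBC

open CategoryTheory CategoryTheory.Limits Opposite AlgebraicGeometry
open Groth.Agent.H1.PullGerm Groth.Agent.H1.BigSmall Groth.Agent.H1.BigBC

local notation "Et" => Scheme.etalePrecoverage

variable {T S T' V : Scheme.{u}} (f : T ⟶ S) (j : V ⟶ S) (f' : T' ⟶ V) (j' : T' ⟶ T)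
  (h : IsPullback j' f' f j)

theorem mproj_left (U₀ : S.Etale) : (mproj j U₀).left = pullback.fst U₀.hom j := by
  simp [mproj]
  rfl

/-- the two ways of base changing an étale `V`-scheme to `T` -/
noncomputable def Ebc :
    (EtCoh.bc f' ⋙ EtFppf.a T') ⋙ Over.map j' ≅
      (EtFppf.a V ⋙ Over.map j) ⋙ Over.pullback f :=
  Functor.associator _ _ _ ≪≫ Functor.isoWhiskerLeft (EtFppf.a V) (overBC h) ≪≫
    (Functor.associator _ _ _).symm

theorem Ebc_hom_app_left (U : V.Etale) :
    ((Ebc f j f' j' h).hom.app U).left = (objIso h ((EtFppf.a V).obj U)).hom := by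
  simp [Ebc, overBC]

/-- restriction to `V_et` of a big direct image is the small direct image of the restriction -/
noncomputable def kappa (H : BigSite.Ab Et T) :
    (rho j).obj ((BigSite.pushBig Et f AddCommGrpCat.{u + 1}).obj H) ≅
      (EtCoh.push f').obj ((rho j').obj H) where
  hom := ⟨Functor.whiskerRight (NatTrans.op (Ebc f j f' j' h).hom) H.obj⟩
  inv := ⟨Functor.whiskerRight (NatTrans.op (Ebc f j f' j' h).inv) H.obj⟩
  hom_inv_id := by
    apply Sheaf.hom_ext
    ext U : 2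
    change H.obj.map ((Ebc f j f' j' h).hom.app U.unop).op ≫
      H.obj.map ((Ebc f j f' j' h).inv.app U.unop).op = 𝟙 _
    rw [← Functor.map_comp, ← op_comp, Iso.inv_hom_id_app, op_id, CategoryTheory.Functor.map_id]
  inv_hom_id := by
    apply Sheaf.hom_ext
    ext U : 2
    change H.obj.map ((Ebc f j f' j' h).inv.app U.unop).op ≫
      H.obj.map ((Ebc f j f' j' h).hom.app U.unop).op = 𝟙 _
    rw [← Functor.map_comp, ← op_comp, Iso.hom_inv_id_app, op_id, CategoryTheory.Functor.map_id]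

theorem kappa_hom_app (H : BigSite.Ab Et T) (U : V.Etale)
    (x : ((rho j).obj ((BigSite.pushBig Et f AddCommGrpCat.{u + 1}).obj H)).obj.obj (op U)) :
    (kappa f j f' j' h H).hom.hom.app (op U) x =
      H.obj.map ((Ebc f j f' j' h).hom.app U).op x := rfl

/-- the comparison morphism `π_S⁻¹ f_* F ⟶ f_big,* π_T⁻¹ F` -/
noncomputable def theta (F : EtCoh.Ab T) :
    (BigSite.piEtPull Et S).obj ((EtCoh.push f).obj F) ⟶
      (BigSite.pushBig Et f AddCommGrpCat.{u + 1}).obj ((BigSite.piEtPull Et T).obj F) :=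
  ((BigSite.piEtAdj Et S).homEquiv ((EtCoh.push f).obj F)
    ((BigSite.pushBig Et f AddCommGrpCat.{u + 1}).obj ((BigSite.piEtPull Et T).obj F))).symm
    ((EtCoh.push f).map ((BigSite.piEtAdj Et T).unit.app F))

theorem unit_theta (F : EtCoh.Ab T) :
    (BigSite.piEtAdj Et S).unit.app ((EtCoh.push f).obj F) ≫
      (BigSite.resEt Et S).map (theta f F) =
    (EtCoh.push f).map ((BigSite.piEtAdj Et T).unit.app F) := by
  have := (BigSite.piEtAdj Et S).homEquiv_unit (f := theta f F)
  refine Eq.trans this.symm ?_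
  exact Equiv.apply_symm_apply _ _

theorem theta_unitS (F : EtCoh.Ab T) (U₀ : S.Etale) (s : F.obj.obj (op ((EtCoh.bc f).obj U₀))) :
    (theta f F).hom.app (op ((EtFppf.a S).obj U₀)) (unitS ((EtCoh.push f).obj F) U₀ s) =
      unitS F ((EtCoh.bc f).obj U₀) s := by
  have h2 := congrArg (fun t => t.hom.app (op U₀)) (unit_theta f F)
  exact ConcreteCategory.congr_hom h2 s

/-- equality of two morphisms out of `j⁻¹K`, tested on pulled back sections -/
theorem pull_hom_ext {K : EtCoh.Ab S} {M : EtCoh.Ab V} (a b : (EtCoh.pull j).obj K ⟶ M)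
    (hab : ∀ (U₀ : S.Etale) (s : K.obj.obj (op U₀)),
      a.hom.app (op ((EtCoh.bc j).obj U₀)) (usec j K U₀ s) =
        b.hom.app (op ((EtCoh.bc j).obj U₀)) (usec j K U₀ s)) : a = b := by
  apply ((EtCoh.pullPushAdj j).homEquiv K M).injective
  rw [Adjunction.homEquiv_unit, Adjunction.homEquiv_unit]
  apply Sheaf.hom_ext
  ext U₀ s
  exact hab U₀.unop s

theorem cat_key1 {C : Type*} [Category C] {A B D X Y Z : C} (a : A ⟶ B) (b : B ⟶ X) (p : X ⟶ Y)
    (c : A ⟶ D) (d : D ⟶ X) (b₁ : B ⟶ Z) (p₁ : Z ⟶ Y) (e : A ⟶ Z)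
    (hm : b ≫ p = b₁ ≫ p₁) (hobj : a ≫ b₁ = e) (hMV : c ≫ d ≫ p = e ≫ p₁) :
    (a ≫ b) ≫ p = (c ≫ d) ≫ p := by
  rw [Category.assoc, hm, ← Category.assoc, hobj, Category.assoc, hMV]

theorem cat_key2 {C : Type*} [Category C] {A B D X Y Z : C} (a : A ⟶ B) (b : B ⟶ X) (q : X ⟶ Y)
    (c : A ⟶ D) (d : D ⟶ X) (b₂ : B ⟶ Y) (e₂ : A ⟶ Z) (j' : Z ⟶ Y) (d₂ : D ⟶ Z)
    (hm2 : b ≫ q = b₂) (hobj2 : a ≫ b₂ = e₂ ≫ j') (cond : d ≫ q = d₂ ≫ j') (hMV2 : c ≫ d₂ = e₂) :
    (a ≫ b) ≫ q = (c ≫ d) ≫ q := by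
  rw [Category.assoc, hm2, hobj2, Category.assoc, cond, ← Category.assoc, hMV2]

theorem key_mor (U₀ : S.Etale) :
    (Ebc f j f' j' h).hom.app ((EtCoh.bc j).obj U₀) ≫ (Over.pullback f).map (mproj j U₀) =
      (Over.map j').map ((EtFppf.a T').map (Groth.Agent.S0621.MV f j f' j' h.w U₀)) ≫
        mproj j' ((EtCoh.bc f).obj U₀) := by
  apply Over.OverMorphism.ext
  rw [Over.comp_left, Over.comp_left, Ebc_hom_app_left, mproj_left]
  have hMV1 := Groth.Agent.S0621.MV_fst_fst f j f' j' h.w U₀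
  have hMV2 : (Groth.Agent.S0621.MV f j f' j' h.w U₀).left ≫
      pullback.snd (pullback.snd U₀.hom f) j' = pullback.snd (pullback.snd U₀.hom j) f' :=
    MorphismProperty.Over.w (Groth.Agent.S0621.MV f j f' j' h.w U₀)
  have hm : ((Over.pullback f).map (mproj j U₀)).left ≫ pullback.fst U₀.hom f =
      pullback.fst (pullback.snd U₀.hom j ≫ j) f ≫ pullback.fst U₀.hom j := by
    have := mproj_left j U₀
    simp only [Over.pullback_map_left]
    erw [pullback.lift_fst]
    rw [this]
    rfl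
  have hm2 : ((Over.pullback f).map (mproj j U₀)).left ≫ pullback.snd U₀.hom f =
      pullback.snd (pullback.snd U₀.hom j ≫ j) f := by
    simp only [Over.pullback_map_left]
    erw [pullback.lift_snd]
    rfl
  refine plain_ext U₀.hom f _ _ ?_ ?_
  · exact cat_key1 _ _ _ _ _ _ _ _ hm
      (objIso_hom_fst h ((EtFppf.a V).obj ((EtCoh.bc j).obj U₀))) hMV1
  · exact cat_key2 _ _ _ _ _ _ _ _ _ hm2
      (objIso_hom_snd h ((EtFppf.a V).obj ((EtCoh.bc j).obj U₀)))
      (pullback.condition (f := pullback.snd U₀.hom f) (g := j')) hMV2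

theorem main_eq (F : EtCoh.Ab T) :
    (omega j ((EtCoh.push f).obj F)).hom ≫ (rho j).map (theta f F) ≫
        (kappa f j f' j' h ((BigSite.piEtPull Et T).obj F)).hom =
      EtCoh.baseChange0 f j f' j' h.w F ≫ (EtCoh.push f').map (omega j' F).hom := by
  apply pull_hom_ext
  intro U₀ s
  -- the left hand side
  have hL : ((omega j ((EtCoh.push f).obj F)).hom ≫ (rho j).map (theta f F) ≫
      (kappa f j f' j' h ((BigSite.piEtPull Et T).obj F)).hom).hom.app (op ((EtCoh.bc j).obj U₀))
        (usec j ((EtCoh.push f).obj F) U₀ s) =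
      ((BigSite.piEtPull Et T).obj F).obj.map
        ((Ebc f j f' j' h).hom.app ((EtCoh.bc j).obj U₀) ≫ (Over.pullback f).map (mproj j U₀)).op
        (unitS F ((EtCoh.bc f).obj U₀) s) := by
    change ((BigSite.piEtPull Et T).obj F).obj.map ((Ebc f j f' j' h).hom.app ((EtCoh.bc j).obj U₀)).op
      ((theta f F).hom.app (op ((Over.map j).obj ((EtFppf.a V).obj ((EtCoh.bc j).obj U₀))))
        ((omega j ((EtCoh.push f).obj F)).hom.hom.app (op ((EtCoh.bc j).obj U₀))
          (usec j ((EtCoh.push f).obj F) U₀ s))) = _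
    rw [omega_usec]
    have hn := NatTrans.naturality_apply (theta f F).hom (mproj j U₀).op
      (unitS ((EtCoh.push f).obj F) U₀ s)
    rw [hn, theta_unitS, op_comp, Functor.map_comp]
    rfl
  -- the right hand side
  have hR : (EtCoh.baseChange0 f j f' j' h.w F ≫ (EtCoh.push f').map (omega j' F).hom).hom.app
      (op ((EtCoh.bc j).obj U₀)) (usec j ((EtCoh.push f).obj F) U₀ s) =
      ((BigSite.piEtPull Et T).obj F).obj.map
        ((Over.map j').map ((EtFppf.a T').map (Groth.Agent.S0621.MV f j f' j' h.w U₀)) ≫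
          mproj j' ((EtCoh.bc f).obj U₀)).op (unitS F ((EtCoh.bc f).obj U₀) s) := by
    change (omega j' F).hom.hom.app (op ((EtCoh.bc f').obj ((EtCoh.bc j).obj U₀)))
      ((EtCoh.baseChange0 f j f' j' h.w F).hom.app (op ((EtCoh.bc j).obj U₀))
        (usec j ((EtCoh.push f).obj F) U₀ s)) = _
    rw [Groth.Agent.S0621.phi_usec]
    have hn := NatTrans.naturality_apply (omega j' F).hom.hom
      (Groth.Agent.S0621.MV f j f' j' h.w U₀).op (usec j' F ((EtCoh.bc f).obj U₀) s)
    rw [hn, omega_usec, op_comp, Functor.map_comp]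
    rfl
  refine hL.trans (Eq.trans ?_ hR.symm)
  rw [key_mor]
  rfl

section Conclusions

/-- every object of the big site is the image of the final object of a small site -/
noncomputable def eW (W : Over S) :
    (Over.map W.hom).obj ((EtFppf.a W.left).obj (EtCoh.top W.left)) ≅ W :=
  Over.isoMk (Iso.refl _) (by
    change 𝟙 W.left ≫ W.hom = (𝟙 W.left ≫ 𝟙 W.left) ≫ W.hom
    simp)

include h in
theorem isIso_rho_theta [IsFinite f] (F : EtCoh.Ab T) : IsIso ((rho j).map (theta f F)) := by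
  have h1 : IsIso (EtCoh.baseChange0 f j f' j' h.w F) := Groth.Agent.S0621.main f j f' j' h F
  have e := main_eq f j f' j' h F
  have e2 : (rho j).map (theta f F) = (omega j ((EtCoh.push f).obj F)).inv ≫
      (EtCoh.baseChange0 f j f' j' h.w F ≫ (EtCoh.push f').map (omega j' F).hom) ≫
        (kappa f j f' j' h ((BigSite.piEtPull Et T).obj F)).inv := by
    rw [← e]
    simp
  rw [e2]
  infer_instance

theorem app_eq_of_eW {A B : BigSite.Ab Et S} (m : A ⟶ B) (W : Over S) :
    m.hom.app (op W) = A.obj.map (eW W).hom.op ≫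
      m.hom.app (op ((Over.map W.hom).obj ((EtFppf.a W.left).obj (EtCoh.top W.left)))) ≫
        B.obj.map (eW W).inv.op := by
  have hn := m.hom.naturality (eW W).hom.op
  rw [← Category.assoc, hn, Category.assoc, ← Functor.map_comp, ← op_comp, Iso.inv_hom_id, op_id,
    CategoryTheory.Functor.map_id, Category.comp_id]

theorem isIso_of_rho {A B : BigSite.Ab Et S} (m : A ⟶ B)
    (hm : ∀ (V : Scheme.{u}) (j : V ⟶ S), IsIso ((rho j).map m)) : IsIso m := by
  have : IsIso m.hom := by
    rw [NatTrans.isIso_iff_isIso_app]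
    rintro ⟨W⟩
    have h1 := hm W.left W.hom
    have h2 : IsIso ((rho W.hom).map m).hom :=
      (sheafToPresheaf _ _).map_isIso ((rho W.hom).map m)
    have h3 : IsIso (((rho W.hom).map m).hom.app (op (EtCoh.top W.left))) := inferInstance
    have h4 : IsIso (m.hom.app (op ((Over.map W.hom).obj
        ((EtFppf.a W.left).obj (EtCoh.top W.left))))) := h3
    rw [app_eq_of_eW m W]
    infer_instance
  have : IsIso ((sheafToPresheaf (QuotSh.J Et S) AddCommGrpCat.{u + 1}).map m) := this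
  exact isIso_of_reflects_iso m (sheafToPresheaf _ _)

theorem isIso_theta [IsFinite f] (F : EtCoh.Ab T) : IsIso (theta f F) := by
  apply isIso_of_rho
  intro V j
  exact isIso_rho_theta f j (pullback.snd f j) (pullback.fst f j) (IsPullback.of_hasPullback f j) F

end Conclusions

end Groth.Agent.H1.BigSmallBC
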