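import Groth.Agent.Lib.Helper4.DescEtale
import Groth.Agent.Lib.Helper4.DescGlueOpenSingle

/-!
# Descent of stable monomorphisms locally of finite type along fppf morphisms (helper1)

Let `p : X ⟶ S` be flat, surjective, quasi-compact and universally open, with `X` quasi-separated,
and `ι : E ⟶ X` a monomorphism locally of finite type whose functor of points is stable under the
equivalence relation `X ×_S X`.  Then `E` descends to a scheme over `S`
(`exists_isPullback_of_stableMono`).  No quasi-compactness of `ι` is needed: `E` is covered by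
quasi-compact stable opens (saturation), which descend by Zariski's main theorem and quasi-affine
descent (helper4), and the descended opens glue (helper4).
-/

set_option autoImplicit false
universe u
open CategoryTheory CategoryTheory.Limits AlgebraicGeometry

namespace Groth.Agent.H1.Boot

open Desc

variable {X S : Scheme.{u}} (p : X ⟶ S)

section MonoDD

variable {E : Scheme.{u}} (ι : E ⟶ X)

/-- The functor of points of `ι` is stable under the equivalence relation `X ×_S X`. -/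
def StableMono : Prop :=
  ∀ ⦃T : Scheme.{u}⦄ (x₀ x₁ : T ⟶ X), x₀ ≫ p = x₁ ≫ p →
    (∃ v : T ⟶ E, v ≫ ι = x₀) → ∃ v : T ⟶ E, v ≫ ι = x₁

variable {p ι} [Mono ι]

instance lifts_subsingleton {T : Scheme.{u}} (x : T ⟶ X) : Subsingleton (Lifts (Over.mk ι) x) :=
  ⟨fun v w => Subtype.ext ((cancel_mono ι).1 (v.2.trans w.2.symm))⟩

/-- The gluing maps of the descent datum of a stable monomorphism. -/
noncomputable def monoφ (h : StableMono p ι) {T : Scheme.{u}} (x₀ x₁ : T ⟶ X)
    (e : x₀ ≫ p = x₁ ≫ p) (v : Lifts (Over.mk ι) x₀) : Lifts (Over.mk ι) x₁ :=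
  ⟨(h x₀ x₁ e ⟨v.1, v.2⟩).choose, (h x₀ x₁ e ⟨v.1, v.2⟩).choose_spec⟩

/-- The descent datum of a stable monomorphism. -/
noncomputable def monoDD (h : StableMono p ι) : SchDD p where
  obj := Over.mk ι
  φ T x₀ x₁ e :=
    { toFun := monoφ h x₀ x₁ e
      invFun := monoφ h x₁ x₀ e.symm
      left_inv := fun v => Subsingleton.elim _ _
      right_inv := fun v => Subsingleton.elim _ _ }
  φ_natural T T' g x₀ x₁ e e' v v' hv := by
    refine (cancel_mono ι).1 ?_
    have h1 : (monoφ h (g ≫ x₀) (g ≫ x₁) e' v').1 ≫ ι = g ≫ x₁ :=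
      (monoφ h (g ≫ x₀) (g ≫ x₁) e' v').2
    have h2 : (monoφ h x₀ x₁ e v).1 ≫ ι = x₁ := (monoφ h x₀ x₁ e v).2
    exact h1.trans ((congrArg (fun t => g ≫ t) h2).symm.trans (Category.assoc _ _ _).symm)
  φ_self T x v := Subsingleton.elim _ _
  φ_comp T x₀ x₁ x₂ h₀₁ h₁₂ v := Subsingleton.elim _ _

@[simp]
lemma monoDD_obj (h : StableMono p ι) : (monoDD h).obj = Over.mk ι := rfl

/-- Morphisms between descent data of stable monomorphisms. -/
noncomputable def monoHom {E' : Scheme.{u}} {ι' : E' ⟶ X} [Mono ι'] (h' : StableMono p ι')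
    (h : StableMono p ι) (c : E' ⟶ E) (hc : c ≫ ι = ι') : monoDD h' ⟶ monoDD h where
  hom := (Over.homMk (U := Over.mk ι') (V := Over.mk ι) c hc : Over.mk ι' ⟶ Over.mk ι)
  comm T x₀ x₁ e v w hw := by
    refine (cancel_mono ι).1 ?_
    have h1 : ((monoDD h).φ x₀ x₁ e w).1 ≫ ι = x₁ := ((monoDD h).φ x₀ x₁ e w).2
    have h2 : ((monoDD h').φ x₀ x₁ e v).1 ≫ ι' = x₁ := ((monoDD h').φ x₀ x₁ e v).2
    refine h1.trans ?_
    refine Eq.trans ?_ (Category.assoc _ _ _).symm
    exact h2.symm.trans (congrArg (fun t => ((monoDD h').φ x₀ x₁ e v).1 ≫ t) hc.symm)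

@[simp]
lemma monoHom_hom_left {E' : Scheme.{u}} {ι' : E' ⟶ X} [Mono ι'] (h' : StableMono p ι')
    (h : StableMono p ι) (c : E' ⟶ E) (hc : c ≫ ι = ι') :
    (monoHom h' h c hc).hom.left = c := rfl

end MonoDD

section Saturation

variable {p} {E : Scheme.{u}} {ι : E ⟶ X} [Mono ι] (h : StableMono p ι)

/-- The second projection `E ×_S X ⟶ E`. -/
noncomputable def qMap : pullback (ι ≫ p) p ⟶ E :=
  (h (pullback.fst (ι ≫ p) p ≫ ι) (pullback.snd (ι ≫ p) p)
    (by rw [Category.assoc, pullback.condition]) ⟨pullback.fst (ι ≫ p) p, rfl⟩).choose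

lemma qMap_ι : qMap h ≫ ι = pullback.snd (ι ≫ p) p :=
  (h (pullback.fst (ι ≫ p) p ≫ ι) (pullback.snd (ι ≫ p) p)
    (by rw [Category.assoc, pullback.condition]) ⟨pullback.fst (ι ≫ p) p, rfl⟩).choose_spec

/-- The lift of the first projection `X ×_S E ⟶ X`. -/
noncomputable def qMap' : pullback p (ι ≫ p) ⟶ E :=
  (h (pullback.snd p (ι ≫ p) ≫ ι) (pullback.fst p (ι ≫ p))
    (by rw [Category.assoc, ← pullback.condition]) ⟨pullback.snd p (ι ≫ p), rfl⟩).choose

lemma qMap'_ι : qMap' h ≫ ι = pullback.fst p (ι ≫ p) :=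
  (h (pullback.snd p (ι ≫ p) ≫ ι) (pullback.fst p (ι ≫ p))
    (by rw [Category.assoc, ← pullback.condition]) ⟨pullback.snd p (ι ≫ p), rfl⟩).choose_spec

/-- The descent isomorphism `E ×_S X ≅ X ×_S E`. -/
noncomputable def swapIso : pullback (ι ≫ p) p ≅ pullback p (ι ≫ p) where
  hom := pullback.lift (pullback.fst (ι ≫ p) p ≫ ι) (qMap h) (by
    rw [Category.assoc, pullback.condition, ← Category.assoc, qMap_ι])
  inv := pullback.lift (qMap' h) (pullback.snd p (ι ≫ p) ≫ ι) (by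
    rw [← Category.assoc, qMap'_ι, pullback.condition, Category.assoc])
  hom_inv_id := by
    apply pullback.hom_ext
    · rw [Category.assoc, pullback.lift_fst, Category.id_comp, ← cancel_mono ι, Category.assoc,
        qMap'_ι, pullback.lift_fst]
    · rw [Category.assoc, pullback.lift_snd, Category.id_comp, ← Category.assoc,
        pullback.lift_snd, qMap_ι]
  inv_hom_id := by
    apply pullback.hom_ext
    · rw [Category.assoc, pullback.lift_fst, Category.id_comp, ← Category.assoc,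
        pullback.lift_fst, qMap'_ι]
    · rw [Category.assoc, pullback.lift_snd, Category.id_comp, ← cancel_mono ι, Category.assoc,
        qMap_ι, pullback.lift_snd]

lemma swapIso_hom_snd : (swapIso h).hom ≫ pullback.snd p (ι ≫ p) = qMap h :=
  pullback.lift_snd _ _ _

lemma isOpenMap_qMap [UniversallyOpen p] : IsOpenMap (qMap h) := by
  rw [← swapIso_hom_snd h]
  have h1 : IsOpenMap (pullback.snd p (ι ≫ p)) := (pullback.snd p (ι ≫ p)).isOpenMap
  have h2 : IsOpenMap (swapIso h).hom := (swapIso h).hom.homeomorph.isOpenMap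
  rw [Scheme.Hom.comp_base]
  exact h1.comp h2

/-- The diagonal section `E ⟶ E ×_S X`. -/
noncomputable def diagSec : E ⟶ pullback (ι ≫ p) p :=
  pullback.lift (𝟙 E) ι (by rw [Category.id_comp])

lemma diagSec_fst : diagSec (p := p) (ι := ι) ≫ pullback.fst (ι ≫ p) p = 𝟙 E :=
  pullback.lift_fst _ _ _

lemma diagSec_qMap : diagSec (p := p) (ι := ι) ≫ qMap h = 𝟙 E := by
  rw [← cancel_mono ι, Category.assoc, qMap_ι, Category.id_comp]
  exact pullback.lift_snd _ _ _

/-- The saturation of an open of `E`. -/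
noncomputable def sat [UniversallyOpen p] (A : E.Opens) : E.Opens :=
  ⟨qMap h '' (pullback.fst (ι ≫ p) p ⁻¹' A), isOpenMap_qMap h _
    ((pullback.fst (ι ≫ p) p).continuous.isOpen_preimage _ A.2)⟩

lemma mem_sat [UniversallyOpen p] (A : E.Opens) (y : E) :
    y ∈ sat h A ↔ ∃ τ : ↥(pullback (ι ≫ p) p), pullback.fst (ι ≫ p) p τ ∈ A ∧ qMap h τ = y :=
  Iff.rfl

lemma le_sat [UniversallyOpen p] (A : E.Opens) : A ≤ sat h A := by
  intro y hy
  refine (mem_sat h A y).2 ⟨diagSec (p := p) (ι := ι) y, ?_, ?_⟩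
  · rw [← Scheme.Hom.comp_apply, diagSec_fst]
    exact hy
  · rw [← Scheme.Hom.comp_apply, diagSec_qMap]
    rfl

lemma isCompact_sat [UniversallyOpen p] [QuasiCompact p] (A : E.Opens)
    (hA : IsCompact (A : Set E)) : IsCompact (sat h A : Set E) := by
  have h1 : IsCompact (pullback.fst (ι ≫ p) p ⁻¹' (A : Set E)) :=
    QuasiCompact.isCompact_preimage (f := pullback.fst (ι ≫ p) p) _ A.2 hA
  exact h1.image (qMap h).continuous

/-- The saturation is stable. -/
lemma sat_stable [UniversallyOpen p] (A : E.Opens) {T : Scheme.{u}} (v₀ v₁ : T ⟶ E)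
    (e : v₀ ≫ ι ≫ p = v₁ ≫ ι ≫ p) (t : T) (ht : v₀ t ∈ sat h A) : v₁ t ∈ sat h A := by
  obtain ⟨τ, hτA, hτ⟩ := (mem_sat h A _).1 ht
  obtain ⟨t', ht'1, ht'2⟩ := Scheme.Pullback.exists_preimage_pullback (f := v₀) (g := qMap h) t τ hτ.symm
  have hc : (pullback.snd v₀ (qMap h) ≫ pullback.fst (ι ≫ p) p) ≫ ι ≫ p =
      (pullback.fst v₀ (qMap h) ≫ v₁ ≫ ι) ≫ p := by
    have h1 : pullback.fst (ι ≫ p) p ≫ ι ≫ p = qMap h ≫ ι ≫ p := by
      rw [pullback.condition, ← Category.assoc, qMap_ι]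
    rw [Category.assoc, h1, ← Category.assoc, ← pullback.condition, Category.assoc, e]
    simp only [Category.assoc]
  let τ' : pullback v₀ (qMap h) ⟶ pullback (ι ≫ p) p :=
    pullback.lift (pullback.snd v₀ (qMap h) ≫ pullback.fst (ι ≫ p) p)
      (pullback.fst v₀ (qMap h) ≫ v₁ ≫ ι) hc
  have hτ'q : τ' ≫ qMap h = pullback.fst v₀ (qMap h) ≫ v₁ := by
    rw [← cancel_mono ι, Category.assoc, qMap_ι, Category.assoc]
    exact pullback.lift_snd _ _ _
  have hτ'f : τ' ≫ pullback.fst (ι ≫ p) p = pullback.snd v₀ (qMap h) ≫ pullback.fst (ι ≫ p) p :=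
    pullback.lift_fst _ _ _
  refine (mem_sat h A _).2 ⟨τ' t', ?_, ?_⟩
  · rw [← Scheme.Hom.comp_apply, hτ'f, Scheme.Hom.comp_apply, ht'2]
    exact hτA
  · rw [← Scheme.Hom.comp_apply, hτ'q, Scheme.Hom.comp_apply, ht'1]

end Saturation

section Main

variable {p} {E : Scheme.{u}} {ι : E ⟶ X} [Mono ι] (h : StableMono p ι)

/-- An open of `E` is stable. -/
def StableOpen (A : E.Opens) : Prop :=
  ∀ ⦃T : Scheme.{u}⦄ (v₀ v₁ : T ⟶ E), v₀ ≫ ι ≫ p = v₁ ≫ ι ≫ p → ∀ t : T, v₀ t ∈ A → v₁ t ∈ A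

include h in
lemma stableMono_of_stableOpen {A : E.Opens} (hA : StableOpen (p := p) (ι := ι) A) :
    StableMono p (A.ι ≫ ι) := by
  rintro T x₀ x₁ e ⟨v, hv⟩
  obtain ⟨w, hw⟩ := h x₀ x₁ e ⟨v ≫ A.ι, by rw [Category.assoc, hv]⟩
  have hr : Set.range w ⊆ Set.range A.ι := by
    rintro _ ⟨t, rfl⟩
    rw [Scheme.Opens.range_ι]
    refine hA (v ≫ A.ι) w ?_ t ?_
    · rw [← Category.assoc w, hw, ← e, ← hv]
      simp only [Category.assoc]
    · rw [Scheme.Hom.comp_apply]
      exact (v t).2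
  exact ⟨IsOpenImmersion.lift A.ι w hr, by rw [← Category.assoc, IsOpenImmersion.lift_fac, hw]⟩

variable [Flat p] [Surjective p] [QuasiCompact p] [UniversallyOpen p] [QuasiSeparatedSpace X]
  [LocallyOfFiniteType ι]

include h in
/-- Quasi-compact stable opens descend. -/
lemma exists_iso_toDD_of_stableOpen {A : E.Opens} (hA : StableOpen (p := p) (ι := ι) A)
    (hAc : IsCompact (A : Set E)) :
    ∃ U' : Over S, Nonempty ((toDD p).obj U' ≅ monoDD (stableMono_of_stableOpen h hA)) := by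
  haveI : CompactSpace (A : Scheme.{u}) := isCompact_iff_compactSpace.mp hAc
  haveI : QuasiCompact (monoDD (stableMono_of_stableOpen h hA)).obj.hom :=
    (inferInstance : QuasiCompact (A.ι ≫ ι))
  haveI : IsSeparated (monoDD (stableMono_of_stableOpen h hA)).obj.hom :=
    (inferInstance : IsSeparated (A.ι ≫ ι))
  haveI : LocallyOfFiniteType (monoDD (stableMono_of_stableOpen h hA)).obj.hom :=
    (inferInstance : LocallyOfFiniteType (A.ι ≫ ι))
  haveI : LocallyQuasiFinite (monoDD (stableMono_of_stableOpen h hA)).obj.hom :=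
    (inferInstance : LocallyQuasiFinite (A.ι ≫ ι))
  exact Groth.Agent.Lib.Helper4.DescEtale.exists_iso_toDD_of_locallyQuasiFinite p _

include h in
/-- The descent datum of a stable monomorphism locally of finite type is effective. -/
theorem exists_iso_toDD_monoDD : ∃ U : Over S, Nonempty ((toDD p).obj U ≅ monoDD h) := by
  refine Groth.Agent.Lib.Helper4.DescGlueOpenSingle.exists_iso_toDD_of_cover p (monoDD h) ?_
  intro v
  obtain ⟨A₀, hA₀, hvA₀⟩ : ∃ A₀ : E.Opens, IsCompact (A₀ : Set E) ∧ v ∈ A₀ := by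
    obtain ⟨_, ⟨A₀, hA₀, rfl⟩, hv, -⟩ := E.isBasis_affineOpens.exists_subset_of_mem_open
      (Set.mem_univ v) isOpen_univ
    exact ⟨A₀, IsAffineOpen.isCompact hA₀, hv⟩
  have hst : StableOpen (p := p) (ι := ι) (sat h A₀) := fun T v₀ v₁ e t ht =>
    sat_stable h A₀ v₀ v₁ e t ht
  obtain ⟨U', hU'⟩ := exists_iso_toDD_of_stableOpen h hst (isCompact_sat h A₀ hA₀)
  refine ⟨monoDD (stableMono_of_stableOpen h hst),
    monoHom (stableMono_of_stableOpen h hst) h (sat h A₀).ι rfl, ?_, ?_, U', hU'⟩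
  · change IsOpenImmersion (sat h A₀).ι
    infer_instance
  · change v ∈ Set.range (sat h A₀).ι
    rw [Scheme.Opens.range_ι]
    exact le_sat h A₀ hvA₀

include h in
/-- **Descent of stable monomorphisms locally of finite type.** -/
theorem exists_isPullback_of_stableMono :
    ∃ (U : Scheme.{u}) (j : U ⟶ S) (e : E ⟶ U), IsPullback e ι j p := by
  obtain ⟨U, ⟨θ⟩⟩ := exists_iso_toDD_monoDD h
  have hiso := Groth.Agent.Lib.Helper4.DescGlueOpenSingle.isIso_hom_left p θ
  let e₀ : pullback p U.hom ⟶ E := θ.hom.hom.left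
  haveI : IsIso e₀ := hiso
  have hw : e₀ ≫ ι = pullback.fst p U.hom := Over.w θ.hom.hom
  refine ⟨U.left, U.hom, inv e₀ ≫ pullback.snd p U.hom, ?_⟩
  have h1 : IsPullback (pullback.snd p U.hom) (pullback.fst p U.hom) U.hom p :=
    (IsPullback.of_hasPullback p U.hom).flip
  refine IsPullback.of_iso h1 (asIso e₀) (Iso.refl _) (Iso.refl _) (Iso.refl _) ?_ ?_ ?_ ?_
  · simp
  · simpa using hw.symm
  · simp
  · simp

end Main

end Groth.Agent.H1.Boot
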