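import Groth.Agent.Lib.Helper1.BootA
import Groth.Agent.Lib.Helper14.AlgSpQuot2

/-!
# Subsheaves of representable sheaves which are fppf locally representable (helper1)

A subsheaf `P ⊆ h_Z` whose pullback along an fppf morphism `W ⟶ Z` (quasi-compact, `W`
quasi-separated) is representable by a monomorphism locally of finite type is representable.
-/

set_option autoImplicit false
universe u
open CategoryTheory CategoryTheory.Limits AlgebraicGeometry Opposite

namespace Groth.Agent.H1.Boot

open AlgSp Groth.Agent.Lib.Helper14.AlgSpQuot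

variable {S : Scheme.{u}}

instance mono_descendsAlong_fpqc :
    (MorphismProperty.monomorphisms Scheme.{u}).DescendsAlong
      (@Surjective ⊓ @Flat ⊓ @QuasiCompact : MorphismProperty Scheme.{u}) :=
  MorphismProperty.diagonal_isomorphisms (C := Scheme.{u}) ▸ inferInstance

/-- A flat, locally finitely presented, surjective morphism generates a covering sieve. -/
theorem generate_singleton_mem' {T T' : Over S} (c : T' ⟶ T) [Flat c.left]
    [LocallyOfFinitePresentation c.left] [Surjective c.left] {R : Sieve T} (hc : R c) :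
    R ∈ (AlgSp.J S) T := by
  refine mem_J_of_forall_exists_flat R (fun τ => ?_)
  obtain ⟨τ', hτ'⟩ := c.left.surjective τ
  exact ⟨T', c, hc, ⟨τ', hτ'⟩, inferInstance, inferInstance⟩

theorem exists_rep_of_fppf_local {P : Sp S} {Z W E' : Over S} (π : P ⟶ (yon S).obj Z) [Mono π]
    (p : W ⟶ Z) [Flat p.left] [LocallyOfFinitePresentation p.left] [Surjective p.left]
    [QuasiCompact p.left] [QuasiSeparatedSpace W.left]
    (ι : E' ⟶ W) [Mono ι.left] [LocallyOfFiniteType ι.left]
    (H : ∀ {T : Over S} (x : T ⟶ W), (∃ v : T ⟶ E', v ≫ ι = x) ↔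
      ∃ s : (yon S).obj T ⟶ P, s ≫ π = (yon S).map (x ≫ p)) :
    ∃ (E : Over S) (j : E ⟶ Z), Mono j ∧ ∀ {T : Over S} (z : T ⟶ Z),
      (∃ u : T ⟶ E, u ≫ j = z) ↔ ∃ s : (yon S).obj T ⟶ P, s ≫ π = (yon S).map z := by
  have hWp : p.left ≫ Z.hom = W.hom := Over.w p
  have hEι : ι.left ≫ W.hom = E'.hom := Over.w ι
  -- stability
  have hst : StableMono p.left ι.left := by
    rintro T x₀ x₁ e ⟨v, hv⟩
    let TS : Over S := Over.mk (x₀ ≫ W.hom)
    let X₀ : TS ⟶ W := Over.homMk x₀ rfl
    let X₁ : TS ⟶ W := Over.homMk x₁ (by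
      change x₁ ≫ W.hom = x₀ ≫ W.hom
      rw [← hWp, ← Category.assoc, ← e, Category.assoc])
    let V : TS ⟶ E' := Over.homMk v (by
      change v ≫ E'.hom = x₀ ≫ W.hom
      rw [← hEι, ← Category.assoc, hv])
    have hV : V ≫ ι = X₀ := by
      ext
      exact hv
    have hX : X₀ ≫ p = X₁ ≫ p := by
      ext
      exact e
    obtain ⟨s, hs⟩ := (H X₀).1 ⟨V, hV⟩
    obtain ⟨v', hv'⟩ := (H X₁).2 ⟨s, by rw [hs, hX]⟩
    exact ⟨v'.left, congrArg (fun t => t.left) hv'⟩
  haveI : UniversallyOpen p.left := inferInstance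
  obtain ⟨U, j₀, e, sq⟩ := exists_isPullback_of_stableMono hst
  let E : Over S := Over.mk (j₀ ≫ Z.hom)
  let j : E ⟶ Z := Over.homMk j₀ rfl
  let eS : E' ⟶ E := Over.homMk e (by
    change e ≫ j₀ ≫ Z.hom = E'.hom
    rw [← Category.assoc, sq.w, Category.assoc, hWp, hEι])
  have heS : eS ≫ j = ι ≫ p := by
    ext
    exact sq.w
  have hj₀ : Mono j₀ := by
    have h1 : (MorphismProperty.monomorphisms Scheme.{u}) ι.left := inferInstanceAs (Mono ι.left)
    exact MorphismProperty.of_isPullback_of_descendsAlong
      (P := MorphismProperty.monomorphisms Scheme.{u})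
      (Q := (@Surjective ⊓ @Flat ⊓ @QuasiCompact : MorphismProperty Scheme.{u}))
      sq.flip ⟨⟨inferInstance, inferInstance⟩, inferInstance⟩ h1
  have hj : Mono j := by
    refine ⟨fun {T} a b hab => ?_⟩
    ext
    have := congrArg (fun t => t.left) hab
    exact (cancel_mono j₀).1 this
  haveI : Mono ((yon S).map j) := inferInstance
  -- properties of `e`
  have he1 : Flat e := MorphismProperty.of_isPullback (P := @Flat) sq.flip inferInstance
  have he2 : LocallyOfFinitePresentation e :=
    MorphismProperty.of_isPullback (P := @LocallyOfFinitePresentation) sq.flip inferInstance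
  have he3 : Surjective e := MorphismProperty.of_isPullback (P := @Surjective) sq.flip inferInstance
  haveI : Flat eS.left := he1
  haveI : LocallyOfFinitePresentation eS.left := he2
  haveI : Surjective eS.left := he3
  -- the tautological section
  obtain ⟨sι, hsι⟩ := (H ι).1 ⟨𝟙 _, Category.id_comp _⟩
  have hsE : ∃ sE : (yon S).obj E ⟶ P, sE ≫ π = (yon S).map j := by
    refine exists_factor_of_liftSieve π ((yon S).map j) ?_
    refine generate_singleton_mem' eS ?_
    exact ⟨sι, by rw [hsι, ← Functor.map_comp, heS]⟩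
  obtain ⟨sE, hsE⟩ := hsE
  refine ⟨E, j, hj, fun {T} z => ⟨?_, ?_⟩⟩
  · rintro ⟨u, rfl⟩
    exact ⟨(yon S).map u ≫ sE, by rw [Category.assoc, hsE, Functor.map_comp]⟩
  · rintro ⟨s, hs⟩
    -- the base change of `p`
    have sqT : IsPullback (pullback.fst z p) (pullback.snd z p) z p := IsPullback.of_hasPullback _ _
    have sqT' := sqT.map (Over.forget S)
    have h1 : Flat (pullback.fst z p).left :=
      MorphismProperty.of_isPullback (P := @Flat) sqT'.flip (inferInstanceAs (Flat p.left))
    have h2 : LocallyOfFinitePresentation (pullback.fst z p).left :=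
      MorphismProperty.of_isPullback (P := @LocallyOfFinitePresentation) sqT'.flip
        (inferInstanceAs (LocallyOfFinitePresentation p.left))
    have h3 : Surjective (pullback.fst z p).left :=
      MorphismProperty.of_isPullback (P := @Surjective) sqT'.flip
        (inferInstanceAs (Surjective p.left))
    obtain ⟨v, hv⟩ := (H (pullback.snd z p)).2 ⟨(yon S).map (pullback.fst z p) ≫ s, by
      rw [Category.assoc, hs, ← Functor.map_comp, sqT.w]⟩
    have hmem : liftSieve ((yon S).map j) ((yon S).map z) ∈ (AlgSp.J S) T := by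
      refine generate_singleton_mem' (pullback.fst z p) ?_
      refine ⟨(yon S).map (v ≫ eS), ?_⟩
      rw [← Functor.map_comp, ← Functor.map_comp, Category.assoc, heS, ← Category.assoc, hv, sqT.w]
    obtain ⟨x, hx⟩ := exists_factor_of_liftSieve ((yon S).map j) ((yon S).map z) hmem
    obtain ⟨u, rfl⟩ := (yon S).map_surjective x
    exact ⟨u, (yon S).map_injective (by rw [Functor.map_comp, hx])⟩

end Groth.Agent.H1.Boot
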