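import Mathlib

/-!
# Pullback squares of sheaves of sets with representable corners (helper1)
-/

set_option autoImplicit false
universe w v u₁ u

namespace Groth.Agent.H1.Slice

open CategoryTheory CategoryTheory.Limits Opposite

section Sections

variable {C : Type u₁} [Category.{v} C] {J : GrothendieckTopology C}

/-- A commutative square of presheaves of sets which is sectionwise cartesian is a pullback square. -/
theorem isPullback_presheaf_of_sections {P X Y Z : Cᵒᵖ ⥤ Type w} (fst : P ⟶ X) (snd : P ⟶ Y)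
    (f : X ⟶ Z) (g : Y ⟶ Z) (hw : fst ≫ f = snd ≫ g)
    (hinj : ∀ (U : Cᵒᵖ) (p q : P.obj U), fst.app U p = fst.app U q →
      snd.app U p = snd.app U q → p = q)
    (hsurj : ∀ (U : Cᵒᵖ) (x : X.obj U) (y : Y.obj U), f.app U x = g.app U y →
      ∃ p, fst.app U p = x ∧ snd.app U p = y) : IsPullback fst snd f g := by
  refine ⟨⟨hw⟩, ⟨evaluationJointlyReflectsLimits _ fun U => ?_⟩⟩
  refine (isLimitMapConePullbackConeEquiv ((evaluation Cᵒᵖ (Type w)).obj U) hw).symm ?_
  have h : IsPullback (fst.app U) (snd.app U) (f.app U) (g.app U) := by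
    rw [Types.isPullback_iff]
    refine ⟨?_, fun p q h => hinj U p q h.1 h.2, hsurj U⟩
    rw [← NatTrans.comp_app, ← NatTrans.comp_app, hw]
  exact h.isLimit

/-- A commutative square of sheaves of sets which is sectionwise cartesian is a pullback square. -/
theorem isPullback_of_sections {P X Y Z : Sheaf J (Type w)} (fst : P ⟶ X) (snd : P ⟶ Y)
    (f : X ⟶ Z) (g : Y ⟶ Z) (hw : fst ≫ f = snd ≫ g)
    (hinj : ∀ (U : Cᵒᵖ) (p q : P.obj.obj U), fst.hom.app U p = fst.hom.app U q →
      snd.hom.app U p = snd.hom.app U q → p = q)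
    (hsurj : ∀ (U : Cᵒᵖ) (x : X.obj.obj U) (y : Y.obj.obj U), f.hom.app U x = g.hom.app U y →
      ∃ p, fst.hom.app U p = x ∧ snd.hom.app U p = y) : IsPullback fst snd f g := by
  refine IsPullback.of_map (sheafToPresheaf J (Type w)) hw ?_
  exact isPullback_presheaf_of_sections fst.hom snd.hom f.hom g.hom
    (congrArg (fun t => t.hom) hw) hinj hsurj

end Sections

section Yoneda

variable {C : Type (u + 1)} [Category.{u} C] (J : GrothendieckTopology C) [J.Subcanonical]

/-- The Yoneda embedding into sheaves of (large) sets. -/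
abbrev y : C ⥤ Sheaf J (Type (u + 1)) := J.uliftYoneda.{u + 1}

variable {J}

/-- The Yoneda lemma for sheaves. -/
def yEquiv {X : C} {F : Sheaf J (Type (u + 1))} : ((y J).obj X ⟶ F) ≃ F.obj.obj (op X) :=
  (fullyFaithfulSheafToPresheaf J (Type (u + 1))).homEquiv.trans uliftYonedaEquiv.{u + 1}

lemma yEquiv_apply {X : C} {F : Sheaf J (Type (u + 1))} (a : (y J).obj X ⟶ F) :
    yEquiv a = a.hom.app (op X) (ULift.up (𝟙 X)) := rfl

lemma yEquiv_symm_app {X : C} {F : Sheaf J (Type (u + 1))} (α : F.obj.obj (op X)) {W : C}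
    (p : W ⟶ X) : (yEquiv.symm α).hom.app (op W) (ULift.up p) = F.obj.map p.op α := rfl

lemma y_map_app {X Y : C} (m : X ⟶ Y) {W : C} (p : W ⟶ X) :
    ((y J).map m).hom.app (op W) (ULift.up p) = ULift.up (p ≫ m) := rfl

lemma hom_app_up {X : C} {F : Sheaf J (Type (u + 1))} (a : (y J).obj X ⟶ F) {W : C}
    (p : W ⟶ X) : a.hom.app (op W) (ULift.up p) = F.obj.map p.op (yEquiv a) := by
  have h := congrArg (fun t => t.hom.app (op W) (ULift.up p)) (yEquiv.symm_apply_apply a)
  exact h.symm.trans (yEquiv_symm_app (yEquiv a) p)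

/-- `V` with `m`, `n` represents pairs of morphisms to `T` and `U` along which the sections `α`
and `β` become equal. -/
structure IsFib {G : Sheaf J (Type (u + 1))} {T U : C} (α : G.obj.obj (op T))
    (β : G.obj.obj (op U)) {V : C} (m : V ⟶ T) (n : V ⟶ U) : Prop where
  comm : G.obj.map m.op α = G.obj.map n.op β
  lift : ∀ {W : C} (p : W ⟶ T) (q : W ⟶ U), G.obj.map p.op α = G.obj.map q.op β →
    ∃ r : W ⟶ V, r ≫ m = p ∧ r ≫ n = q
  uniq : ∀ {W : C} (r r' : W ⟶ V), r ≫ m = r' ≫ m → r ≫ n = r' ≫ n → r = r'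

theorem isPullback_of_isFib {G : Sheaf J (Type (u + 1))} {T U : C} {α : G.obj.obj (op T)}
    {β : G.obj.obj (op U)} {V : C} {m : V ⟶ T} {n : V ⟶ U} (h : IsFib α β m n) :
    IsPullback ((y J).map m) ((y J).map n) (yEquiv.symm α) (yEquiv.symm β) := by
  refine isPullback_of_sections _ _ _ _ ?_ ?_ ?_
  · apply yEquiv.injective
    change G.obj.map (𝟙 V ≫ m).op α = G.obj.map (𝟙 V ≫ n).op β
    rw [Category.id_comp, Category.id_comp]
    exact h.comm
  · rintro ⟨W⟩ ⟨r⟩ ⟨r'⟩ h1 h2
    have h1' : ULift.up (r ≫ m) = ULift.up (r' ≫ m) := h1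
    have h2' : ULift.up (r ≫ n) = ULift.up (r' ≫ n) := h2
    rw [h.uniq r r' (ULift.up_injective h1') (ULift.up_injective h2')]
  · rintro ⟨W⟩ ⟨p⟩ ⟨q⟩ hpq
    obtain ⟨r, hr1, hr2⟩ := h.lift p q hpq
    refine ⟨ULift.up r, ?_, ?_⟩
    · change ULift.up (r ≫ m) = ULift.up p
      rw [hr1]
    · change ULift.up (r ≫ n) = ULift.up q
      rw [hr2]

theorem isFib_of_isPullback {G : Sheaf J (Type (u + 1))} {T U : C} {α : G.obj.obj (op T)}
    {β : G.obj.obj (op U)} {V : C} {m : V ⟶ T} {n : V ⟶ U}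
    (h : IsPullback ((y J).map m) ((y J).map n) (yEquiv.symm α) (yEquiv.symm β)) :
    IsFib α β m n where
  comm := by
    have h1 := congrArg (fun t => yEquiv t) h.w
    have h2 : yEquiv ((y J).map m ≫ yEquiv.symm α) = G.obj.map (𝟙 V ≫ m).op α := rfl
    have h3 : yEquiv ((y J).map n ≫ yEquiv.symm β) = G.obj.map (𝟙 V ≫ n).op β := rfl
    rw [Category.id_comp] at h2 h3
    exact h2.symm.trans (h1.trans h3)
  lift := by
    intro W p q hpq
    have hw : (y J).map p ≫ yEquiv.symm α = (y J).map q ≫ yEquiv.symm β := by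
      apply yEquiv.injective
      change G.obj.map (𝟙 W ≫ p).op α = G.obj.map (𝟙 W ≫ q).op β
      rw [Category.id_comp, Category.id_comp]
      exact hpq
    obtain ⟨r, hr⟩ := (y J).map_surjective (h.lift _ _ hw)
    refine ⟨r, (y J).map_injective ?_, (y J).map_injective ?_⟩
    · rw [Functor.map_comp, hr, h.lift_fst]
    · rw [Functor.map_comp, hr, h.lift_snd]
  uniq := by
    intro W r r' h1 h2
    apply (y J).map_injective
    apply h.hom_ext
    · rw [← Functor.map_comp, ← Functor.map_comp, h1]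
    · rw [← Functor.map_comp, ← Functor.map_comp, h2]

theorem isPullback_iff_isFib {G : Sheaf J (Type (u + 1))} {T U : C} {α : G.obj.obj (op T)}
    {β : G.obj.obj (op U)} {V : C} {m : V ⟶ T} {n : V ⟶ U} :
    IsPullback ((y J).map m) ((y J).map n) (yEquiv.symm α) (yEquiv.symm β) ↔ IsFib α β m n :=
  ⟨isFib_of_isPullback, isPullback_of_isFib⟩

end Yoneda

end Groth.Agent.H1.Slice
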