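import Groth.Agent.Lib.Helper1.BootB
import Groth.Agent.Lib.Helper1.SliceA

/-!
# Local liftings through an epimorphism from a representable sheaf (helper1)
-/

set_option autoImplicit false
universe u
open CategoryTheory CategoryTheory.Limits AlgebraicGeometry Opposite

namespace Groth.Agent.H1.Boot

open AlgSp Groth.Agent.Lib.Helper14.AlgSpQuot

variable {S : Scheme.{u}}

/-- Morphisms from a representable sheaf to a sheaf agree if they agree on a jointly surjective
family of flat morphisms locally of finite presentation. -/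
theorem hom_ext_of_cover {F : Sp S} {W : Over S} {κ : Type u} (Wk : κ → Over S)
    (c : ∀ k, Wk k ⟶ W) (h1 : ∀ k, Flat (c k).left)
    (h2 : ∀ k, LocallyOfFinitePresentation (c k).left)
    (h3 : ∀ x : ↥W.left, ∃ k, x ∈ Set.range (c k).left)
    (f g : (yon S).obj W ⟶ F) (h : ∀ k, (yon S).map (c k) ≫ f = (yon S).map (c k) ≫ g) : f = g := by
  have hR := cover_mem_family Wk c h1 h2 h3
  have hsep := ((isSheaf_iff_isSheaf_of_type _ _).1 F.property _ hR).isSeparatedFor
  apply (AlgSp.J S).uliftYonedaEquiv.injective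
  refine hsep.ext ?_
  rintro V d ⟨_, e, _, ⟨k⟩, rfl⟩
  have hk := congrArg (fun t => (AlgSp.J S).uliftYonedaEquiv ((yon S).map e ≫ t)) (h k)
  simp only [← Category.assoc, ← Functor.map_comp] at hk
  rw [← GrothendieckTopology.uliftYonedaEquiv_naturality,
    ← GrothendieckTopology.uliftYonedaEquiv_naturality] at hk
  exact hk


/-- A section of `F` over an affine scheme lifts through an epimorphism `h_U ⟶ F` after passing
to a single affine fppf cover. -/
theorem exists_affine_lift {F : Sp S} {U : Over S} (a : (yon S).obj U ⟶ F) [Epi a]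
    (Z : Over S) [IsAffine Z.left] (η : (yon S).obj Z ⟶ F) :
    ∃ (W : Over S) (p : W ⟶ Z) (u : W ⟶ U), IsAffine W.left ∧ Flat p.left ∧
      LocallyOfFinitePresentation p.left ∧ Surjective p.left ∧
      (yon S).map u ≫ a = (yon S).map p ≫ η := by
  have hcov := liftSieve_mem_of_epi a η
  have hex := fun τ : ↥Z.left => exists_flat_mem_of_mem_J _ hcov τ
  choose T' f τ' hf hτ hfl hlfp using hex
  have hex2 : ∀ τ : ↥Z.left, ∃ A : (T' τ).left.Opens, IsAffineOpen A ∧ τ' τ ∈ A := by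
    intro τ
    obtain ⟨_, ⟨A, hA, rfl⟩, hv, -⟩ := (T' τ).left.isBasis_affineOpens.exists_subset_of_mem_open
      (Set.mem_univ (τ' τ)) isOpen_univ
    exact ⟨A, hA, hv⟩
  choose A hA hτA using hex2
  let g : ∀ τ : ↥Z.left, ((A τ : (T' τ).left.Opens) : Scheme.{u}) ⟶ Z.left :=
    fun τ => (A τ).ι ≫ (f τ).left
  have hgfl : ∀ τ, Flat (g τ) := fun τ => by
    haveI := hfl τ
    exact inferInstanceAs (Flat ((A τ).ι ≫ (f τ).left))
  have hglfp : ∀ τ, LocallyOfFinitePresentation (g τ) := fun τ => by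
    haveI := hlfp τ
    exact inferInstanceAs (LocallyOfFinitePresentation ((A τ).ι ≫ (f τ).left))
  have hgopen : ∀ τ, IsOpen (Set.range (g τ)) := fun τ => by
    haveI := hgfl τ
    haveI := hglfp τ
    exact (g τ).isOpenMap.isOpen_range
  have hgmem : ∀ τ, τ ∈ Set.range (g τ) := fun τ => by
    refine ⟨⟨τ' τ, hτA τ⟩, ?_⟩
    change ((A τ).ι ≫ (f τ).left) ⟨τ' τ, hτA τ⟩ = τ
    rw [Scheme.Hom.comp_apply]
    exact hτ τ
  obtain ⟨t, ht⟩ := isCompact_univ.elim_finite_subcover (fun τ => Set.range (g τ)) hgopen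
    (fun τ _ => Set.mem_iUnion.2 ⟨τ, hgmem τ⟩)
  let I : Type u := ↥(t : Set ↥Z.left)
  haveI : Finite I := t.finite_toSet.to_subtype
  let Ak : I → Scheme.{u} := fun k => ((A k.1 : (T' k.1).left.Opens) : Scheme.{u})
  haveI : ∀ k, IsAffine (Ak k) := fun k => hA k.1
  let W₀ : Scheme.{u} := ∐ Ak
  let wS : W₀ ⟶ S := Sigma.desc (fun k => (A k.1).ι ≫ (T' k.1).hom)
  let W : Over S := Over.mk wS
  let p₀ : W₀ ⟶ Z.left := Sigma.desc (fun k => g k.1)
  have hp₀ : p₀ ≫ Z.hom = wS := by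
    apply Sigma.hom_ext
    intro k
    rw [Sigma.ι_desc_assoc, Sigma.ι_desc]
    change ((A k.1).ι ≫ (f k.1).left) ≫ Z.hom = _
    rw [Category.assoc, Over.w (f k.1)]
  let p : W ⟶ Z := Over.homMk p₀ hp₀
  have hpfl : Flat p₀ := by
    rw [IsZariskiLocalAtSource.iff_of_openCover (P := @Flat) (sigmaOpenCover Ak)]
    intro k
    have : (sigmaOpenCover Ak).f k ≫ p₀ = g k.1 := Sigma.ι_desc _ _
    rw [this]
    exact hgfl k.1
  have hplfp : LocallyOfFinitePresentation p₀ := by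
    rw [IsZariskiLocalAtSource.iff_of_openCover (P := @LocallyOfFinitePresentation)
      (sigmaOpenCover Ak)]
    intro k
    have : (sigmaOpenCover Ak).f k ≫ p₀ = g k.1 := Sigma.ι_desc _ _
    rw [this]
    exact hglfp k.1
  have hpsurj : Surjective p₀ := by
    refine ⟨fun z => ?_⟩
    have hz := ht (Set.mem_univ z)
    simp only [Set.mem_iUnion] at hz
    obtain ⟨τ, hτt, y, hy⟩ := hz
    refine ⟨Sigma.ι Ak ⟨τ, hτt⟩ y, ?_⟩
    rw [← Scheme.Hom.comp_apply, Sigma.ι_desc]
    exact hy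
  -- the lifts
  have hx : ∀ τ, ∃ u' : T' τ ⟶ U, (yon S).map u' ≫ a = (yon S).map (f τ) ≫ η := by
    intro τ
    obtain ⟨x, hx⟩ := hf τ
    obtain ⟨u', rfl⟩ := (yon S).map_surjective x
    exact ⟨u', hx⟩
  choose u' hu' using hx
  let u₀ : W₀ ⟶ U.left := Sigma.desc (fun k => (A k.1).ι ≫ (u' k.1).left)
  have hu₀ : u₀ ≫ U.hom = wS := by
    apply Sigma.hom_ext
    intro k
    rw [Sigma.ι_desc_assoc, Sigma.ι_desc, Category.assoc, Over.w (u' k.1)]
  let u : W ⟶ U := Over.homMk u₀ hu₀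
  refine ⟨W, p, u, inferInstanceAs (IsAffine (∐ Ak)), hpfl, hplfp, hpsurj, ?_⟩
  -- the cover of `W` by the summands
  let Wk : I → Over S := fun k => Over.mk ((A k.1).ι ≫ (T' k.1).hom)
  let c : ∀ k, Wk k ⟶ W := fun k => Over.homMk (Sigma.ι Ak k) (Sigma.ι_desc _ _)
  let jA : ∀ k : I, Wk k ⟶ T' k.1 := fun k => Over.homMk (A k.1).ι rfl
  have hcu : ∀ k, c k ≫ u = jA k ≫ u' k.1 := by
    intro k
    ext
    exact Sigma.ι_desc _ _
  have hcp : ∀ k, c k ≫ p = jA k ≫ f k.1 := by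
    intro k
    ext
    exact Sigma.ι_desc _ _
  refine hom_ext_of_cover Wk c (fun k => ?_) (fun k => ?_) (fun x => ?_) _ _ (fun k => ?_)
  · exact inferInstanceAs (Flat (Sigma.ι Ak k))
  · exact inferInstanceAs (LocallyOfFinitePresentation (Sigma.ι Ak k))
  · obtain ⟨k, y, hy⟩ := (sigmaOpenCover Ak).exists_eq x
    exact ⟨k, y, hy⟩
  · rw [← Category.assoc, ← Functor.map_comp, hcu, Functor.map_comp, Category.assoc, hu',
      ← Category.assoc, ← Functor.map_comp, ← hcp, Functor.map_comp, Category.assoc]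

end Groth.Agent.H1.Boot
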