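import Groth.Agent.Lib.Helper1.BootC

/-!
# Equalizers of sections of a quotient of a representable sheaf are representable (helper1)
-/

set_option autoImplicit false
universe u
open CategoryTheory CategoryTheory.Limits AlgebraicGeometry Opposite

namespace Groth.Agent.H1.Boot

open AlgSp Groth.Agent.Lib.Helper14.AlgSpQuot

variable {S : Scheme.{u}}

section KeyLemma

variable {F : Sp S} {U R : Over S} (a : (yon S).obj U ⟶ F) [Epi a] (r₁ r₂ : R ⟶ U)
  (hk : IsPullback ((yon S).map r₁) ((yon S).map r₂) a a)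

include hk in
lemma mono_prod_lift_of_kernelPair : Mono (prod.lift r₁ r₂) := by
  refine ⟨fun {T} b c hbc => ?_⟩
  have e1 : prod.lift r₁ r₂ ≫ prod.fst = r₁ := prod.lift_fst _ _
  have e2 : prod.lift r₁ r₂ ≫ prod.snd = r₂ := prod.lift_snd _ _
  have h1 : b ≫ r₁ = c ≫ r₁ := by
    calc b ≫ r₁ = b ≫ prod.lift r₁ r₂ ≫ prod.fst := by rw [e1]
      _ = c ≫ prod.lift r₁ r₂ ≫ prod.fst := by rw [← Category.assoc, hbc, Category.assoc]
      _ = c ≫ r₁ := by rw [e1]
  have h2 : b ≫ r₂ = c ≫ r₂ := by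
    calc b ≫ r₂ = b ≫ prod.lift r₁ r₂ ≫ prod.snd := by rw [e2]
      _ = c ≫ prod.lift r₁ r₂ ≫ prod.snd := by rw [← Category.assoc, hbc, Category.assoc]
      _ = c ≫ r₂ := by rw [e2]
  apply (yon S).map_injective
  apply hk.hom_ext
  · rw [← Functor.map_comp, ← Functor.map_comp, h1]
  · rw [← Functor.map_comp, ← Functor.map_comp, h2]

include hk in
lemma exists_lift_kernelPair_iff {T : Over S} (x₁ x₂ : T ⟶ U) :
    (∃ r : T ⟶ R, r ≫ r₁ = x₁ ∧ r ≫ r₂ = x₂) ↔
      (yon S).map x₁ ≫ a = (yon S).map x₂ ≫ a := by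
  constructor
  · rintro ⟨r, rfl, rfl⟩
    rw [Functor.map_comp, Functor.map_comp, Category.assoc, Category.assoc, hk.w]
  · intro h
    obtain ⟨r, hr⟩ := (yon S).map_surjective (hk.lift _ _ h)
    refine ⟨r, (yon S).map_injective ?_, (yon S).map_injective ?_⟩
    · rw [Functor.map_comp, hr, hk.lift_fst]
    · rw [Functor.map_comp, hr, hk.lift_snd]

include hk in
/-- **Key lemma.** The locus where two sections of `F` over an affine scheme agree is
representable. -/
theorem exists_rep_eq [LocallyOfFiniteType r₁.left] (Z : Over S) [IsAffine Z.left]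
    (α₁ α₂ : (yon S).obj Z ⟶ F) :
    ∃ (E : Over S) (j : E ⟶ Z), Mono j ∧ ∀ {T : Over S} (z : T ⟶ Z),
      (∃ u : T ⟶ E, u ≫ j = z) ↔ (yon S).map z ≫ α₁ = (yon S).map z ≫ α₂ := by
  obtain ⟨W₁, p₁, u₁, hW₁, hp₁a, hp₁b, hp₁c, hu₁⟩ := exists_affine_lift a Z α₁
  obtain ⟨W₂, p₂, u₂, hW₂, hp₂a, hp₂b, hp₂c, hu₂⟩ := exists_affine_lift a Z α₂
  let W : Over S := Over.mk (pullback.fst p₁.left p₂.left ≫ W₁.hom)
  let q₁ : W ⟶ W₁ := Over.homMk (pullback.fst p₁.left p₂.left) rfl
  let q₂ : W ⟶ W₂ := Over.homMk (pullback.snd p₁.left p₂.left) (by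
    change pullback.snd p₁.left p₂.left ≫ W₂.hom = pullback.fst p₁.left p₂.left ≫ W₁.hom
    rw [← Over.w p₂, ← Over.w p₁, ← Category.assoc, ← Category.assoc, pullback.condition])
  let p : W ⟶ Z := q₁ ≫ p₁
  have hp' : p = q₂ ≫ p₂ := by
    ext
    exact pullback.condition
  haveI : IsAffine W.left := inferInstanceAs (IsAffine (pullback p₁.left p₂.left))
  haveI : Flat p.left := inferInstanceAs (Flat (pullback.fst p₁.left p₂.left ≫ p₁.left))
  haveI : LocallyOfFinitePresentation p.left :=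
    inferInstanceAs (LocallyOfFinitePresentation (pullback.fst p₁.left p₂.left ≫ p₁.left))
  haveI : Surjective p.left :=
    inferInstanceAs (Surjective (pullback.fst p₁.left p₂.left ≫ p₁.left))
  haveI : QuasiCompact p.left := inferInstance
  let v₁ : W ⟶ U := q₁ ≫ u₁
  let v₂ : W ⟶ U := q₂ ≫ u₂
  have hv₁ : (yon S).map v₁ ≫ a = (yon S).map p ≫ α₁ := by
    rw [Functor.map_comp, Category.assoc, hu₁, Functor.map_comp, Category.assoc]
  have hv₂ : (yon S).map v₂ ≫ a = (yon S).map p ≫ α₂ := by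
    rw [Functor.map_comp, Category.assoc, hu₂, hp', Functor.map_comp, Category.assoc]
  haveI := mono_prod_lift_of_kernelPair a r₁ r₂ hk
  let E' : Over S := pullback (prod.lift v₁ v₂) (prod.lift r₁ r₂)
  let ι : E' ⟶ W := pullback.fst (prod.lift v₁ v₂) (prod.lift r₁ r₂)
  haveI : Mono ι := inferInstance
  haveI : Mono ι.left := inferInstance
  have hr : LocallyOfFiniteType (prod.lift r₁ r₂).left := by
    have h1 : (prod.lift r₁ r₂).left ≫ (prod.fst : U ⨯ U ⟶ U).left = r₁.left := by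
      rw [← Over.comp_left, prod.lift_fst]
    have h2 : LocallyOfFiniteType ((prod.lift r₁ r₂).left ≫ (prod.fst : U ⨯ U ⟶ U).left) := by
      rw [h1]
      infer_instance
    exact locallyOfFiniteType_of_comp (prod.lift r₁ r₂).left (prod.fst : U ⨯ U ⟶ U).left
  haveI : LocallyOfFiniteType ι.left := by
    have sq : IsPullback ι (pullback.snd (prod.lift v₁ v₂) (prod.lift r₁ r₂))
        (prod.lift v₁ v₂) (prod.lift r₁ r₂) := IsPullback.of_hasPullback _ _
    exact MorphismProperty.of_isPullback (P := @LocallyOfFiniteType)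
      (sq.map (Over.forget S)).flip hr
  have er1 : prod.lift r₁ r₂ ≫ prod.fst = r₁ := prod.lift_fst _ _
  have er2 : prod.lift r₁ r₂ ≫ prod.snd = r₂ := prod.lift_snd _ _
  have ev1 : prod.lift v₁ v₂ ≫ prod.fst = v₁ := prod.lift_fst _ _
  have ev2 : prod.lift v₁ v₂ ≫ prod.snd = v₂ := prod.lift_snd _ _
  have hxv₁ : ∀ {T : Over S} (x : T ⟶ W),
      (yon S).map (x ≫ v₁) ≫ a = (yon S).map (x ≫ p) ≫ α₁ := by
    intro T x
    rw [(yon S).map_comp x v₁, Category.assoc, hv₁, ← Category.assoc, ← (yon S).map_comp x p]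
  have hxv₂ : ∀ {T : Over S} (x : T ⟶ W),
      (yon S).map (x ≫ v₂) ≫ a = (yon S).map (x ≫ p) ≫ α₂ := by
    intro T x
    rw [(yon S).map_comp x v₂, Category.assoc, hv₂, ← Category.assoc, ← (yon S).map_comp x p]
  have H : ∀ {T : Over S} (x : T ⟶ W), (∃ v : T ⟶ E', v ≫ ι = x) ↔
      ∃ s : (yon S).obj T ⟶ equalizer α₁ α₂,
        s ≫ equalizer.ι α₁ α₂ = (yon S).map (x ≫ p) := by
    intro T x
    have e1 : (∃ v : T ⟶ E', v ≫ ι = x) ↔ ∃ r : T ⟶ R, r ≫ r₁ = x ≫ v₁ ∧ r ≫ r₂ = x ≫ v₂ := by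
      constructor
      · rintro ⟨v, rfl⟩
        have hc := pullback.condition (f := prod.lift v₁ v₂) (g := prod.lift r₁ r₂)
        refine ⟨v ≫ pullback.snd _ _, ?_, ?_⟩
        · calc (v ≫ pullback.snd _ _) ≫ r₁
              = v ≫ (pullback.snd _ _ ≫ prod.lift r₁ r₂) ≫ prod.fst := by
                rw [Category.assoc, Category.assoc, er1]
            _ = v ≫ (ι ≫ prod.lift v₁ v₂) ≫ prod.fst := by rw [← hc]
            _ = (v ≫ ι) ≫ v₁ := by rw [Category.assoc, Category.assoc, ev1]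
        · calc (v ≫ pullback.snd _ _) ≫ r₂
              = v ≫ (pullback.snd _ _ ≫ prod.lift r₁ r₂) ≫ prod.snd := by
                rw [Category.assoc, Category.assoc, er2]
            _ = v ≫ (ι ≫ prod.lift v₁ v₂) ≫ prod.snd := by rw [← hc]
            _ = (v ≫ ι) ≫ v₂ := by rw [Category.assoc, Category.assoc, ev2]
      · rintro ⟨r, hr1, hr2⟩
        refine ⟨pullback.lift x r ?_, pullback.lift_fst _ _ _⟩
        apply Limits.prod.hom_ext
        · rw [Category.assoc, Category.assoc, ev1, er1, hr1]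
        · rw [Category.assoc, Category.assoc, ev2, er2, hr2]
    rw [e1, exists_lift_kernelPair_iff a r₁ r₂ hk, hxv₁ x, hxv₂ x]
    constructor
    · intro h
      exact ⟨equalizer.lift ((yon S).map (x ≫ p)) h, equalizer.lift_ι _ _⟩
    · rintro ⟨s, hs⟩
      have h2 := congrArg (fun t => s ≫ t) (equalizer.condition α₁ α₂)
      simp only [← Category.assoc, hs] at h2
      exact h2
  obtain ⟨E, j, hj, hE⟩ := exists_rep_of_fppf_local (equalizer.ι α₁ α₂) p ι H
  refine ⟨E, j, hj, fun {T} z => (hE z).trans ⟨?_, ?_⟩⟩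
  · rintro ⟨s, hs⟩
    have h2 := congrArg (fun t => s ≫ t) (equalizer.condition α₁ α₂)
    simp only [← Category.assoc, hs] at h2
    exact h2
  · intro h
    exact ⟨equalizer.lift ((yon S).map z) h, equalizer.lift_ι _ _⟩

end KeyLemma

end Groth.Agent.H1.Boot
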