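import Groth.Prelude.Def_AlgSp3
import Groth.Agent.Lib.Helper5.AlgSpInf3
import Groth.Agent.Lib.Helper5.AlgSpEpi
import Mathlib.AlgebraicGeometry.RelativeGluing

/-!
# Zariski-local representability over a scheme (helper1)

For `π : P ⟶ h_T` a map of fppf sheaves over `S` such that over every affine open `V ⊆ T` the base change
`P ×_{h_T} h_V` is representable, `P` is representable by a scheme `W` over `T`, glued from the local representing
schemes (Mathlib's relative gluing).
-/

set_option autoImplicit false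
universe u
open CategoryTheory CategoryTheory.Limits AlgebraicGeometry Opposite
open AlgSp

namespace Groth.Agent.H1.ZarRep

variable {S : Scheme.{u}}

/-- An open of `T` as a scheme over `S`. -/
noncomputable abbrev ov (T : Over S) (V : T.left.Opens) : Over S := Over.mk (V.ι ≫ T.hom)

/-- The inclusion of an open of `T`, over `S`. -/
noncomputable abbrev ovι (T : Over S) (V : T.left.Opens) : ov T V ⟶ T := Over.homMk V.ι rfl

/-- The inclusion between opens of `T`, over `S`. -/
noncomputable abbrev ovLE (T : Over S) {V V' : T.left.Opens} (h : V ≤ V') : ov T V ⟶ ov T V' :=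
  Over.homMk (T.left.homOfLE h) (by
    show T.left.homOfLE h ≫ V'.ι ≫ T.hom = V.ι ≫ T.hom
    rw [← Category.assoc, Scheme.homOfLE_ι])

theorem ovLE_ovι (T : Over S) {V V' : T.left.Opens} (h : V ≤ V') : ovLE T h ≫ ovι T V' = ovι T V := by
  apply Over.OverMorphism.ext
  show T.left.homOfLE h ≫ V'.ι = V.ι
  exact Scheme.homOfLE_ι _ _

/-- A scheme representing the base change of `π : P ⟶ h_T` to the open `V`. -/
structure LocRep {T : Over S} {P : Sp S} (π : P ⟶ (yon S).obj T) (V : T.left.Opens) where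
  W : Over S
  w : W ⟶ ov T V
  a : (yon S).obj W ⟶ P
  sq : IsPullback a ((yon S).map w) π ((yon S).map (ovι T V))

variable {T : Over S} {P : Sp S} {π : P ⟶ (yon S).obj T}

/-- The transition map between local representing schemes. -/
theorem exists_tr {V V' : T.left.Opens} (h : V ≤ V') (D : LocRep π V) (D' : LocRep π V') :
    ∃ m : D.W ⟶ D'.W, (yon S).map m ≫ D'.a = D.a ∧ m ≫ D'.w = D.w ≫ ovLE T h := by
  obtain ⟨l, hl1, hl2⟩ := D'.sq.exists_lift D.a ((yon S).map (D.w ≫ ovLE T h)) (by
    rw [D.sq.w, ← Functor.map_comp, ← Functor.map_comp, Category.assoc, ovLE_ovι])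
  obtain ⟨m, rfl⟩ := (yon S).map_surjective l
  refine ⟨m, hl1, ?_⟩
  apply (yon S).map_injective
  rw [Functor.map_comp, hl2]

theorem tr_unique {V' : T.left.Opens} (D' : LocRep π V') {Z : Over S} (m m' : Z ⟶ D'.W)
    (h1 : (yon S).map m ≫ D'.a = (yon S).map m' ≫ D'.a) (h2 : m ≫ D'.w = m' ≫ D'.w) : m = m' := by
  apply (yon S).map_injective
  apply D'.sq.hom_ext h1
  rw [← Functor.map_comp, ← Functor.map_comp, h2]

/-- The transition square is a pullback. -/
theorem isPullback_tr {V V' : T.left.Opens} (h : V ≤ V') (D : LocRep π V) (D' : LocRep π V')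
    (m : D.W ⟶ D'.W) (hm1 : (yon S).map m ≫ D'.a = D.a) (hm2 : m ≫ D'.w = D.w ≫ ovLE T h) :
    IsPullback m D.w D'.w (ovLE T h) := by
  have hbig : IsPullback ((yon S).map m ≫ D'.a) ((yon S).map D.w) π
      ((yon S).map (ovLE T h) ≫ (yon S).map (ovι T V')) := by
    rw [hm1, ← Functor.map_comp, ovLE_ovι]
    exact D.sq
  have hleft : IsPullback ((yon S).map m) ((yon S).map D.w) ((yon S).map D'.w) ((yon S).map (ovLE T h)) :=
    IsPullback.of_right hbig (by rw [← Functor.map_comp, ← Functor.map_comp, hm2]) D'.sq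
  exact IsPullback.of_map (yon S) hm2 hleft


/-! ## The gluing data -/

section Glue

variable (D : ∀ V : T.left.affineOpens, LocRep π V.1)

/-- The chosen transition maps. -/
noncomputable def tr {V V' : T.left.affineOpens} (h : V ≤ V') : (D V).W ⟶ (D V').W :=
  (exists_tr (T := T) (show V.1 ≤ V'.1 from h) (D V) (D V')).choose

theorem tr_a {V V' : T.left.affineOpens} (h : V ≤ V') : (yon S).map (tr D h) ≫ (D V').a = (D V).a :=
  (exists_tr (T := T) (show V.1 ≤ V'.1 from h) (D V) (D V')).choose_spec.1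

theorem tr_w {V V' : T.left.affineOpens} (h : V ≤ V') :
    tr D h ≫ (D V').w = (D V).w ≫ ovLE T (show V.1 ≤ V'.1 from h) :=
  (exists_tr (T := T) (show V.1 ≤ V'.1 from h) (D V) (D V')).choose_spec.2

theorem tr_id (V : T.left.affineOpens) : tr D (le_refl V) = 𝟙 _ := by
  apply tr_unique (D V)
  · rw [tr_a, CategoryTheory.Functor.map_id, Category.id_comp]
  · rw [tr_w, Category.id_comp]
    have : ovLE T (le_refl V.1) = 𝟙 _ := by
      apply Over.OverMorphism.ext
      exact Scheme.homOfLE_rfl _ _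
    rw [this, Category.comp_id]

theorem tr_comp {V V' V'' : T.left.affineOpens} (h : V ≤ V') (h' : V' ≤ V'') :
    tr D h ≫ tr D h' = tr D (h.trans h') := by
  apply tr_unique (D V'')
  · rw [Functor.map_comp, Category.assoc, tr_a, tr_a, tr_a]
  · rw [Category.assoc, tr_w, ← Category.assoc, tr_w, tr_w, Category.assoc]
    congr 1
    apply Over.OverMorphism.ext
    exact Scheme.homOfLE_homOfLE _ (show V.1 ≤ V'.1 from h) (show V'.1 ≤ V''.1 from h')

/-- The functor of local representing schemes. -/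
noncomputable def gFunctor : T.left.directedAffineCover.I₀ ⥤ Scheme.{u} where
  obj V := (D V).W.left
  map f := (tr D (leOfHom f)).left
  map_id V := by
    have := tr_id D V
    exact congrArg (fun m => m.left) this
  map_comp f g := by
    have := tr_comp D (leOfHom f) (leOfHom g)
    exact (congrArg (fun m => m.left) this).symm


/-- The structure maps of the local representing schemes. -/
noncomputable def gNatTrans : gFunctor D ⟶ T.left.directedAffineCover.functorOfLocallyDirected where
  app V := (D V).w.left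
  naturality V V' f := by
    have h := congrArg (fun m => m.left) (tr_w D (leOfHom f))
    exact h

theorem gNatTrans_equifibered : (gNatTrans D).Equifibered := by
  intro V V' f
  have h := isPullback_tr (T := T) (show V.1 ≤ V'.1 from leOfHom f) (D V) (D V') (tr D (leOfHom f))
    (tr_a D (leOfHom f)) (tr_w D (leOfHom f))
  exact h.map (Over.forget S)

/-- The relative gluing datum. -/
noncomputable def gData : Scheme.Cover.RelativeGluingData T.left.directedAffineCover where
  functor := gFunctor D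
  natTrans := gNatTrans D
  equifibered := gNatTrans_equifibered D


/-- The glued scheme, over `S`. -/
noncomputable def gW : Over S := Over.mk ((gData D).toBase ≫ T.hom)

/-- The structure map of the glued scheme. -/
noncomputable def gw : gW D ⟶ T := Over.homMk (gData D).toBase rfl

theorem gj_w (V : T.left.affineOpens) :
    colimit.ι (gData D).functor V ≫ (gW D).hom = (D V).W.hom := by
  show colimit.ι (gData D).functor V ≫ (gData D).toBase ≫ T.hom = _
  rw [← Category.assoc, Scheme.Cover.RelativeGluingData.ι_toBase]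
  have := Over.w (D V).w
  rw [← this]
  rfl

/-- The inclusions of the local representing schemes into the glued scheme. -/
noncomputable def gj (V : T.left.affineOpens) : (D V).W ⟶ gW D :=
  Over.homMk (colimit.ι (gData D).functor V) (gj_w D V)

theorem gj_gw (V : T.left.affineOpens) : gj D V ≫ gw D = (D V).w ≫ ovι T V.1 := by
  apply Over.OverMorphism.ext
  show colimit.ι (gData D).functor V ≫ (gData D).toBase = (D V).w.left ≫ V.1.ι
  rw [Scheme.Cover.RelativeGluingData.ι_toBase]
  rfl

theorem tr_gj {V V' : T.left.affineOpens} (h : V ≤ V') : tr D h ≫ gj D V' = gj D V := by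
  apply Over.OverMorphism.ext
  show (gData D).functor.map (homOfLE h) ≫ colimit.ι (gData D).functor V' = colimit.ι (gData D).functor V
  exact colimit.w _ _

instance (V : T.left.affineOpens) : IsOpenImmersion (gj D V).left := by
  show IsOpenImmersion (colimit.ι (gData D).functor V)
  exact ((gData D).cover).map_prop V

theorem isPullback_gj (V : T.left.affineOpens) :
    IsPullback (D V).w.left (gj D V).left V.1.ι (gw D).left :=
  (gData D).isPullback_natTrans_ι_toBase V

theorem exists_gj_mem (x : ↥(gW D).left) : ∃ V, x ∈ Set.range (gj D V).left :=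
  ⟨_, (gData D).cover.covers x⟩


theorem mem_range_gj_iff (V : T.left.affineOpens) (x : ↥(gW D).left) :
    x ∈ Set.range (gj D V).left ↔ (gw D).left x ∈ V.1 := by
  have h := (gData D).preimage_toBase_eq_range_ι V
  have h2 : Set.range (T.left.directedAffineCover.f V) = (V.1 : Set ↥T.left) := by
    show Set.range V.1.ι = _
    exact Scheme.Opens.range_ι _
  rw [h2] at h
  show x ∈ Set.range (colimit.ι (gData D).functor V) ↔ _
  rw [← h]
  rfl

instance (V : T.left.affineOpens) : Mono (gj D V) := by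
  have : Mono ((Over.forget S).map (gj D V)) := by
    show Mono (gj D V).left
    infer_instance
  exact (Over.forget S).mono_of_mono_map this

/-- Locally on the source, a map to the glued scheme factors through a local representing scheme. -/
theorem exists_local_factor {Z : Over S} (ζ : Z ⟶ gW D) (V : T.left.affineOpens) :
    ∃ (ξ : ov Z ((ζ ≫ gw D).left ⁻¹ᵁ V.1) ⟶ (D V).W),
      ξ ≫ gj D V = ovι Z ((ζ ≫ gw D).left ⁻¹ᵁ V.1) ≫ ζ := by
  let Z' : Z.left.Opens := (ζ ≫ gw D).left ⁻¹ᵁ V.1
  have hr : Set.range (Z'.ι ≫ ζ.left) ⊆ Set.range (gj D V).left := by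
    rintro _ ⟨y, rfl⟩
    have : (Z'.ι y) ∈ Z' := by
      have := Scheme.Opens.range_ι Z'
      rw [← SetLike.mem_coe, ← this]
      exact ⟨y, rfl⟩
    exact (mem_range_gj_iff D V _).2 this
  let ξ₀ : (Z' : Scheme.{u}) ⟶ (D V).W.left := IsOpenImmersion.lift (gj D V).left (Z'.ι ≫ ζ.left) hr
  have hξ₀ : ξ₀ ≫ (gj D V).left = Z'.ι ≫ ζ.left := IsOpenImmersion.lift_fac _ _ _
  have hover : ξ₀ ≫ (D V).W.hom = (ov Z Z').hom := by
    show _ = Z'.ι ≫ Z.hom
    rw [← Over.w (gj D V), ← Category.assoc, hξ₀, Category.assoc, Over.w ζ]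
  refine ⟨Over.homMk ξ₀ hover, ?_⟩
  apply Over.OverMorphism.ext
  exact hξ₀

theorem exists_local_factor' {Z : Over S} (ζ : Z ⟶ gW D) (τ : Z ⟶ T) (hτ : ζ ≫ gw D = τ)
    (V : T.left.affineOpens) :
    ∃ (ξ : ov Z (τ.left ⁻¹ᵁ V.1) ⟶ (D V).W), ξ ≫ gj D V = ovι Z (τ.left ⁻¹ᵁ V.1) ≫ ζ := by
  subst hτ
  exact exists_local_factor D ζ V

theorem gw_gj_mem (V : T.left.affineOpens) {Z : Over S} (g : Z ⟶ (D V).W) (z : ↥Z.left) :
    (gw D).left ((g ≫ gj D V).left z) ∈ V.1 := by
  have h : (g ≫ gj D V) ≫ gw D = (g ≫ (D V).w) ≫ ovι T V.1 := by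
    rw [Category.assoc, gj_gw, Category.assoc]
  have h' := congrArg (fun m => m.left z) h
  simp only [Over.comp_left, Scheme.Hom.comp_apply] at h'
  show (gw D).left ((gj D V).left (g.left z)) ∈ V.1
  rw [h']
  exact ((D V).w.left (g.left z)).2

open Groth.Agent.Lib.helper5 in
theorem compat_aux {V V' : T.left.affineOpens} {Z : Over S} (gi : Z ⟶ (D V).W) (gj' : Z ⟶ (D V').W)
    (ζ : Z ⟶ gW D) (hζ1 : gi ≫ gj D V = ζ) (hζ2 : gj' ≫ gj D V' = ζ) :
    (yon S).map gi ≫ (D V).a = (yon S).map gj' ≫ (D V').a := by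
  have hchoice : ∀ z : ↥Z.left, ∃ V'' : T.left.affineOpens, V'' ≤ V ∧ V'' ≤ V' ∧
      (gw D).left (ζ.left z) ∈ V''.1 := by
    intro z
    have m1 := gw_gj_mem D V gi z
    have m2 := gw_gj_mem D V' gj' z
    rw [hζ1] at m1
    rw [hζ2] at m2
    obtain ⟨W, hW, hzW, hWle⟩ := exists_affineOpen_mem_le (V.1 ⊓ V'.1) _ ⟨m1, m2⟩
    exact ⟨⟨W, hW⟩, hWle.trans inf_le_left, hWle.trans inf_le_right, hzW⟩
  choose V'' h1 h2 h3 using hchoice
  choose ξ hξ using fun z => exists_local_factor D ζ (V'' z)
  refine yon_hom_ext_of_family _ _ (fun z => ov Z ((ζ ≫ gw D).left ⁻¹ᵁ (V'' z).1))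
    (fun z => ovι Z _)
    (fun z => by show Flat (Scheme.Opens.ι _); infer_instance)
    (fun z => by show LocallyOfFinitePresentation (Scheme.Opens.ι _); infer_instance)
    (fun z => ⟨z, by
      show z ∈ Set.range (Scheme.Opens.ι _)
      rw [Scheme.Opens.range_ι]
      exact h3 z⟩) ?_
  intro z
  have e1 : ovι Z _ ≫ gi = ξ z ≫ tr D (h1 z) := by
    rw [← cancel_mono (gj D V), Category.assoc, Category.assoc, tr_gj, hξ, hζ1]
  have e2 : ovι Z _ ≫ gj' = ξ z ≫ tr D (h2 z) := by
    rw [← cancel_mono (gj D V'), Category.assoc, Category.assoc, tr_gj, hξ, hζ2]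
  rw [← Category.assoc, ← Functor.map_comp, e1, ← Category.assoc, ← Functor.map_comp, e2,
    Functor.map_comp, Functor.map_comp, Category.assoc, Category.assoc, tr_a, tr_a]

theorem compat {V V' : T.left.affineOpens} {Z : Over S} (gi : Z ⟶ (D V).W) (gj' : Z ⟶ (D V').W)
    (h : gi ≫ gj D V = gj' ≫ gj D V') :
    (yon S).map gi ≫ (D V).a = (yon S).map gj' ≫ (D V').a :=
  compat_aux D gi gj' _ h rfl

open Groth.Agent.Lib.helper5 in
/-- The glued map from the glued scheme to `P`. -/
theorem exists_ga : ∃ a : (yon S).obj (gW D) ⟶ P, ∀ V, (yon S).map (gj D V) ≫ a = (D V).a :=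
  exists_glue (fun V => (D V).W) (gj D)
    (fun _ => inferInstance) (fun _ => inferInstance) (exists_gj_mem D) (fun V => (D V).a)
    (fun _ _ _ gi gj' h => compat D gi gj' h)


section Iso

open Groth.Agent.Lib.helper5

variable (a : (yon S).obj (gW D) ⟶ P) (ha : ∀ V, (yon S).map (gj D V) ≫ a = (D V).a)
include ha

theorem ga_π : a ≫ π = (yon S).map (gw D) := by
  refine yon_hom_ext_of_family _ _ (fun V => (D V).W) (gj D) (fun _ => inferInstance)
    (fun _ => inferInstance) (exists_gj_mem D) ?_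
  intro V
  rw [← Category.assoc, ha, (D V).sq.w, ← Functor.map_comp, ← Functor.map_comp, gj_gw]

instance (V : T.left.Opens) : Mono (ovι T V) := by
  have : Mono ((Over.forget S).map (ovι T V)) := by
    show Mono V.ι
    infer_instance
  exact (Over.forget S).mono_of_mono_map this

theorem ga_inj {Z : Over S} (ζ₁ ζ₂ : Z ⟶ gW D) (h : (yon S).map ζ₁ ≫ a = (yon S).map ζ₂ ≫ a) :
    ζ₁ = ζ₂ := by
  have hgw : ζ₁ ≫ gw D = ζ₂ ≫ gw D := by
    apply (yon S).map_injective
    rw [Functor.map_comp, Functor.map_comp, ← ga_π D a ha, ← Category.assoc, h, Category.assoc]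
  obtain ⟨τ, hτ1, hτ2⟩ : ∃ τ : Z ⟶ T, ζ₁ ≫ gw D = τ ∧ ζ₂ ≫ gw D = τ := ⟨_, rfl, hgw.symm⟩
  have hchoice : ∀ z : ↥Z.left, ∃ V : T.left.affineOpens, τ.left z ∈ V.1 := by
    intro z
    obtain ⟨W, hW, hzW, -⟩ := exists_affineOpen_mem_le (⊤ : T.left.Opens) (τ.left z) trivial
    exact ⟨⟨W, hW⟩, hzW⟩
  choose V hV using hchoice
  apply (yon S).map_injective
  refine yon_hom_ext_of_family _ _ (fun z => ov Z (τ.left ⁻¹ᵁ (V z).1))
    (fun z => ovι Z _)
    (fun z => by show Flat (Scheme.Opens.ι _); infer_instance)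
    (fun z => by show LocallyOfFinitePresentation (Scheme.Opens.ι _); infer_instance)
    (fun z => ⟨z, by
      show z ∈ Set.range (Scheme.Opens.ι _)
      rw [Scheme.Opens.range_ι]
      exact hV z⟩) ?_
  intro z
  obtain ⟨ξ₁, hξ₁⟩ := exists_local_factor' D ζ₁ τ hτ1 (V z)
  obtain ⟨ξ₂, hξ₂⟩ := exists_local_factor' D ζ₂ τ hτ2 (V z)
  have hξ : ξ₁ = ξ₂ := by
    apply tr_unique (D (V z))
    · rw [← ha, ← Category.assoc, ← Functor.map_comp, hξ₁, ← Category.assoc, ← Functor.map_comp, hξ₂,
        Functor.map_comp, Functor.map_comp, Category.assoc, Category.assoc, h]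
    · rw [← cancel_mono (ovι T (V z).1), Category.assoc, Category.assoc, ← gj_gw, ← Category.assoc,
        ← Category.assoc, hξ₁, hξ₂, Category.assoc, Category.assoc, hτ1, hτ2]
  rw [← Functor.map_comp, ← Functor.map_comp, ← hξ₁, ← hξ₂, hξ]

theorem ga_mono : Mono a := by
  constructor
  intro Q u v huv
  apply hom_ext_yon
  intro Z s
  obtain ⟨ζ₁, h1⟩ := (yon S).map_surjective (s ≫ u)
  obtain ⟨ζ₂, h2⟩ := (yon S).map_surjective (s ≫ v)
  rw [← h1, ← h2]
  congr 1
  apply ga_inj D a ha
  rw [h1, h2, Category.assoc, Category.assoc, huv]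


omit ha in
/-- The restriction of a map `τ : Z ⟶ T` over `S` to the preimage of an open. -/
theorem exists_restrict {Z : Over S} (τ : Z ⟶ T) (V : T.left.Opens) :
    ∃ ρ : ov Z (τ.left ⁻¹ᵁ V) ⟶ ov T V, ρ ≫ ovι T V = ovι Z (τ.left ⁻¹ᵁ V) ≫ τ := by
  have h : (τ.left ∣_ V) ≫ V.ι = (τ.left ⁻¹ᵁ V).ι ≫ τ.left := morphismRestrict_ι _ _
  refine ⟨Over.homMk (τ.left ∣_ V) ?_, ?_⟩
  · show (τ.left ∣_ V) ≫ V.ι ≫ T.hom = (τ.left ⁻¹ᵁ V).ι ≫ Z.hom
    rw [← Category.assoc, h, Category.assoc, Over.w τ]
  · apply Over.OverMorphism.ext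
    exact h

theorem ga_liftSieve {Z : Over S} (η : (yon S).obj Z ⟶ P) :
    Epi.liftSieve a η ∈ (AlgSp.J S) Z := by
  obtain ⟨τ, hτ⟩ := (yon S).map_surjective (η ≫ π)
  have hchoice : ∀ z : ↥Z.left, ∃ V : T.left.affineOpens, τ.left z ∈ V.1 := by
    intro z
    obtain ⟨W, hW, hzW, -⟩ := exists_affineOpen_mem_le (⊤ : T.left.Opens) (τ.left z) trivial
    exact ⟨⟨W, hW⟩, hzW⟩
  choose V hV using hchoice
  have hcov := Groth.Agent.S10510.cover_mem_family (fun z : ↥Z.left => ov Z (τ.left ⁻¹ᵁ (V z).1))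
    (fun z => ovι Z _)
    (fun z => by show Flat (Scheme.Opens.ι _); infer_instance)
    (fun z => by show LocallyOfFinitePresentation (Scheme.Opens.ι _); infer_instance)
    (fun z => ⟨z, by
      show z ∈ Set.range (Scheme.Opens.ι _)
      rw [Scheme.Opens.range_ι]
      exact hV z⟩)
  refine (AlgSp.J S).superset_covering ?_ hcov
  rintro T' t ⟨Z₁, c, b, ⟨z⟩, rfl⟩
  obtain ⟨ρ, hρ⟩ := exists_restrict τ (V z).1
  obtain ⟨l, hl1, -⟩ := (D (V z)).sq.exists_lift ((yon S).map (ovι Z _) ≫ η) ((yon S).map ρ) (by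
    rw [Category.assoc, ← hτ, ← Functor.map_comp, ← Functor.map_comp, hρ])
  refine ⟨(yon S).map c ≫ l ≫ (yon S).map (gj D (V z)), ?_⟩
  rw [Category.assoc, Category.assoc, ha, hl1, Functor.map_comp, Category.assoc]

theorem ga_isIso : IsIso a := by
  have := ga_mono D a ha
  exact Epi.isIso_of_mono_of_liftSieve a (fun Z η => ga_liftSieve D a ha η)

end Iso


/-- Properties local at the target pass from the local representing schemes to the glued one. -/
theorem gw_prop (Q : MorphismProperty Scheme.{u}) [IsZariskiLocalAtTarget Q]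
    (h : ∀ V : T.left.affineOpens, Q (D V).w.left) : Q (gw D).left := by
  apply IsZariskiLocalAtTarget.of_iSup_eq_top (fun V : T.left.affineOpens => V.1)
    (iSup_affineOpens_eq_top _)
  intro V
  have h1 : IsPullback (D V).w.left (gj D V).left V.1.ι (gw D).left := isPullback_gj D V
  have h2 := isPullback_morphismRestrict (gw D).left V.1
  let e := h1.isoIsPullback _ _ h2
  have he : e.hom ≫ ((gw D).left ∣_ V.1) = (D V).w.left := IsPullback.isoIsPullback_hom_fst _ _ h1 h2
  rw [← Q.cancel_left_of_respectsIso e.hom, he]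
  exact h V

end Glue

/-- **Zariski-local representability.** If the base change of `π : P ⟶ h_T` to every affine open of `T` is
representable, then `P` is representable by a scheme over `T`; a property local at the target which holds for all
local representing schemes holds for it. -/
theorem exists_rep {T : Over S} {P : Sp S} (π : P ⟶ (yon S).obj T)
    (h : ∀ V : T.left.affineOpens, Nonempty (LocRep π V.1)) :
    ∃ (W : Over S) (w : W ⟶ T) (a : (yon S).obj W ⟶ P), IsIso a ∧ a ≫ π = (yon S).map w ∧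
      ∀ (Q : MorphismProperty Scheme.{u}) [IsZariskiLocalAtTarget Q],
        (∀ (V : T.left.affineOpens) (L : LocRep π V.1), Q L.w.left) → Q w.left := by
  let D : ∀ V : T.left.affineOpens, LocRep π V.1 := fun V => (h V).some
  obtain ⟨a, ha⟩ := exists_ga D
  exact ⟨gW D, gw D, a, ga_isIso D a ha, ga_π D a ha, fun Q _ hQ => gw_prop D Q (fun V => hQ V (D V))⟩


/-- A representing scheme for the base change of `f` along `h_V ⟶ h_T ⟶ G` represents the base change of the
projection `F ×_G h_T ⟶ h_T` to `V`. -/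
noncomputable def locRepOfPullback {F G : Sp S} (f : F ⟶ G) {T : Over S} (g : (yon S).obj T ⟶ G)
    (V : T.left.Opens) (W : Over S) (i : W ⟶ ov T V) (fst : (yon S).obj W ⟶ F)
    (sq : IsPullback fst ((yon S).map i) f ((yon S).map (ovι T V) ≫ g)) :
    LocRep (pullback.snd f g) V where
  W := W
  w := i
  a := pullback.lift fst ((yon S).map i ≫ (yon S).map (ovι T V)) (by rw [sq.w, Category.assoc])
  sq := by
    have hbig : IsPullback (pullback.lift fst ((yon S).map i ≫ (yon S).map (ovι T V))
        (by rw [sq.w, Category.assoc]) ≫ pullback.fst f g) ((yon S).map i) f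
        ((yon S).map (ovι T V) ≫ g) := by
      rw [pullback.lift_fst]
      exact sq
    exact IsPullback.of_right hbig (pullback.lift_snd _ _ _) (IsPullback.of_hasPullback f g)

/-- Two schemes representing the same base change are isomorphic over the base. -/
theorem prop_of_locRep (Q : MorphismProperty Scheme.{u}) [Q.RespectsIso] {T : Over S} {P : Sp S}
    {π : P ⟶ (yon S).obj T} {V : T.left.Opens} (L L' : LocRep π V) (h : Q L'.w.left) : Q L.w.left := by
  have : (Q.inverseImage (Over.forget S)) L'.w := h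
  have h2 : (Q.inverseImage (Over.forget S)) L.w := by
    refine ((Q.inverseImage (Over.forget S)).arrow_mk_iso_iff ?_).2 this
    exact Arrow.isoMk ((yon S).preimageIso (L.sq.isoIsPullback _ _ L'.sq)) (Iso.refl _)
      ((yon S).map_injective (by simp))
  exact h2

/-- A morphism of sheaves whose base changes to affine schemes are representable with a property local at the
target is representable with that property. -/
theorem repWith_of_affine {F G : Sp S} (f : F ⟶ G) (Q : MorphismProperty Scheme.{u})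
    [IsZariskiLocalAtTarget Q]
    (h : ∀ (Z : Over S), IsAffine Z.left → ∀ g : (yon S).obj Z ⟶ G,
      ∃ (W : Over S) (i : W ⟶ Z) (fst : (yon S).obj W ⟶ F), IsPullback fst ((yon S).map i) f g ∧ Q i.left) :
    RepWith Q f := by
  have : (Q.inverseImage (Over.forget S)).RespectsIso := MorphismProperty.RespectsIso.inverseImage Q _
  apply MorphismProperty.relative.of_exists
  intro T g
  have hV : ∀ V : T.left.affineOpens, ∃ L : LocRep (pullback.snd f g) V.1, Q L.w.left := by
    intro V
    have hVaff : IsAffine (ov T V.1).left := V.2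
    obtain ⟨W, i, fst, sq, hQ⟩ := h (ov T V.1) hVaff ((yon S).map (ovι T V.1) ≫ g)
    exact ⟨locRepOfPullback f g V.1 W i fst sq, hQ⟩
  obtain ⟨W, w, a, ha, haπ, hprop⟩ := exists_rep (pullback.snd f g) (fun V => ⟨(hV V).choose⟩)
  refine ⟨W, a ≫ pullback.fst f g, w, ?_, ?_⟩
  · have h1 : IsPullback a ((yon S).map w) (pullback.snd f g) (𝟙 _) :=
      IsPullback.of_horiz_isIso ⟨by rw [haπ, Category.comp_id]⟩
    have h2 := h1.paste_horiz (IsPullback.of_hasPullback f g)
    rwa [Category.id_comp] at h2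
  · exact hprop Q (fun V L => prop_of_locRep Q L _ (hV V).choose_spec)

end Groth.Agent.H1.ZarRep
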