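import Groth.Agent.Lib.Helper1.BootD
import Groth.Agent.Lib.Helper1.ZarRep
import Groth.Agent.Lib.Helper1.SliceA

/-!
# The diagonal of a quotient of a representable sheaf is representable (helper1)
-/

set_option autoImplicit false
universe u
open CategoryTheory CategoryTheory.Limits AlgebraicGeometry Opposite

namespace Groth.Agent.H1.Boot

open AlgSp Groth.Agent.Lib.Helper14.AlgSpQuot Groth.Agent.H1.ZarRep

variable {S : Scheme.{u}}

/-- A commutative square over a monomorphism `π`, with `j'` a monomorphism, is cartesian as soon as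
every representable point of the fibre product factors through `j'`. -/
theorem isPullback_of_mono_of_yon {P G A B : Sp S} (π : P ⟶ G) [Mono π] (k : B ⟶ G) (a : A ⟶ P)
    (j' : A ⟶ B) [Mono j'] (comm : a ≫ π = j' ≫ k)
    (h : ∀ (T : Over S) (x : (yon S).obj T ⟶ P) (y : (yon S).obj T ⟶ B), x ≫ π = y ≫ k →
      ∃ e : (yon S).obj T ⟶ A, e ≫ j' = y) : IsPullback a j' π k := by
  let c : A ⟶ pullback π k := pullback.lift a j' comm
  have hc1 : c ≫ pullback.fst π k = a := pullback.lift_fst _ _ _
  have hc2 : c ≫ pullback.snd π k = j' := pullback.lift_snd _ _ _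
  haveI : Mono c := by
    have : Mono (c ≫ pullback.snd π k) := by
      rw [hc2]
      infer_instance
    exact mono_of_mono c (pullback.snd π k)
  haveI : IsIso c := by
    apply isIso_of_mono_of_liftSieve
    intro T η
    obtain ⟨e, he⟩ := h T (η ≫ pullback.fst π k) (η ≫ pullback.snd π k) (by
      rw [Category.assoc, Category.assoc, pullback.condition])
    have hmem : liftSieve c η (𝟙 T) := by
      refine ⟨e, ?_⟩
      rw [(yon S).map_id, Category.id_comp]
      apply pullback.hom_ext
      · rw [Category.assoc, hc1, ← cancel_mono π, Category.assoc, comm, ← Category.assoc, he,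
          Category.assoc, Category.assoc, pullback.condition]
      · rw [Category.assoc, hc2, he]
    have htop : liftSieve c η = ⊤ := (Sieve.id_mem_iff_eq_top).1 hmem
    rw [htop]
    exact (AlgSp.J S).top_mem T
  exact IsPullback.of_iso_pullback ⟨comm⟩ (asIso c) hc1 hc2


/-- A commutative square with representable corner which has the universal property of a fibre
product with respect to representable sheaves is cartesian. -/
theorem isPullback_yon_of {F : Sp S} {T₁ T₂ W : Over S} (m : W ⟶ T₁) (n : W ⟶ T₂)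
    (g₁ : (yon S).obj T₁ ⟶ F) (g₂ : (yon S).obj T₂ ⟶ F)
    (comm : (yon S).map m ≫ g₁ = (yon S).map n ≫ g₂)
    (lift : ∀ {Z : Over S} (p : Z ⟶ T₁) (q : Z ⟶ T₂),
      (yon S).map p ≫ g₁ = (yon S).map q ≫ g₂ → ∃ r : Z ⟶ W, r ≫ m = p ∧ r ≫ n = q)
    (uniq : ∀ {Z : Over S} (r r' : Z ⟶ W), r ≫ m = r' ≫ m → r ≫ n = r' ≫ n → r = r') :
    IsPullback ((yon S).map m) ((yon S).map n) g₁ g₂ := by
  have key : ∀ {T Z : Over S} (p : Z ⟶ T) (g : (yon S).obj T ⟶ F),
      F.obj.map p.op (Slice.yEquiv g) = Slice.yEquiv ((yon S).map p ≫ g) := by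
    intro T Z p g
    have h := Slice.hom_app_up (J := AlgSp.J S) g p
    rw [← h]
    change _ = g.hom.app (op Z) (ULift.up (𝟙 Z ≫ p))
    rw [Category.id_comp]
  have hfib : Slice.IsFib (J := AlgSp.J S) (Slice.yEquiv g₁) (Slice.yEquiv g₂) m n := by
    refine ⟨?_, ?_, ?_⟩
    · rw [key, key, comm]
    · intro Z p q hpq
      rw [key, key] at hpq
      exact lift p q (Slice.yEquiv.injective hpq)
    · intro Z r r' h1 h2
      exact uniq r r' h1 h2
  have := Slice.isPullback_of_isFib hfib
  rwa [Slice.yEquiv.symm_apply_apply, Slice.yEquiv.symm_apply_apply] at this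

section Diag

variable {F : Sp S} {U R : Over S} (a : (yon S).obj U ⟶ F) [Epi a] (r₁ r₂ : R ⟶ U)
  (hk : IsPullback ((yon S).map r₁) ((yon S).map r₂) a a)

include hk in
/-- Every morphism from a representable sheaf to a quotient of a representable sheaf by a
representable kernel pair (with a projection locally of finite type) is representable. -/
theorem representable_of_kernelPair [LocallyOfFiniteType r₁.left] {T₁ : Over S}
    (g₁ : (yon S).obj T₁ ⟶ F) : Representable g₁ := by
  intro T₂ g₂
  let T : Over S := T₁ ⨯ T₂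
  let pr₁ : T ⟶ T₁ := prod.fst
  let pr₂ : T ⟶ T₂ := prod.snd
  let β₁ : (yon S).obj T ⟶ F := (yon S).map pr₁ ≫ g₁
  let β₂ : (yon S).obj T ⟶ F := (yon S).map pr₂ ≫ g₂
  let π : equalizer β₁ β₂ ⟶ (yon S).obj T := equalizer.ι β₁ β₂
  have hloc : ∀ V : T.left.affineOpens, Nonempty (LocRep π V.1) := by
    intro V
    haveI : IsAffine (ov T V.1).left := V.2
    obtain ⟨E, j, hj, hE⟩ := exists_rep_eq a r₁ r₂ hk (ov T V.1)
      ((yon S).map (ovι T V.1) ≫ β₁) ((yon S).map (ovι T V.1) ≫ β₂)
    have hcond : (yon S).map (j ≫ ovι T V.1) ≫ β₁ = (yon S).map (j ≫ ovι T V.1) ≫ β₂ := by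
      have := (hE j).1 ⟨𝟙 _, Category.id_comp _⟩
      rw [(yon S).map_comp j (ovι T V.1), Category.assoc, Category.assoc]
      exact this
    let a' : (yon S).obj E ⟶ equalizer β₁ β₂ := equalizer.lift ((yon S).map (j ≫ ovι T V.1)) hcond
    have ha' : a' ≫ π = (yon S).map (j ≫ ovι T V.1) := equalizer.lift_ι _ _
    haveI : Mono ((yon S).map j) := inferInstance
    refine ⟨⟨E, j, a', ?_⟩⟩
    refine isPullback_of_mono_of_yon π ((yon S).map (ovι T V.1)) a' ((yon S).map j) ?_ ?_
    · rw [ha', (yon S).map_comp j (ovι T V.1)]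
    · intro T' x y hxy
      obtain ⟨z, rfl⟩ := (yon S).map_surjective y
      have hz : (yon S).map z ≫ (yon S).map (ovι T V.1) ≫ β₁ =
          (yon S).map z ≫ (yon S).map (ovι T V.1) ≫ β₂ := by
        have hc : π ≫ β₁ = π ≫ β₂ := equalizer.condition β₁ β₂
        calc (yon S).map z ≫ (yon S).map (ovι T V.1) ≫ β₁
            = (x ≫ π) ≫ β₁ := by rw [hxy, Category.assoc]
          _ = (x ≫ π) ≫ β₂ := by rw [Category.assoc, hc, ← Category.assoc]
          _ = (yon S).map z ≫ (yon S).map (ovι T V.1) ≫ β₂ := by rw [hxy, Category.assoc]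
      obtain ⟨u, hu⟩ := (hE z).2 hz
      exact ⟨(yon S).map u, by rw [← (yon S).map_comp u j, hu]⟩
  obtain ⟨W, w, a'', ha'', hπ, -⟩ := exists_rep π hloc
  have e1 : ∀ {Z : Over S} (p : Z ⟶ T₁) (q : Z ⟶ T₂), prod.lift p q ≫ pr₁ = p :=
    fun p q => prod.lift_fst _ _
  have e2 : ∀ {Z : Over S} (p : Z ⟶ T₁) (q : Z ⟶ T₂), prod.lift p q ≫ pr₂ = q :=
    fun p q => prod.lift_snd _ _
  have hw : (yon S).map w ≫ β₁ = (yon S).map w ≫ β₂ := by
    have hc : π ≫ β₁ = π ≫ β₂ := equalizer.condition β₁ β₂
    rw [← hπ, Category.assoc, Category.assoc, hc]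
  have hmonow : Mono w := by
    haveI : Mono (a'' ≫ π) := mono_comp _ _
    have : Mono ((yon S).map w) := by rw [← hπ]; infer_instance
    exact (yon S).mono_of_mono_map this
  refine ⟨W, w ≫ pr₂, (yon S).map (w ≫ pr₁), ?_⟩
  refine isPullback_yon_of (w ≫ pr₁) (w ≫ pr₂) g₁ g₂ ?_ ?_ ?_
  · rw [(yon S).map_comp w pr₁, (yon S).map_comp w pr₂, Category.assoc, Category.assoc]
    exact hw
  · intro Z p q hpq
    have hl : (yon S).map (prod.lift p q) ≫ β₁ = (yon S).map (prod.lift p q) ≫ β₂ := by
      change (yon S).map (prod.lift p q) ≫ (yon S).map pr₁ ≫ g₁ =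
        (yon S).map (prod.lift p q) ≫ (yon S).map pr₂ ≫ g₂
      rw [← Category.assoc, ← Category.assoc, ← (yon S).map_comp, ← (yon S).map_comp, e1, e2]
      exact hpq
    let l : (yon S).obj Z ⟶ equalizer β₁ β₂ := equalizer.lift ((yon S).map (prod.lift p q)) hl
    have hl' : l ≫ π = (yon S).map (prod.lift p q) := equalizer.lift_ι _ _
    obtain ⟨r, hr⟩ := (yon S).map_surjective (l ≫ inv a'')
    have hrw : r ≫ w = prod.lift p q := by
      apply (yon S).map_injective
      rw [(yon S).map_comp r w, hr, ← hπ, Category.assoc, IsIso.inv_hom_id_assoc, hl']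
    refine ⟨r, ?_, ?_⟩
    · rw [← Category.assoc, hrw, e1]
    · rw [← Category.assoc, hrw, e2]
  · intro Z r r' h1 h2
    rw [← cancel_mono w]
    apply Limits.prod.hom_ext
    · rw [Category.assoc, Category.assoc]
      exact h1
    · rw [Category.assoc, Category.assoc]
      exact h2

include hk in
/-- The diagonal of a quotient of a representable sheaf by a representable kernel pair with a
projection locally of finite type is representable. -/
theorem representable_diag_of_kernelPair [LocallyOfFiniteType r₁.left] :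
    Representable (Limits.diag F) :=
  Functor.relativelyRepresentable.diag_of_map_from_obj
    (fun _ g => representable_of_kernelPair a r₁ r₂ hk g)

end Diag

end Groth.Agent.H1.Boot
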