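import Groth.Agent.Lib.Helper1.BootE

/-!
# Variants of the bootstrap lemmas: only `R ⟶ U × U` is assumed locally of finite type (helper1)
-/

set_option autoImplicit false
universe u
open CategoryTheory CategoryTheory.Limits AlgebraicGeometry Opposite

namespace Groth.Agent.H1.Boot

open AlgSp Groth.Agent.Lib.Helper14.AlgSpQuot Groth.Agent.H1.ZarRep

variable {S : Scheme.{u}}

section Diag'

variable {F : Sp S} {U R : Over S} (a : (yon S).obj U ⟶ F) [Epi a] (r₁ r₂ : R ⟶ U)
  (hk : IsPullback ((yon S).map r₁) ((yon S).map r₂) a a)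

include hk in
/-- **Key lemma.** The locus where two sections of `F` over an affine scheme agree is
representable. -/
theorem exists_rep_eq' (hr : LocallyOfFiniteType (prod.lift r₁ r₂).left) (Z : Over S) [IsAffine Z.left]
    (α₁ α₂ : (yon S).obj Z ⟶ F) :
    ∃ (E : Over S) (j : E ⟶ Z), Mono j ∧ ∀ {T : Over S} (z : T ⟶ Z),
      (∃ u : T ⟶ E, u ≫ j = z) ↔ (yon S).map z ≫ α₁ = (yon S).map z ≫ α₂ := by
  obtain ⟨W₁, p₁, u₁, hW₁, hp₁a, hp₁b, hp₁c, hu₁⟩ := exists_affine_lift a Z α₁
  obtain ⟨W₂, p₂, u₂, hW₂, hp₂a, hp₂b, hp₂c, hu₂⟩ := exists_affine_lift a Z α₂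
  let W : Over S := Over.mk (pullback.fst p₁.left p₂.left ≫ W₁.hom)
  let q₁ : W ⟶ W₁ := Over.homMk (pullback.fst p₁.left p₂.left) rfl
  let q₂ : W ⟶ W₂ := Over.homMk (pullback.snd p₁.left p₂.left) (by
    change pullback.snd p₁.left p₂.left ≫ W₂.hom = pullback.fst p₁.left p₂.left ≫ W₁.hom
    rw [← Over.w p₂, ← Over.w p₁, ← Category.assoc, ← Category.assoc, pullback.condition])
  let p : W ⟶ Z := q₁ ≫ p₁
  have hp' : p = q₂ ≫ p₂ := by
    ext
    exact pullback.condition
  haveI : IsAffine W.left := inferInstanceAs (IsAffine (pullback p₁.left p₂.left))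
  haveI : Flat p.left := inferInstanceAs (Flat (pullback.fst p₁.left p₂.left ≫ p₁.left))
  haveI : LocallyOfFinitePresentation p.left :=
    inferInstanceAs (LocallyOfFinitePresentation (pullback.fst p₁.left p₂.left ≫ p₁.left))
  haveI : Surjective p.left :=
    inferInstanceAs (Surjective (pullback.fst p₁.left p₂.left ≫ p₁.left))
  haveI : QuasiCompact p.left := inferInstance
  let v₁ : W ⟶ U := q₁ ≫ u₁
  let v₂ : W ⟶ U := q₂ ≫ u₂
  have hv₁ : (yon S).map v₁ ≫ a = (yon S).map p ≫ α₁ := by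
    rw [Functor.map_comp, Category.assoc, hu₁, Functor.map_comp, Category.assoc]
  have hv₂ : (yon S).map v₂ ≫ a = (yon S).map p ≫ α₂ := by
    rw [Functor.map_comp, Category.assoc, hu₂, hp', Functor.map_comp, Category.assoc]
  haveI := mono_prod_lift_of_kernelPair a r₁ r₂ hk
  let E' : Over S := pullback (prod.lift v₁ v₂) (prod.lift r₁ r₂)
  let ι : E' ⟶ W := pullback.fst (prod.lift v₁ v₂) (prod.lift r₁ r₂)
  haveI : Mono ι := inferInstance
  haveI : Mono ι.left := inferInstance
  haveI : LocallyOfFiniteType ι.left := by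
    have sq : IsPullback ι (pullback.snd (prod.lift v₁ v₂) (prod.lift r₁ r₂))
        (prod.lift v₁ v₂) (prod.lift r₁ r₂) := IsPullback.of_hasPullback _ _
    exact MorphismProperty.of_isPullback (P := @LocallyOfFiniteType)
      (sq.map (Over.forget S)).flip hr
  have er1 : prod.lift r₁ r₂ ≫ prod.fst = r₁ := prod.lift_fst _ _
  have er2 : prod.lift r₁ r₂ ≫ prod.snd = r₂ := prod.lift_snd _ _
  have ev1 : prod.lift v₁ v₂ ≫ prod.fst = v₁ := prod.lift_fst _ _
  have ev2 : prod.lift v₁ v₂ ≫ prod.snd = v₂ := prod.lift_snd _ _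
  have hxv₁ : ∀ {T : Over S} (x : T ⟶ W),
      (yon S).map (x ≫ v₁) ≫ a = (yon S).map (x ≫ p) ≫ α₁ := by
    intro T x
    rw [(yon S).map_comp x v₁, Category.assoc, hv₁, ← Category.assoc, ← (yon S).map_comp x p]
  have hxv₂ : ∀ {T : Over S} (x : T ⟶ W),
      (yon S).map (x ≫ v₂) ≫ a = (yon S).map (x ≫ p) ≫ α₂ := by
    intro T x
    rw [(yon S).map_comp x v₂, Category.assoc, hv₂, ← Category.assoc, ← (yon S).map_comp x p]
  have H : ∀ {T : Over S} (x : T ⟶ W), (∃ v : T ⟶ E', v ≫ ι = x) ↔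
      ∃ s : (yon S).obj T ⟶ equalizer α₁ α₂,
        s ≫ equalizer.ι α₁ α₂ = (yon S).map (x ≫ p) := by
    intro T x
    have e1 : (∃ v : T ⟶ E', v ≫ ι = x) ↔ ∃ r : T ⟶ R, r ≫ r₁ = x ≫ v₁ ∧ r ≫ r₂ = x ≫ v₂ := by
      constructor
      · rintro ⟨v, rfl⟩
        have hc := pullback.condition (f := prod.lift v₁ v₂) (g := prod.lift r₁ r₂)
        refine ⟨v ≫ pullback.snd _ _, ?_, ?_⟩
        · calc (v ≫ pullback.snd _ _) ≫ r₁
              = v ≫ (pullback.snd _ _ ≫ prod.lift r₁ r₂) ≫ prod.fst := by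
                rw [Category.assoc, Category.assoc, er1]
            _ = v ≫ (ι ≫ prod.lift v₁ v₂) ≫ prod.fst := by rw [← hc]
            _ = (v ≫ ι) ≫ v₁ := by rw [Category.assoc, Category.assoc, ev1]
        · calc (v ≫ pullback.snd _ _) ≫ r₂
              = v ≫ (pullback.snd _ _ ≫ prod.lift r₁ r₂) ≫ prod.snd := by
                rw [Category.assoc, Category.assoc, er2]
            _ = v ≫ (ι ≫ prod.lift v₁ v₂) ≫ prod.snd := by rw [← hc]
            _ = (v ≫ ι) ≫ v₂ := by rw [Category.assoc, Category.assoc, ev2]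
      · rintro ⟨r, hr1, hr2⟩
        refine ⟨pullback.lift x r ?_, pullback.lift_fst _ _ _⟩
        apply Limits.prod.hom_ext
        · rw [Category.assoc, Category.assoc, ev1, er1, hr1]
        · rw [Category.assoc, Category.assoc, ev2, er2, hr2]
    rw [e1, exists_lift_kernelPair_iff a r₁ r₂ hk, hxv₁ x, hxv₂ x]
    constructor
    · intro h
      exact ⟨equalizer.lift ((yon S).map (x ≫ p)) h, equalizer.lift_ι _ _⟩
    · rintro ⟨s, hs⟩
      have h2 := congrArg (fun t => s ≫ t) (equalizer.condition α₁ α₂)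
      simp only [← Category.assoc, hs] at h2
      exact h2
  obtain ⟨E, j, hj, hE⟩ := exists_rep_of_fppf_local (equalizer.ι α₁ α₂) p ι H
  refine ⟨E, j, hj, fun {T} z => (hE z).trans ⟨?_, ?_⟩⟩
  · rintro ⟨s, hs⟩
    have h2 := congrArg (fun t => s ≫ t) (equalizer.condition α₁ α₂)
    simp only [← Category.assoc, hs] at h2
    exact h2
  · intro h
    exact ⟨equalizer.lift ((yon S).map z) h, equalizer.lift_ι _ _⟩


include hk in
/-- Every morphism from a representable sheaf to a quotient of a representable sheaf by a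
representable kernel pair (with a projection locally of finite type) is representable. -/
theorem representable_of_kernelPair' (hr : LocallyOfFiniteType (prod.lift r₁ r₂).left) {T₁ : Over S}
    (g₁ : (yon S).obj T₁ ⟶ F) : Representable g₁ := by
  intro T₂ g₂
  let T : Over S := T₁ ⨯ T₂
  let pr₁ : T ⟶ T₁ := prod.fst
  let pr₂ : T ⟶ T₂ := prod.snd
  let β₁ : (yon S).obj T ⟶ F := (yon S).map pr₁ ≫ g₁
  let β₂ : (yon S).obj T ⟶ F := (yon S).map pr₂ ≫ g₂
  let π : equalizer β₁ β₂ ⟶ (yon S).obj T := equalizer.ι β₁ β₂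
  have hloc : ∀ V : T.left.affineOpens, Nonempty (LocRep π V.1) := by
    intro V
    haveI : IsAffine (ov T V.1).left := V.2
    obtain ⟨E, j, hj, hE⟩ := exists_rep_eq' a r₁ r₂ hk hr (ov T V.1)
      ((yon S).map (ovι T V.1) ≫ β₁) ((yon S).map (ovι T V.1) ≫ β₂)
    have hcond : (yon S).map (j ≫ ovι T V.1) ≫ β₁ = (yon S).map (j ≫ ovι T V.1) ≫ β₂ := by
      have := (hE j).1 ⟨𝟙 _, Category.id_comp _⟩
      rw [(yon S).map_comp j (ovι T V.1), Category.assoc, Category.assoc]
      exact this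
    let a' : (yon S).obj E ⟶ equalizer β₁ β₂ := equalizer.lift ((yon S).map (j ≫ ovι T V.1)) hcond
    have ha' : a' ≫ π = (yon S).map (j ≫ ovι T V.1) := equalizer.lift_ι _ _
    haveI : Mono ((yon S).map j) := inferInstance
    refine ⟨⟨E, j, a', ?_⟩⟩
    refine isPullback_of_mono_of_yon π ((yon S).map (ovι T V.1)) a' ((yon S).map j) ?_ ?_
    · rw [ha', (yon S).map_comp j (ovι T V.1)]
    · intro T' x y hxy
      obtain ⟨z, rfl⟩ := (yon S).map_surjective y
      have hz : (yon S).map z ≫ (yon S).map (ovι T V.1) ≫ β₁ =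
          (yon S).map z ≫ (yon S).map (ovι T V.1) ≫ β₂ := by
        have hc : π ≫ β₁ = π ≫ β₂ := equalizer.condition β₁ β₂
        calc (yon S).map z ≫ (yon S).map (ovι T V.1) ≫ β₁
            = (x ≫ π) ≫ β₁ := by rw [hxy, Category.assoc]
          _ = (x ≫ π) ≫ β₂ := by rw [Category.assoc, hc, ← Category.assoc]
          _ = (yon S).map z ≫ (yon S).map (ovι T V.1) ≫ β₂ := by rw [hxy, Category.assoc]
      obtain ⟨u, hu⟩ := (hE z).2 hz
      exact ⟨(yon S).map u, by rw [← (yon S).map_comp u j, hu]⟩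
  obtain ⟨W, w, a'', ha'', hπ, -⟩ := exists_rep π hloc
  have e1 : ∀ {Z : Over S} (p : Z ⟶ T₁) (q : Z ⟶ T₂), prod.lift p q ≫ pr₁ = p :=
    fun p q => prod.lift_fst _ _
  have e2 : ∀ {Z : Over S} (p : Z ⟶ T₁) (q : Z ⟶ T₂), prod.lift p q ≫ pr₂ = q :=
    fun p q => prod.lift_snd _ _
  have hw : (yon S).map w ≫ β₁ = (yon S).map w ≫ β₂ := by
    have hc : π ≫ β₁ = π ≫ β₂ := equalizer.condition β₁ β₂
    rw [← hπ, Category.assoc, Category.assoc, hc]
  have hmonow : Mono w := by
    haveI : Mono (a'' ≫ π) := mono_comp _ _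
    have : Mono ((yon S).map w) := by rw [← hπ]; infer_instance
    exact (yon S).mono_of_mono_map this
  refine ⟨W, w ≫ pr₂, (yon S).map (w ≫ pr₁), ?_⟩
  refine isPullback_yon_of (w ≫ pr₁) (w ≫ pr₂) g₁ g₂ ?_ ?_ ?_
  · rw [(yon S).map_comp w pr₁, (yon S).map_comp w pr₂, Category.assoc, Category.assoc]
    exact hw
  · intro Z p q hpq
    have hl : (yon S).map (prod.lift p q) ≫ β₁ = (yon S).map (prod.lift p q) ≫ β₂ := by
      change (yon S).map (prod.lift p q) ≫ (yon S).map pr₁ ≫ g₁ =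
        (yon S).map (prod.lift p q) ≫ (yon S).map pr₂ ≫ g₂
      rw [← Category.assoc, ← Category.assoc, ← (yon S).map_comp, ← (yon S).map_comp, e1, e2]
      exact hpq
    let l : (yon S).obj Z ⟶ equalizer β₁ β₂ := equalizer.lift ((yon S).map (prod.lift p q)) hl
    have hl' : l ≫ π = (yon S).map (prod.lift p q) := equalizer.lift_ι _ _
    obtain ⟨r, hr⟩ := (yon S).map_surjective (l ≫ inv a'')
    have hrw : r ≫ w = prod.lift p q := by
      apply (yon S).map_injective
      rw [(yon S).map_comp r w, hr, ← hπ, Category.assoc, IsIso.inv_hom_id_assoc, hl']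
    refine ⟨r, ?_, ?_⟩
    · rw [← Category.assoc, hrw, e1]
    · rw [← Category.assoc, hrw, e2]
  · intro Z r r' h1 h2
    rw [← cancel_mono w]
    apply Limits.prod.hom_ext
    · rw [Category.assoc, Category.assoc]
      exact h1
    · rw [Category.assoc, Category.assoc]
      exact h2

include hk in
/-- The diagonal of a quotient of a representable sheaf by a representable kernel pair with a
projection locally of finite type is representable. -/
theorem representable_diag_of_kernelPair' (hr : LocallyOfFiniteType (prod.lift r₁ r₂).left) :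
    Representable (Limits.diag F) :=
  Functor.relativelyRepresentable.diag_of_map_from_obj
    (fun _ g => representable_of_kernelPair' a r₁ r₂ hk hr g)

end Diag'

end Groth.Agent.H1.Boot
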