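import Mathlib
import Groth.Prelude.Def_Hens2
import Groth.Agent.Lib.Helper9.UnibrGeom2
import Groth.Agent.Lib.Helper24.HensStage
import Groth.Agent.Lib.Helper17.FFMin

/-!
# Counting minimal primes of henselizations via étale neighbourhoods (helper1)
-/

set_option autoImplicit false
set_option backward.isDefEq.respectTransparency false

universe u

namespace Groth.Agent.H1.BranchCount

open AlgebraicGeometry CategoryTheory TensorProduct
open Groth.Agent.Lib.helper24.Henselization Groth.Agent.Lib.helper24.Henselization.Idx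

section Ring

theorem encard_minimalPrimes_of_ringEquiv {A B : Type*} [CommRing A] [CommRing B] (e : A ≃+* B) :
    (minimalPrimes A).encard = (minimalPrimes B).encard := by
  have hsurj : Function.Surjective (e : A →+* B) := e.surjective
  have h1 : minimalPrimes A = Ideal.comap (e : A →+* B) '' minimalPrimes B := by
    have := Ideal.comap_minimalPrimes_eq_of_surjective hsurj (⊥ : Ideal B)
    have hk : Ideal.comap (e : A →+* B) ⊥ = ⊥ := by
      rw [← RingHom.ker_eq_comap_bot]
      exact (RingHom.injective_iff_ker_eq_bot _).1 e.injective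
    rw [hk] at this
    exact this
  rw [h1]
  exact (Ideal.comap_injective_of_surjective _ hsurj).injOn.encard_image

theorem encard_minimalPrimes_le_of_faithfullyFlat (R R' : Type u) [CommRing R] [CommRing R']
    [Algebra R R'] [Module.FaithfullyFlat R R'] :
    (minimalPrimes R).encard ≤ (minimalPrimes R').encard := by
  have h := Groth.Agent.Lib.helper17.FFMin.surjOn_minimalPrimes_of_faithfullyFlat R R'
  calc (minimalPrimes R).encard ≤ (Ideal.comap (algebraMap R R') '' minimalPrimes R').encard :=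
        Set.encard_le_encard h
    _ ≤ (minimalPrimes R').encard := Set.encard_image_le _ _

variable {A : Type u} [CommRing A] [IsLocalRing A]

theorem exists_ofH_finset (F : Finset (Hens A)) :
    ∃ k : Idx A, ∀ z ∈ F, ∃ y : k.G, ofH k y = z := by
  classical
  induction F using Finset.induction_on with
  | empty => exact ⟨Classical.arbitrary _, fun z hz => absurd hz (Finset.notMem_empty z)⟩
  | insert a s ha ih =>
    obtain ⟨k, hk⟩ := ih
    obtain ⟨j, y, hy⟩ := exists_ofH a
    obtain ⟨m, hkm, hjm⟩ := exists_ge_ge k j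
    refine ⟨m, ?_⟩
    intro z hz
    rcases Finset.mem_insert.1 hz with rfl | hz
    · exact ⟨tr j m hjm y, by rw [ofH_tr, hy]⟩
    · obtain ⟨y', hy'⟩ := hk z hz
      exact ⟨tr k m hkm y', by rw [ofH_tr, hy']⟩

/-- Finitely many minimal primes of the henselization are already separated at a finite stage. -/
theorem exists_idx_le_encard (j : ℕ) (hj : (j : ℕ∞) ≤ (minimalPrimes (Hens A)).encard) :
    ∃ i : Idx A, (j : ℕ∞) ≤ (minimalPrimes i.G).encard := by
  classical
  obtain ⟨t, ht, htj⟩ := Set.exists_subset_encard_eq hj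
  have htfin : t.Finite := Set.finite_of_encard_eq_coe htj
  -- separating elements
  have hsep : ∀ Q ∈ t, ∀ Q' ∈ t, Q ≠ Q' → ∃ f : Hens A, f ∈ Q ∧ f ∉ Q' := by
    intro Q hQ Q' hQ' hne
    by_contra hcon
    push Not at hcon
    have hle : Q ≤ Q' := fun f hf => hcon f hf
    have hQm := ht hQ
    have hQ'm := ht hQ'
    exact hne (le_antisymm hle (hQ'm.2 ⟨hQm.1.1, bot_le⟩ hle))
  choose! f hf using hsep
  let F : Finset (Hens A) :=
    (htfin.toFinset ×ˢ htfin.toFinset).image (fun p => f p.1 p.2)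
  obtain ⟨k, hk⟩ := exists_ofH_finset F
  refine ⟨k, ?_⟩
  letI : Algebra k.G (Hens A) := Groth.Agent.Lib.Helper24.HensStage.stageAlgebraH k
  haveI : Module.FaithfullyFlat k.G (Hens A) :=
    Groth.Agent.Lib.Helper24.HensStage.faithfullyFlat_stageH k
  have hmaps := Groth.Agent.Lib.helper17.FFMin.mapsTo_minimalPrimes_of_flat k.G (Hens A)
  have hinj : Set.InjOn (Ideal.comap (algebraMap k.G (Hens A))) t := by
    intro Q hQ Q' hQ' heq
    by_contra hne
    obtain ⟨h1, h2⟩ := hf Q hQ Q' hQ' hne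
    have hmem : f Q Q' ∈ F := by
      refine Finset.mem_image.2 ⟨(Q, Q'), ?_, rfl⟩
      exact Finset.mem_product.2 ⟨htfin.mem_toFinset.2 hQ, htfin.mem_toFinset.2 hQ'⟩
    obtain ⟨y, hy⟩ := hk _ hmem
    have h3 : y ∈ Ideal.comap (algebraMap k.G (Hens A)) Q := by
      rw [Ideal.mem_comap]
      show ofH k y ∈ Q
      rw [hy]; exact h1
    rw [heq, Ideal.mem_comap] at h3
    apply h2
    have : algebraMap k.G (Hens A) y = ofH k y := rfl
    rw [this, hy] at h3
    exact h3
  calc (j : ℕ∞) = t.encard := htj.symm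
    _ = (Ideal.comap (algebraMap k.G (Hens A)) '' t).encard := hinj.encard_image.symm
    _ ≤ (minimalPrimes k.G).encard := by
        apply Set.encard_le_encard
        rintro _ ⟨Q, hQ, rfl⟩
        exact hmaps (ht hQ)

end Ring

section Geom

/-- The closure of the point of a minimal prime of the local ring at `u` is an irreducible component
through `u`. -/
theorem closure_mem_of_minimalPrime (U : Scheme.{u}) (u : U) (p : Ideal (U.presheaf.stalk u))
    (hp : p ∈ minimalPrimes (U.presheaf.stalk u)) :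
    haveI : p.IsPrime := hp.1.1
    closure {U.fromSpecStalk u ⟨p, hp.1.1⟩} ∈ irreducibleComponents U ∧
      u ∈ closure ({U.fromSpecStalk u ⟨p, hp.1.1⟩} : Set U) := by
  haveI : p.IsPrime := hp.1.1
  set ξ : U := U.fromSpecStalk u ⟨p, hp.1.1⟩ with hξ
  have hξu : ξ ⤳ u := by
    have : ξ ∈ Set.range (U.fromSpecStalk u) := ⟨_, rfl⟩
    rw [Scheme.range_fromSpecStalk] at this
    exact this
  refine ⟨⟨isIrreducible_singleton.closure, ?_⟩, specializes_iff_mem_closure.1 hξu⟩
  intro T hT hle
  obtain ⟨η, hη⟩ := QuasiSober.sober hT.closure isClosed_closure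
  have hξT : ξ ∈ closure T := subset_closure (hle (subset_closure rfl))
  have hηξ : η ⤳ ξ := hη.specializes hξT
  have hηu : η ⤳ u := hηξ.trans hξu
  have : η ∈ Set.range (U.fromSpecStalk u) := by
    rw [Scheme.range_fromSpecStalk]; exact hηu
  obtain ⟨P, rfl⟩ := this
  have hemb := (U.fromSpecStalk u).isEmbedding
  have hPp : P ⤳ (⟨p, hp.1.1⟩ : PrimeSpectrum (U.presheaf.stalk u)) :=
    (hemb.toIsInducing.specializes_iff).1 hηξ
  have hle' : P.asIdeal ≤ p := (PrimeSpectrum.le_iff_specializes _ _).2 hPp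
  have hge : p ≤ P.asIdeal := hp.2 ⟨P.isPrime, bot_le⟩ hle'
  have hPeq : P = ⟨p, hp.1.1⟩ := PrimeSpectrum.ext (le_antisymm hle' hge)
  intro t ht
  have : t ∈ closure T := subset_closure ht
  rw [← hη.def, hPeq] at this
  exact this

/-- The minimal primes of the local ring at `u` correspond to the irreducible components
through `u`. -/
theorem encard_minimalPrimes_stalk_eq (U : Scheme.{u}) (u : U) :
    (minimalPrimes (U.presheaf.stalk u)).encard =
      {Z : Set U | Z ∈ irreducibleComponents U ∧ u ∈ Z}.encard := by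
  classical
  let f : Ideal (U.presheaf.stalk u) → Set U := fun p =>
    if hp : p.IsPrime then closure {U.fromSpecStalk u ⟨p, hp⟩} else ∅
  have hf : ∀ p (hp : p.IsPrime), f p = closure {U.fromSpecStalk u ⟨p, hp⟩} :=
    fun p hp => dif_pos hp
  have hemb := (U.fromSpecStalk u).isEmbedding
  have himg : f '' minimalPrimes (U.presheaf.stalk u) =
      {Z : Set U | Z ∈ irreducibleComponents U ∧ u ∈ Z} := by
    ext Z
    constructor
    · rintro ⟨p, hp, rfl⟩
      rw [hf p hp.1.1]
      exact closure_mem_of_minimalPrime U u p hp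
    · rintro ⟨hZ, huZ⟩
      obtain ⟨η, hη⟩ := QuasiSober.sober hZ.1 (isClosed_of_mem_irreducibleComponents Z hZ)
      have hηu : η ⤳ u := hη.specializes huZ
      have : η ∈ Set.range (U.fromSpecStalk u) := by
        rw [Scheme.range_fromSpecStalk]; exact hηu
      obtain ⟨P, rfl⟩ := this
      refine ⟨P.asIdeal, ⟨⟨P.isPrime, bot_le⟩, ?_⟩, ?_⟩
      · intro P' hP' hle
        haveI : P'.IsPrime := hP'.1
        set ξ' : U := U.fromSpecStalk u ⟨P', hP'.1⟩ with hξ'
        have h1 : (⟨P', hP'.1⟩ : PrimeSpectrum (U.presheaf.stalk u)) ⤳ P :=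
          (PrimeSpectrum.le_iff_specializes _ _).1 hle
        have h2 : ξ' ⤳ U.fromSpecStalk u P := h1.map (U.fromSpecStalk u).continuous
        have hsub : Z ⊆ closure {ξ'} := by
          rw [← hη.def]
          exact (specializes_iff_closure_subset.1 h2)
        have heq : closure {ξ'} = Z :=
          le_antisymm (hZ.2 isIrreducible_singleton.closure hsub) hsub
        have h3 : ξ' = U.fromSpecStalk u P :=
          (inseparable_iff_closure_eq.2 (heq.trans hη.def.symm)).eq
        have h4 := hemb.injective h3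
        rw [← h4]
      · rw [hf _ P.isPrime]
        exact hη.def
  have hinj : Set.InjOn f (minimalPrimes (U.presheaf.stalk u)) := by
    intro p hp q hq h
    rw [hf p hp.1.1, hf q hq.1.1] at h
    have e3 := (inseparable_iff_closure_eq.2 h).eq
    have e4 := hemb.injective e3
    exact congrArg PrimeSpectrum.asIdeal e4
  rw [← himg, hinj.encard_image]

end Geom

section Spread

open Groth.Agent.Lib.helper9.UnramCore Groth.Agent.Lib.helper9.UnramGeom

attribute [local instance] Algebra.TensorProduct.rightAlgebra in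
/-- Every stage of the henselization of the local ring at `x` is the local ring of an étale
neighbourhood of `(X, x)` with trivial residue field extension. -/
theorem exists_etaleNbhd_stalk_equiv (X : Scheme.{u}) (x : X) (i : Idx (X.presheaf.stalk x)) :
    ∃ (U : Scheme.{u}) (g : U ⟶ X) (u : U), Hens2.IsEtaleNbhd g u x ∧
      Nonempty (U.presheaf.stalk u ≃+* i.G) := by
  obtain ⟨Z, hZfin, hZ⟩ :=
    Groth.Agent.Lib.Helper24.EtaleDescent.exists_finite_descent (X.presheaf.stalk x) i.C
  obtain ⟨V, hV, hxV, hVZ⟩ := exists_affineOpen_germ_range X x Z hZfin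
  let algR₀A : Algebra Γ(X, V) (X.presheaf.stalk x) :=
    TopCat.Presheaf.algebra_section_stalk X.presheaf ⟨x, hxV⟩
  have hloc := hV.isLocalization_stalk ⟨x, hxV⟩
  obtain ⟨E₀, _, _, het, ⟨e⟩⟩ := hZ Γ(X, V) (fun z hz => by
    obtain ⟨s, hs⟩ := hVZ z hz
    exact ⟨s, hs⟩)
  let φ : E₀ →+* i.C := (e : (X.presheaf.stalk x) ⊗[Γ(X, V)] E₀ →+* i.C).comp
    (algebraMap E₀ ((X.presheaf.stalk x) ⊗[Γ(X, V)] E₀))
  have hφ : ∀ r : Γ(X, V), φ (algebraMap Γ(X, V) E₀ r) =
      algebraMap (X.presheaf.stalk x) i.C (algebraMap Γ(X, V) (X.presheaf.stalk x) r) := by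
    intro r
    show e ((1 : X.presheaf.stalk x) ⊗ₜ[Γ(X, V)] (algebraMap Γ(X, V) E₀ r)) = _
    rw [Algebra.algebraMap_eq_smul_one, ← TensorProduct.smul_tmul, ← Algebra.algebraMap_eq_smul_one]
    exact e.commutes _
  have hq₀ : (i.q.comap φ).IsPrime := Ideal.comap_isPrime _ _
  have hqA : ∀ a : X.presheaf.stalk x, algebraMap (X.presheaf.stalk x) i.C a ∈ i.q ↔
      a ∈ IsLocalRing.maximalIdeal (X.presheaf.stalk x) := by
    intro a
    rw [mem_q, AlgHom.commutes, IsLocalRing.ResidueField.algebraMap_eq,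
      IsLocalRing.residue_eq_zero_iff]
  let ψ : Γ(X, V) ⟶ CommRingCat.of E₀ := CommRingCat.ofHom (algebraMap Γ(X, V) E₀)
  let g : Spec (CommRingCat.of E₀) ⟶ X := Spec.map ψ ≫ hV.fromSpec
  have hg1 : Etale (Spec.map ψ) := by
    rw [HasRingHomProperty.Spec_iff (P := @Etale)]
    exact RingHom.etale_algebraMap.2 het
  have hg : Etale g := inferInstance
  let u : Spec (CommRingCat.of E₀) := (⟨i.q.comap φ, hq₀⟩ : PrimeSpectrum E₀)
  have hcomap : (i.q.comap φ).comap (algebraMap Γ(X, V) E₀) =
      (hV.primeIdealOf ⟨x, hxV⟩).asIdeal := by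
    ext r
    rw [Ideal.mem_comap, Ideal.mem_comap, hφ, hqA,
      IsLocalization.AtPrime.to_map_mem_maximal_iff (X.presheaf.stalk x)
        (hV.primeIdealOf ⟨x, hxV⟩).asIdeal r]
  have hgu : g u = x := by
    show (Spec.map ψ ≫ hV.fromSpec) u = x
    rw [Scheme.Hom.comp_apply]
    have h1 : (Spec.map ψ) u = hV.primeIdealOf ⟨x, hxV⟩ := by
      apply PrimeSpectrum.ext
      exact hcomap
    rw [h1]
    exact hV.fromSpec_primeIdealOf ⟨x, hxV⟩
  have hfrac : ∀ e₀ : E₀, ∃ r t : Γ(X, V), t ∉ (Spec.map ψ u).asIdeal ∧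
      ψ.hom t * e₀ - ψ.hom r ∈ i.q.comap φ := by
    intro e₀
    obtain ⟨a, ha⟩ := IsLocalRing.residue_surjective (i.χ (φ e₀))
    have h1 : φ e₀ - algebraMap (X.presheaf.stalk x) i.C a ∈ i.q := by
      rw [mem_q, map_sub, AlgHom.commutes, IsLocalRing.ResidueField.algebraMap_eq, ha, sub_self]
    obtain ⟨⟨r, t⟩, hrt⟩ := IsLocalization.surj (hV.primeIdealOf ⟨x, hxV⟩).asIdeal.primeCompl a
    refine ⟨r, t, ?_, ?_⟩
    · have h2 : (Spec.map ψ u).asIdeal = (hV.primeIdealOf ⟨x, hxV⟩).asIdeal := hcomap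
      rw [h2]
      exact t.2
    · rw [Ideal.mem_comap]
      have h3 : φ (ψ.hom t * e₀ - ψ.hom r) =
          algebraMap (X.presheaf.stalk x) i.C (algebraMap Γ(X, V) (X.presheaf.stalk x) t) *
            (φ e₀ - algebraMap (X.presheaf.stalk x) i.C a) := by
        rw [map_sub, map_mul]
        show φ (algebraMap Γ(X, V) E₀ t) * φ e₀ - φ (algebraMap Γ(X, V) E₀ r) = _
        rw [hφ, hφ, ← hrt, map_mul]
        ring
      rw [h3]
      exact Ideal.mul_mem_left _ _ h1
  have hbij : Function.Bijective (g.residueFieldMap u) := by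
    show Function.Bijective ((Spec.map ψ ≫ hV.fromSpec).residueFieldMap u)
    rw [Scheme.residueFieldMap_comp, Groth.Agent.Lib.helper13.EL.Spec_residueFieldMap_eq]
    have h1 : Function.Bijective (Ideal.ResidueField.map
        (Spec.map ψ u).asIdeal (i.q.comap φ) ψ.hom rfl) :=
      ⟨RingHom.injective _, residueField_map_surjective_of_fractions ψ.hom _ _ rfl hfrac⟩
    have h2 : IsIso (CommRingCat.ofHom (Ideal.ResidueField.map
        (Spec.map ψ u).asIdeal (i.q.comap φ) ψ.hom rfl)) :=
      (ConcreteCategory.isIso_iff_bijective _).mpr h1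
    exact ConcreteCategory.bijective_of_isIso _
  refine ⟨Spec (CommRingCat.of E₀), g, u, ⟨hg, hgu, hbij⟩, ?_⟩
  -- `i.C` is a localization of `E₀`
  let algE₀C : Algebra E₀ i.C := φ.toAlgebra
  let eE : ((X.presheaf.stalk x) ⊗[Γ(X, V)] E₀) ≃ₐ[E₀] i.C :=
    { (e : ((X.presheaf.stalk x) ⊗[Γ(X, V)] E₀) ≃+* i.C) with
      commutes' := fun r => rfl }
  have hloc1 : IsLocalization (Algebra.algebraMapSubmonoid E₀
      (hV.primeIdealOf ⟨x, hxV⟩).asIdeal.primeCompl) ((X.presheaf.stalk x) ⊗[Γ(X, V)] E₀) :=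
    IsLocalization.tensorRight (X.presheaf.stalk x) (hV.primeIdealOf ⟨x, hxV⟩).asIdeal.primeCompl
  have hloc2 : IsLocalization (Algebra.algebraMapSubmonoid E₀
      (hV.primeIdealOf ⟨x, hxV⟩).asIdeal.primeCompl) i.C :=
    IsLocalization.isLocalization_of_algEquiv _ eE
  let algE₀G : Algebra E₀ i.G := ((algebraMap i.C i.G).comp φ).toAlgebra
  have st : IsScalarTower E₀ i.C i.G := .of_algebraMap_eq' rfl
  have hloc3 : IsLocalization.AtPrime i.G (i.q.comap (algebraMap E₀ i.C)) :=
    IsLocalization.isLocalization_isLocalization_atPrime_isLocalization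
      (Algebra.algebraMapSubmonoid E₀ (hV.primeIdealOf ⟨x, hxV⟩).asIdeal.primeCompl) i.G i.q
  let algE₀S : Algebra E₀ ((Spec (CommRingCat.of E₀)).presheaf.stalk u) :=
    StructureSheaf.stalkAlgebra E₀ u
  have hloc4 : IsLocalization.AtPrime ((Spec (CommRingCat.of E₀)).presheaf.stalk u) (i.q.comap φ) :=
    StructureSheaf.IsLocalization.to_stalk E₀ u
  exact ⟨(IsLocalization.algEquiv (i.q.comap φ).primeCompl
    ((Spec (CommRingCat.of E₀)).presheaf.stalk u) i.G).toRingEquiv⟩

end Spread

end Groth.Agent.H1.BranchCount
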