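import Groth.Agent.Lib.Helper1.CechPtsB

/-!
# The stalk formula for finite morphisms in terms of values at geometric points (helper1)
-/

set_option autoImplicit false
universe u
open CategoryTheory CategoryTheory.Limits AlgebraicGeometry Opposite

namespace Groth.Agent.H1.CechPts

open Groth.Agent.H1.FppfDesc Groth.Agent.H1.EtGerm Groth.Agent.H1.PullGerm Groth.Agent.H1.BigSmall

local notation "Et" => Scheme.etalePrecoverage

variable {S : Scheme.{u}} {G : BigSite.Ab Et S} {Ω : Type u} [Field Ω] [IsAlgClosed Ω]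
  {xb : Spec (.of Ω) ⟶ S} {E : Over S}

/-- equal germs have equal values -/
theorem pt_eq_of_germ_eq {ξ : Spec (.of Ω) ⟶ E.left} (hξ : ξ ≫ E.hom = xb) {U₁ U₂ : E.left.Etale}
    (y₁ : Lift ξ U₁) (y₂ : Lift ξ U₂) (s₁ : (Fr G E).obj.obj (op U₁))
    (s₂ : (Fr G E).obj.obj (op U₂))
    (h : germ ξ (Fr G E) U₁ y₁ s₁ = germ ξ (Fr G E) U₂ y₂ s₂) :
    G.obj.map (ptOf hξ y₁).op s₁ = G.obj.map (ptOf hξ y₂).op s₂ := by
  let y₃ : Lift ξ (prodEt U₁ U₂) := Lift.mk ξ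
    (pullback.lift y₁.hom y₂.hom (y₁.hom_comp.trans y₂.hom_comp.symm))
    ((Category.assoc _ _ _).symm.trans
      ((congrArg (fun k => k ≫ U₁.hom) (pullback.lift_fst _ _ _)).trans y₁.hom_comp))
  have e1 : Lift.map (prodEtFst U₁ U₂) y₃ = y₁ := Lift.ext (pullback.lift_fst _ _ _)
  have e2 : Lift.map (prodEtSnd U₁ U₂) y₃ = y₂ := Lift.ext (pullback.lift_snd _ _ _)
  have hd : germ ξ (Fr G E) (prodEt U₁ U₂) y₃ ((Fr G E).obj.map (prodEtFst U₁ U₂).op s₁ -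
      (Fr G E).obj.map (prodEtSnd U₁ U₂).op s₂) = 0 := by
    rw [map_sub, germ_res, germ_res, e1, e2, h, sub_self]
  have h3 := pt_eq_zero_of_germ hξ y₃ _ hd
  have h4 : G.obj.map (ptOf hξ y₃).op (G.obj.map (ovMap E (prodEtFst U₁ U₂)).op s₁ -
      G.obj.map (ovMap E (prodEtSnd U₁ U₂)).op s₂) = 0 := h3
  rw [map_sub, sub_eq_zero, map_map, map_map, ptOf_map, ptOf_map, e1, e2] at h4
  exact h4

theorem assoc_pt {A B C D : Scheme.{u}} (v : A ⟶ B) (a : B ⟶ C) (b : C ⟶ D) {η : A ⟶ C}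
    {t : A ⟶ D} (h1 : v ≫ a = η) (h2 : η ≫ b = t) : v ≫ a ≫ b = t := by
  rw [← Category.assoc, h1, h2]

/-- **injectivity of the stalk formula** for a finite morphism, in terms of values at points -/
theorem inj_pts (hLC : LC G) (hEQ : EQ G) {B : Over S} (f : E ⟶ B) [IsFinite f.left]
    (β : Over.mk xb ⟶ B) (s : G.obj.obj (op E))
    (hs : ∀ z : Over.mk xb ⟶ E, z ≫ f = β → G.obj.map z.op s = 0) :
    ∃ (B' : Over S) (e' : B' ⟶ B) (β' : Over.mk xb ⟶ B'), Etale e'.left ∧ β' ≫ e' = β ∧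
      G.obj.map (pbSnd e' f).op s = 0 := by
  let V₀ := EtCoh.top B.left
  let v₀ : Lift β.left V₀ := Groth.Agent.H1.FinStalk.topLift β.left
  obtain ⟨s₀, hs₀d⟩ : ∃ s₀ : (Fr G E).obj.obj (op ((EtCoh.bc f.left).obj V₀)),
      s₀ = G.obj.map (ovProj E ((EtCoh.bc f.left).obj V₀)).op s := ⟨_, rfl⟩
  have hξE : ∀ ξ : Spec (.of Ω) ⟶ E.left, ξ ≫ f.left = β.left → ξ ≫ E.hom = xb :=
    fun ξ h => w_comp f ξ β.left xb h (pt_w β)
  have hs₀ : ∀ ξ : {ξ : Spec (.of Ω) ⟶ E.left // ξ ≫ f.left = β.left},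
      germ ξ.1 (Fr G E) ((EtCoh.bc f.left).obj V₀) (liftBc f.left ξ.1 ξ.2 v₀) s₀ = 0 := by
    rintro ⟨ξ, h⟩
    apply germ_eq_zero_of_pt hLC hEQ (hξE ξ h)
    rw [hs₀d, map_map, ptOf_proj]
    apply hs
    apply pt_ext
    exact h
  obtain ⟨V₁, g, v₁, hv₁, hz⟩ := Groth.Agent.H1.FinStalk.inj f.left β.left (Fr G E) V₀ v₀ s₀ hs₀
  rw [Fr_map, hs₀d, map_map, ovMap_proj] at hz
  have hV₁ : Etale V₁.hom := V₁.prop
  let B' : Over S := Over.mk (V₁.hom ≫ B.hom)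
  let e' : B' ⟶ B := Over.homMk V₁.hom rfl
  refine ⟨B', e', mkPt v₁.hom (assoc_pt v₁.hom V₁.hom B.hom v₁.hom_comp (pt_w β)), hV₁, ?_, ?_⟩
  · apply pt_ext
    exact v₁.hom_comp
  · exact hz

/-- **surjectivity of the stalk formula** for a finite morphism, in terms of values at points -/
theorem surj_pts (hLC : LC G) {B : Over S} (f : E ⟶ B) [IsFinite f.left]
    (β : Over.mk xb ⟶ B)
    (y : {z : Over.mk xb ⟶ E // z ≫ f = β} → G.obj.obj (op (Over.mk xb))) :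
    ∃ (B' : Over S) (e' : B' ⟶ B) (β' : Over.mk xb ⟶ B') (σ : G.obj.obj (op (pb e' f))),
      Etale e'.left ∧ β' ≫ e' = β ∧
        ∀ (z : Over.mk xb ⟶ E) (hz : z ≫ f = β) (w : Over.mk xb ⟶ pb e' f),
          w ≫ pbFst e' f = β' → w ≫ pbSnd e' f = z → G.obj.map w.op σ = y ⟨z, hz⟩ := by
  have hξE : ∀ ξ : Spec (.of Ω) ⟶ E.left, ξ ≫ f.left = β.left → ξ ≫ E.hom = xb :=
    fun ξ h => w_comp f ξ β.left xb h (pt_w β)
  have hzf : ∀ (ξ : Spec (.of Ω) ⟶ E.left) (h : ξ ≫ f.left = β.left),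
      mkPt ξ (hξE ξ h) ≫ f = β := fun ξ h => pt_ext _ _ h
  have h1 : ∀ ξ : {ξ : Spec (.of Ω) ⟶ E.left // ξ ≫ f.left = β.left},
      ∃ (U : E.left.Etale) (yl : Lift ξ.1 U) (s : (Fr G E).obj.obj (op U)),
        G.obj.map (ptOf (hξE ξ.1 ξ.2) yl).op s = y ⟨mkPt ξ.1 (hξE ξ.1 ξ.2), hzf ξ.1 ξ.2⟩ :=
    fun ξ => exists_germ_section hLC (hξE ξ.1 ξ.2) _
  choose U yl sU hsU using h1
  obtain ⟨V, v, s', hs'⟩ := Groth.Agent.H1.FinStalk.surj f.left β.left (Fr G E)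
    (fun ξ => germ ξ.1 (Fr G E) (U ξ) (yl ξ) (sU ξ))
  have hV : Etale V.hom := V.prop
  let B' : Over S := Over.mk (V.hom ≫ B.hom)
  let e' : B' ⟶ B := Over.homMk V.hom rfl
  refine ⟨B', e', mkPt v.hom (assoc_pt v.hom V.hom B.hom v.hom_comp (pt_w β)), s', hV, ?_, ?_⟩
  · apply pt_ext
    exact v.hom_comp
  · intro z hz w hw1 hw2
    have hzl : z.left ≫ f.left = β.left := congrArg (fun k => k.left) hz
    have h2 := pt_eq_of_germ_eq (hξE z.left hzl) _ _ _ _ (hs' ⟨z.left, hzl⟩)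
    have h3 : w = ptOf (hξE z.left hzl) (liftBc f.left z.left hzl v) := by
      apply pt_ext
      refine plain_ext V.hom f.left _ _ ?_ ?_
      · exact (congrArg (fun k => k.left) hw1).trans (liftBc_hom_fst f.left z.left hzl v).symm
      · exact (congrArg (fun k => k.left) hw2).trans (liftBc_hom_snd f.left z.left hzl v).symm
    rw [h3]
    refine h2.trans ((hsU ⟨z.left, hzl⟩).trans ?_)
    congr 1

end Groth.Agent.H1.CechPts
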