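import Groth.Agent.Lib.Helper1.CechRep
import Groth.Agent.Lib.Helper1.CechPtsC

/-!
# Étale-local Čech exactness for finite locally free coverings (helper1)

The property `CE P`: every Čech cocycle of `P` of positive degree for a finite, flat, finitely
presented surjective morphism is, étale locally on the base around any geometric point, a
coboundary.  It holds for big étale sheaves with `LC` and `EQ` (pullbacks from the small étale site).
-/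

set_option autoImplicit false
universe u
open CategoryTheory CategoryTheory.Limits AlgebraicGeometry Opposite

namespace Groth.Agent.H1.CechCE

open Groth.Agent.H1.CechK Groth.Agent.H1.CechRep Groth.Agent.H1.CechPts Groth.Agent.H1.FppfDesc

local notation "Et" => Scheme.etalePrecoverage

variable {S : Scheme.{u}}

/-- étale-local Čech exactness in positive degrees -/
def CE (P : (Over S)ᵒᵖ ⥤ AddCommGrpCat.{u + 1}) : Prop :=
  ∀ {V T T₁ : Over S} (π : V ⟶ T) (e : T₁ ⟶ T), IsFinite π.left → Surjective π.left →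
    Flat π.left → LocallyOfFinitePresentation π.left →
    ∀ (p : ℕ) (c : K π e (p + 2) ⟶ P), d (p + 2) ≫ c = 0 →
    ∀ (Ω : Type u) [Field Ω] [IsAlgClosed Ω] (xb : Spec (.of Ω) ⟶ S) (β : Over.mk xb ⟶ T₁),
    ∃ (T₂ : Over S) (e₂ : T₂ ⟶ T₁) (β₂ : Over.mk xb ⟶ T₂) (e' : T₂ ⟶ T) (h : e' = e₂ ≫ e)
      (b : K π e' (p + 1) ⟶ P), Etale e₂.left ∧ β₂ ≫ e₂ = β ∧
        d (p + 1) ≫ b = res e₂ h (p + 2) ≫ c

section Alg

variable {V T T₁ : Over S} {π : V ⟶ T} {e : T₁ ⟶ T} {P : (Over S)ᵒᵖ ⥤ AddCommGrpCat.{u + 1}}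

theorem sub_app_apply {A B : (Over S)ᵒᵖ ⥤ AddCommGrpCat.{u + 1}} (α β : A ⟶ B) (W : (Over S)ᵒᵖ)
    (z : A.obj W) : (α - β).app W z = α.app W z - β.app W z := rfl

theorem comp_app_apply {A B C : (Over S)ᵒᵖ ⥤ AddCommGrpCat.{u + 1}} (α : A ⟶ B) (β : B ⟶ C)
    (W : (Over S)ᵒᵖ) (z : A.obj W) : (α ≫ β).app W z = β.app W (α.app W z) := rfl

theorem d_comp_app_gen {n : ℕ} (b : K π e n ⟶ P) {W : Over S} (x : Tup π e (n + 1) W) :
    (d n ≫ b).app (op W) (gen x) =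
      ∑ i : Fin (n + 1), (-1 : ℤ) ^ (i : ℕ) • b.app (op W) (gen (Tup.reindex (Fin.succAbove i) x)) := by
  rw [comp_app_apply, d_gen, map_sum]
  refine Finset.sum_congr rfl (fun i _ => ?_)
  rw [map_zsmul]

theorem cons_congr {n : ℕ} {W : Over S} (v : W ⟶ V) {x x' : Tup π e n W} (hx : x = x')
    (hv : v ≫ π = x.base ≫ e) (hv' : v ≫ π = x'.base ≫ e) :
    Tup.cons v x hv = Tup.cons v x' hv' := by
  subst hx
  rfl

/-- the contracting homotopy identity on a cocycle -/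
theorem cocycle_cons {n : ℕ} (c : K π e (n + 1) ⟶ P) (hc : d (n + 1) ≫ c = 0) {W : Over S}
    (x : Tup π e (n + 1) W) (v : W ⟶ V) (hv : v ≫ π = x.base ≫ e) :
    c.app (op W) (gen x) = ∑ i : Fin (n + 1), (-1 : ℤ) ^ (i : ℕ) •
      c.app (op W) (gen (Tup.cons v (Tup.reindex (Fin.succAbove i) x) hv)) := by
  have h0 : (d (n + 1) ≫ c).app (op W) (gen (Tup.cons v x hv)) = 0 := by
    rw [hc]
    rfl
  rw [d_comp_app_gen, Fin.sum_univ_succ] at h0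
  simp only [Tup.reindex_zero_cons, Tup.reindex_succ_cons, Fin.val_zero, pow_zero, one_smul,
    Fin.val_succ, pow_succ, mul_neg, mul_one, neg_smul, Finset.sum_neg_distrib] at h0
  exact add_neg_eq_zero.mp h0

end Alg

theorem etale_comp_left {A B C : Over S} (a : A ⟶ B) (b : B ⟶ C) (ha : Etale a.left)
    (hb : Etale b.left) : Etale (a ≫ b).left :=
  MorphismProperty.comp_mem (W := @Etale) _ _ ha hb

/-- **Base case**: pullbacks from the small étale site are étale-locally Čech exact. -/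
theorem ce_of_LC_EQ {G : BigSite.Ab Et S} (hLC : LC G) (hEQ : EQ G) : CE G.obj := by
  intro V T T₁ π e hfin hsurj _ _ p c hc Ω _ _ xb β
  haveI := hfin
  haveI := hsurj
  obtain ⟨ξ₀, hξ₀⟩ := exists_pt_lift π.left Ω (β ≫ e).left
  obtain ⟨v₀, hv₀d⟩ : ∃ v₀ : Over.mk xb ⟶ V,
      v₀ = mkPt ξ₀ (w_comp π ξ₀ (β ≫ e).left xb hξ₀ (pt_w (β ≫ e))) := ⟨_, rfl⟩
  have hv₀ : v₀ ≫ π = β ≫ e := by
    apply pt_ext
    rw [hv₀d]
    exact hξ₀
  haveI hf : IsFinite (Eto π e (p + 1)).left := isFinite_Eto hfin (p + 1)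
  have hcons : ∀ z : {z : Over.mk xb ⟶ Eobj π e (p + 1) // z ≫ Eto π e (p + 1) = β},
      v₀ ≫ π = (Tup.map z.1 (univ π e (p + 1))).base ≫ e := by
    intro z
    change v₀ ≫ π = (z.1 ≫ (univ π e (p + 1)).base) ≫ e
    rw [univ_base, z.2, hv₀]
  obtain ⟨T₂, e₂, β₂, σ, he₂, hβ₂, hσ⟩ := surj_pts hLC (Eto π e (p + 1)) β
    (fun z => c.app (op (Over.mk xb))
      (gen (Tup.cons v₀ (Tup.map z.1 (univ π e (p + 1))) (hcons z))))
  obtain ⟨b, hbd⟩ : ∃ b : K π (e₂ ≫ e) (p + 1) ⟶ G.obj, b = ofSecBC e₂ rfl (p + 1) σ := ⟨_, rfl⟩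
  have hpush : ∀ {n : ℕ} (x : Tup π (e₂ ≫ e) n (Over.mk xb)), x.base = β₂ →
      v₀ ≫ π = (Tup.push e₂ rfl x).base ≫ e := by
    intro n x hx
    change v₀ ≫ π = (x.base ≫ e₂) ≫ e
    rw [hx, hβ₂, hv₀]
  have hb : ∀ (x : Tup π (e₂ ≫ e) (p + 1) (Over.mk xb)) (hx : x.base = β₂),
      b.app (op (Over.mk xb)) (gen x) =
        c.app (op (Over.mk xb)) (gen (Tup.cons v₀ (Tup.push e₂ rfl x) (hpush x hx))) := by
    intro x hx
    have hz : liftE (p + 1) (Tup.push e₂ rfl x) ≫ Eto π e (p + 1) = β := by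
      rw [liftE_Eto]
      change x.base ≫ e₂ = β
      rw [hx, hβ₂]
    rw [hbd, ofSecBC_gen, hσ _ hz (liftBC e₂ rfl (p + 1) x) ((liftBC_fst e₂ rfl (p + 1) x).trans hx)
      (liftBC_snd e₂ rfl (p + 1) x)]
    congr 2
    exact cons_congr v₀ (map_liftE (p + 1) (Tup.push e₂ rfl x)) _ _
  obtain ⟨c', hc'd⟩ : ∃ c' : K π (e₂ ≫ e) (p + 2) ⟶ G.obj,
      c' = res e₂ rfl (p + 2) ≫ c - d (p + 1) ≫ b := ⟨_, rfl⟩
  have hc' : ∀ z : Over.mk xb ⟶ Eobj π (e₂ ≫ e) (p + 2), z ≫ Eto π (e₂ ≫ e) (p + 2) = β₂ →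
      G.obj.map z.op (toSec G.obj c') = 0 := by
    intro z hz
    have hx : (Tup.map z (univ π (e₂ ≫ e) (p + 2))).base = β₂ := by
      change z ≫ (univ π (e₂ ≫ e) (p + 2)).base = β₂
      rw [univ_base, hz]
    rw [toSec, ← app_map_gen, hc'd, sub_app_apply, sub_eq_zero, comp_app_apply, res_gen,
      d_comp_app_gen]
    rw [cocycle_cons c hc (Tup.push e₂ rfl (Tup.map z (univ π (e₂ ≫ e) (p + 2)))) v₀
      (hpush _ hx)]
    refine Finset.sum_congr rfl (fun i _ => ?_)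
    rw [hb (Tup.reindex (Fin.succAbove i) (Tup.map z (univ π (e₂ ≫ e) (p + 2)))) hx]
    rfl
  haveI hf₂ : IsFinite (Eto π (e₂ ≫ e) (p + 2)).left := isFinite_Eto hfin (p + 2)
  obtain ⟨T₃, e₃, β₃, he₃, hβ₃, hz⟩ := inj_pts hLC hEQ (Eto π (e₂ ≫ e) (p + 2)) β₂
    (toSec G.obj c') hc'
  have h0 : res e₃ rfl (p + 2) ≫ c' = 0 := res_comp_eq_zero e₃ rfl c' hz
  refine ⟨T₃, e₃ ≫ e₂, β₃, e₃ ≫ (e₂ ≫ e), (Category.assoc _ _ _).symm, res e₃ rfl (p + 1) ≫ b,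
    etale_comp_left e₃ e₂ he₃ he₂, by rw [← Category.assoc, hβ₃, hβ₂], ?_⟩
  rw [hc'd, Preadditive.comp_sub, sub_eq_zero] at h0
  calc d (p + 1) ≫ res e₃ rfl (p + 1) ≫ b
      = (d (p + 1) ≫ res e₃ rfl (p + 1)) ≫ b := (Category.assoc _ _ _).symm
    _ = (res e₃ rfl (p + 2) ≫ d (p + 1)) ≫ b := by rw [d_res]
    _ = res e₃ rfl (p + 2) ≫ d (p + 1) ≫ b := Category.assoc _ _ _
    _ = res e₃ rfl (p + 2) ≫ res e₂ rfl (p + 2) ≫ c := h0.symm
    _ = (res e₃ rfl (p + 2) ≫ res e₂ rfl (p + 2)) ≫ c := (Category.assoc _ _ _).symm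
    _ = res (e₃ ≫ e₂) (Category.assoc _ _ _).symm (p + 2) ≫ c := by
      rw [res_res e₂ rfl e₃ rfl (Category.assoc _ _ _).symm]

end Groth.Agent.H1.CechCE
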