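import Groth.Agent.Lib.Helper1.FppfLC

/-!
# The pullback `a⁻¹` to the big fppf site (helper1)

`a⁻¹ F ≅ π_S⁻¹ F` (the pullback to the big étale site, which is already an fppf sheaf), and the
sections of `a⁻¹ F` over `T/S` are the global sections of `f_small⁻¹ F`.
-/

set_option autoImplicit false
universe u
open CategoryTheory CategoryTheory.Limits AlgebraicGeometry Opposite

namespace Groth.Agent.H1.FppfPull

open Groth.Agent.H1.BigSmall Groth.Agent.H1.FppfLC

local notation "Et" => Scheme.etalePrecoverage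

variable (S : Scheme.{u}) [EtFppf.ACont S] (F : EtCoh.Ab S)

/-- `π_S⁻¹ F` as a sheaf on the big fppf site -/
noncomputable abbrev LF : EtFppf.AbF S := ⟨(G₀ F).obj, isSheaf_fppf_G₀ F⟩

/-- an fppf sheaf regarded as a sheaf on the big étale site -/
noncomputable abbrev epsObj (H : EtFppf.AbF S) : BigSite.Ab Et S :=
  ⟨H.obj, fun E => Presieve.isSheaf_of_le _
    (BigSite.J_mono BigSite.etalePrecoverage_le_fppfPrecoverage S) (H.property E)⟩

/-- the unit of `π_S⁻¹ ⊣ res`, as a map to `a_* (LF)` -/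
noncomputable def uF : F ⟶ (EtFppf.aPush S).obj (LF S F) :=
  ObjectProperty.homMk ((BigSite.piEtAdj Et S).unit.app F).hom

/-- the comparison `a⁻¹ F ⟶ LF` -/
noncomputable def cmp : (EtFppf.aPull S).obj F ⟶ LF S F :=
  ((EtFppf.aAdj S).homEquiv F (LF S F)).symm (uF S F)

/-- the unit of `a⁻¹ ⊣ a_*`, as a map to the restriction of `ε (a⁻¹ F)` -/
noncomputable def vF : F ⟶ (BigSite.resEt Et S).obj (epsObj S ((EtFppf.aPull S).obj F)) :=
  ObjectProperty.homMk ((EtFppf.aAdj S).unit.app F).hom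

/-- the inverse comparison on the big étale site -/
noncomputable def inv₀ : G₀ F ⟶ epsObj S ((EtFppf.aPull S).obj F) :=
  ((BigSite.piEtAdj Et S).homEquiv F _).symm (vF S F)

/-- the inverse comparison `LF ⟶ a⁻¹ F` -/
noncomputable def cmpInv : LF S F ⟶ (EtFppf.aPull S).obj F :=
  ObjectProperty.homMk (inv₀ S F).hom

theorem uF_comp : uF S F ≫ (EtFppf.aPush S).map (cmpInv S F) = (EtFppf.aAdj S).unit.app F := by
  have h2 : (BigSite.piEtAdj Et S).homEquiv F _ (inv₀ S F) = vF S F := Equiv.apply_symm_apply _ _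
  rw [Adjunction.homEquiv_unit] at h2
  apply Sheaf.hom_ext
  exact congrArg (fun k => k.hom) h2

theorem cmp_cmpInv : cmp S F ≫ cmpInv S F = 𝟙 _ := by
  apply ((EtFppf.aAdj S).homEquiv F _).injective
  rw [Adjunction.homEquiv_naturality_right, Adjunction.homEquiv_id]
  have h1 : (EtFppf.aAdj S).homEquiv F (LF S F) (cmp S F) = uF S F := Equiv.apply_symm_apply _ _
  rw [h1]
  exact uF_comp S F

theorem vF_comp : vF S F ≫ (BigSite.resEt Et S).map
    (ObjectProperty.homMk (cmp S F).hom : epsObj S ((EtFppf.aPull S).obj F) ⟶ G₀ F) =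
    (BigSite.piEtAdj Et S).unit.app F := by
  have h2 : (EtFppf.aAdj S).homEquiv F _ (cmp S F) = uF S F := Equiv.apply_symm_apply _ _
  rw [Adjunction.homEquiv_unit] at h2
  apply Sheaf.hom_ext
  exact congrArg (fun k => k.hom) h2

theorem inv₀_comp : inv₀ S F ≫
    (ObjectProperty.homMk (cmp S F).hom : epsObj S ((EtFppf.aPull S).obj F) ⟶ G₀ F) = 𝟙 _ := by
  apply ((BigSite.piEtAdj Et S).homEquiv F _).injective
  rw [Adjunction.homEquiv_naturality_right, Adjunction.homEquiv_id]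
  have h1 : (BigSite.piEtAdj Et S).homEquiv F _ (inv₀ S F) = vF S F := Equiv.apply_symm_apply _ _
  rw [h1]
  exact vF_comp S F

theorem cmpInv_cmp : cmpInv S F ≫ cmp S F = 𝟙 _ := by
  apply Sheaf.hom_ext
  exact congrArg (fun k => k.hom) (inv₀_comp S F)

/-- `a⁻¹ F ≅ π_S⁻¹ F` on the big fppf site -/
noncomputable def cmpIso : (EtFppf.aPull S).obj F ≅ LF S F where
  hom := cmp S F
  inv := cmpInv S F
  hom_inv_id := cmp_cmpInv S F
  inv_hom_id := cmpInv_cmp S F

/-- sections of `a⁻¹ F` over `T/S` are the global sections of `f_small⁻¹ F` -/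
theorem nonempty_sections_iso {T : Scheme.{u}} (f : T ⟶ S) :
    Nonempty (((EtFppf.aPull S).obj F).obj.obj (op (Over.mk f)) ≅
      ((EtCoh.pull f).obj F).obj.obj (op (EtCoh.top T))) := by
  let e1 : ((EtFppf.aPull S).obj F).obj.obj (op (Over.mk f)) ≅ (G₀ F).obj.obj (op (Over.mk f)) :=
    ((sheafToPresheaf _ _).mapIso (cmpIso S F)).app (op (Over.mk f))
  let e2 : (G₀ F).obj.obj (op (Over.mk f)) ≅
      (G₀ F).obj.obj (op ((Over.map f).obj ((EtFppf.a T).obj (EtCoh.top T)))) :=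
    (G₀ F).obj.mapIso (topIso (Over.mk f)).op
  let e3 : ((EtCoh.pull f).obj F).obj.obj (op (EtCoh.top T)) ≅
      (G₀ F).obj.obj (op ((Over.map f).obj ((EtFppf.a T).obj (EtCoh.top T)))) :=
    ((sheafToPresheaf _ _).mapIso (omega f F)).app (op (EtCoh.top T))
  exact ⟨e1 ≪≫ e2 ≪≫ e3.symm⟩

end Groth.Agent.H1.FppfPull
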