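import Groth.Agent.Lib.Helper1.CechRes
import Groth.Agent.Lib.Helper1.FppfPull

/-!
# Vanishing of `R^q a_*` on étale-locally Čech exact fppf sheaves (helper1)
-/

set_option autoImplicit false
universe u
open CategoryTheory CategoryTheory.Limits AlgebraicGeometry Opposite

namespace Groth.Agent.H1.CechCE

open Groth.Agent.H1.CechK Groth.Agent.H1.CechRep Groth.Agent.H1.CechPts Groth.Agent.H1.FppfDesc

local notation "Et" => Scheme.etalePrecoverage

section General

universe v₁ u₁ w

variable {C : Type u₁} [Category.{v₁} C] {J : GrothendieckTopology C}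

theorem injective_app_of_mono' {F G : Sheaf J AddCommGrpCat.{w}} (f : F ⟶ G) [Mono f]
    (W : Cᵒᵖ) : Function.Injective (f.hom.app W) := by
  have h1 : Mono ((sheafToPresheaf J AddCommGrpCat.{w}).map f) := inferInstance
  have h2 : Mono (f.hom.app W) :=
    (NatTrans.mono_iff_mono_app ((sheafToPresheaf J AddCommGrpCat.{w}).map f)).1 h1 W
  exact (AddCommGrpCat.mono_iff_injective _).1 h2

end General

variable {S : Scheme.{u}}

/-- local criterion for the exactness of a short complex of abelian sheaves on the small étale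
site -/
theorem exact_of_locally (T : ShortComplex (EtCoh.Ab S))
    (h : ∀ (U : S.Etale) (x : T.X₂.obj.obj (op U)), T.g.hom.app (op U) x = 0 →
      ∃ R : Sieve U, R ∈ S.smallEtaleTopology U ∧ ∀ {V : S.Etale} (g : V ⟶ U), R g →
        ∃ y : T.X₁.obj.obj (op V), T.f.hom.app (op V) y = T.X₂.obj.map g.op x) : T.Exact := by
  rw [ShortComplex.exact_iff_epi_kernel_lift]
  have hls : Sheaf.IsLocallySurjective (kernel.lift T.g T.f T.zero) := by
    constructor
    intro U s
    have hι : kernel.lift T.g T.f T.zero ≫ kernel.ι T.g = T.f := kernel.lift_ι _ _ _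
    have hc : kernel.ι T.g ≫ T.g = 0 := kernel.condition _
    have hx : T.g.hom.app (op U) ((kernel.ι T.g).hom.app (op U) s) = 0 := by
      have := congrArg (fun k => k.hom.app (op U)) hc
      exact ConcreteCategory.congr_hom this s
    obtain ⟨R, hR, hR'⟩ := h U _ hx
    refine S.smallEtaleTopology.superset_covering ?_ hR
    intro V g hg
    obtain ⟨y, hy⟩ := hR' g hg
    refine ⟨y, ?_⟩
    apply injective_app_of_mono' (kernel.ι T.g) (op V)
    have h1 := congrArg (fun k => k.hom.app (op V)) hι
    have h2 : (kernel.ι T.g).hom.app (op V) ((kernel.lift T.g T.f T.zero).hom.app (op V) y) =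
        T.f.hom.app (op V) y := ConcreteCategory.congr_hom h1 y
    rw [h2, hy]
    exact (ConcreteCategory.congr_hom ((kernel.ι T.g).hom.naturality g.op) s).symm
  exact (Sheaf.isLocallySurjective_iff_epi' (φ := kernel.lift T.g T.f T.zero)).1 hls

variable [EtFppf.ACont S]

theorem etale_comp_aux' {A B C : Scheme.{u}} (a : A ⟶ B) (b : B ⟶ C) (ha : Etale a) (hb : Etale b) :
    Etale (a ≫ b) := MorphismProperty.comp_mem (W := @Etale) _ _ ha hb

/-- the sieve of étale `U`-schemes over which a section becomes a coboundary -/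
noncomputable def bdSieve {A B : EtFppf.AbF S} (δ : A ⟶ B) (U : S.Etale)
    (x : B.obj.obj (op ((EtFppf.a S).obj U))) : Sieve U where
  arrows V g := ∃ y : A.obj.obj (op ((EtFppf.a S).obj V)),
    δ.hom.app (op ((EtFppf.a S).obj V)) y = B.obj.map ((EtFppf.a S).map g).op x
  downward_closed := by
    rintro V V' g ⟨y, hy⟩ h
    refine ⟨A.obj.map ((EtFppf.a S).map h).op y, ?_⟩
    rw [map_app_apply, hy, pmap_map, ← Functor.map_comp]

theorem bdSieve_mem {G : EtFppf.AbF S} (R : InjectiveResolution G) (hG : CE G.obj) (n : ℕ)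
    (U : S.Etale) (x : (R.cocomplex.X (n + 1)).obj.obj (op ((EtFppf.a S).obj U)))
    (hx : (R.cocomplex.d (n + 1) (n + 2)).hom.app (op ((EtFppf.a S).obj U)) x = 0) :
    bdSieve (R.cocomplex.d n (n + 1)) U x ∈ S.smallEtaleTopology U := by
  apply Groth.Agent.H1.ClosedDense.mem_smallEtaleTopology
  intro u
  obtain ⟨W', c, z', y, hc, hz', hy⟩ := exists_local_primitive R hG n ((EtFppf.a S).obj U) x hx
    (AlgebraicClosure (U.left.residueField u)) (geomPtAC U.left u ≫ U.hom)
    (mkPt (geomPtAC U.left u) rfl)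
  have hU : Etale U.hom := U.prop
  have hcU : Etale (c.left ≫ U.hom) := etale_comp_aux' _ _ hc hU
  let V : S.Etale := Scheme.Etale.mk (c.left ≫ U.hom)
  let g : V ⟶ U := MorphismProperty.Over.homMk c.left rfl trivial
  let θ : (EtFppf.a S).obj V ⟶ W' := Over.homMk (𝟙 W'.left) (by
    have := Over.w c
    change 𝟙 W'.left ≫ W'.hom = c.left ≫ U.hom
    rw [Category.id_comp, ← this]
    rfl)
  have hθ : θ ≫ c = (EtFppf.a S).map g := by
    apply Over.OverMorphism.ext
    change 𝟙 W'.left ≫ c.left = c.left
    exact Category.id_comp _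
  obtain ⟨zl, hzl⟩ : ∃ zl : Spec (.of (AlgebraicClosure (U.left.residueField u))) ⟶ W'.left,
      zl = z'.left := ⟨_, rfl⟩
  refine ⟨V, g, zl default, ⟨(R.cocomplex.X n).obj.map θ.op y, ?_⟩, ?_⟩
  · rw [map_app_apply, hy, pmap_map, hθ]
  · have h1 : zl ≫ c.left = geomPtAC U.left u := by
      rw [hzl]
      exact congrArg (fun k => k.left) hz'
    change c.left (zl default) = u
    rw [← Scheme.Hom.comp_apply, h1]
    exact geomPtAC_apply _ _ _

/-- **Vanishing of the higher direct images** `R^q a_*` on étale-locally Čech exact sheaves. -/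
theorem isZero_RaPush_of_ce (G : EtFppf.AbF S) (hG : CE G.obj) (n : ℕ) :
    IsZero ((EtFppf.RaPush S (n + 1)).obj G) := by
  let R : InjectiveResolution G := InjectiveResolution.of G
  refine IsZero.of_iso ?_ (R.isoRightDerivedObj (EtFppf.aPush S) (n + 1))
  change IsZero ((((EtFppf.aPush S).mapHomologicalComplex _).obj R.cocomplex).homology (n + 1))
  rw [← HomologicalComplex.exactAt_iff_isZero_homology,
    HomologicalComplex.exactAt_iff' _ n (n + 1) (n + 2) (by simp) (by simp)]
  apply exact_of_locally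
  intro U x hx
  exact ⟨bdSieve (R.cocomplex.d n (n + 1)) U x, bdSieve_mem R @hG n U x hx,
    fun g hg => hg⟩

end Groth.Agent.H1.CechCE
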