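import Mathlib
import Groth.Agent.Lib.Helper1.CechInjU

/-!
# The free presheaf complex of a morphism `π : V ⟶ T`, evaluated over `e : T₁ ⟶ T` (helper1)

`K π e n` is the free abelian presheaf on the presheaf of `n`-tuples of sections of `π` over a
common point of `T₁`.  Cochains with values in a presheaf `P` are the morphisms `K π e n ⟶ P`; the
Čech differential is precomposition with `d`.
-/

set_option autoImplicit false
set_option linter.unusedVariables false
set_option linter.unusedSectionVars false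

namespace Groth.Agent.H1.CechK

open CategoryTheory Limits Opposite

universe v₁ u₁

variable {C : Type u₁} [Category.{v₁} C] {V T T₁ : C} (π : V ⟶ T) (e : T₁ ⟶ T)

/-- `n`-tuples of morphisms to `V` lying over a common morphism to `T₁` -/
@[ext]
structure Tup (n : ℕ) (W : C) where
  base : W ⟶ T₁
  sec : Fin n → (W ⟶ V)
  comm : ∀ k, sec k ≫ π = base ≫ e

namespace Tup

variable {π e}

def map {n : ℕ} {W W' : C} (g : W' ⟶ W) (x : Tup π e n W) : Tup π e n W' where
  base := g ≫ x.base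
  sec k := g ≫ x.sec k
  comm k := by rw [Category.assoc, x.comm, Category.assoc]

lemma map_id {n : ℕ} {W : C} (x : Tup π e n W) : map (𝟙 W) x = x := by
  apply Tup.ext
  · exact Category.id_comp _
  · funext k
    exact Category.id_comp _

lemma map_comp {n : ℕ} {W W' W'' : C} (g' : W'' ⟶ W') (g : W' ⟶ W) (x : Tup π e n W) :
    map (g' ≫ g) x = map g' (map g x) := by
  apply Tup.ext
  · exact Category.assoc _ _ _
  · funext k
    exact Category.assoc _ _ _

def reindex {m n : ℕ} (φ : Fin m → Fin n) {W : C} (x : Tup π e n W) : Tup π e m W where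
  base := x.base
  sec := x.sec ∘ φ
  comm k := x.comm _

lemma reindex_map {m n : ℕ} (φ : Fin m → Fin n) {W W' : C} (g : W' ⟶ W) (x : Tup π e n W) :
    reindex φ (map g x) = map g (reindex φ x) := rfl

lemma reindex_comp {l m n : ℕ} (φ : Fin m → Fin n) (ψ : Fin l → Fin m) {W : C} (x : Tup π e n W) :
    reindex ψ (reindex φ x) = reindex (φ ∘ ψ) x := rfl

lemma reindex_id {n : ℕ} {W : C} (x : Tup π e n W) : reindex id x = x := rfl

/-- a tuple over `T₂ ⟶ T₁` regarded as a tuple over `T₁` -/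
def push {T₂ : C} (e₂ : T₂ ⟶ T₁) {e' : T₂ ⟶ T} (h : e' = e₂ ≫ e) {n : ℕ} {W : C}
    (x : Tup π e' n W) : Tup π e n W where
  base := x.base ≫ e₂
  sec := x.sec
  comm k := (x.comm k).trans ((congrArg (x.base ≫ ·) h).trans (Category.assoc _ _ _).symm)

lemma push_map {T₂ : C} (e₂ : T₂ ⟶ T₁) {e' : T₂ ⟶ T} (h : e' = e₂ ≫ e) {n : ℕ} {W W' : C}
    (g : W' ⟶ W) (x : Tup π e' n W) : push e₂ h (map g x) = map g (push e₂ h x) := by
  apply Tup.ext
  · exact Category.assoc _ _ _
  · rfl

lemma push_reindex {T₂ : C} (e₂ : T₂ ⟶ T₁) {e' : T₂ ⟶ T} (h : e' = e₂ ≫ e) {m n : ℕ}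
    (φ : Fin m → Fin n) {W : C} (x : Tup π e' n W) :
    push e₂ h (reindex φ x) = reindex φ (push e₂ h x) := rfl

/-- prepending a section to a tuple -/
def cons {n : ℕ} {W : C} (v : W ⟶ V) (x : Tup π e n W) (hv : v ≫ π = x.base ≫ e) :
    Tup π e (n + 1) W where
  base := x.base
  sec := Fin.cons v x.sec
  comm k := by
    refine Fin.cases ?_ (fun k => ?_) k
    · exact hv
    · exact x.comm k

lemma reindex_zero_cons {n : ℕ} {W : C} (v : W ⟶ V) (x : Tup π e n W)
    (hv : v ≫ π = x.base ≫ e) : reindex (Fin.succAbove 0) (cons v x hv) = x := by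
  apply Tup.ext
  · rfl
  · funext k
    change (Fin.cons v x.sec : Fin (n + 1) → (W ⟶ V)) (Fin.succAbove 0 k) = x.sec k
    simp

lemma reindex_succ_cons {n : ℕ} {W : C} (v : W ⟶ V) (x : Tup π e (n + 1) W)
    (hv : v ≫ π = x.base ≫ e) (i : Fin (n + 1)) :
    reindex (Fin.succAbove i.succ) (cons v x hv) = cons v (reindex (Fin.succAbove i) x) hv := by
  apply Tup.ext
  · rfl
  · funext k
    refine Fin.cases ?_ (fun k => ?_) k
    · change (Fin.cons v x.sec : Fin (n + 2) → (W ⟶ V)) (Fin.succAbove i.succ 0) = v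
      simp
    · change (Fin.cons v x.sec : Fin (n + 2) → (W ⟶ V)) (Fin.succAbove i.succ k.succ) =
        x.sec (Fin.succAbove i k)
      simp

/-- the sections over a fixed base -/
abbrev Sec {W : C} (ψ : W ⟶ T₁) : Type v₁ := {s : W ⟶ V // s ≫ π = ψ ≫ e}

/-- a chosen section over the base of a nonempty tuple (depends on the base only) -/
noncomputable def ch {n : ℕ} {W : C} (x : Tup π e (n + 1) W) : Sec (π := π) (e := e) x.base :=
  Classical.choice ⟨⟨x.sec 0, x.comm 0⟩⟩

/-- the cone of a nonempty tuple over the chosen section -/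
noncomputable def cone {n : ℕ} {W : C} (x : Tup π e (n + 1) W) : Tup π e (n + 2) W where
  base := x.base
  sec := Fin.cons (ch x).1 x.sec
  comm k := by
    refine Fin.cases ?_ (fun k => ?_) k
    · exact (ch x).2
    · exact x.comm k

lemma reindex_zero_cone {n : ℕ} {W : C} (x : Tup π e (n + 1) W) :
    reindex (Fin.succAbove 0) (cone x) = x := by
  apply Tup.ext
  · rfl
  · exact CechInjU.Cech.cons_comp_succAbove_zero (ch x).1 x.sec

lemma reindex_succ_cone {n : ℕ} {W : C} (x : Tup π e (n + 2) W) (i : Fin (n + 2)) :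
    reindex (Fin.succAbove i.succ) (cone x) = cone (reindex (Fin.succAbove i) x) := by
  apply Tup.ext
  · rfl
  · exact CechInjU.Cech.cons_comp_succAbove_succ (ch x).1 x.sec i

end Tup

/-- the free abelian presheaf on the tuples -/
noncomputable def K (n : ℕ) : Cᵒᵖ ⥤ AddCommGrpCat.{max u₁ v₁} where
  obj W := AddCommGrpCat.of (FreeAbelianGroup (ULift.{u₁} (Tup π e n W.unop)))
  map {W W'} g := AddCommGrpCat.ofHom (FreeAbelianGroup.map (fun x =>
    ULift.up (Tup.map g.unop x.down)))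
  map_id W := by
    ext : 1
    apply FreeAbelianGroup.lift_ext
    intro x
    simp [FreeAbelianGroup.map_of_apply, Tup.map_id]
  map_comp g g' := by
    ext : 1
    apply FreeAbelianGroup.lift_ext
    intro x
    simp [FreeAbelianGroup.map_of_apply, Tup.map_comp]

variable {π e}

/-- the generators -/
noncomputable def gen {n : ℕ} {W : C} (x : Tup π e n W) : (K π e n).obj (op W) :=
  FreeAbelianGroup.of (ULift.up x)

lemma K_map_gen {n : ℕ} {W W' : C} (g : W' ⟶ W) (x : Tup π e n W) :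
    (K π e n).map g.op (gen x) = gen (Tup.map g x) := by
  change FreeAbelianGroup.map _ (FreeAbelianGroup.of _) = _
  rw [FreeAbelianGroup.map_of_apply]
  rfl

/-- morphisms out of the free presheaf -/
noncomputable def lift {n : ℕ} (F : Cᵒᵖ ⥤ AddCommGrpCat.{max u₁ v₁})
    (f : ∀ W : C, Tup π e n W → F.obj (op W))
    (hf : ∀ {W W' : C} (g : W' ⟶ W) (x : Tup π e n W), f W' (Tup.map g x) = F.map g.op (f W x)) :
    K π e n ⟶ F where
  app W := AddCommGrpCat.ofHom (FreeAbelianGroup.lift (fun x => f W.unop x.down))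
  naturality W W' g := by
    ext : 1
    apply FreeAbelianGroup.lift_ext
    intro x
    change FreeAbelianGroup.lift _ (FreeAbelianGroup.map _ (FreeAbelianGroup.of x)) =
      F.map g (FreeAbelianGroup.lift _ (FreeAbelianGroup.of x))
    rw [FreeAbelianGroup.map_of_apply, FreeAbelianGroup.lift_apply_of,
      FreeAbelianGroup.lift_apply_of]
    exact hf g.unop _

lemma lift_gen {n : ℕ} (F : Cᵒᵖ ⥤ AddCommGrpCat.{max u₁ v₁})
    (f : ∀ W : C, Tup π e n W → F.obj (op W))
    (hf : ∀ {W W' : C} (g : W' ⟶ W) (x : Tup π e n W), f W' (Tup.map g x) = F.map g.op (f W x))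
    {W : C} (x : Tup π e n W) :
    (lift F f hf).app (op W) (gen x) = f W x := by
  change FreeAbelianGroup.lift _ (FreeAbelianGroup.of _) = _
  rw [FreeAbelianGroup.lift_apply_of]

lemma hom_ext_gen {n : ℕ} {F : Cᵒᵖ ⥤ AddCommGrpCat.{max u₁ v₁}} (α β : K π e n ⟶ F)
    (h : ∀ (W : C) (x : Tup π e n W), α.app (op W) (gen x) = β.app (op W) (gen x)) :
    α = β := by
  ext W : 3
  apply FreeAbelianGroup.lift_ext
  intro x
  exact h W.unop x.down

lemma app_map_gen {n : ℕ} {F : Cᵒᵖ ⥤ AddCommGrpCat.{max u₁ v₁}} (α : K π e n ⟶ F) {W W' : C}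
    (g : W' ⟶ W) (x : Tup π e n W) :
    α.app (op W') (gen (Tup.map g x)) = F.map g.op (α.app (op W) (gen x)) := by
  rw [← K_map_gen]
  exact ConcreteCategory.congr_hom (α.naturality g.op) (gen x)

lemma Kre_aux {m n : ℕ} (φ : Fin m → Fin n) {W W' : C} (g : W' ⟶ W) (x : Tup π e n W) :
    gen (Tup.reindex φ (Tup.map g x)) = (K π e m).map g.op (gen (Tup.reindex φ x)) := by
  rw [Tup.reindex_map, K_map_gen]

/-- reindexing -/
noncomputable def Kre {m n : ℕ} (φ : Fin m → Fin n) : K π e n ⟶ K π e m :=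
  lift (K π e m) (fun W x => gen (Tup.reindex φ x)) (fun g x => Kre_aux φ g x)

lemma Kre_gen {m n : ℕ} (φ : Fin m → Fin n) {W : C} (x : Tup π e n W) :
    (Kre φ).app (op W) (gen x) = gen (Tup.reindex φ x) :=
  lift_gen (K π e m) (fun W x => gen (Tup.reindex φ x)) (fun g x => Kre_aux φ g x) x

lemma Kre_id (n : ℕ) : Kre (π := π) (e := e) (id : Fin n → Fin n) = 𝟙 _ := by
  apply hom_ext_gen
  intro W x
  rw [Kre_gen]
  rfl

lemma Kre_comp {l m n : ℕ} (φ : Fin m → Fin n) (ψ : Fin l → Fin m) :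
    Kre (π := π) (e := e) φ ≫ Kre ψ = Kre (φ ∘ ψ) := by
  apply hom_ext_gen
  intro W x
  rw [NatTrans.comp_app, ConcreteCategory.comp_apply, Kre_gen, Kre_gen, Kre_gen]
  rfl

/-- the differential of the complex of free presheaves -/
noncomputable def d (n : ℕ) : K π e (n + 1) ⟶ K π e n :=
  ∑ i : Fin (n + 1), (-1 : ℤ) ^ (i : ℕ) • Kre (Fin.succAbove i)

lemma sum_app {A B : Cᵒᵖ ⥤ AddCommGrpCat.{max u₁ v₁}} {ι : Type*} (s : Finset ι)
    (f : ι → (A ⟶ B)) (W : Cᵒᵖ) (z : A.obj W) :
    (∑ i ∈ s, f i).app W z = ∑ i ∈ s, (f i).app W z := by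
  classical
  induction s using Finset.induction_on with
  | empty => simp
  | insert a s ha ih =>
    rw [Finset.sum_insert ha, Finset.sum_insert ha, ← ih]
    rfl

lemma d_gen (n : ℕ) {W : C} (x : Tup π e (n + 1) W) :
    (d n).app (op W) (gen x) =
      ∑ i : Fin (n + 1), (-1 : ℤ) ^ (i : ℕ) • gen (Tup.reindex (Fin.succAbove i) x) := by
  unfold d
  rw [sum_app]
  refine Finset.sum_congr rfl (fun i _ => ?_)
  rw [← Kre_gen]
  rfl


section Simp

variable (π e)

/-- the simplicial presheaf underlying the complex -/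
noncomputable def X : SimplicialObject (Cᵒᵖ ⥤ AddCommGrpCat.{max u₁ v₁}) where
  obj Δ := K π e (Δ.unop.len + 1)
  map θ := Kre (fun k => θ.unop.toOrderHom k)
  map_id Δ := Kre_id _
  map_comp {Δ Δ' Δ''} θ θ' := by
    have h := Kre_comp (π := π) (e := e) (fun k => θ.unop.toOrderHom k)
      (fun k => θ'.unop.toOrderHom k)
    exact h.symm

end Simp

lemma d_comp_d (n : ℕ) : d (π := π) (e := e) (n + 2) ≫ d (n + 1) = 0 :=
  AlgebraicTopology.AlternatingFaceMapComplex.d_squared (X π e) n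

lemma zsmul_app {A B : Cᵒᵖ ⥤ AddCommGrpCat.{max u₁ v₁}} (c : ℤ) (f : A ⟶ B) (W : Cᵒᵖ)
    (z : A.obj W) : (c • f).app W z = c • f.app W z := rfl

/-- the contracting homotopy, sectionwise -/
noncomputable def hh (n : ℕ) (W : C) :
    (K π e (n + 1)).obj (op W) →+ (K π e (n + 2)).obj (op W) :=
  FreeAbelianGroup.lift (fun x => gen (Tup.cone x.down))

lemma hh_gen (n : ℕ) {W : C} (x : Tup π e (n + 1) W) :
    hh n W (gen x) = gen (Tup.cone x) := by
  change FreeAbelianGroup.lift _ (FreeAbelianGroup.of _) = _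
  rw [FreeAbelianGroup.lift_apply_of]

lemma homotopy (n : ℕ) (W : C) (z : (K π e (n + 2)).obj (op W)) :
    (d (n + 2)).app (op W) (hh (n + 1) W z) + hh n W ((d (n + 1)).app (op W) z) = z := by
  have key : ((d (π := π) (e := e) (n + 2)).app (op W)).hom.comp (hh (n + 1) W) +
      (hh n W).comp ((d (n + 1)).app (op W)).hom = AddMonoidHom.id _ := by
    apply FreeAbelianGroup.lift_ext
    intro x'
    obtain ⟨x⟩ := x'
    change (d (n + 2)).app (op W) (hh (n + 1) W (gen x)) +
      hh n W ((d (n + 1)).app (op W) (gen x)) = gen x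
    rw [hh_gen, d_gen, d_gen, map_sum, Fin.sum_univ_succ]
    simp only [Tup.reindex_zero_cone, Tup.reindex_succ_cone, map_zsmul, hh_gen, Fin.val_zero,
      pow_zero, one_smul, Fin.val_succ, pow_succ, mul_neg, mul_one, neg_smul,
      Finset.sum_neg_distrib]
    abel
  exact DFunLike.congr_fun key z

lemma exists_factor {𝒜 : Type*} [Category 𝒜] [Abelian 𝒜] {A B I : 𝒜} [Injective I]
    (f : A ⟶ B) (g : A ⟶ I) (h : kernel.ι f ≫ g = 0) : ∃ k : B ⟶ I, f ≫ k = g := by
  let g' : Abelian.coimage f ⟶ I := cokernel.desc (kernel.ι f) g h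
  refine ⟨Injective.factorThru g' (Abelian.factorThruCoimage f), ?_⟩
  have hf : Abelian.coimage.π f ≫ Abelian.factorThruCoimage f = f := Abelian.coimage.fac f
  calc f ≫ Injective.factorThru g' (Abelian.factorThruCoimage f)
      = (Abelian.coimage.π f ≫ Abelian.factorThruCoimage f) ≫
          Injective.factorThru g' (Abelian.factorThruCoimage f) := by rw [hf]
    _ = Abelian.coimage.π f ≫ g' := by rw [Category.assoc, Injective.comp_factorThru]
    _ = g := cokernel.π_desc _ _ _

/-- **Čech acyclicity of injective presheaves** for the complex `K`. -/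
theorem exists_primitive (I : Cᵒᵖ ⥤ AddCommGrpCat.{max u₁ v₁}) [Injective I] (p : ℕ)
    (c : K π e (p + 2) ⟶ I) (hc : d (p + 2) ≫ c = 0) :
    ∃ b : K π e (p + 1) ⟶ I, d (p + 1) ≫ b = c := by
  have h1 : kernel.ι (d (π := π) (e := e) (p + 1)) ≫ c = 0 := by
    ext W : 2
    ext z
    rw [NatTrans.comp_app, ConcreteCategory.comp_apply]
    have hx : (d (p + 1)).app W ((kernel.ι (d (π := π) (e := e) (p + 1))).app W z) = 0 := by
      have := congrArg (fun α => α.app W) (kernel.condition (d (π := π) (e := e) (p + 1)))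
      exact ConcreteCategory.congr_hom this z
    have hx' := homotopy p W.unop ((kernel.ι (d (π := π) (e := e) (p + 1))).app W z)
    rw [hx, map_zero, add_zero] at hx'
    rw [← hx', ← ConcreteCategory.comp_apply, ← NatTrans.comp_app, hc]
    rfl
  exact exists_factor (d (p + 1)) c h1

section Res

variable {T₂ : C} (e₂ : T₂ ⟶ T₁) {e' : T₂ ⟶ T} (h : e' = e₂ ≫ e)

lemma res_aux {n : ℕ} {W W' : C} (g : W' ⟶ W) (x : Tup π e' n W) :
    gen (Tup.push e₂ h (Tup.map g x)) = (K π e n).map g.op (gen (Tup.push e₂ h x)) := by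
  rw [Tup.push_map, K_map_gen]

/-- restriction of the complex along `e₂ : T₂ ⟶ T₁` -/
noncomputable def res (n : ℕ) : K π e' n ⟶ K π e n :=
  lift (K π e n) (fun W x => gen (Tup.push e₂ h x)) (fun g x => res_aux e₂ h g x)

lemma res_gen {n : ℕ} {W : C} (x : Tup π e' n W) :
    (res e₂ h n).app (op W) (gen x) = gen (Tup.push e₂ h x) :=
  lift_gen (K π e n) (fun W x => gen (Tup.push e₂ h x)) (fun g x => res_aux e₂ h g x) x

lemma d_res (n : ℕ) : d n ≫ res (π := π) e₂ h n = res e₂ h (n + 1) ≫ d n := by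
  apply hom_ext_gen
  intro W x
  rw [NatTrans.comp_app, NatTrans.comp_app, ConcreteCategory.comp_apply,
    ConcreteCategory.comp_apply, d_gen, res_gen, d_gen, map_sum]
  refine Finset.sum_congr rfl (fun i _ => ?_)
  rw [map_zsmul, res_gen, Tup.push_reindex]

lemma res_res {T₃ : C} (e₃ : T₃ ⟶ T₂) {e'' : T₃ ⟶ T} (h' : e'' = e₃ ≫ e')
    (h'' : e'' = (e₃ ≫ e₂) ≫ e) (n : ℕ) :
    res e₃ h' n ≫ res (π := π) e₂ h n = res (e₃ ≫ e₂) h'' n := by
  apply hom_ext_gen
  intro W x
  rw [NatTrans.comp_app, ConcreteCategory.comp_apply, res_gen, res_gen, res_gen]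
  congr 1
  apply Tup.ext
  · exact Category.assoc _ _ _
  · rfl

end Res

end Groth.Agent.H1.CechK
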