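import Groth.Agent.Lib.Helper1.FppfDescE

/-!
# Geometric points as morphisms in `Over S`, for "locally constant" big étale sheaves (helper1)

For `G` with the properties `LC` and `EQ`: a section vanishes at a geometric point iff it vanishes
on an étale neighbourhood, and every element of `G(x̄)` extends to an étale neighbourhood.
-/

set_option autoImplicit false
universe u
open CategoryTheory CategoryTheory.Limits AlgebraicGeometry Opposite

namespace Groth.Agent.H1.CechPts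

open Groth.Agent.H1.FppfDesc

local notation "Et" => Scheme.etalePrecoverage

variable {S : Scheme.{u}} {G : BigSite.Ab Et S} {Ω : Type u} [Field Ω] [IsAlgClosed Ω]
  {xb : Spec (.of Ω) ⟶ S}

/-- a geometric point of an `S`-scheme over `xb`, as a morphism of `S`-schemes -/
noncomputable def mkPt {W : Over S} (ξ : Spec (.of Ω) ⟶ W.left) (h : ξ ≫ W.hom = xb) :
    Over.mk xb ⟶ W := Over.homMk ξ h

@[simp] theorem mkPt_left {W : Over S} (ξ : Spec (.of Ω) ⟶ W.left) (h : ξ ≫ W.hom = xb) :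
    (mkPt ξ h).left = ξ := rfl

theorem pt_w {W : Over S} (z : Over.mk xb ⟶ W) : z.left ≫ W.hom = xb := Over.w z

theorem pt_ext {W : Over S} (z z' : Over.mk xb ⟶ W) (h : z.left = z'.left) : z = z' :=
  Over.OverMorphism.ext h

theorem w_comp {A B : Over S} (c : A ⟶ B) {Z : Scheme.{u}} (w : Z ⟶ A.left) (ξ : Z ⟶ B.left)
    (t : Z ⟶ S) (h1 : w ≫ c.left = ξ) (h2 : ξ ≫ B.hom = t) : w ≫ A.hom = t := by
  rw [← Over.w c, ← Category.assoc, h1, h2]

/-- pairing into `W ×_S U₀` -/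
noncomputable def prodOELift {W Z : Over S} {U₀ : S.Etale} (a : Z ⟶ W)
    (b : Z ⟶ (EtFppf.a S).obj U₀) : Z ⟶ prodOE W U₀ :=
  Over.homMk (pullback.lift a.left b.left ((Over.w a).trans (Over.w b).symm))
    ((Category.assoc _ _ _).symm.trans
      ((congrArg (fun k => k ≫ W.hom) (pullback.lift_fst _ _ _)).trans (Over.w a)))

theorem prodOELift_fst {W Z : Over S} {U₀ : S.Etale} (a : Z ⟶ W)
    (b : Z ⟶ (EtFppf.a S).obj U₀) : prodOELift a b ≫ prodOEFst W U₀ = a := by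
  apply Over.OverMorphism.ext
  exact pullback.lift_fst _ _ _

theorem prodOELift_snd {W Z : Over S} {U₀ : S.Etale} (a : Z ⟶ W)
    (b : Z ⟶ (EtFppf.a S).obj U₀) : prodOELift a b ≫ prodOESnd W U₀ = b := by
  apply Over.OverMorphism.ext
  exact pullback.lift_snd _ _ _

/-- a section vanishing at a geometric point vanishes on an étale neighbourhood -/
theorem exists_nbhd_vanish (hLC : LC G) (hEQ : EQ G) {W : Over S} (s : G.obj.obj (op W))
    (z : Over.mk xb ⟶ W) (hz : G.obj.map z.op s = 0) :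
    ∃ (W' : Over S) (c : W' ⟶ W) (z' : Over.mk xb ⟶ W'), Etale c.left ∧ z' ≫ c = z ∧
      G.obj.map c.op s = 0 := by
  obtain ⟨W₁, c₁, w₁, U₀, m, σ, hc₁, hw₁, hs⟩ := hLC W s Ω z.left
  haveI : Etale c₁.left := hc₁
  obtain ⟨z₁, hz₁⟩ : ∃ z₁ : Over.mk xb ⟶ W₁, z₁ = mkPt w₁ (w_comp c₁ w₁ z.left xb hw₁ (pt_w z)) :=
    ⟨_, rfl⟩
  have hz₁c : z₁ ≫ c₁ = z := by
    apply pt_ext
    rw [hz₁]
    exact hw₁
  have h0 : G.obj.map (z₁ ≫ m).op σ = 0 := by
    rw [← map_map, ← hs, map_map, hz₁c, hz]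
  obtain ⟨U₁, k, l, hl, hk⟩ := hEQ U₀ σ (Over.mk xb) (z₁ ≫ m) h0 Ω (𝟙 _)
  haveI : Etale ((EtFppf.a S).map k).left := Groth.Agent.H1.EtGerm.etale_left k
  have hl' : l ≫ k.left = (z₁ ≫ m).left := hl.trans (Category.id_comp _)
  obtain ⟨lp, hlp⟩ : ∃ lp : Over.mk xb ⟶ (EtFppf.a S).obj U₁, lp = mkPt l
      (w_comp ((EtFppf.a S).map k) l (z₁ ≫ m).left xb hl' (pt_w (z₁ ≫ m))) := ⟨_, rfl⟩
  have hlpk : lp ≫ (EtFppf.a S).map k = z₁ ≫ m := by
    apply pt_ext
    rw [hlp]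
    exact hl'
  refine ⟨pb m ((EtFppf.a S).map k), pbFst m ((EtFppf.a S).map k) ≫ c₁,
    pbLift z₁ lp hlpk.symm, ?_, ?_, ?_⟩
  · change Etale (pullback.fst m.left ((EtFppf.a S).map k).left ≫ c₁.left)
    infer_instance
  · rw [← Category.assoc, pbLift_fst, hz₁c]
  · rw [← map_map, hs, map_map, pb_condition, ← map_map, hk, map_zero]

/-- every element of `G(xb)` extends to an étale neighbourhood of a geometric point over `xb` -/
theorem exists_nbhd_section (hLC : LC G) {W : Over S} (z : Over.mk xb ⟶ W)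
    (y : G.obj.obj (op (Over.mk xb))) :
    ∃ (W' : Over S) (c : W' ⟶ W) (z' : Over.mk xb ⟶ W') (s' : G.obj.obj (op W')),
      Etale c.left ∧ z' ≫ c = z ∧ G.obj.map z'.op s' = y := by
  obtain ⟨W₁, c₁, w₁, U₀, m, σ, hc₁, hw₁, hs⟩ := hLC (Over.mk xb) y Ω (𝟙 _)
  obtain ⟨z₁, hz₁⟩ : ∃ z₁ : Over.mk xb ⟶ W₁, z₁ = mkPt w₁
      (w_comp c₁ w₁ (𝟙 _) xb hw₁ (Category.id_comp _)) := ⟨_, rfl⟩
  have hz₁c : z₁ ≫ c₁ = 𝟙 _ := by
    apply pt_ext
    rw [hz₁]
    exact hw₁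
  have hy : G.obj.map (z₁ ≫ m).op σ = y := by
    rw [← map_map, ← hs, map_map, hz₁c]
    exact ConcreteCategory.congr_hom (G.obj.map_id _) y
  refine ⟨prodOE W U₀, prodOEFst W U₀, prodOELift z (z₁ ≫ m),
    G.obj.map (prodOESnd W U₀).op σ, inferInstance, prodOELift_fst _ _, ?_⟩
  rw [map_map, prodOELift_snd, hy]

end Groth.Agent.H1.CechPts
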