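import Groth.Agent.Lib.Helper1.CechPtsA

/-!
# Germs versus values at geometric points (helper1)

For a big étale sheaf `G` on `Over S` with `LC` and `EQ`, and `E : Over S`: the germ at a geometric
point `ξ` of `E.left` of a section of `G` restricted to the small étale site of `E.left` vanishes
iff its value at the corresponding point `Over.mk xb ⟶ _` vanishes.
-/

set_option autoImplicit false
universe u
open CategoryTheory CategoryTheory.Limits AlgebraicGeometry Opposite

namespace Groth.Agent.H1.CechPts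

open Groth.Agent.H1.FppfDesc Groth.Agent.H1.EtGerm Groth.Agent.H1.PullGerm Groth.Agent.H1.BigSmall

local notation "Et" => Scheme.etalePrecoverage

variable {S : Scheme.{u}} {G : BigSite.Ab Et S} {Ω : Type u} [Field Ω] [IsAlgClosed Ω]
  {xb : Spec (.of Ω) ⟶ S}

variable (E : Over S)

/-- an étale `E.left`-scheme as an `S`-scheme -/
noncomputable abbrev ov (U : E.left.Etale) : Over S :=
  (Over.map E.hom).obj ((EtFppf.a E.left).obj U)

noncomputable abbrev ovMap {U U' : E.left.Etale} (g : U' ⟶ U) : ov E U' ⟶ ov E U :=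
  (Over.map E.hom).map ((EtFppf.a E.left).map g)

/-- the structure morphism `U ⟶ E` in `Over S` -/
noncomputable def ovProj (U : E.left.Etale) : ov E U ⟶ E := Over.homMk U.hom rfl

theorem ovMap_proj {U U' : E.left.Etale} (g : U' ⟶ U) : ovMap E g ≫ ovProj E U = ovProj E U' := by
  apply Over.OverMorphism.ext
  exact MorphismProperty.Over.w g

variable {E}

/-- the point of `ov E U` defined by a lift of a geometric point -/
noncomputable def ptOf {ξ : Spec (.of Ω) ⟶ E.left} (hξ : ξ ≫ E.hom = xb) {U : E.left.Etale}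
    (y : Lift ξ U) : Over.mk xb ⟶ ov E U :=
  mkPt y.hom ((Category.assoc _ _ _).symm.trans
    ((congrArg (fun k => k ≫ E.hom) y.hom_comp).trans hξ))

theorem ptOf_left {ξ : Spec (.of Ω) ⟶ E.left} (hξ : ξ ≫ E.hom = xb) {U : E.left.Etale}
    (y : Lift ξ U) : (ptOf hξ y).left = y.hom := rfl

theorem ptOf_map {ξ : Spec (.of Ω) ⟶ E.left} (hξ : ξ ≫ E.hom = xb) {U U' : E.left.Etale}
    (g : U' ⟶ U) (y' : Lift ξ U') : ptOf hξ y' ≫ ovMap E g = ptOf hξ (Lift.map g y') := by
  apply pt_ext
  rfl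

theorem ptOf_proj {ξ : Spec (.of Ω) ⟶ E.left} (hξ : ξ ≫ E.hom = xb) {U : E.left.Etale}
    (y : Lift ξ U) : ptOf hξ y ≫ ovProj E U = mkPt ξ hξ := by
  apply pt_ext
  exact y.hom_comp

variable (G) in
/-- the restriction of `G` to the small étale site of `E.left` -/
noncomputable abbrev Fr (E : Over S) : EtCoh.Ab E.left := (rho E.hom).obj G

theorem Fr_map {U U' : E.left.Etale} (g : U' ⟶ U) (s : (Fr G E).obj.obj (op U)) :
    (Fr G E).obj.map g.op s = G.obj.map (ovMap E g).op s := rfl

/-- germ zero implies value zero -/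
theorem pt_eq_zero_of_germ {ξ : Spec (.of Ω) ⟶ E.left} (hξ : ξ ≫ E.hom = xb) {U : E.left.Etale}
    (y : Lift ξ U) (s : (Fr G E).obj.obj (op U)) (h : germ ξ (Fr G E) U y s = 0) :
    G.obj.map (ptOf hξ y).op s = 0 := by
  obtain ⟨U', g, y', hy', hs⟩ := (germ_eq_zero_iff (Fr G E) U y s).1 h
  rw [← hy', ← ptOf_map, ← map_map]
  rw [Fr_map] at hs
  rw [hs]
  exact map_zero _

theorem etale_comp_aux {A B C : Scheme.{u}} (a : A ⟶ B) (b : B ⟶ C) (ha : Etale a) (hb : Etale b) :
    Etale (a ≫ b) := MorphismProperty.comp_mem (W := @Etale) _ _ ha hb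

/-- value zero implies germ zero -/
theorem germ_eq_zero_of_pt (hLC : LC G) (hEQ : EQ G) {ξ : Spec (.of Ω) ⟶ E.left}
    (hξ : ξ ≫ E.hom = xb) {U : E.left.Etale} (y : Lift ξ U) (s : (Fr G E).obj.obj (op U))
    (h : G.obj.map (ptOf hξ y).op s = 0) : germ ξ (Fr G E) U y s = 0 := by
  obtain ⟨W', c, z', hc, hz', hs⟩ := exists_nbhd_vanish hLC hEQ s (ptOf hξ y) h
  have hU : Etale U.hom := U.prop
  have hcU : Etale (c.left ≫ U.hom) := etale_comp_aux _ _ hc hU
  let U' : E.left.Etale := Scheme.Etale.mk (c.left ≫ U.hom)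
  let g : U' ⟶ U := MorphismProperty.Over.homMk c.left rfl trivial
  have hzl : z'.left ≫ c.left = y.hom := congrArg (fun k => k.left) hz'
  let y' : Lift ξ U' := Lift.mk ξ z'.left ((Category.assoc _ _ _).symm.trans
    ((congrArg (fun k => k ≫ U.hom) hzl).trans y.hom_comp))
  rw [germ_eq_zero_iff]
  refine ⟨U', g, y', ?_, ?_⟩
  · apply Lift.ext
    exact hzl
  · let θ : ov E U' ⟶ W' := Over.homMk (𝟙 W'.left) (by
      have := Over.w c
      change 𝟙 W'.left ≫ W'.hom = (c.left ≫ U.hom) ≫ E.hom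
      rw [Category.id_comp, ← this, Category.assoc]
      rfl)
    have hθ : ovMap E g = θ ≫ c := by
      apply Over.OverMorphism.ext
      change c.left = 𝟙 W'.left ≫ c.left
      rw [Category.id_comp]
    rw [Fr_map, hθ]
    exact (map_map G c θ s).symm.trans (by rw [hs]; exact map_zero _)

/-- every value at a point is the value of a section on an étale neighbourhood -/
theorem exists_germ_section (hLC : LC G) {ξ : Spec (.of Ω) ⟶ E.left} (hξ : ξ ≫ E.hom = xb)
    (y₀ : G.obj.obj (op (Over.mk xb))) :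
    ∃ (U : E.left.Etale) (y : Lift ξ U) (s : (Fr G E).obj.obj (op U)),
      G.obj.map (ptOf hξ y).op s = y₀ := by
  obtain ⟨W', c, z', s', hc, hz', hs'⟩ := exists_nbhd_section hLC (mkPt ξ hξ) y₀
  haveI : Etale c.left := hc
  let U : E.left.Etale := Scheme.Etale.mk c.left
  have hzl : z'.left ≫ c.left = ξ := congrArg (fun k => k.left) hz'
  let y : Lift ξ U := Lift.mk ξ z'.left hzl
  let θ : ov E U ⟶ W' := Over.homMk (𝟙 W'.left) (by
    have := Over.w c
    change 𝟙 W'.left ≫ W'.hom = c.left ≫ E.hom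
    rw [Category.id_comp, ← this])
  refine ⟨U, y, G.obj.map θ.op s', ?_⟩
  rw [map_map]
  have : ptOf hξ y ≫ θ = z' := by
    apply pt_ext
    change z'.left ≫ 𝟙 W'.left = z'.left
    exact Category.comp_id _
  rw [this, hs']

end Groth.Agent.H1.CechPts
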