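import Mathlib
import Groth.Prelude.Def_EtFppf
import Groth.Agent.Lib.Helper5.QFRefineSch
import Groth.Agent.Lib.Helper13.EL2

/-!
# fppf sheaves on `Over S` from étale sheaves with finite surjective descent (helper1)

A presheaf of types on `Over S` which is a sheaf for the big étale topology and satisfies the sheaf
condition for every single finite surjective morphism is a sheaf for the fppf topology.  (Every fppf
covering is refined, étale locally on the base, by a finite surjective morphism: quasi-finite flat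
quasi-sections plus the étale local structure of quasi-finite morphisms.)
-/

set_option autoImplicit false
universe w u
open CategoryTheory CategoryTheory.Limits AlgebraicGeometry Opposite

namespace Groth.Agent.H1.FppfRed

open Groth.Agent.Lib.helper5 Groth.Agent.Lib.helper13

variable {S : Scheme.{u}}

theorem isPullback_left {A B C : Over S} (f : A ⟶ C) (g : B ⟶ C) :
    IsPullback (pullback.fst f g).left (pullback.snd f g).left f.left g.left :=
  (IsPullback.of_hasPullback f g).map (Over.forget S)

theorem isFinite_snd_left {V Y Y' : Over S} (p : V ⟶ Y) (f : Y' ⟶ Y) (h : IsFinite p.left) :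
    IsFinite (pullback.snd p f).left :=
  MorphismProperty.of_isPullback (P := @IsFinite) (isPullback_left p f) h

theorem surjective_snd_left {V Y Y' : Over S} (p : V ⟶ Y) (f : Y' ⟶ Y) (h : Surjective p.left) :
    Surjective (pullback.snd p f).left :=
  MorphismProperty.of_isPullback (P := @Surjective) (isPullback_left p f) h

variable (G : (Over S)ᵒᵖ ⥤ Type w)

theorem singleton_mem_finest
    (hfin : ∀ (Y V : Over S) (p : V ⟶ Y), IsFinite p.left → Surjective p.left →
      Presieve.IsSheafFor G (Presieve.singleton p))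
    {Y V : Over S} (p : V ⟶ Y) (h1 : IsFinite p.left) (h2 : Surjective p.left) :
    Sieve.generate (Presieve.singleton p) ∈ Sheaf.finestTopologySingle G Y := by
  intro Y' f
  rw [← Sieve.pullbackArrows_comm, Presieve.pullback_singleton, ← Presieve.isSheafFor_iff_generate]
  exact hfin _ _ _ (isFinite_snd_left p f h1) (surjective_snd_left p f h2)

theorem etale_le_finest (hG : Presieve.IsSheaf (Scheme.etaleTopology.over S) G) :
    Scheme.etaleTopology.over S ≤ Sheaf.finestTopologySingle G := by
  intro X R hR Y f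
  exact hG _ ((Scheme.etaleTopology.over S).pullback_stable f hR)

/-- étale locally on the base, a flat morphism locally of finite presentation is dominated by a
finite surjective morphism -/
theorem exists_local_finite {T X : Scheme.{u}} (f : X ⟶ T) [Flat f]
    [LocallyOfFinitePresentation f] (x : X) :
    ∃ (U V : Scheme.{u}) (e : U ⟶ T) (r : V ⟶ U) (k : V ⟶ X), Etale e ∧ IsFinite r ∧
      Surjective r ∧ k ≫ f = r ≫ e ∧ f x ∈ Set.range e := by
  obtain ⟨A, g, h, hfac, hg1, hg2, hg3, a, ha⟩ := QFRefineSch.exists_affine_refinement_at f x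
  haveI := hg1
  haveI := hg2
  haveI := hg3
  obtain ⟨U, e, u, he, heu, -, V, v, hvV, hfin, hsnd, hfst, -, -⟩ :=
    EL.exists_etale_nbhd_of_quasiFiniteAt g a (g.quasiFiniteAt a)
  haveI := he
  haveI := hfin
  let r : V.toScheme ⟶ U := V.ι ≫ pullback.snd g e
  have hopen : IsOpen (Set.range r) := r.isOpenMap.isOpen_range
  let O : U.Opens := ⟨Set.range r, hopen⟩
  have hsub : Set.range r ⊆ Set.range O.ι := by
    rw [Scheme.Opens.range_ι]
    exact subset_rfl
  let r' : V.toScheme ⟶ O.toScheme := IsOpenImmersion.lift O.ι r hsub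
  have hr' : r' ≫ O.ι = r := IsOpenImmersion.lift_fac O.ι r hsub
  haveI : IsFinite (r' ≫ O.ι) := by rw [hr']; exact hfin
  have hfin' : IsFinite r' := IsFinite.of_comp r' O.ι
  have hsurj : Surjective r' := by
    refine ⟨fun o => ?_⟩
    obtain ⟨y, hy⟩ : (O.ι o) ∈ Set.range r := by
      have : O.ι o ∈ (O : Set U) := o.2
      exact this
    refine ⟨y, ?_⟩
    apply O.ι.injective
    rw [← Scheme.Hom.comp_apply, hr']
    exact hy
  refine ⟨O.toScheme, V.toScheme, O.ι ≫ e, r', V.ι ≫ pullback.fst g e ≫ h, inferInstance, hfin',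
    hsurj, ?_, ?_⟩
  · rw [Category.assoc, Category.assoc, hfac, pullback.condition, ← Category.assoc r', hr']
    simp only [r, Category.assoc]
  · have hu : u ∈ (O : Set U) := ⟨⟨v, hvV⟩, hsnd⟩
    refine ⟨⟨u, hu⟩, ?_⟩
    rw [Scheme.Hom.comp_apply]
    change e u = f x
    rw [heu, ha]

theorem ofArrows_mem_etale_over {T : Over S} {ι : Type u} (U : ι → Over S) (ε : ∀ i, U i ⟶ T)
    (h1 : ∀ i, Etale (ε i).left) (h2 : ∀ t : T.left, ∃ i, t ∈ Set.range (ε i).left) :
    Sieve.generate (Presieve.ofArrows U ε) ∈ Scheme.etaleTopology.over S T := by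
  change Sieve.generate (Presieve.ofArrows U ε) ∈ (Scheme.precoverage @Etale).toGrothendieck.over S T
  rw [CategoryTheory.over_toGrothendieck_eq_toGrothendieck_comap_forget]
  apply Precoverage.generate_mem_toGrothendieck
  rw [Precoverage.mem_comap_iff, Presieve.map_ofArrows, Scheme.ofArrows_mem_precoverage_iff]
  exact ⟨h2, h1⟩

/-- **Main reduction**: an étale sheaf on `Over S` with descent for finite surjective morphisms is
an fppf sheaf. -/
theorem isSheaf_fppf (hG : Presieve.IsSheaf (Scheme.etaleTopology.over S) G)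
    (hfin : ∀ (Y V : Over S) (p : V ⟶ Y), IsFinite p.left → Surjective p.left →
      Presieve.IsSheafFor G (Presieve.singleton p)) :
    Presieve.IsSheaf (EtFppf.J S) G := by
  have hJ₁ : Presieve.IsSheaf (Sheaf.finestTopologySingle G) G := by
    intro X R hR
    have := hR X (𝟙 X)
    rwa [Sieve.pullback_id] at this
  refine Presieve.isSheaf_of_le _ ?_ hJ₁
  change Scheme.fppfPrecoverage.toGrothendieck.over S ≤ _
  rw [CategoryTheory.over_toGrothendieck_eq_toGrothendieck_comap_forget,
    Precoverage.toGrothendieck_le_iff_le_toPrecoverage]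
  intro T R hR
  rw [Precoverage.mem_comap_iff] at hR
  rw [GrothendieckTopology.mem_toPrecoverage_iff]
  have hloc : ∀ t : T.left, ∃ (U V : Over S) (ε : U ⟶ T) (p : V ⟶ U), Etale ε.left ∧
      IsFinite p.left ∧ Surjective p.left ∧ t ∈ Set.range ε.left ∧
        (Sieve.generate R).arrows (p ≫ ε) := by
    intro t
    obtain ⟨Y₀, f', hf', x, hx⟩ := hR.1 t
    obtain ⟨hf''⟩ := hf'
    have hP := hR.2 hf''
    obtain ⟨hf₀⟩ := hf''
    rename_i X₀ f₀
    obtain ⟨hfl, hfp⟩ := hP
    haveI : Flat f₀.left := hfl
    haveI : LocallyOfFinitePresentation f₀.left := hfp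
    obtain ⟨U₀, V₀, e, r, k, he, hr1, hr2, hk, hmem⟩ := exists_local_finite f₀.left x
    have hk' : k ≫ X₀.hom = r ≫ e ≫ T.hom := by
      rw [← Over.w f₀, ← Category.assoc, hk, Category.assoc]
    refine ⟨Over.mk (e ≫ T.hom), Over.mk (r ≫ e ≫ T.hom), Over.homMk e rfl, Over.homMk r rfl,
      he, hr1, hr2, ?_, ?_⟩
    · change t ∈ Set.range e
      rw [← hx]
      exact hmem
    · refine ⟨X₀, Over.homMk k hk', f₀, hf₀, ?_⟩
      apply Over.OverMorphism.ext
      exact hk
  choose U V ε p h1 h2 h3 h4 h5 using hloc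
  have hcov : Sieve.generate (Presieve.ofArrows U ε) ∈ Sheaf.finestTopologySingle G T :=
    etale_le_finest G hG _ (ofArrows_mem_etale_over U ε h1 (fun t => ⟨t, h4 t⟩))
  refine GrothendieckTopology.transitive _ hcov _ ?_
  rintro Y f ⟨Z, g', _, ⟨t⟩, rfl⟩
  refine GrothendieckTopology.superset_covering _ ?_
    ((Sheaf.finestTopologySingle G).pullback_stable g'
      (singleton_mem_finest G hfin (p t) (h2 t) (h3 t)))
  intro Z' h' hh'
  obtain ⟨W, q, _, ⟨⟩, hq⟩ := hh'
  change (Sieve.generate R).arrows (h' ≫ g' ≫ ε t)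
  rw [← Category.assoc, ← hq, Category.assoc]
  exact (Sieve.generate R).downward_closed (h5 t) q

end Groth.Agent.H1.FppfRed
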