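import Groth.Prelude.Def_BigSite
import Groth.Agent.Lib.Helper1.FppfRed
import Groth.Agent.Lib.Helper1.FinStalk
import Groth.Agent.Lib.Helper1.BigSmall

/-!
# Descent along finite surjective morphisms for "locally constant" big étale sheaves, part A (helper1)

Basic tools: explicit fibre products in `Over S`, products of étale `S`-schemes, gluing for sheaves
on the big étale site.
-/

set_option autoImplicit false
universe u
open CategoryTheory CategoryTheory.Limits AlgebraicGeometry Opposite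

namespace Groth.Agent.H1.FppfDesc

local notation "Et" => Scheme.etalePrecoverage

variable {S : Scheme.{u}}

section PB

variable {A B C : Over S} (f : A ⟶ C) (g : B ⟶ C)

/-- explicit fibre product in `Over S` -/
noncomputable def pb : Over S := Over.mk (pullback.snd f.left g.left ≫ B.hom)

theorem pb_w : pullback.fst f.left g.left ≫ A.hom = pullback.snd f.left g.left ≫ B.hom := by
  rw [← Over.w f, ← Over.w g, ← Category.assoc, pullback.condition, Category.assoc]

noncomputable def pbFst : pb f g ⟶ A := Over.homMk (pullback.fst f.left g.left) (pb_w f g)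

noncomputable def pbSnd : pb f g ⟶ B := Over.homMk (pullback.snd f.left g.left) rfl

@[simp] theorem pbFst_left : (pbFst f g).left = pullback.fst f.left g.left := rfl
@[simp] theorem pbSnd_left : (pbSnd f g).left = pullback.snd f.left g.left := rfl
@[simp] theorem pb_left : (pb f g).left = pullback f.left g.left := rfl

theorem pb_condition : pbFst f g ≫ f = pbSnd f g ≫ g := by
  apply Over.OverMorphism.ext
  exact pullback.condition

variable {f g}

noncomputable def pbLift {Z : Over S} (a : Z ⟶ A) (b : Z ⟶ B) (h : a ≫ f = b ≫ g) : Z ⟶ pb f g :=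
  Over.homMk (pullback.lift a.left b.left (congrArg (fun k => k.left) h)) (by
    change pullback.lift a.left b.left _ ≫ pullback.snd f.left g.left ≫ B.hom = Z.hom
    rw [← Category.assoc, pullback.lift_snd, Over.w b])

theorem pbLift_fst {Z : Over S} (a : Z ⟶ A) (b : Z ⟶ B) (h : a ≫ f = b ≫ g) :
    pbLift a b h ≫ pbFst f g = a := by
  apply Over.OverMorphism.ext
  exact pullback.lift_fst _ _ _

theorem pbLift_snd {Z : Over S} (a : Z ⟶ A) (b : Z ⟶ B) (h : a ≫ f = b ≫ g) :
    pbLift a b h ≫ pbSnd f g = b := by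
  apply Over.OverMorphism.ext
  exact pullback.lift_snd _ _ _

end PB

section ProdEt

/-- the product of two étale `S`-schemes -/
noncomputable def prodEt (U₁ U₂ : S.Etale) : S.Etale :=
  haveI : Etale U₁.hom := U₁.prop
  haveI : Etale U₂.hom := U₂.prop
  Scheme.Etale.mk (pullback.fst U₁.hom U₂.hom ≫ U₁.hom)

noncomputable def prodEtFst (U₁ U₂ : S.Etale) : prodEt U₁ U₂ ⟶ U₁ :=
  MorphismProperty.Over.homMk (pullback.fst U₁.hom U₂.hom) rfl trivial

noncomputable def prodEtSnd (U₁ U₂ : S.Etale) : prodEt U₁ U₂ ⟶ U₂ :=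
  MorphismProperty.Over.homMk (pullback.snd U₁.hom U₂.hom) pullback.condition.symm trivial

noncomputable def prodEtLift {U₁ U₂ : S.Etale} {Z : Over S} (a : Z ⟶ (EtFppf.a S).obj U₁)
    (b : Z ⟶ (EtFppf.a S).obj U₂) : Z ⟶ (EtFppf.a S).obj (prodEt U₁ U₂) :=
  Over.homMk (pullback.lift a.left b.left ((Over.w a).trans (Over.w b).symm))
    ((Category.assoc _ _ _).symm.trans
      ((congrArg (fun k => k ≫ U₁.hom) (pullback.lift_fst _ _ _)).trans (Over.w a)))

theorem prodEtLift_fst {U₁ U₂ : S.Etale} {Z : Over S} (a : Z ⟶ (EtFppf.a S).obj U₁)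
    (b : Z ⟶ (EtFppf.a S).obj U₂) :
    prodEtLift a b ≫ (EtFppf.a S).map (prodEtFst U₁ U₂) = a := by
  apply Over.OverMorphism.ext
  exact pullback.lift_fst _ _ _

theorem prodEtLift_snd {U₁ U₂ : S.Etale} {Z : Over S} (a : Z ⟶ (EtFppf.a S).obj U₁)
    (b : Z ⟶ (EtFppf.a S).obj U₂) :
    prodEtLift a b ≫ (EtFppf.a S).map (prodEtSnd U₁ U₂) = b := by
  apply Over.OverMorphism.ext
  exact pullback.lift_snd _ _ _

end ProdEt

section Sheaf

variable (G : BigSite.Ab Et S)

theorem map_map {T T' T'' : Over S} (a : T' ⟶ T) (b : T'' ⟶ T') (x : G.obj.obj (op T)) :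
    G.obj.map b.op (G.obj.map a.op x) = G.obj.map (b ≫ a).op x := by
  rw [op_comp, Functor.map_comp]
  rfl

theorem isSheaf_type : Presieve.IsSheaf (Scheme.etaleTopology.over S)
    (G.obj ⋙ forget AddCommGrpCat) :=
  (isSheaf_iff_isSheaf_of_type _ _).1
    ((Presheaf.isSheaf_iff_isSheaf_forget _ G.obj (forget _)).1 G.property)

/-- a section vanishing étale locally vanishes -/
theorem eq_zero_of_etale_local {T : Over S} (x : G.obj.obj (op T))
    (h : ∀ t : T.left, ∃ (T₁ : Over S) (e : T₁ ⟶ T), Etale e.left ∧ t ∈ Set.range e.left ∧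
      G.obj.map e.op x = 0) : x = 0 := by
  choose T₁ e h1 h2 h3 using h
  have hcov := FppfRed.ofArrows_mem_etale_over T₁ e h1 (fun t => ⟨t, h2 t⟩)
  have hsep := (isSheaf_type G _ hcov).isSeparatedFor
  refine hsep.ext ?_
  rintro Y f ⟨Z, g, _, ⟨t⟩, rfl⟩
  change G.obj.map (g ≫ e t).op x = G.obj.map (g ≫ e t).op 0
  rw [← map_map, h3 t, map_zero, map_zero]

/-- gluing sections along an étale covering -/
theorem exists_glue {Y : Over S} {ι : Type u} (Yi : ι → Over S) (e : ∀ i, Yi i ⟶ Y)
    (h1 : ∀ i, Etale (e i).left) (h2 : ∀ y : Y.left, ∃ i, y ∈ Set.range (e i).left)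
    (σ : ∀ i, G.obj.obj (op (Yi i)))
    (hσ : ∀ (i j : ι) (Z : Over S) (a : Z ⟶ Yi i) (b : Z ⟶ Yi j), a ≫ e i = b ≫ e j →
      G.obj.map a.op (σ i) = G.obj.map b.op (σ j)) :
    ∃ τ : G.obj.obj (op Y), ∀ i, G.obj.map (e i).op τ = σ i := by
  have hcov := FppfRed.ofArrows_mem_etale_over Yi e h1 h2
  have hsh : Presieve.IsSheafFor (G.obj ⋙ forget AddCommGrpCat) (Presieve.ofArrows Yi e) := by
    rw [Presieve.isSheafFor_iff_generate]
    exact isSheaf_type G _ hcov
  rw [Presieve.isSheafFor_arrows_iff] at hsh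
  obtain ⟨τ, hτ, -⟩ := hsh σ (fun i j Z a b hab => hσ i j Z a b hab)
  exact ⟨τ, hτ⟩

end Sheaf

end Groth.Agent.H1.FppfDesc
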