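import Groth.Agent.Lib.Helper1.CechK
import Groth.Agent.Lib.Helper1.FppfDescA

/-!
# Representing objects for the tuples of the Čech complex of a morphism in `Over S` (helper1)
-/

set_option autoImplicit false
universe u
open CategoryTheory CategoryTheory.Limits AlgebraicGeometry Opposite

namespace Groth.Agent.H1.CechRep

open Groth.Agent.H1.CechK Groth.Agent.H1.FppfDesc

variable {S : Scheme.{u}}

theorem pb_hom_ext {A B C Z : Over S} {f : A ⟶ C} {g : B ⟶ C} (a b : Z ⟶ pb f g)
    (h1 : a ≫ pbFst f g = b ≫ pbFst f g) (h2 : a ≫ pbSnd f g = b ≫ pbSnd f g) : a = b := by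
  apply Over.OverMorphism.ext
  apply pullback.hom_ext
  · exact congrArg (fun k => k.left) h1
  · exact congrArg (fun k => k.left) h2

variable {V T T₁ : Over S} (π : V ⟶ T) (e : T₁ ⟶ T)

/-- the iterated fibre products `T₁ ×_T V ×_T ⋯ ×_T V`, with their projection to `T₁` -/
noncomputable def EE : ℕ → Σ Y : Over S, (Y ⟶ T₁)
  | 0 => ⟨T₁, 𝟙 T₁⟩
  | n + 1 => ⟨pb ((EE n).2 ≫ e) π, pbFst ((EE n).2 ≫ e) π ≫ (EE n).2⟩

noncomputable def Eobj (n : ℕ) : Over S := (EE π e n).1

noncomputable def Eto (n : ℕ) : Eobj π e n ⟶ T₁ := (EE π e n).2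

theorem Eobj_succ (n : ℕ) : Eobj π e (n + 1) = pb (Eto π e n ≫ e) π := rfl

theorem Eto_zero : Eto π e 0 = 𝟙 T₁ := rfl

theorem Eto_succ (n : ℕ) : Eto π e (n + 1) = pbFst (Eto π e n ≫ e) π ≫ Eto π e n := rfl

/-- the universal tuple, with the computation of its base -/
noncomputable def univ' : ∀ n, {x : Tup π e n (Eobj π e n) // x.base = Eto π e n}
  | 0 => ⟨⟨𝟙 T₁, Fin.elim0, fun k => k.elim0⟩, rfl⟩
  | n + 1 => ⟨⟨Eto π e (n + 1),
      Fin.cons (pbSnd (Eto π e n ≫ e) π) (fun k => pbFst (Eto π e n ≫ e) π ≫ (univ' n).1.sec k),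
      fun k => by
        refine Fin.cases ?_ (fun k => ?_) k
        · change pbSnd (Eto π e n ≫ e) π ≫ π = (pbFst (Eto π e n ≫ e) π ≫ Eto π e n) ≫ e
          rw [Category.assoc]
          exact (pb_condition _ _).symm
        · change (pbFst (Eto π e n ≫ e) π ≫ (univ' n).1.sec k) ≫ π =
            (pbFst (Eto π e n ≫ e) π ≫ Eto π e n) ≫ e
          rw [Category.assoc, (univ' n).1.comm k, (univ' n).2, Category.assoc]⟩, rfl⟩

noncomputable def univ (n : ℕ) : Tup π e n (Eobj π e n) := (univ' π e n).1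

theorem univ_base (n : ℕ) : (univ π e n).base = Eto π e n := (univ' π e n).2

theorem univ_sec_zero (n : ℕ) : (univ π e (n + 1)).sec 0 = pbSnd (Eto π e n ≫ e) π := rfl

theorem univ_sec_succ (n : ℕ) (k : Fin n) :
    (univ π e (n + 1)).sec k.succ = pbFst (Eto π e n ≫ e) π ≫ (univ π e n).sec k := rfl

variable {π e}

/-- the classifying morphism of a tuple -/
noncomputable def liftE' : ∀ (n : ℕ) {W : Over S} (x : Tup π e n W),
    {g : W ⟶ Eobj π e n // Tup.map g (univ π e n) = x}
  | 0, W, x => ⟨x.base, by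
      apply Tup.ext
      · exact Category.comp_id _
      · funext k
        exact k.elim0⟩
  | n + 1, W, x =>
    let y : Tup π e n W := Tup.reindex Fin.succ x
    let g' := liftE' n y
    have hb : g'.1 ≫ Eto π e n = x.base := by
      have := congrArg Tup.base g'.2
      change g'.1 ≫ (univ π e n).base = x.base at this
      rwa [univ_base] at this
    have h : g'.1 ≫ (Eto π e n ≫ e) = x.sec 0 ≫ π := by
      rw [← Category.assoc, hb]
      exact (x.comm 0).symm
    ⟨pbLift g'.1 (x.sec 0) h, by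
      apply Tup.ext
      · change pbLift g'.1 (x.sec 0) h ≫ (univ π e (n + 1)).base = x.base
        rw [univ_base, Eto_succ, ← Category.assoc, pbLift_fst, hb]
      · funext k
        refine Fin.cases ?_ (fun k => ?_) k
        · change pbLift g'.1 (x.sec 0) h ≫ pbSnd (Eto π e n ≫ e) π = x.sec 0
          exact pbLift_snd _ _ _
        · change pbLift g'.1 (x.sec 0) h ≫ pbFst (Eto π e n ≫ e) π ≫ (univ π e n).sec k =
            x.sec k.succ
          rw [← Category.assoc, pbLift_fst]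
          exact congrFun (congrArg Tup.sec g'.2) k⟩

noncomputable def liftE (n : ℕ) {W : Over S} (x : Tup π e n W) : W ⟶ Eobj π e n := (liftE' n x).1

theorem map_liftE (n : ℕ) {W : Over S} (x : Tup π e n W) :
    Tup.map (liftE n x) (univ π e n) = x := (liftE' n x).2

theorem liftE_Eto (n : ℕ) {W : Over S} (x : Tup π e n W) : liftE n x ≫ Eto π e n = x.base := by
  have := congrArg Tup.base (map_liftE n x)
  change liftE n x ≫ (univ π e n).base = x.base at this
  rwa [univ_base] at this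

theorem comp_id_cancel {A B : Over S} (g g' : A ⟶ B) (h : g ≫ 𝟙 B = g' ≫ 𝟙 B) : g = g' := by
  rwa [Category.comp_id, Category.comp_id] at h

theorem assoc_eq {A B C D : Over S} (g g' : A ⟶ B) (f : B ⟶ C) (k : C ⟶ D)
    (h : g ≫ f ≫ k = g' ≫ f ≫ k) : (g ≫ f) ≫ k = (g' ≫ f) ≫ k := by
  rwa [Category.assoc, Category.assoc]

theorem hom_ext_E : ∀ (n : ℕ) {W : Over S} (g g' : W ⟶ Eobj π e n),
    Tup.map g (univ π e n) = Tup.map g' (univ π e n) → g = g'
  | 0, W, g, g', h => comp_id_cancel (B := T₁) g g' (congrArg Tup.base h)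
  | n + 1, W, g, g', h => by
    have hb : (g ≫ pbFst (Eto π e n ≫ e) π) ≫ Eto π e n =
        (g' ≫ pbFst (Eto π e n ≫ e) π) ≫ Eto π e n :=
      assoc_eq (B := pb (Eto π e n ≫ e) π) g g' _ _ (congrArg Tup.base h)
    have hs := congrArg Tup.sec h
    apply pb_hom_ext (f := Eto π e n ≫ e) (g := π)
    · apply hom_ext_E n
      apply Tup.ext
      · exact (congrArg (fun t => (g ≫ pbFst (Eto π e n ≫ e) π) ≫ t) (univ_base π e n)).trans
          (hb.trans (congrArg (fun t => (g' ≫ pbFst (Eto π e n ≫ e) π) ≫ t)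
            (univ_base π e n)).symm)
      · funext k
        exact (assoc_eq (B := pb (Eto π e n ≫ e) π) g g' _ ((univ π e n).sec k)
          (congrFun hs k.succ))
    · exact congrFun hs 0

theorem liftE_map (n : ℕ) {W W' : Over S} (g : W' ⟶ W) (x : Tup π e n W) :
    liftE n (Tup.map g x) = g ≫ liftE n x := by
  apply hom_ext_E
  rw [map_liftE, Tup.map_comp, map_liftE]

theorem liftE_univ (n : ℕ) : liftE n (univ π e n) = 𝟙 _ := by
  apply hom_ext_E
  rw [map_liftE, Tup.map_id]

theorem liftE_map_univ (n : ℕ) {W : Over S} (g : W ⟶ Eobj π e n) :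
    liftE n (Tup.map g (univ π e n)) = g := by
  rw [liftE_map, liftE_univ, Category.comp_id]

section Yoneda

variable (P : (Over S)ᵒᵖ ⥤ AddCommGrpCat.{u + 1})

/-- the value of a cochain on the universal tuple -/
noncomputable def toSec {n : ℕ} (c : K π e n ⟶ P) : P.obj (op (Eobj π e n)) :=
  c.app (op (Eobj π e n)) (gen (univ π e n))

variable {P}

theorem app_gen_eq {n : ℕ} (c : K π e n ⟶ P) {W : Over S} (x : Tup π e n W) :
    c.app (op W) (gen x) = P.map (liftE n x).op (toSec P c) := by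
  rw [toSec, ← app_map_gen, map_liftE]

variable {T₂ : Over S} (e₂ : T₂ ⟶ T₁) {e' : T₂ ⟶ T} (h : e' = e₂ ≫ e)

/-- the classifying morphism of a tuple over `T₂` to the base change of the representing object -/
noncomputable def liftBC (n : ℕ) {W : Over S} (x : Tup π e' n W) :
    W ⟶ pb e₂ (Eto π e n) :=
  pbLift x.base (liftE n (Tup.push e₂ h x)) (liftE_Eto n (Tup.push e₂ h x)).symm

theorem liftBC_snd (n : ℕ) {W : Over S} (x : Tup π e' n W) :
    liftBC e₂ h n x ≫ pbSnd e₂ (Eto π e n) = liftE n (Tup.push e₂ h x) := pbLift_snd _ _ _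

theorem liftBC_fst (n : ℕ) {W : Over S} (x : Tup π e' n W) :
    liftBC e₂ h n x ≫ pbFst e₂ (Eto π e n) = x.base := pbLift_fst _ _ _

theorem liftBC_map (n : ℕ) {W W' : Over S} (g : W' ⟶ W) (x : Tup π e' n W) :
    liftBC e₂ h n (Tup.map g x) = g ≫ liftBC e₂ h n x := by
  apply pb_hom_ext
  · rw [liftBC_fst, Category.assoc, liftBC_fst]
    rfl
  · rw [liftBC_snd, Category.assoc, liftBC_snd, Tup.push_map, liftE_map]

theorem ofSecBC_aux (n : ℕ) (σ : P.obj (op (pb e₂ (Eto π e n)))) {W W' : Over S} (g : W' ⟶ W)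
    (x : Tup π e' n W) :
    P.map (liftBC e₂ h n (Tup.map g x)).op σ = P.map g.op (P.map (liftBC e₂ h n x).op σ) := by
  rw [liftBC_map, op_comp, Functor.map_comp]
  rfl

/-- the cochain over `T₂` defined by a section over the base change of the representing object -/
noncomputable def ofSecBC (n : ℕ) (σ : P.obj (op (pb e₂ (Eto π e n)))) : K π e' n ⟶ P :=
  lift P (fun W x => P.map (liftBC e₂ h n x).op σ) (fun g x => ofSecBC_aux e₂ h n σ g x)

theorem ofSecBC_gen (n : ℕ) (σ : P.obj (op (pb e₂ (Eto π e n)))) {W : Over S}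
    (x : Tup π e' n W) :
    (ofSecBC e₂ h n σ).app (op W) (gen x) = P.map (liftBC e₂ h n x).op σ :=
  lift_gen P (fun W x => P.map (liftBC e₂ h n x).op σ) (fun g x => ofSecBC_aux e₂ h n σ g x) x

theorem res_comp_eq_zero {n : ℕ} (c : K π e n ⟶ P)
    (h0 : P.map (pbSnd e₂ (Eto π e n)).op (toSec P c) = 0) : res e₂ h n ≫ c = 0 := by
  apply hom_ext_gen
  intro W x
  rw [NatTrans.comp_app, ConcreteCategory.comp_apply, res_gen, app_gen_eq, ← liftBC_snd, op_comp,
    Functor.map_comp, ConcreteCategory.comp_apply, h0, map_zero]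
  rfl

end Yoneda

theorem isFinite_Eto (hπ : IsFinite π.left) : ∀ n, IsFinite (Eto π e n).left
  | 0 => by
    change IsFinite (𝟙 T₁.left)
    infer_instance
  | n + 1 => by
    haveI := isFinite_Eto hπ n
    change IsFinite (pullback.fst (Eto π e n ≫ e).left π.left ≫ (Eto π e n).left)
    infer_instance

theorem prop_Eto (P : MorphismProperty Scheme.{u}) [P.IsStableUnderBaseChange]
    [P.IsStableUnderComposition] (h0 : P (𝟙 T₁.left)) (hπ : P π.left) :
    ∀ n, P (Eto π e n).left
  | 0 => h0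
  | n + 1 => P.comp_mem _ _ (P.pullback_fst _ _ hπ) (prop_Eto P h0 hπ n)

end Groth.Agent.H1.CechRep
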