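import Groth.Agent.Lib.Helper1.CechShort

/-!
# Étale-local exactness of the sections of an injective resolution (helper1)

If `G` is an fppf sheaf which is étale-locally Čech exact, then for every injective resolution
`G ⟶ I^•` every cocycle of `I^•` of positive degree is étale locally a coboundary.
-/

set_option autoImplicit false
universe u
open CategoryTheory CategoryTheory.Limits AlgebraicGeometry Opposite

namespace Groth.Agent.H1.CechCE

open Groth.Agent.H1.CechK Groth.Agent.H1.CechRep Groth.Agent.H1.CechPts Groth.Agent.H1.FppfDesc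

local notation "Et" => Scheme.etalePrecoverage

section Abelian

variable {𝒜 : Type*} [Category 𝒜] [Abelian 𝒜]

theorem kernelLift_zero {X Y Z W : 𝒜} (f : X ⟶ Y) (g : Y ⟶ Z) (h : Z ⟶ W) (w : f ≫ g = 0)
    (wh : g ≫ h = 0) : f ≫ kernel.lift h g wh = 0 := by
  rw [← cancel_mono (kernel.ι h), Category.assoc, kernel.lift_ι, w, zero_comp]

theorem shortExact_kernelLift {X Y Z W : 𝒜} (f : X ⟶ Y) (g : Y ⟶ Z) (h : Z ⟶ W) (w : f ≫ g = 0)
    (wh : g ≫ h = 0) (hfg : (ShortComplex.mk f g w).Exact) [Mono f]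
    (hgh : (ShortComplex.mk g h wh).Exact) :
    (ShortComplex.mk f (kernel.lift h g wh) (kernelLift_zero f g h w wh)).ShortExact where
  exact := by
    let φ : ShortComplex.mk f (kernel.lift h g wh) (kernelLift_zero f g h w wh) ⟶
        ShortComplex.mk f g w :=
      { τ₁ := 𝟙 _
        τ₂ := 𝟙 _
        τ₃ := kernel.ι h
        comm₁₂ := by simp
        comm₂₃ := by simp }
    haveI : Epi φ.τ₁ := inferInstanceAs (Epi (𝟙 _))
    haveI : IsIso φ.τ₂ := inferInstanceAs (IsIso (𝟙 _))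
    haveI : Mono φ.τ₃ := inferInstanceAs (Mono (kernel.ι h))
    exact (ShortComplex.exact_iff_of_epi_of_isIso_of_mono φ).2 hfg
  mono_f := inferInstanceAs (Mono f)
  epi_g := (ShortComplex.exact_iff_epi_kernel_lift _).1 hgh

end Abelian

variable {S : Scheme.{u}}

theorem ce_of_iso {P P' : (Over S)ᵒᵖ ⥤ AddCommGrpCat.{u + 1}} (φ : P ≅ P') (h : CE P) : CE P' := by
  intro V T T₁ π e h1 h2 h3 h4 p c hc Ω _ _ xb β
  obtain ⟨T₂, e₂, β₂, e', he', b, h5, h6, h7⟩ := h π e h1 h2 h3 h4 p (c ≫ φ.inv)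
    (by rw [← Category.assoc, hc, zero_comp]) Ω xb β
  refine ⟨T₂, e₂, β₂, e', he', b ≫ φ.hom, h5, h6, ?_⟩
  rw [← Category.assoc, h7, Category.assoc, Category.assoc, φ.inv_hom_id, Category.comp_id]

theorem injective_presheaf (I : EtFppf.AbF S) [Injective I] : Injective I.obj :=
  Injective.injective_of_adjoint (sheafificationAdjunction (EtFppf.J S) AddCommGrpCat.{u + 1}) I

/-- the step, for a short exact sequence of fppf sheaves with injective middle term -/
theorem step_fppf (Sx : ShortComplex (EtFppf.AbF S)) (hS : Sx.ShortExact) [Injective Sx.X₂]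
    (hA : CE Sx.X₁.obj) : LS Sx.g.hom ∧ CE Sx.X₃.obj := by
  have D := stepData_of_shortExact Sx hS
  refine ⟨ls_of_ce D hA, ?_⟩
  haveI : Injective (toEt Sx.X₂).obj := injective_presheaf Sx.X₂
  exact @ce_of_step S Sx.X₁.obj (toEt Sx.X₂) (toEt Sx.X₃) Sx.f.hom Sx.g.hom D @hA _

theorem exact_app' (Sx : ShortComplex (EtFppf.AbF S)) (hex : Sx.Exact) [Mono Sx.f]
    (W : (Over S)ᵒᵖ) (x : Sx.X₂.obj.obj W) (hx : Sx.g.hom.app W x = 0) :
    ∃ a, Sx.f.hom.app W a = x := by
  let F : EtFppf.AbF S ⥤ AddCommGrpCat.{u + 1} :=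
    sheafToPresheaf (EtFppf.J S) AddCommGrpCat.{u + 1} ⋙ (evaluation _ _).obj W
  haveI : F.PreservesZeroMorphisms := ⟨fun _ _ => rfl⟩
  have hex' : (Sx.map F).Exact :=
    hex.map_of_mono_of_preservesKernel F inferInstance inferInstance
  exact (ShortComplex.ab_exact_iff _).1 hex' x hx

section Resolution

variable {G : EtFppf.AbF S} (R : InjectiveResolution G)

theorem dn_comp (n : ℕ) : R.cocomplex.d n (n + 1) ≫ R.cocomplex.d (n + 1) (n + 2) = 0 :=
  R.cocomplex.d_comp_d _ _ _

/-- the map from `I^n` to the cocycles of degree `n + 1` -/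
noncomputable def lft (n : ℕ) : R.cocomplex.X n ⟶ kernel (R.cocomplex.d (n + 1) (n + 2)) :=
  kernel.lift _ (R.cocomplex.d n (n + 1)) (dn_comp R n)

theorem lft_ι (n : ℕ) : lft R n ≫ kernel.ι (R.cocomplex.d (n + 1) (n + 2)) =
    R.cocomplex.d n (n + 1) := kernel.lift_ι _ _ _

theorem main_induction (hG : CE G.obj) :
    ∀ n, LS (lft R n).hom ∧ CE (kernel (R.cocomplex.d (n + 1) (n + 2))).obj
  | 0 => by
    have hS := shortExact_kernelLift (R.ι.f 0) (R.cocomplex.d 0 1) (R.cocomplex.d 1 2)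
      R.ι_f_zero_comp_complex_d (dn_comp R 0) R.exact₀ (R.exact_succ 0)
    haveI : Injective (ShortComplex.mk (R.ι.f 0) (kernel.lift (R.cocomplex.d 1 2)
      (R.cocomplex.d 0 1) (dn_comp R 0)) (kernelLift_zero _ _ _ R.ι_f_zero_comp_complex_d
        (dn_comp R 0))).X₂ := R.injective 0
    exact step_fppf _ hS @hG
  | n + 1 => by
    obtain ⟨-, hZ⟩ := main_induction hG n
    have hk : (ShortComplex.mk (kernel.ι (R.cocomplex.d (n + 1) (n + 2)))
        (R.cocomplex.d (n + 1) (n + 2)) (kernel.condition _)).Exact :=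
      ShortComplex.exact_of_f_is_kernel _ (kernelIsKernel _)
    have hS := shortExact_kernelLift (kernel.ι (R.cocomplex.d (n + 1) (n + 2)))
      (R.cocomplex.d (n + 1) (n + 2)) (R.cocomplex.d (n + 2) (n + 3)) (kernel.condition _)
      (dn_comp R (n + 1)) hk (R.exact_succ (n + 1))
    haveI : Injective (ShortComplex.mk (kernel.ι (R.cocomplex.d (n + 1) (n + 2)))
      (kernel.lift (R.cocomplex.d (n + 2) (n + 3)) (R.cocomplex.d (n + 1) (n + 2))
        (dn_comp R (n + 1))) (kernelLift_zero _ _ _ (kernel.condition _)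
          (dn_comp R (n + 1)))).X₂ := R.injective (n + 1)
    exact step_fppf _ hS @hZ

/-- **Étale-local exactness of the sections of an injective resolution.** -/
theorem exists_local_primitive (hG : CE G.obj) (n : ℕ) (W : Over S)
    (x : (R.cocomplex.X (n + 1)).obj.obj (op W))
    (hx : (R.cocomplex.d (n + 1) (n + 2)).hom.app (op W) x = 0)
    (Ω : Type u) [Field Ω] [IsAlgClosed Ω] (xb : Spec (.of Ω) ⟶ S) (z : Over.mk xb ⟶ W) :
    ∃ (W' : Over S) (c : W' ⟶ W) (z' : Over.mk xb ⟶ W') (y : (R.cocomplex.X n).obj.obj (op W')),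
      Etale c.left ∧ z' ≫ c = z ∧
        (R.cocomplex.d n (n + 1)).hom.app (op W') y = (R.cocomplex.X (n + 1)).obj.map c.op x := by
  have hk : (ShortComplex.mk (kernel.ι (R.cocomplex.d (n + 1) (n + 2)))
      (R.cocomplex.d (n + 1) (n + 2)) (kernel.condition _)).Exact :=
    ShortComplex.exact_of_f_is_kernel _ (kernelIsKernel _)
  haveI : Mono (ShortComplex.mk (kernel.ι (R.cocomplex.d (n + 1) (n + 2)))
      (R.cocomplex.d (n + 1) (n + 2)) (kernel.condition _)).f :=
    inferInstanceAs (Mono (kernel.ι _))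
  obtain ⟨a, ha⟩ := exact_app' _ hk (op W) x hx
  obtain ⟨W', c, z', y, hc, hz', hy⟩ := (main_induction R hG n).1 W a Ω xb z
  refine ⟨W', c, z', y, hc, hz', ?_⟩
  have h1 := congrArg (fun k => k.hom.app (op W')) (lft_ι R n)
  have h2 : (R.cocomplex.d n (n + 1)).hom.app (op W') y =
      (kernel.ι (R.cocomplex.d (n + 1) (n + 2))).hom.app (op W') ((lft R n).hom.app (op W') y) :=
    (ConcreteCategory.congr_hom h1 y).symm
  rw [h2, hy, map_app_apply, ha]

end Resolution

end Groth.Agent.H1.CechCE
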