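import Groth.Agent.Lib.Helper1.CechStepC

/-!
# Short exact sequences of fppf sheaves and étale-local Čech exactness (helper1)
-/

set_option autoImplicit false
universe u
open CategoryTheory CategoryTheory.Limits AlgebraicGeometry Opposite

namespace Groth.Agent.H1.CechCE

open Groth.Agent.H1.CechK Groth.Agent.H1.CechRep Groth.Agent.H1.CechPts Groth.Agent.H1.FppfDesc

local notation "Et" => Scheme.etalePrecoverage

variable {S : Scheme.{u}}

/-- an fppf sheaf as a sheaf on the big étale site -/
noncomputable def toEt (F : EtFppf.AbF S) : BigSite.Ab Et S :=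
  ⟨F.obj, fun E => Presieve.isSheaf_of_le _
    (BigSite.J_mono BigSite.etalePrecoverage_le_fppfPrecoverage S) (F.property E)⟩

theorem singleton_mem_fppf {V Y : Over S} (p : V ⟶ Y) (h2 : Surjective p.left) (h3 : Flat p.left)
    (h4 : LocallyOfFinitePresentation p.left) :
    Sieve.generate (Presieve.singleton p) ∈ EtFppf.J S Y := by
  change Sieve.generate (Presieve.singleton p) ∈
    (Scheme.precoverage (@Flat ⊓ @LocallyOfFinitePresentation)).toGrothendieck.over S Y
  rw [CategoryTheory.over_toGrothendieck_eq_toGrothendieck_comap_forget]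
  apply Precoverage.generate_mem_toGrothendieck
  rw [Precoverage.mem_comap_iff, Presieve.map_singleton, Scheme.singleton_mem_precoverage_iff]
  exact ⟨h2.surj, h3, h4⟩

theorem isSheafFor_singleton_fppf (F : EtFppf.AbF S) {V Y : Over S} (p : V ⟶ Y)
    (h2 : Surjective p.left) (h3 : Flat p.left) (h4 : LocallyOfFinitePresentation p.left) :
    Presieve.IsSheafFor (F.obj ⋙ forget AddCommGrpCat) (Presieve.singleton p) := by
  rw [Presieve.isSheafFor_iff_generate]
  exact ((isSheaf_iff_isSheaf_of_type _ _).1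
    ((Presheaf.isSheaf_iff_isSheaf_forget _ F.obj (forget _)).1 F.property)) _
    (singleton_mem_fppf p h2 h3 h4)

/-- fppf-local surjectivity of an epimorphism, in concrete form -/
theorem exists_local_lift_fppf {F G : EtFppf.AbF S} (q : F ⟶ G) [Epi q] (W : Over S)
    (s : G.obj.obj (op W)) (w : W.left) :
    ∃ (X₀ : Over S) (f₀ : X₀ ⟶ W) (x : X₀.left), Flat f₀.left ∧
      LocallyOfFinitePresentation f₀.left ∧ f₀.left x = w ∧
        ∃ r : F.obj.obj (op X₀), q.hom.app (op X₀) r = G.obj.map f₀.op s := by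
  have h : Sheaf.IsLocallySurjective q := by
    rw [Sheaf.isLocallySurjective_iff_epi']
    infer_instance
  have hmem := h.imageSieve_mem s
  haveI : MorphismProperty.ContainsIdentities @LocallyOfFinitePresentation.{u} :=
    ⟨fun X => inferInstance⟩
  haveI : Scheme.fppfPrecoverage.{u}.HasIsos := by
    unfold Scheme.fppfPrecoverage
    infer_instance
  change Presheaf.imageSieve q.hom s ∈ Scheme.fppfPrecoverage.toGrothendieck.over S W at hmem
  rw [CategoryTheory.over_toGrothendieck_eq_toGrothendieck_comap_forget,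
    Precoverage.mem_toGrothendieck_iff_of_isStableUnderComposition] at hmem
  obtain ⟨R, hR, hle⟩ := hmem
  rw [Precoverage.mem_comap_iff] at hR
  obtain ⟨Y₀, f', hf', x, hx⟩ := hR.1 w
  obtain ⟨hf''⟩ := hf'
  have hP := hR.2 hf''
  obtain ⟨hf₀⟩ := hf''
  rename_i X₀ f₀
  obtain ⟨hfl, hfp⟩ := hP
  obtain ⟨r, hr⟩ := hle X₀ f₀ hf₀
  exact ⟨X₀, f₀, x, hfl, hfp, hx, r, hr⟩

theorem injective_app_of_mono {F G : EtFppf.AbF S} (f : F ⟶ G) [Mono f] (W : (Over S)ᵒᵖ) :
    Function.Injective (f.hom.app W) := by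
  have h1 : Mono ((sheafToPresheaf (EtFppf.J S) AddCommGrpCat.{u + 1}).map f) := inferInstance
  have h2 : Mono (f.hom.app W) :=
    (NatTrans.mono_iff_mono_app ((sheafToPresheaf (EtFppf.J S) AddCommGrpCat.{u + 1}).map f)).1 h1 W
  exact (AddCommGrpCat.mono_iff_injective _).1 h2

theorem exact_app (Sx : ShortComplex (EtFppf.AbF S)) (hS : Sx.ShortExact) (W : (Over S)ᵒᵖ)
    (x : Sx.X₂.obj.obj W) (hx : Sx.g.hom.app W x = 0) : ∃ a, Sx.f.hom.app W a = x := by
  let F : EtFppf.AbF S ⥤ AddCommGrpCat.{u + 1} :=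
    sheafToPresheaf (EtFppf.J S) AddCommGrpCat.{u + 1} ⋙ (evaluation _ _).obj W
  haveI : F.PreservesZeroMorphisms := ⟨fun _ _ => rfl⟩
  have hex : (Sx.map F).Exact :=
    hS.exact.map_of_mono_of_preservesKernel F hS.mono_f inferInstance
  exact (ShortComplex.ab_exact_iff _).1 hex x hx

/-- the elementwise data of a short exact sequence of fppf sheaves -/
theorem stepData_of_shortExact (Sx : ShortComplex (EtFppf.AbF S)) (hS : Sx.ShortExact) :
    StepData (A := Sx.X₁.obj) (I := Sx.X₂.obj) (Q := Sx.X₃.obj) Sx.f.hom Sx.g.hom where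
  inj W := by
    haveI := hS.mono_f
    exact injective_app_of_mono Sx.f W
  exact W x hx := exact_app Sx hS W x hx
  zero := by
    have : (sheafToPresheaf (EtFppf.J S) AddCommGrpCat.{u + 1}).map Sx.f ≫
        (sheafToPresheaf (EtFppf.J S) AddCommGrpCat.{u + 1}).map Sx.g = 0 := by
      rw [← Functor.map_comp, Sx.zero, Functor.map_zero]
    exact this
  glueI p _ h2 h3 h4 x hx := by
    have h := isSheafFor_singleton_fppf Sx.X₂ p h2 h3 h4
    rw [Presieve.isSheafFor_singleton] at h
    obtain ⟨y, hy, -⟩ := h x hx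
    exact ⟨y, hy⟩
  sepQ p _ h2 h3 h4 y y' hyy := by
    have h := (isSheafFor_singleton_fppf Sx.X₃ p h2 h3 h4).isSeparatedFor
    rw [Presieve.isSeparatedFor_singleton] at h
    exact h hyy
  loc W s w := by
    haveI := hS.epi_g
    exact exists_local_lift_fppf Sx.g W s w

end Groth.Agent.H1.CechCE
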