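import Groth.Agent.Lib.Helper1.FppfRed

/-!
# Étale-local refinement of fppf coverings by finite locally free morphisms (helper1)
-/

set_option autoImplicit false
universe u
open CategoryTheory CategoryTheory.Limits AlgebraicGeometry Opposite

namespace Groth.Agent.H1.FppfRed

open Groth.Agent.Lib.helper5 Groth.Agent.Lib.helper13

/-- étale locally on the base, a flat morphism locally of finite presentation is dominated by a
finite, flat, finitely presented surjective morphism -/
theorem exists_local_finite_flat {T X : Scheme.{u}} (f : X ⟶ T) [Flat f]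
    [LocallyOfFinitePresentation f] (x : X) :
    ∃ (U V : Scheme.{u}) (e : U ⟶ T) (r : V ⟶ U) (k : V ⟶ X), Etale e ∧ IsFinite r ∧
      Surjective r ∧ Flat r ∧ LocallyOfFinitePresentation r ∧ k ≫ f = r ≫ e ∧
        f x ∈ Set.range e := by
  obtain ⟨A, g, h, hfac, hg1, hg2, hg3, a, ha⟩ := QFRefineSch.exists_affine_refinement_at f x
  haveI := hg1
  haveI := hg2
  haveI := hg3
  obtain ⟨U, e, u, he, heu, -, V, v, hvV, hfin, hsnd, hfst, -, -⟩ :=
    EL.exists_etale_nbhd_of_quasiFiniteAt g a (g.quasiFiniteAt a)
  haveI := he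
  haveI := hfin
  let r : V.toScheme ⟶ U := V.ι ≫ pullback.snd g e
  have hrflat : Flat r := inferInstance
  have hrfp : LocallyOfFinitePresentation r := inferInstance
  have hopen : IsOpen (Set.range r) := r.isOpenMap.isOpen_range
  let O : U.Opens := ⟨Set.range r, hopen⟩
  have hsub : Set.range r ⊆ Set.range O.ι := by
    rw [Scheme.Opens.range_ι]
    exact subset_rfl
  let r' : V.toScheme ⟶ O.toScheme := IsOpenImmersion.lift O.ι r hsub
  have hr' : r' ≫ O.ι = r := IsOpenImmersion.lift_fac O.ι r hsub
  haveI : IsFinite (r' ≫ O.ι) := by rw [hr']; exact hfin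
  have hfin' : IsFinite r' := IsFinite.of_comp r' O.ι
  have hflat' : Flat r' :=
    MorphismProperty.of_postcomp (W := @Flat) (W' := @IsOpenImmersion) r' O.ι inferInstance
      (by rw [hr']; exact hrflat)
  have hfp' : LocallyOfFinitePresentation r' :=
    MorphismProperty.of_postcomp (W := @LocallyOfFinitePresentation) (W' := @IsOpenImmersion) r'
      O.ι inferInstance (by rw [hr']; exact hrfp)
  have hsurj : Surjective r' := by
    refine ⟨fun o => ?_⟩
    obtain ⟨y, hy⟩ : (O.ι o) ∈ Set.range r := by
      have : O.ι o ∈ (O : Set U) := o.2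
      exact this
    refine ⟨y, ?_⟩
    apply O.ι.injective
    rw [← Scheme.Hom.comp_apply, hr']
    exact hy
  refine ⟨O.toScheme, V.toScheme, O.ι ≫ e, r', V.ι ≫ pullback.fst g e ≫ h, inferInstance, hfin',
    hsurj, hflat', hfp', ?_, ?_⟩
  · rw [Category.assoc, Category.assoc, hfac, pullback.condition, ← Category.assoc r', hr']
    simp only [r, Category.assoc]
  · have hu : u ∈ (O : Set U) := ⟨⟨v, hvV⟩, hsnd⟩
    refine ⟨⟨u, hu⟩, ?_⟩
    rw [Scheme.Hom.comp_apply]
    change e u = f x
    rw [heu, ha]

end Groth.Agent.H1.FppfRed
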