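import Groth.Agent.Lib.Helper1.CechBase
import Groth.Agent.Lib.Helper1.FppfRed2

/-!
# The inductive step for étale-local Čech exactness, part A (helper1)

For `0 ⟶ A ⟶ I ⟶ Q ⟶ 0` exact on the big fppf site with `A` étale-locally Čech exact: sections of
`Q` lift to `I` étale locally.
-/

set_option autoImplicit false
universe u
open CategoryTheory CategoryTheory.Limits AlgebraicGeometry Opposite

namespace Groth.Agent.H1.CechCE

open Groth.Agent.H1.CechK Groth.Agent.H1.CechRep Groth.Agent.H1.CechPts Groth.Agent.H1.FppfDesc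

variable {S : Scheme.{u}}

/-- local surjectivity at geometric points, for the étale topology -/
def LS {I Q : (Over S)ᵒᵖ ⥤ AddCommGrpCat.{u + 1}} (q : I ⟶ Q) : Prop :=
  ∀ (W : Over S) (s : Q.obj (op W)) (Ω : Type u) [Field Ω] [IsAlgClosed Ω]
    (xb : Spec (.of Ω) ⟶ S) (z : Over.mk xb ⟶ W),
    ∃ (W' : Over S) (c : W' ⟶ W) (z' : Over.mk xb ⟶ W') (r : I.obj (op W')),
      Etale c.left ∧ z' ≫ c = z ∧ q.app (op W') r = Q.map c.op s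

/-- the elementwise data of a short exact sequence of fppf sheaves with injective middle term -/
structure StepData {A I Q : (Over S)ᵒᵖ ⥤ AddCommGrpCat.{u + 1}} (ι : A ⟶ I) (q : I ⟶ Q) : Prop where
  inj : ∀ W, Function.Injective (ι.app W)
  exact : ∀ W (x : I.obj W), q.app W x = 0 → ∃ a, ι.app W a = x
  zero : ι ≫ q = 0
  glueI : ∀ {V Y : Over S} (p : V ⟶ Y), IsFinite p.left → Surjective p.left → Flat p.left →
    LocallyOfFinitePresentation p.left → ∀ x : I.obj (op V),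
      (∀ {Z : Over S} (p₁ p₂ : Z ⟶ V), p₁ ≫ p = p₂ ≫ p → I.map p₁.op x = I.map p₂.op x) →
      ∃ y : I.obj (op Y), I.map p.op y = x
  sepQ : ∀ {V Y : Over S} (p : V ⟶ Y), IsFinite p.left → Surjective p.left → Flat p.left →
    LocallyOfFinitePresentation p.left → ∀ y y' : Q.obj (op Y), Q.map p.op y = Q.map p.op y' →
      y = y'
  loc : ∀ (W : Over S) (s : Q.obj (op W)) (w : W.left),
    ∃ (X₀ : Over S) (f₀ : X₀ ⟶ W) (x : X₀.left), Flat f₀.left ∧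
      LocallyOfFinitePresentation f₀.left ∧ f₀.left x = w ∧
        ∃ r : I.obj (op X₀), q.app (op X₀) r = Q.map f₀.op s

section Factor

variable {A I Q : (Over S)ᵒᵖ ⥤ AddCommGrpCat.{u + 1}} {ι : A ⟶ I} {q : I ⟶ Q}
  {V T T₁ : Over S} {π : V ⟶ T} {e : T₁ ⟶ T}

theorem map_app_apply {P P' : (Over S)ᵒᵖ ⥤ AddCommGrpCat.{u + 1}} (α : P ⟶ P') {W W' : Over S}
    (g : W' ⟶ W) (x : P.obj (op W)) :
    α.app (op W') (P.map g.op x) = P'.map g.op (α.app (op W) x) :=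
  ConcreteCategory.congr_hom (α.naturality g.op) x

theorem pmap_map {P : (Over S)ᵒᵖ ⥤ AddCommGrpCat.{u + 1}} {W W' W'' : Over S} (a : W' ⟶ W)
    (b : W'' ⟶ W') (x : P.obj (op W)) : P.map b.op (P.map a.op x) = P.map (b ≫ a).op x := by
  rw [op_comp, Functor.map_comp]
  rfl

theorem exists_factor_cochain (D : StepData ι q) {n : ℕ} (c : K π e n ⟶ I) (hc : c ≫ q = 0) :
    ∃ g : K π e n ⟶ A, g ≫ ι = c := by
  have h1 : ∀ (W : Over S) (x : Tup π e n W), ∃ a : A.obj (op W),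
      ι.app (op W) a = c.app (op W) (gen x) := by
    intro W x
    apply D.exact
    have := congrArg (fun α => α.app (op W)) hc
    exact ConcreteCategory.congr_hom this (gen x)
  choose a ha using h1
  refine ⟨lift A a ?_, ?_⟩
  · intro W W' g x
    apply D.inj
    rw [ha, map_app_apply, ha, app_map_gen]
  · apply hom_ext_gen
    intro W x
    rw [comp_app_apply, lift_gen, ha]

theorem cancel_inj (D : StepData ι q) {n : ℕ} (g g' : K π e n ⟶ A) (h : g ≫ ι = g' ≫ ι) :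
    g = g' := by
  apply hom_ext_gen
  intro W x
  apply D.inj
  have := congrArg (fun α => α.app (op W)) h
  exact ConcreteCategory.congr_hom this (gen x)

end Factor

section LSProof

variable {A I Q : (Over S)ᵒᵖ ⥤ AddCommGrpCat.{u + 1}} {ι : A ⟶ I} {q : I ⟶ Q}

/-- the `0`-cochain defined by a section over `V` -/
noncomputable def cochainOfSec {V T T₁ : Over S} (π : V ⟶ T) (e : T₁ ⟶ T)
    (P : (Over S)ᵒᵖ ⥤ AddCommGrpCat.{u + 1}) (r : P.obj (op V)) : K π e 1 ⟶ P :=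
  lift P (fun W x => P.map (x.sec 0).op r) (fun g x => (pmap_map (x.sec 0) g r).symm)

theorem cochainOfSec_gen {V T T₁ : Over S} (π : V ⟶ T) (e : T₁ ⟶ T)
    (P : (Over S)ᵒᵖ ⥤ AddCommGrpCat.{u + 1}) (r : P.obj (op V)) {W : Over S}
    (x : Tup π e 1 W) : (cochainOfSec π e P r).app (op W) (gen x) = P.map (x.sec 0).op r :=
  lift_gen P (fun W x => P.map (x.sec 0).op r) (fun g x => (pmap_map (x.sec 0) g r).symm) x

theorem zero_app_apply {P P' : (Over S)ᵒᵖ ⥤ AddCommGrpCat.{u + 1}} (W : (Over S)ᵒᵖ) (z : P.obj W) :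
    (0 : P ⟶ P').app W z = 0 := rfl

theorem over_w_aux {X₀ W : Over S} (f₀ : X₀ ⟶ W) {V₀ U : Scheme.{u}} (k : V₀ ⟶ X₀.left)
    (r : V₀ ⟶ U) (e₀ : U ⟶ W.left) (hk : k ≫ f₀.left = r ≫ e₀) :
    k ≫ X₀.hom = r ≫ e₀ ≫ W.hom := by
  rw [← Over.w f₀, ← Category.assoc, hk, Category.assoc]

/-- **Step (a)**: sections of the quotient lift étale locally. -/
theorem ls_of_ce (D : StepData ι q) (hA : CE A) : LS q := by
  intro W s Ω _ _ xb z
  obtain ⟨zl, hzl⟩ : ∃ zl : Spec (.of Ω) ⟶ W.left, zl = z.left := ⟨_, rfl⟩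
  obtain ⟨X₀, f₀, x, hfl, hfp, hx, r₀, hr₀⟩ := D.loc W s (zl default)
  haveI := hfl
  haveI := hfp
  obtain ⟨U, V₀, e₀, r, k, he₀, hr1, hr2, hr3, hr4, hk, u, hu⟩ :=
    FppfRed.exists_local_finite_flat f₀.left x
  haveI := he₀
  obtain ⟨l, hl1, -⟩ := Scheme.exists_fac_of_etale_of_isSepClosed e₀ zl u (hu.trans hx)
  rw [hzl] at hl1
  let T₁ : Over S := Over.mk (e₀ ≫ W.hom)
  let e₁ : T₁ ⟶ W := Over.homMk e₀ rfl
  let V : Over S := Over.mk (r ≫ e₀ ≫ W.hom)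
  let π : V ⟶ T₁ := Over.homMk r rfl
  let kk : V ⟶ X₀ := Over.homMk k (over_w_aux f₀ k r e₀ hk)
  have hkk : kk ≫ f₀ = π ≫ e₁ := Over.OverMorphism.ext hk
  have he₁ : Etale e₁.left := he₀
  have hπ1 : IsFinite π.left := hr1
  have hπ2 : Surjective π.left := hr2
  have hπ3 : Flat π.left := hr3
  have hπ4 : LocallyOfFinitePresentation π.left := hr4
  obtain ⟨β, hβd⟩ : ∃ β : Over.mk xb ⟶ T₁, β = mkPt l (assoc_pt l e₀ W.hom hl1 (pt_w z)) :=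
    ⟨_, rfl⟩
  have hβ : β ≫ e₁ = z := by
    apply pt_ext
    rw [hβd]
    exact hl1
  obtain ⟨r₁, hr₁d⟩ : ∃ r₁ : I.obj (op V), r₁ = I.map kk.op r₀ := ⟨_, rfl⟩
  have hr₁ : q.app (op V) r₁ = Q.map (π ≫ e₁).op s := by
    rw [hr₁d, map_app_apply, hr₀, pmap_map, hkk]
  obtain ⟨rc, hrcd⟩ : ∃ rc : K π (𝟙 T₁) 1 ⟶ I, rc = cochainOfSec π (𝟙 T₁) I r₁ := ⟨_, rfl⟩
  have hqrc : ∀ {W' : Over S} (x : Tup π (𝟙 T₁) 1 W'),
      q.app (op W') (rc.app (op W') (gen x)) = Q.map (x.base ≫ e₁).op s := by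
    intro W' x
    rw [hrcd, cochainOfSec_gen, map_app_apply, hr₁, pmap_map, ← Category.assoc, x.comm 0,
      Category.comp_id]
  have h1 : (d 1 ≫ rc) ≫ q = 0 := by
    apply hom_ext_gen
    intro W' x
    rw [comp_app_apply, d_comp_app_gen, map_sum, Fin.sum_univ_two, map_zsmul, map_zsmul, hqrc,
      hqrc, zero_app_apply]
    change (-1 : ℤ) ^ ((0 : Fin 2) : ℕ) • Q.map (x.base ≫ e₁).op s +
      (-1 : ℤ) ^ ((1 : Fin 2) : ℕ) • Q.map (x.base ≫ e₁).op s = 0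
    simp
  obtain ⟨g, hg⟩ := exists_factor_cochain D (d 1 ≫ rc) h1
  have hg2 : d 2 ≫ g = 0 := by
    apply cancel_inj D
    rw [Category.assoc, hg, ← Category.assoc, d_comp_d 0, zero_comp, zero_comp]
  obtain ⟨T₂, e₂, β₂, e', h, b, he₂, hβ₂, hb⟩ := hA π (𝟙 T₁) hπ1 hπ2 hπ3 hπ4 0 g hg2 Ω xb β
  subst h
  obtain ⟨r', hr'd⟩ : ∃ r' : K π (e₂ ≫ 𝟙 T₁) 1 ⟶ I, r' = res e₂ rfl 1 ≫ rc - b ≫ ι := ⟨_, rfl⟩
  have hr' : d 1 ≫ r' = 0 := by
    rw [hr'd, Preadditive.comp_sub, sub_eq_zero]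
    calc d 1 ≫ res e₂ rfl 1 ≫ rc = (d 1 ≫ res e₂ rfl 1) ≫ rc := (Category.assoc _ _ _).symm
      _ = (res e₂ rfl 2 ≫ d 1) ≫ rc := by rw [d_res]
      _ = res e₂ rfl 2 ≫ d 1 ≫ rc := Category.assoc _ _ _
      _ = res e₂ rfl 2 ≫ g ≫ ι := by rw [hg]
      _ = (res e₂ rfl 2 ≫ g) ≫ ι := (Category.assoc _ _ _).symm
      _ = (d 1 ≫ b) ≫ ι := by rw [hb]
      _ = d 1 ≫ b ≫ ι := Category.assoc _ _ _
  -- gluing
  have hf1 : IsFinite (Eto π (e₂ ≫ 𝟙 T₁) 1).left := prop_Eto (@IsFinite) inferInstance hπ1 1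
  have hf2 : Surjective (Eto π (e₂ ≫ 𝟙 T₁) 1).left := prop_Eto (@Surjective) inferInstance hπ2 1
  have hf3 : Flat (Eto π (e₂ ≫ 𝟙 T₁) 1).left := prop_Eto (@Flat) inferInstance hπ3 1
  have hf4 : LocallyOfFinitePresentation (Eto π (e₂ ≫ 𝟙 T₁) 1).left :=
    prop_Eto (@LocallyOfFinitePresentation) inferInstance hπ4 1
  have hcompat : ∀ {Z : Over S} (p₁ p₂ : Z ⟶ Eobj π (e₂ ≫ 𝟙 T₁) 1),
      p₁ ≫ Eto π (e₂ ≫ 𝟙 T₁) 1 = p₂ ≫ Eto π (e₂ ≫ 𝟙 T₁) 1 →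
      I.map p₁.op (toSec I r') = I.map p₂.op (toSec I r') := by
    intro Z p₁ p₂ hp
    have hbase : (Tup.map p₁ (univ π (e₂ ≫ 𝟙 T₁) 1)).base =
        (Tup.map p₂ (univ π (e₂ ≫ 𝟙 T₁) 1)).base := by
      change p₁ ≫ (univ π (e₂ ≫ 𝟙 T₁) 1).base = p₂ ≫ (univ π (e₂ ≫ 𝟙 T₁) 1).base
      rw [univ_base]
      exact hp
    have hv : (Tup.map p₂ (univ π (e₂ ≫ 𝟙 T₁) 1)).sec 0 ≫ π =
        (Tup.map p₁ (univ π (e₂ ≫ 𝟙 T₁) 1)).base ≫ (e₂ ≫ 𝟙 T₁) := by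
      rw [hbase]
      exact (Tup.map p₂ (univ π (e₂ ≫ 𝟙 T₁) 1)).comm 0
    rw [toSec, ← app_map_gen, ← app_map_gen,
      cocycle_cons r' hr' (Tup.map p₁ (univ π (e₂ ≫ 𝟙 T₁) 1)) _ hv, Fin.sum_univ_one]
    simp only [Fin.val_zero, pow_zero, one_smul]
    congr 2
    apply Tup.ext
    · exact hbase
    · funext j
      obtain rfl : j = 0 := Fin.fin_one_eq_zero j
      rfl
  obtain ⟨σ, hσ⟩ := D.glueI (Eto π (e₂ ≫ 𝟙 T₁) 1) hf1 hf2 hf3 hf4 (toSec I r') hcompat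
  refine ⟨T₂, e₂ ≫ e₁, β₂, σ, etale_comp_left e₂ e₁ he₂ he₁, by rw [← Category.assoc, hβ₂, hβ],
    ?_⟩
  apply D.sepQ (Eto π (e₂ ≫ 𝟙 T₁) 1) hf1 hf2 hf3 hf4
  rw [← map_app_apply, hσ, toSec, hr'd, sub_app_apply, map_sub, comp_app_apply, comp_app_apply,
    res_gen, hqrc]
  have hz : q.app _ (ι.app _ (b.app (op (Eobj π (e₂ ≫ 𝟙 T₁) 1)) (gen (univ π (e₂ ≫ 𝟙 T₁) 1)))) = 0 := by
    have := congrArg (fun α => α.app (op (Eobj π (e₂ ≫ 𝟙 T₁) 1))) D.zero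
    exact ConcreteCategory.congr_hom this _
  rw [hz, sub_zero, pmap_map]
  change Q.map (((univ π (e₂ ≫ 𝟙 T₁) 1).base ≫ e₂) ≫ e₁).op s = _
  rw [univ_base, Category.assoc]

end LSProof

end Groth.Agent.H1.CechCE
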