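import Groth.Agent.Lib.Helper1.CechStepA

/-!
# The inductive step for étale-local Čech exactness, part B (helper1)

Direct images along finite morphisms preserve étale-local surjectivity.
-/

set_option autoImplicit false
universe u
open CategoryTheory CategoryTheory.Limits AlgebraicGeometry Opposite

namespace Groth.Agent.H1.CechCE

open Groth.Agent.H1.CechK Groth.Agent.H1.CechRep Groth.Agent.H1.CechPts Groth.Agent.H1.FppfDesc
  Groth.Agent.H1.EtGerm Groth.Agent.H1.PullGerm Groth.Agent.H1.BigSmall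

local notation "Et" => Scheme.etalePrecoverage

variable {S : Scheme.{u}} {IE QE : BigSite.Ab Et S} (qE : IE.obj ⟶ QE.obj)
  {Ω : Type u} [Field Ω] [IsAlgClosed Ω] {xb : Spec (.of Ω) ⟶ S} {E : Over S}

/-- the restriction of a section over `E` to an étale `E.left`-scheme -/
noncomputable def sU (s : QE.obj.obj (op E)) (U : E.left.Etale) : (Fr QE E).obj.obj (op U) :=
  QE.obj.map (ovProj E U).op s

theorem sU_map (s : QE.obj.obj (op E)) {U U' : E.left.Etale} (g : U' ⟶ U) :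
    (Fr QE E).obj.map g.op (sU s U) = sU s U' := by
  rw [Fr_map, sU, pmap_map, ovMap_proj]
  rfl

/-- the map on sections over an étale `E.left`-scheme -/
noncomputable def qF (U : E.left.Etale) :
    (Fr IE E).obj.obj (op U) →+ (Fr QE E).obj.obj (op U) :=
  (qE.app (op (ov E U))).hom

theorem q_map {U U' : E.left.Etale} (g : U' ⟶ U) (x : (Fr IE E).obj.obj (op U)) :
    qF qE U' ((Fr IE E).obj.map g.op x) = (Fr QE E).obj.map g.op (qF qE U x) :=
  map_app_apply qE (ovMap E g) x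

theorem exists_local_lift_finite (hLS : LS qE) {B : Over S} (f : E ⟶ B) [IsFinite f.left]
    (β : Over.mk xb ⟶ B) (s : QE.obj.obj (op E)) :
    ∃ (B' : Over S) (e' : B' ⟶ B) (β' : Over.mk xb ⟶ B') (τ : IE.obj.obj (op (pb e' f))),
      Etale e'.left ∧ β' ≫ e' = β ∧ qE.app (op (pb e' f)) τ = QE.obj.map (pbSnd e' f).op s := by
  have hξE : ∀ ξ : Spec (.of Ω) ⟶ E.left, ξ ≫ f.left = β.left → ξ ≫ E.hom = xb :=
    fun ξ h => w_comp f ξ β.left xb h (pt_w β)
  have h1 : ∀ ξ : {ξ : Spec (.of Ω) ⟶ E.left // ξ ≫ f.left = β.left},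
      ∃ (U : E.left.Etale) (y : Lift ξ.1 U) (r : (Fr IE E).obj.obj (op U)),
        qF qE U r = sU s U := by
    rintro ⟨ξ, h⟩
    obtain ⟨W', c, z', r, hc, hz', hr⟩ := hLS E s Ω xb (mkPt ξ (hξE ξ h))
    haveI : Etale c.left := hc
    let U : E.left.Etale := Scheme.Etale.mk c.left
    have hzl : z'.left ≫ c.left = ξ := congrArg (fun k => k.left) hz'
    let θ : ov E U ⟶ W' := Over.homMk (𝟙 W'.left) (by
      have := Over.w c
      change 𝟙 W'.left ≫ W'.hom = c.left ≫ E.hom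
      rw [Category.id_comp, ← this])
    have hθ : θ ≫ c = ovProj E U := by
      apply Over.OverMorphism.ext
      change 𝟙 W'.left ≫ c.left = c.left
      exact Category.id_comp _
    refine ⟨U, Lift.mk ξ z'.left hzl, IE.obj.map θ.op r, ?_⟩
    change qE.app (op (ov E U)) (IE.obj.map θ.op r) = QE.obj.map (ovProj E U).op s
    rw [map_app_apply, hr, pmap_map, hθ]
  choose U y r hr using h1
  obtain ⟨Sg, inc, b, hb, hoi, hdisj, hcov⟩ :=
    Groth.Agent.H1.FinStalk.exists_coprod ((EtCoh.bc f.left).obj (EtCoh.top B.left)) U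
      (fun ξ => Groth.Agent.H1.FinStalk.toBcTop f.left (U ξ))
  obtain ⟨ρ, hρ, -⟩ := Groth.Agent.H1.FinStalk.existsUnique_glue (Fr IE E) Sg U inc hoi hdisj hcov r
  have hqρ : qF qE Sg ρ = sU s Sg := by
    rw [← sub_eq_zero]
    apply Groth.Agent.H1.FinStalk.eq_zero_of_cover (Fr QE E) Sg U inc hoi hdisj hcov
    intro ξ
    rw [map_sub, ← q_map, hρ, hr, sU_map, sub_self]
  obtain ⟨V₁, g, v₁, hv₁, A, hA, W, j, hh, hoi', hdisj', hcov', hhg, -⟩ :=
    Groth.Agent.H1.FinStalk.exists_split_etale f.left β.left (EtCoh.top B.left)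
      (Groth.Agent.H1.FinStalk.topLift β.left) Sg b (fun ξ => Lift.map (inc ξ) (y ξ)) (by
      intro ξ
      rw [Groth.Agent.H1.FinStalk.lift_map_comp, hb]
      exact Groth.Agent.H1.FinStalk.map_toBcTop f.left β.left ξ.2 (U ξ) (y ξ))
  obtain ⟨τ, hτ, -⟩ := Groth.Agent.H1.FinStalk.existsUnique_glue (Fr IE E) _ W j hoi' hdisj' hcov'
    (fun k => (Fr IE E).obj.map (hh k).op ρ)
  have hqτ : qF qE ((EtCoh.bc f.left).obj V₁) τ = sU s ((EtCoh.bc f.left).obj V₁) := by
    rw [← sub_eq_zero]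
    apply Groth.Agent.H1.FinStalk.eq_zero_of_cover (Fr QE E) _ W j hoi' hdisj' hcov'
    intro k
    rw [map_sub, ← q_map, hτ, q_map, hqρ, sU_map, sU_map, sub_self]
  have hV₁ : Etale V₁.hom := V₁.prop
  let B' : Over S := Over.mk (V₁.hom ≫ B.hom)
  let e' : B' ⟶ B := Over.homMk V₁.hom rfl
  refine ⟨B', e', mkPt v₁.hom (assoc_pt v₁.hom V₁.hom B.hom v₁.hom_comp (pt_w β)), τ, hV₁, ?_, ?_⟩
  · apply pt_ext
    exact v₁.hom_comp
  · exact hqτ

end Groth.Agent.H1.CechCE
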