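import Groth.Agent.Lib.Helper1.CechStepB

/-!
# The inductive step for étale-local Čech exactness, part C (helper1)

For `0 ⟶ A ⟶ I ⟶ Q ⟶ 0` exact on the big fppf site with `I` injective and `A` étale-locally Čech
exact, `Q` is étale-locally Čech exact.
-/

set_option autoImplicit false
universe u
open CategoryTheory CategoryTheory.Limits AlgebraicGeometry Opposite

namespace Groth.Agent.H1.CechCE

open Groth.Agent.H1.CechK Groth.Agent.H1.CechRep Groth.Agent.H1.CechPts Groth.Agent.H1.FppfDesc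

local notation "Et" => Scheme.etalePrecoverage

variable {S : Scheme.{u}} {A : (Over S)ᵒᵖ ⥤ AddCommGrpCat.{u + 1}} {IE QE : BigSite.Ab Et S}
  {ι : A ⟶ IE.obj} {q : IE.obj ⟶ QE.obj}

/-- **Step (b)**: the quotient is étale-locally Čech exact. -/
theorem ce_of_step (D : StepData ι q) (hA : CE A) [Injective IE.obj] : CE QE.obj := by
  intro V T T₁ π e h1 h2 h3 h4 p c hc Ω _ _ xb β
  have hLS := ls_of_ce D hA
  haveI : IsFinite (Eto π e (p + 2)).left := prop_Eto (@IsFinite) inferInstance h1 (p + 2)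
  obtain ⟨T₂, e₂, β₂, τ, he₂, hβ₂, hτ⟩ :=
    exists_local_lift_finite q hLS (Eto π e (p + 2)) β (toSec QE.obj c)
  obtain ⟨ch, hchd⟩ : ∃ ch : K π (e₂ ≫ e) (p + 2) ⟶ IE.obj, ch = ofSecBC e₂ rfl (p + 2) τ :=
    ⟨_, rfl⟩
  have hch : ch ≫ q = res e₂ rfl (p + 2) ≫ c := by
    apply hom_ext_gen
    intro W x
    rw [comp_app_apply, hchd, ofSecBC_gen, map_app_apply, hτ, pmap_map, liftBC_snd,
      comp_app_apply, res_gen, app_gen_eq]
  have h5 : (d (p + 2) ≫ ch) ≫ q = 0 := by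
    calc (d (p + 2) ≫ ch) ≫ q = d (p + 2) ≫ ch ≫ q := Category.assoc _ _ _
      _ = d (p + 2) ≫ res e₂ rfl (p + 2) ≫ c := by rw [hch]
      _ = (d (p + 2) ≫ res e₂ rfl (p + 2)) ≫ c := (Category.assoc _ _ _).symm
      _ = (res e₂ rfl (p + 3) ≫ d (p + 2)) ≫ c := by rw [d_res]
      _ = res e₂ rfl (p + 3) ≫ d (p + 2) ≫ c := Category.assoc _ _ _
      _ = 0 := by rw [hc, comp_zero]
  obtain ⟨a, ha⟩ := exists_factor_cochain D (d (p + 2) ≫ ch) h5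
  have ha2 : d (p + 3) ≫ a = 0 := by
    apply cancel_inj D
    rw [Category.assoc, ha, ← Category.assoc, d_comp_d (p + 1), zero_comp, zero_comp]
  obtain ⟨T₃, e₃, β₃, e', h, g, he₃, hβ₃, hg⟩ :=
    hA π (e₂ ≫ e) h1 h2 h3 h4 (p + 1) a ha2 Ω xb β₂
  subst h
  obtain ⟨ct, hctd⟩ : ∃ ct : K π (e₃ ≫ e₂ ≫ e) (p + 2) ⟶ IE.obj,
      ct = res e₃ rfl (p + 2) ≫ ch - g ≫ ι := ⟨_, rfl⟩
  have hct : d (p + 2) ≫ ct = 0 := by
    rw [hctd, Preadditive.comp_sub, sub_eq_zero]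
    calc d (p + 2) ≫ res e₃ rfl (p + 2) ≫ ch
        = (d (p + 2) ≫ res e₃ rfl (p + 2)) ≫ ch := (Category.assoc _ _ _).symm
      _ = (res e₃ rfl (p + 3) ≫ d (p + 2)) ≫ ch := by rw [d_res]
      _ = res e₃ rfl (p + 3) ≫ d (p + 2) ≫ ch := Category.assoc _ _ _
      _ = res e₃ rfl (p + 3) ≫ a ≫ ι := by rw [ha]
      _ = (res e₃ rfl (p + 3) ≫ a) ≫ ι := (Category.assoc _ _ _).symm
      _ = (d (p + 2) ≫ g) ≫ ι := by rw [hg]
      _ = d (p + 2) ≫ g ≫ ι := Category.assoc _ _ _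
  obtain ⟨bh, hbh⟩ := exists_primitive IE.obj p ct hct
  refine ⟨T₃, e₃ ≫ e₂, β₃, e₃ ≫ (e₂ ≫ e), (Category.assoc _ _ _).symm, bh ≫ q,
    etale_comp_left e₃ e₂ he₃ he₂, by rw [← Category.assoc, hβ₃, hβ₂], ?_⟩
  calc d (p + 1) ≫ bh ≫ q = (d (p + 1) ≫ bh) ≫ q := (Category.assoc _ _ _).symm
    _ = ct ≫ q := by rw [hbh]
    _ = (res e₃ rfl (p + 2) ≫ ch) ≫ q - (g ≫ ι) ≫ q := by rw [hctd, Preadditive.sub_comp]
    _ = res e₃ rfl (p + 2) ≫ ch ≫ q - g ≫ ι ≫ q := by rw [Category.assoc, Category.assoc]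
    _ = res e₃ rfl (p + 2) ≫ res e₂ rfl (p + 2) ≫ c := by
      rw [D.zero, comp_zero, sub_zero, hch]
    _ = (res e₃ rfl (p + 2) ≫ res e₂ rfl (p + 2)) ≫ c := (Category.assoc _ _ _).symm
    _ = res (e₃ ≫ e₂) (Category.assoc _ _ _).symm (p + 2) ≫ c := by
      rw [res_res e₂ rfl e₃ rfl (Category.assoc _ _ _).symm]

end Groth.Agent.H1.CechCE
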