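import Groth.Agent.Lib.Helper1.FinPushStalk

set_option autoImplicit false
universe u

namespace Groth.Agent.H1.ClopenExt

open CategoryTheory CategoryTheory.Limits Opposite GrothendieckTopology AlgebraicGeometry
open Groth.Agent.H1.EtStalk Groth.Agent.H1.EtGerm Groth.Agent.H1.EtStalkPull
  Groth.Agent.H1.FinPushStalk

variable {X : Scheme.{u}}

/-- an open and closed immersion in the small etale site -/
structure IsClopen {T A : X.Etale} (a : A ⟶ T) : Prop where
  open_imm : IsOpenImmersion a.left
  closed_range : IsClosed (Set.range a.left.base)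

/-- the open complement of a clopen immersion -/
def compl {T A : X.Etale} {a : A ⟶ T} (ha : IsClopen a) : T.left.Opens :=
  ⟨(Set.range a.left.base)ᶜ, ha.closed_range.isOpen_compl⟩

/-- the complement as an object of the etale site -/
noncomputable abbrev cObj {T A : X.Etale} {a : A ⟶ T} (ha : IsClopen a) : X.Etale :=
  restrictOpen T (compl ha)

/-- the inclusion of the complement -/
noncomputable abbrev cι {T A : X.Etale} {a : A ⟶ T} (ha : IsClopen a) : cObj ha ⟶ T :=
  restrictOpenι T (compl ha)

theorem range_cι {T A : X.Etale} {a : A ⟶ T} (ha : IsClopen a) :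
    Set.range (cι ha).left.base = (Set.range a.left.base)ᶜ := by
  change Set.range (compl ha).ι.base = _
  rw [Scheme.Opens.range_ι]
  rfl

/-- a morphism whose image misses the clopen piece factors through the complement -/
theorem exists_fac_compl {T A : X.Etale} {a : A ⟶ T} (ha : IsClopen a) {N : X.Etale} (n : N ⟶ T)
    (hn : ∀ x : N.left, n.left.base x ∉ Set.range a.left.base) :
    ∃ n' : N ⟶ cObj ha, n' ≫ cι ha = n := by
  have hr : Set.range n.left.base ⊆ Set.range (compl ha).ι.base := by
    rw [Scheme.Opens.range_ι]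
    rintro _ ⟨x, rfl⟩
    exact hn x
  let l : N.left ⟶ (compl ha).toScheme := IsOpenImmersion.lift (compl ha).ι n.left hr
  have hl : l ≫ (compl ha).ι = n.left := IsOpenImmersion.lift_fac _ _ hr
  refine ⟨MorphismProperty.Over.homMk l (by
    change l ≫ (compl ha).ι ≫ T.hom = N.hom
    rw [← Category.assoc, hl]
    exact MorphismProperty.Over.w n) trivial, ?_⟩
  exact MorphismProperty.Over.Hom.ext hl

theorem mono_of_isClopen {T A : X.Etale} {a : A ⟶ T} (ha : IsClopen a) {Z : X.Etale}
    (g₁ g₂ : Z ⟶ A) (h : g₁ ≫ a = g₂ ≫ a) : g₁ = g₂ := by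
  have := ha.open_imm
  apply MorphismProperty.Over.Hom.ext
  have h' : g₁.left ≫ a.left = g₂.left ≫ a.left := congrArg (fun k => k.left) h
  exact (cancel_mono a.left).mp h'

/-- the two-member family `A ⊔ (T ∖ A) → T` -/
noncomputable def fam {T A : X.Etale} {a : A ⟶ T} (ha : IsClopen a) : Bool → X.Etale
  | true => A
  | false => cObj ha

/-- the two-member family `A ⊔ (T ∖ A) → T` -/
noncomputable def famι {T A : X.Etale} {a : A ⟶ T} (ha : IsClopen a) : ∀ i, fam ha i ⟶ T
  | true => a
  | false => cι ha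

theorem generate_mem {T A : X.Etale} {a : A ⟶ T} (ha : IsClopen a) :
    Sieve.generate (Presieve.ofArrows (fam ha) (famι ha)) ∈ X.smallEtaleTopology T := by
  apply Groth.Agent.H1.ClosedDense.mem_smallEtaleTopology
  intro x
  by_cases hx : x ∈ Set.range a.left.base
  · obtain ⟨y, hy⟩ := hx
    exact ⟨A, a, y, ⟨_, 𝟙 _, famι ha true, Presieve.ofArrows.mk (ι := Bool) true, Category.id_comp _⟩, hy⟩
  · have hx' : x ∈ Set.range (cι ha).left.base := by rw [range_cι]; exact hx
    obtain ⟨y, hy⟩ := hx'
    exact ⟨cObj ha, cι ha, y, ⟨_, 𝟙 _, famι ha false, Presieve.ofArrows.mk (ι := Bool) false, Category.id_comp _⟩, hy⟩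


theorem isEmpty_of_fac {T A : X.Etale} {a : A ⟶ T} (ha : IsClopen a) {Z : X.Etale}
    (g₁ : Z ⟶ A) (g₂ : Z ⟶ cObj ha) (h : g₁ ≫ a = g₂ ≫ cι ha) : IsEmpty Z.left := by
  constructor
  intro z
  have h' : g₁.left ≫ a.left = g₂.left ≫ (cι ha).left := congrArg (fun k => k.left) h
  have h1 : (g₁.left ≫ a.left).base z ∈ Set.range a.left.base := ⟨g₁.left.base z, rfl⟩
  have h2 : (g₂.left ≫ (cι ha).left).base z ∈ Set.range (cι ha).left.base :=
    ⟨g₂.left.base z, rfl⟩
  rw [range_cι, ← h'] at h2
  exact h2 h1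

variable (F : EtCoh.Ab X)

theorem existsUnique_ext {T A : X.Etale} {a : A ⟶ T} (ha : IsClopen a) (s : F.obj.obj (op A)) :
    ∃! t : F.obj.obj (op T), F.obj.map a.op t = s ∧ F.obj.map (cι ha).op t = 0 := by
  have hsh : Presieve.IsSheafFor (F.obj ⋙ forget AddCommGrpCat)
      (Presieve.ofArrows (fam ha) (famι ha)) := by
    rw [Presieve.isSheafFor_iff_generate]
    exact ((isSheaf_iff_isSheaf_of_type _ _).1
      ((Presheaf.isSheaf_iff_isSheaf_forget _ F.obj (forget _)).1 F.property)) _ (generate_mem ha)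
  rw [Presieve.isSheafFor_arrows_iff] at hsh
  let x : ∀ i, (F.obj ⋙ forget AddCommGrpCat).obj (op (fam ha i)) := fun i =>
    match i with
    | true => s
    | false => (0 : F.obj.obj (op (cObj ha)))
  have hx : Presieve.Arrows.Compatible (F.obj ⋙ forget AddCommGrpCat) (famι ha) x := by
    intro i j Z gi gj hg
    match i, j, gi, gj, hg with
    | true, true, gi, gj, hg => rw [mono_of_isClopen ha gi gj hg]
    | false, false, gi, gj, hg =>
      have e1 : ∀ g : Z ⟶ cObj ha, F.obj.map g.op (0 : F.obj.obj (op (cObj ha))) = 0 :=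
        fun g => map_zero _
      exact (e1 gi).trans (e1 gj).symm
    | true, false, gi, gj, hg =>
      have := isEmpty_of_fac ha gi gj hg
      exact (subsingleton_of_isEmpty F Z).elim _ _
    | false, true, gi, gj, hg =>
      have := isEmpty_of_fac ha gj gi hg.symm
      exact (subsingleton_of_isEmpty F Z).elim _ _
  obtain ⟨t, ht, htu⟩ := hsh x hx
  refine ⟨t, ⟨ht true, ht false⟩, fun t' ht' => htu t' (fun i => ?_)⟩
  match i with
  | true => exact ht'.1
  | false => exact ht'.2

/-- extension by zero of a section along a clopen immersion -/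
noncomputable def extZ {T A : X.Etale} {a : A ⟶ T} (ha : IsClopen a) (s : F.obj.obj (op A)) :
    F.obj.obj (op T) := (existsUnique_ext F ha s).choose

theorem map_extZ {T A : X.Etale} {a : A ⟶ T} (ha : IsClopen a) (s : F.obj.obj (op A)) :
    F.obj.map a.op (extZ F ha s) = s := (existsUnique_ext F ha s).choose_spec.1.1

theorem map_cι_extZ {T A : X.Etale} {a : A ⟶ T} (ha : IsClopen a) (s : F.obj.obj (op A)) :
    F.obj.map (cι ha).op (extZ F ha s) = 0 := (existsUnique_ext F ha s).choose_spec.1.2

theorem eq_extZ {T A : X.Etale} {a : A ⟶ T} (ha : IsClopen a) (s : F.obj.obj (op A))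
    (t : F.obj.obj (op T)) (h1 : F.obj.map a.op t = s) (h2 : F.obj.map (cι ha).op t = 0) :
    t = extZ F ha s := (existsUnique_ext F ha s).choose_spec.2 t ⟨h1, h2⟩

/-- the extension by zero vanishes on everything which misses the clopen piece -/
theorem map_extZ_of_disjoint {T A : X.Etale} {a : A ⟶ T} (ha : IsClopen a) (s : F.obj.obj (op A))
    {N : X.Etale} (n : N ⟶ T) (hn : ∀ x : N.left, n.left.base x ∉ Set.range a.left.base) :
    F.obj.map n.op (extZ F ha s) = 0 := by
  obtain ⟨n', rfl⟩ := exists_fac_compl ha n hn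
  rw [op_comp, Functor.map_comp]
  change F.obj.map n'.op (F.obj.map (cι ha).op (extZ F ha s)) = 0
  rw [map_cι_extZ, map_zero]

theorem extZ_add {T A : X.Etale} {a : A ⟶ T} (ha : IsClopen a) (s s' : F.obj.obj (op A)) :
    extZ F ha (s + s') = extZ F ha s + extZ F ha s' := by
  symm
  apply eq_extZ
  · rw [map_add, map_extZ, map_extZ]
  · rw [map_add, map_cι_extZ, map_cι_extZ, add_zero]

/-- extension by zero as a morphism of abelian groups -/
noncomputable def extZHom {T A : X.Etale} {a : A ⟶ T} (ha : IsClopen a) :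
    F.obj.obj (op A) ⟶ F.obj.obj (op T) :=
  AddCommGrpCat.ofHom (AddMonoidHom.mk' (extZ F ha) (extZ_add F ha))

theorem extZHom_apply {T A : X.Etale} {a : A ⟶ T} (ha : IsClopen a) (s : F.obj.obj (op A)) :
    extZHom F ha s = extZ F ha s := rfl

/-- compatibility of extension by zero with a square which is cartesian on points -/
theorem map_extZ_of_square {T A T' A' : X.Etale} {a : A ⟶ T} (ha : IsClopen a) {a' : A' ⟶ T'}
    (ha' : IsClopen a') (k : T' ⟶ T) (kA : A' ⟶ A) (hsq : a' ≫ k = kA ≫ a)
    (hpt : ∀ x : T'.left, k.left.base x ∈ Set.range a.left.base → x ∈ Set.range a'.left.base)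
    (s : F.obj.obj (op A)) :
    F.obj.map k.op (extZ F ha s) = extZ F ha' (F.obj.map kA.op s) := by
  apply eq_extZ
  · change (F.obj.map k.op ≫ F.obj.map a'.op) (extZ F ha s) = _
    rw [← Functor.map_comp, ← op_comp, hsq, op_comp, Functor.map_comp]
    change F.obj.map kA.op (F.obj.map a.op (extZ F ha s)) = _
    rw [map_extZ]
  · change (F.obj.map k.op ≫ F.obj.map (cι ha').op) (extZ F ha s) = _
    rw [← Functor.map_comp, ← op_comp]
    apply map_extZ_of_disjoint
    intro x hx
    have h1 : (cι ha').left.base x ∈ Set.range a'.left.base := hpt _ hx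
    have h2 : (cι ha').left.base x ∈ Set.range (cι ha').left.base := ⟨x, rfl⟩
    rw [range_cι] at h2
    exact h2 h1

/-- extension by zero is natural in the sheaf -/
theorem app_extZ {G : EtCoh.Ab X} (α : F ⟶ G) {T A : X.Etale} {a : A ⟶ T} (ha : IsClopen a)
    (s : F.obj.obj (op A)) :
    α.hom.app (op T) (extZ F ha s) = extZ G ha (α.hom.app (op A) s) := by
  apply eq_extZ
  · have := NatTrans.naturality_apply α.hom a.op (extZ F ha s)
    rw [← this, map_extZ]
  · have := NatTrans.naturality_apply α.hom (cι ha).op (extZ F ha s)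
    rw [← this, map_cι_extZ, map_zero]

end Groth.Agent.H1.ClopenExt
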