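import Groth.Agent.Lib.Helper8.EtaleLift

set_option autoImplicit false
universe u

namespace Groth.Agent.H1.ClosedEtLift

open CategoryTheory CategoryTheory.Limits AlgebraicGeometry TensorProduct

/-- ring-level lifting of etale algebras along a surjection, as a pushout square -/
theorem exists_etale_pushout {R A B : Type u} [CommRing R] [CommRing A] [CommRing B]
    (ρ : R →+* A) (hρ : Function.Surjective ρ) (β : A →+* B) (hβ : β.Etale) :
    ∃ (S : Type u) (_ : CommRing S) (σ : R →+* S) (τ : S →+* B), σ.Etale ∧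
      IsPushout (CommRingCat.ofHom ρ) (CommRingCat.ofHom σ) (CommRingCat.ofHom β)
        (CommRingCat.ofHom τ) := by
  let I := RingHom.ker ρ
  let ε : R ⧸ I ≃+* A := RingHom.quotientKerEquivOfSurjective hρ
  let _ : Algebra (R ⧸ I) B := (β.comp ε.toRingHom).toAlgebra
  have halg : algebraMap (R ⧸ I) B = β.comp ε.toRingHom := RingHom.algebraMap_toAlgebra _
  have : Algebra.Etale (R ⧸ I) B := by
    apply RingHom.etale_algebraMap.mp
    rw [halg]
    exact RingHom.Etale.stableUnderComposition _ _ (RingHom.Etale.of_bijective ε.bijective) hβ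
  obtain ⟨S, _, _, hS, ⟨e⟩⟩ := Groth.Agent.Lib.helper8.EtLift.exists_etale_lift R I B
  refine ⟨S, inferInstance, algebraMap R S,
    (e : (R ⧸ I) ⊗[R] S →+* B).comp Algebra.TensorProduct.includeRight.toRingHom,
    RingHom.etale_algebraMap.mpr hS, ?_⟩
  refine (CommRingCat.isPushout_tensorProduct R (R ⧸ I) S).of_iso (Iso.refl _)
    ε.toCommRingCatIso (Iso.refl _) e.toRingEquiv.toCommRingCatIso ?_ ?_ ?_ ?_
  · ext r
    simp [ε, I]
  · simp
  · ext a
    have := e.commutes a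
    simp only [Algebra.TensorProduct.algebraMap_apply, halg] at this
    simpa using this
  · ext s
    simp


theorem exists_affineOpen_mem_le {X : Scheme.{u}} (U : X.Opens) (x : ↥X) (hx : x ∈ U) :
    ∃ W : X.Opens, IsAffineOpen W ∧ x ∈ W ∧ W ≤ U := by
  obtain ⟨W, hW, hxW, hWU⟩ := TopologicalSpace.Opens.isBasis_iff_nbhd.mp X.isBasis_affineOpens hx
  exact ⟨W, hW, hxW, hWU⟩

/-- **Etale schemes over a closed subscheme lift locally to the ambient scheme.** -/
theorem exists_etale_lift_nhd {X Y U : Scheme.{u}} (f : X ⟶ Y) [IsClosedImmersion f]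
    (p : U ⟶ X) [AlgebraicGeometry.Etale p] (x : U) :
    ∃ (V : Scheme.{u}) (v : V ⟶ Y) (_ : AlgebraicGeometry.Etale v) (h : pullback v f ⟶ U),
      h ≫ p = pullback.snd v f ∧ IsOpenImmersion h ∧ x ∈ Set.range h.base := by
  -- affine open of `Y`
  obtain ⟨Y₀, hY₀, hy, -⟩ := exists_affineOpen_mem_le (⊤ : Y.Opens) (f.base (p.base x)) trivial
  have hX₀ : IsAffineOpen (f ⁻¹ᵁ Y₀) := hY₀.preimage f
  have hx₀ : x ∈ p ⁻¹ᵁ (f ⁻¹ᵁ Y₀) := hy
  obtain ⟨U₀, hU₀, hxU, hle⟩ := exists_affineOpen_mem_le (p ⁻¹ᵁ (f ⁻¹ᵁ Y₀)) x hx₀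
  -- the rings
  let ρ : Γ(Y, Y₀) ⟶ Γ(X, f ⁻¹ᵁ Y₀) := f.app Y₀
  have hρ : Function.Surjective ρ.hom := f.app_surjective Y₀ hY₀
  let β : Γ(X, f ⁻¹ᵁ Y₀) ⟶ Γ(U, U₀) := p.appLE (f ⁻¹ᵁ Y₀) U₀ hle
  have hβ : β.hom.Etale := HasRingHomProperty.appLE (P := @AlgebraicGeometry.Etale) p inferInstance
    ⟨_, hX₀⟩ ⟨_, hU₀⟩ hle
  obtain ⟨S, _, σ, τ, hσ, hpo⟩ := exists_etale_pushout ρ.hom hρ β.hom hβ
  -- the squares
  have sq1 : IsPullback (Spec.map (CommRingCat.ofHom τ)) (Spec.map β) (Spec.map (CommRingCat.ofHom σ))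
      (Spec.map ρ) := by
    have := isPullback_SpecMap_of_isPushout _ _ _ _ hpo
    exact this.flip
  have sq2 : IsPullback (Spec.map ρ) hX₀.fromSpec hY₀.fromSpec f := by
    apply IsOpenImmersion.isPullback
    · have := IsAffineOpen.SpecMap_appLE_fromSpec f hY₀ hX₀ le_rfl
      rw [← this, Scheme.Hom.appLE_eq_app]
    · rw [IsAffineOpen.opensRange_fromSpec, IsAffineOpen.opensRange_fromSpec]
  have sq := sq1.paste_vert sq2
  let v : Spec (CommRingCat.of S) ⟶ Y := Spec.map (CommRingCat.ofHom σ) ≫ hY₀.fromSpec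
  have hv : AlgebraicGeometry.Etale v := by
    have : AlgebraicGeometry.Etale (Spec.map (CommRingCat.ofHom σ)) :=
      (HasRingHomProperty.Spec_iff (P := @AlgebraicGeometry.Etale)).2 hσ
    infer_instance
  let k : Spec Γ(U, U₀) ≅ pullback v f := sq.isoPullback
  refine ⟨Spec (CommRingCat.of S), v, hv, k.inv ≫ hU₀.fromSpec, ?_, inferInstance, ?_⟩
  · rw [Category.assoc, ← IsAffineOpen.SpecMap_appLE_fromSpec p hX₀ hU₀ hle]
    exact sq.isoPullback_inv_snd
  · rw [Scheme.Hom.comp_base, TopCat.coe_comp, Set.range_comp, Set.range_eq_univ.mpr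
      (ConcreteCategory.bijective_of_isIso k.inv.base).2, Set.image_univ, hU₀.range_fromSpec]
    exact hxU

end Groth.Agent.H1.ClosedEtLift
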