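import Groth.Agent.Lib.Helper1.EtCartanB

/-!
# Filtered colimits of Čech-exact sheaves on the small étale site (helper1)

Sections over qcqs objects of a filtered colimit of abelian étale sheaves are computed elementwise
(`sec_rep`, `sec_eq`); hence a filtered colimit of globally Čech-exact sheaves is globally Čech exact
(`cex_of_isColimit`), and is acyclic on a qcqs scheme (`subsingleton_H_of_isColimit`).
-/

set_option autoImplicit false
universe w₁ w₂ u
open CategoryTheory CategoryTheory.Limits AlgebraicGeometry Opposite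

namespace Groth.Agent.H1.EtCartan

open Groth.Agent.H1.CechK Groth.Agent.H1.GCech Groth.Agent.H1.FiltSec Groth.Agent.H1.FiltSecEt

variable {X : Scheme.{u}} {I : Type w₁} [Category.{w₂} I] [IsFiltered I]
  [HasColimitsOfShape I AddCommGrpCat.{u + 1}]
  [PreservesColimitsOfShape I (forget AddCommGrpCat.{u + 1})]

noncomputable def isColimit_sections (D : I ⥤ EtCoh.Ab X) (c : Cocone D) (hc : IsColimit c) (U : X.Etale)
    (hU : good U) :
    IsColimit ((sheafToPresheaf X.smallEtaleTopology AddCommGrpCat.{u + 1} ⋙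
      (evaluation X.Etaleᵒᵖ AddCommGrpCat.{u + 1}).obj (op U)).mapCocone c) := by
  haveI := hU.1
  haveI := hU.2
  haveI : PreservesColimitsOfShape I
      (sheafToPresheaf X.smallEtaleTopology AddCommGrpCat.{u + 1} ⋙
        (evaluation X.Etaleᵒᵖ AddCommGrpCat.{u + 1}).obj (op U)) :=
    preservesColimitsOfShape_sections U (qcqs_of_compact_quasiSeparated U)
  exact isColimitOfPreserves _ hc

theorem sec_rep (D : I ⥤ EtCoh.Ab X) (c : Cocone D) (hc : IsColimit c) (U : X.Etale)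
    (hU : good U) (s : c.pt.obj.obj (op U)) :
    ∃ (j : I) (t : (D.obj j).obj.obj (op U)), (c.ι.app j).hom.app (op U) t = s := by
  obtain ⟨j, t, ht⟩ := Concrete.isColimit_exists_rep _ (isColimit_sections D c hc U hU) s
  exact ⟨j, t, ht⟩

theorem sec_eq (D : I ⥤ EtCoh.Ab X) (c : Cocone D) (hc : IsColimit c) (U : X.Etale)
    (hU : good U) (j : I) (t t' : (D.obj j).obj.obj (op U))
    (h : (c.ι.app j).hom.app (op U) t = (c.ι.app j).hom.app (op U) t') :
    ∃ (k : I) (f : j ⟶ k), (D.map f).hom.app (op U) t = (D.map f).hom.app (op U) t' := by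
  obtain ⟨k, f, g, hfg⟩ := Concrete.isColimit_exists_of_rep_eq _
    (isColimit_sections D c hc U hU) t t' h
  refine ⟨IsFiltered.coeq f g, f ≫ IsFiltered.coeqHom f g, ?_⟩
  have h1 : (D.map (f ≫ IsFiltered.coeqHom f g)).hom.app (op U) t' =
      (D.map (g ≫ IsFiltered.coeqHom f g)).hom.app (op U) t' := by
    rw [IsFiltered.coeq_condition]
  rw [h1, D.map_comp, D.map_comp]
  exact congrArg ((D.map (IsFiltered.coeqHom f g)).hom.app (op U)) hfg

theorem eq_zero_of_toSec {V T : X.Etale} {π : V ⟶ T} {n : ℕ}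
    {P : X.Etaleᵒᵖ ⥤ AddCommGrpCat.{u + 1}} (c : K π (𝟙 T) n ⟶ P) (h : toSec P c = 0) :
    c = 0 := by
  apply hom_ext_gen
  intro W x
  rw [app_gen_eq, h, map_zero]
  rfl

theorem toSec_comp {V T : X.Etale} {π : V ⟶ T} {n : ℕ}
    {P Q : X.Etaleᵒᵖ ⥤ AddCommGrpCat.{u + 1}} (c : K π (𝟙 T) n ⟶ P) (α : P ⟶ Q) :
    toSec Q (c ≫ α) = α.app _ (toSec P c) := rfl

/-- a filtered colimit of globally Čech-exact sheaves is globally Čech exact -/
theorem cex_of_isColimit (D : I ⥤ EtCoh.Ab X) (c : Cocone D) (hc : IsColimit c)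
    (hD : ∀ j, CEx (GC (X := X)) (D.obj j).obj) : CEx (GC (X := X)) c.pt.obj := by
  intro V T π hπ p cc hcc
  have hE2 := good_Eobj π hπ (p + 2)
  have hE3 := good_Eobj π hπ (p + 3)
  obtain ⟨j, t, ht⟩ := sec_rep D c hc _ hE2 (toSec _ cc)
  obtain ⟨cj, hcjd⟩ : ∃ cj : K π (𝟙 T) (p + 2) ⟶ (D.obj j).obj,
    cj = ofSec π (𝟙 T) (p + 2) t := ⟨_, rfl⟩
  have hcj : cj ≫ (c.ι.app j).hom = cc := by
    apply hom_ext_gen
    intro W x
    rw [comp_app_apply, hcjd, ofSec_gen, map_app_apply, ht, app_gen_eq]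
    rfl
  have h0 : (c.ι.app j).hom.app _ (toSec _ (d (p + 2) ≫ cj)) =
      (c.ι.app j).hom.app _ 0 := by
    rw [map_zero, ← toSec_comp, Category.assoc, hcj, hcc]
    rfl
  obtain ⟨k, f, hf⟩ := sec_eq D c hc _ hE3 j _ _ h0
  obtain ⟨ck, hckd⟩ : ∃ ck : K π (𝟙 T) (p + 2) ⟶ (D.obj k).obj,
    ck = cj ≫ (D.map f).hom := ⟨_, rfl⟩
  have hck : d (p + 2) ≫ ck = 0 := by
    apply eq_zero_of_toSec
    rw [hckd, ← Category.assoc, toSec_comp, hf, map_zero]
  have hck2 : ck ≫ (c.ι.app k).hom = cc := by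
    rw [hckd, Category.assoc, ← hcj]
    congr 1
    exact congrArg (fun m => m.hom) (c.w f)
  obtain ⟨bk, hbk⟩ := hD k π hπ p ck hck
  exact ⟨bk ≫ (c.ι.app k).hom, by rw [← Category.assoc, hbk, hck2]⟩

/-- a filtered colimit of globally Čech-exact sheaves on a qcqs scheme is acyclic -/
theorem subsingleton_H_of_isColimit [CompactSpace X] [QuasiSeparatedSpace X]
    (D : I ⥤ EtCoh.Ab X) (c : Cocone D) (hc : IsColimit c)
    (hD : ∀ j, CEx (GC (X := X)) (D.obj j).obj) (n : ℕ) :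
    Subsingleton (EtCoh.H X c.pt (n + 1)) :=
  subsingleton_H_of_cex n c.pt (cex_of_isColimit D c hc hD)

end Groth.Agent.H1.EtCartan
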