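import Groth.Agent.Lib.Helper1.SuppSect
import Groth.Agent.Lib.Helper1.EtCartanC

/-!
# Subsheaves of sections vanishing over an open (helper1)
-/

set_option autoImplicit false
universe u
open CategoryTheory CategoryTheory.Limits AlgebraicGeometry Opposite

namespace Groth.Agent.H1.ClosedPtSupp

open Groth.Agent.H1.EtGerm Groth.Agent.H1.SuppSect Groth.Agent.S0687 Groth.Agent.H1.EtStalk

variable {X : Scheme.{u}} (F : EtCoh.Ab X) (V : X.Opens)

/-- the unit `F → j_* j^{-1} F` for the inclusion of the open `V` -/
noncomputable def unitV : F ⟶ (EtCoh.push V.ι).obj ((EtShriek.restrAlong V.ι).obj F) :=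
  (Groth.Agent.S0651.adj3 V.ι).unit.app F

/-- a section is killed by the unit iff it vanishes on everything lying over `V` -/
theorem unitV_eq_zero_iff (T : X.Etale) (s : F.obj.obj (op T)) :
    (unitV F V).hom.app (op T) s = 0 ↔
      ∀ (N : X.Etale) (n : N ⟶ T), (∀ x : N.left, N.hom.base x ∈ V) → F.obj.map n.op s = 0 := by
  have h1 : (unitV F V).hom.app (op T) s =
      F.obj.map ((Groth.Agent.S0651.adj0 V.ι).counit.app T).op s := by
    have := adj3_unit_app V.ι F T
    exact congrArg (fun m => (ConcreteCategory.hom m) s) this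
  rw [h1]
  have hl := counit_left V.ι T
  haveI : IsOpenImmersion ((Groth.Agent.S0651.adj0 V.ι).counit.app T).left :=
    hl ▸ (inferInstance : IsOpenImmersion (pullback.fst T.hom V.ι))
  have hr : Set.range ((Groth.Agent.S0651.adj0 V.ι).counit.app T).left.base =
      T.hom.base ⁻¹' (V : Set X) := by
    have h2 : Set.range (pullback.fst T.hom V.ι).base = T.hom.base ⁻¹' (V : Set X) := by
      rw [Scheme.Pullback.range_fst, Scheme.Opens.range_ι]
    exact (congrArg (fun m => Set.range m.base) hl).trans h2
  constructor
  · intro hs N n hn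
    apply map_eq_zero_of_fac' F _ s hs n
    intro x
    rw [hr]
    have e : n.left ≫ T.hom = N.hom := MorphismProperty.Over.w n
    change (n.left ≫ T.hom).base x ∈ V
    rw [e]
    exact hn x
  · intro h
    apply h
    intro x
    have e : ((Groth.Agent.S0651.adj0 V.ι).counit.app T).left ≫ T.hom = _ :=
      MorphismProperty.Over.w ((Groth.Agent.S0651.adj0 V.ι).counit.app T)
    rw [← e]
    have : ((Groth.Agent.S0651.adj0 V.ι).counit.app T).left.base x ∈
        Set.range ((Groth.Agent.S0651.adj0 V.ι).counit.app T).left.base := ⟨x, rfl⟩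
    rw [hr] at this
    exact this

/-- the subsheaf of sections vanishing over `V` -/
noncomputable def sub : EtCoh.Ab X := kernel (unitV F V)

noncomputable def subι : sub F V ⟶ F := kernel.ι (unitV F V)

instance : Mono (subι F V) := inferInstanceAs (Mono (kernel.ι (unitV F V)))

theorem subι_injective (T : X.Etale) : Function.Injective ((subι F V).hom.app (op T)) :=
  injective_app_of_mono (subι F V) T

theorem subι_vanish (T : X.Etale) (t : (sub F V).obj.obj (op T)) (N : X.Etale) (n : N ⟶ T)
    (hn : ∀ x : N.left, N.hom.base x ∈ V) :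
    F.obj.map n.op ((subι F V).hom.app (op T) t) = 0 := by
  have h0 : (unitV F V).hom.app (op T) ((subι F V).hom.app (op T) t) = 0 := by
    have h := kernel.condition (unitV F V)
    exact congrArg (fun m => (ConcreteCategory.hom (m.hom.app (op T))) t) h
  exact (unitV_eq_zero_iff F V T _).1 h0 N n hn

theorem exists_sub (T : X.Etale) (s : F.obj.obj (op T))
    (hs : ∀ (N : X.Etale) (n : N ⟶ T), (∀ x : N.left, N.hom.base x ∈ V) → F.obj.map n.op s = 0) :
    ∃ t : (sub F V).obj.obj (op T), (subι F V).hom.app (op T) t = s := by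
  have h0 := (unitV_eq_zero_iff F V T s).2 hs
  let S : ShortComplex (EtCoh.Ab X) := ShortComplex.mk (subι F V) (unitV F V)
    (kernel.condition (unitV F V))
  have hS : S.Exact := ShortComplex.exact_kernel (unitV F V)
  haveI : Mono S.f := inferInstanceAs (Mono (subι F V))
  exact exists_app_eq_of_exact S hS T s h0

/-- sections of `sub F V` over objects lying over `V` vanish -/
theorem sub_eq_zero (T : X.Etale) (hT : ∀ x : T.left, T.hom.base x ∈ V)
    (t : (sub F V).obj.obj (op T)) : t = 0 := by
  apply subι_injective F V T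
  rw [map_zero]
  have := subι_vanish F V T t T (𝟙 T) hT
  rw [op_id, CategoryTheory.Functor.map_id] at this
  exact this

/-- transition maps -/
noncomputable def subMap {V V' : X.Opens} (h : V' ≤ V) : sub F V ⟶ sub F V' :=
  kernel.lift (unitV F V') (subι F V) (by
    apply Sheaf.hom_ext
    ext T t
    change (unitV F V').hom.app T ((subι F V).hom.app T t) = 0
    obtain ⟨T, rfl⟩ : ∃ T' : X.Etale, T = op T' := ⟨T.unop, rfl⟩
    rw [unitV_eq_zero_iff]
    intro N n hn
    exact subι_vanish F V T t N n (fun x => h (hn x)))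

@[reassoc (attr := simp)]
theorem subMap_ι {V V' : X.Opens} (h : V' ≤ V) : subMap F h ≫ subι F V' = subι F V :=
  kernel.lift_ι _ _ _

end Groth.Agent.H1.ClosedPtSupp
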