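import Groth.Agent.Lib.Helper1.FiltExtStep

/-!
# `Ext` and morphisms with `S`-torsion kernel and cokernel (helper1)

`TorsExt Z S T`: every class in `Ext^n(Z, T)` is killed by an element of the submonoid `S ⊆ ℤ`.
If `φ = p ≫ j` with `0 ⟶ N ⟶ F ⟶ I ⟶ 0` (`p`) and `0 ⟶ I ⟶ G ⟶ C ⟶ 0` (`j`) short exact and `N`, `C`
are `TorsExt`, then `Ext^n(Z, φ)` has `S`-torsion kernel and cokernel.
-/

set_option autoImplicit false
universe w v₁ u₁
open CategoryTheory CategoryTheory.Limits CategoryTheory.Abelian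

namespace Groth.Agent.H1.FiltExt

variable {𝒜 : Type u₁} [Category.{v₁} 𝒜] [Abelian 𝒜] [HasExt.{w} 𝒜] (Z : 𝒜)

/-- every `Ext` class is killed by an element of `S` -/
def TorsExt (S : Submonoid ℤ) (T : 𝒜) : Prop :=
  ∀ (n : ℕ) (x : Ext.{w} Z T n), ∃ s : ℤ, s ∈ S ∧ s • x = 0

lemma exists_push_f {S : ShortComplex 𝒜} (hS : S.ShortExact) (n : ℕ) (x : Ext.{w} Z S.X₂ n)
    (hx : push Z S.g n x = 0) : ∃ w, push Z S.f n w = x :=
  Ext.covariant_sequence_exact₂ Z hS x hx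

variable {Z}

theorem tors_ker {S : Submonoid ℤ} {N F I G C : 𝒜} (ι : N ⟶ F) (p : F ⟶ I) (j : I ⟶ G)
    (q : G ⟶ C) (w₁ : ι ≫ p = 0) (w₂ : j ≫ q = 0) (h₁ : (ShortComplex.mk ι p w₁).ShortExact)
    (h₂ : (ShortComplex.mk j q w₂).ShortExact) (hN : TorsExt Z S N) (hC : TorsExt Z S C)
    (n : ℕ) (x : Ext.{w} Z F n) (hx : push Z (p ≫ j) n x = 0) :
    ∃ s : ℤ, s ∈ S ∧ s • x = 0 := by
  rw [push_comp] at hx
  -- the class `v = p_* x` is killed by an element of `S`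
  have hv : ∃ s : ℤ, s ∈ S ∧ s • push Z p n x = 0 := by
    cases n with
    | zero =>
      haveI : Mono j := h₂.mono_f
      refine ⟨1, S.one_mem, ?_⟩
      rw [one_smul]
      apply Ext.postcomp_mk₀_injective_of_mono Z j
      rw [map_zero]
      exact hx
    | succ m =>
      obtain ⟨z, hz⟩ := exists_del Z h₂ m (push Z p (m + 1) x) hx
      obtain ⟨s, hs, hsz⟩ := hC m z
      refine ⟨s, hs, ?_⟩
      rw [← hz, ← map_zsmul, hsz, map_zero]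
  obtain ⟨s, hs, hsv⟩ := hv
  rw [← map_zsmul] at hsv
  obtain ⟨w, hw⟩ := exists_push_f Z h₁ n (s • x) hsv
  obtain ⟨s', hs', hsw⟩ := hN n w
  refine ⟨s' * s, S.mul_mem hs' hs, ?_⟩
  rw [mul_smul]
  have : push Z ι n w = s • x := hw
  rw [← this, ← map_zsmul, hsw, map_zero]

theorem tors_coker {S : Submonoid ℤ} {N F I G C : 𝒜} (ι : N ⟶ F) (p : F ⟶ I) (j : I ⟶ G)
    (q : G ⟶ C) (w₁ : ι ≫ p = 0) (w₂ : j ≫ q = 0) (h₁ : (ShortComplex.mk ι p w₁).ShortExact)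
    (h₂ : (ShortComplex.mk j q w₂).ShortExact) (hN : TorsExt Z S N) (hC : TorsExt Z S C)
    (n : ℕ) (y : Ext.{w} Z G n) :
    ∃ (s : ℤ) (x : Ext.{w} Z F n), s ∈ S ∧ s • y = push Z (p ≫ j) n x := by
  obtain ⟨s, hs, hsy⟩ := hC n (push Z q n y)
  rw [← map_zsmul] at hsy
  obtain ⟨v, hv⟩ := exists_push_f Z h₂ n (s • y) hsy
  obtain ⟨s', hs', hsv⟩ := hN (n + 1) (del Z h₁ n v)
  rw [← map_zsmul] at hsv
  obtain ⟨x, hx⟩ := exists_push_g Z h₁ n (s' • v) hsv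
  refine ⟨s' * s, x, S.mul_mem hs' hs, ?_⟩
  rw [push_comp]
  have hx' : push Z p n x = s' • v := hx
  have hv' : push Z j n v = s • y := hv
  rw [hx', map_zsmul, hv', mul_smul]

end Groth.Agent.H1.FiltExt
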