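import Groth.Agent.Lib.Helper1.EtMulSeq
import Groth.Agent.Lib.Helper1.ExtLocalize

/-!
# Locally `S`-torsion abelian étale sheaves (helper1)

`LocTors S T`: every section of `T` over an affine étale `X`-scheme is étale locally killed by an
element of `S ⊆ ℤ`.  On a qcqs scheme such a sheaf has `S`-torsion cohomology (`torsExt_of_locTors`).
`isIso_of_bijective_affine`: a morphism of sheaves bijective on sections over affines is an iso.
-/

set_option autoImplicit false
universe u
open CategoryTheory CategoryTheory.Limits AlgebraicGeometry Opposite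

namespace Groth.Agent.H1.EtFiltH

open Groth.Agent.H1.EtCartan Groth.Agent.H1.FiltExt CategoryTheory.Abelian

variable {X : Scheme.{u}}

/-- locally `S`-torsion sheaves -/
def LocTors (S : Submonoid ℤ) (T : EtCoh.Ab X) : Prop :=
  ∀ (U : X.Etale), IsAffine U.left → ∀ (t : T.obj.obj (op U)) (e : U.left),
    ∃ (V : X.Etale) (g : V ⟶ U), e ∈ Set.range g.left.base ∧
      ∃ s : ℤ, s ∈ S ∧ s • T.obj.map g.op t = 0

theorem torsExt_of_locTors [CompactSpace X] [QuasiSeparatedSpace X] (S : Submonoid ℤ)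
    (T : EtCoh.Ab X) (hT : LocTors S T) : TorsExt.{u + 1} (ZZ X) S T := by
  intro n x
  haveI : Nonempty S := ⟨⟨1, S.one_mem⟩⟩
  obtain ⟨f, hf⟩ := exists_surjective_nat S
  obtain ⟨a, had⟩ : ∃ a : ℕ → ℤ, a = fun m => ((f (Nat.unpair m).1 : S) : ℤ) := ⟨_, rfl⟩
  have ha : ∀ m, a m ∈ S := fun m => by
    rw [had]
    exact (f _).2
  obtain ⟨k, hk⟩ := exists_prod_smul_eq_zero T a (by
    intro U hU t e k
    obtain ⟨V, g, he, s, hs, hst⟩ := hT U hU t e
    obtain ⟨j, hj⟩ := hf ⟨s, hs⟩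
    refine ⟨V, g, Nat.pair j k + 1, he, (Nat.right_le_pair j k).trans (Nat.le_succ _), ?_⟩
    have hmem : Nat.pair j k ∈ Finset.Ico k (Nat.pair j k + 1) := by
      rw [Finset.mem_Ico]
      exact ⟨Nat.right_le_pair j k, Nat.lt_succ_self _⟩
    have hdvd : s ∣ ∏ i ∈ Finset.Ico k (Nat.pair j k + 1), a i := by
      have h1 : a (Nat.pair j k) = s := by
        rw [had]
        change ((f (Nat.unpair (Nat.pair j k)).1 : S) : ℤ) = s
        rw [Nat.unpair_pair, hj]
      rw [← h1]
      exact Finset.dvd_prod_of_mem a hmem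
    obtain ⟨q, hq⟩ := hdvd
    rw [hq, mul_comm, mul_smul, hst, smul_zero]) n x
  exact ⟨_, S.prod_mem (fun i _ => ha i), hk⟩

theorem restrict_affine (U : X.Etale) (e : U.left) :
    ∃ (W : X.Etale) (g : W ⟶ U), e ∈ Set.range g.left.base ∧ IsAffine W.left := by
  obtain ⟨_, ⟨W, hW, rfl⟩, heW, -⟩ := U.left.isBasis_affineOpens.exists_subset_of_mem_open
    (Set.mem_univ e) isOpen_univ
  obtain ⟨W', rfl⟩ : ∃ W' : U.left.Opens, W' = W := ⟨W, rfl⟩
  exact ⟨Groth.Agent.H1.EtGerm.restrictOpen U W', Groth.Agent.H1.EtGerm.restrictOpenι U W',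
    ⟨⟨e, heW⟩, rfl⟩, hW⟩

/-- a morphism of abelian étale sheaves which is bijective on sections over affines is an iso -/
theorem isIso_of_bijective_affine {G G' : EtCoh.Ab X} (ψ : G ⟶ G')
    (h : ∀ (U : X.Etale), IsAffine U.left → Function.Bijective (ψ.hom.app (op U))) :
    IsIso ψ := by
  have hinj : ∀ U : X.Etaleᵒᵖ, Function.Injective (ψ.hom.app U) := by
    intro U
    rw [injective_iff_map_eq_zero]
    intro t ht
    apply eq_zero_of_locally G U.unop t
    intro e
    obtain ⟨W, g, he, hW⟩ := restrict_affine U.unop e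
    refine ⟨W, g, he, ?_⟩
    apply (h W hW).1
    rw [map_zero, map_app_apply']
    change G'.obj.map g.op (ψ.hom.app U t) = 0
    rw [ht, map_zero]
  haveI : Mono ψ := by
    haveI : ∀ U, Mono (ψ.hom.app U) := fun U => (AddCommGrpCat.mono_iff_injective _).2 (hinj U)
    haveI : Mono ψ.hom := NatTrans.mono_of_mono_app _
    exact Sheaf.Hom.mono_of_presheaf_mono _ _ ψ
  haveI : Epi ψ := by
    rw [← Sheaf.isLocallySurjective_iff_epi']
    constructor
    intro U t
    apply Groth.Agent.H1.ClosedDense.mem_smallEtaleTopology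
    intro e
    obtain ⟨W, g, ⟨y, hy⟩, hW⟩ := restrict_affine U e
    obtain ⟨r, hr⟩ := (h W hW).2 (G'.obj.map g.op t)
    exact ⟨W, g, y, ⟨r, hr⟩, hy⟩
  exact isIso_of_mono_of_epi ψ

end Groth.Agent.H1.EtFiltH
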