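import Groth.Agent.Lib.Helper1.ClosedPtSuppA
import Groth.Agent.Lib.Helper1.EtLocTors
import Groth.Agent.S0102

/-!
# Sheaves supported on closed points as filtered colimits (helper1)
-/

set_option autoImplicit false
universe u
open CategoryTheory CategoryTheory.Limits AlgebraicGeometry Opposite

namespace Groth.Agent.H1.ClosedPtSupp

open Groth.Agent.H1.EtGerm Groth.Agent.H1.SuppSect Groth.Agent.S0687 Groth.Agent.H1.EtStalk
  Groth.Agent.H1.EtFiltH Groth.Agent.H1.EtCartan

variable {X : Scheme.{u}}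

theorem range_pt {P : Scheme.{u}} {Ω : Type u} [Field Ω] (ζ : Spec (.of Ω) ⟶ P) :
    Set.range ζ = {ζ default} := by
  ext y
  constructor
  · rintro ⟨a, rfl⟩
    rw [Subsingleton.elim a default]
    rfl
  · rintro rfl
    exact ⟨default, rfl⟩

/-- closed points -/
abbrev CP (X : Scheme.{u}) : Type u := {x : X // IsClosed ({x} : Set X)}

/-- the open complement of a finite set of closed points -/
def openOf (S : Finset (CP X)) : X.Opens :=
  ⟨⋂ x ∈ S, ({x.1} : Set X)ᶜ, isOpen_biInter_finset (fun x _ => x.2.isOpen_compl)⟩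

theorem mem_openOf (S : Finset (CP X)) (y : X) : y ∈ openOf S ↔ ∀ x ∈ S, y ≠ x.1 := by
  change y ∈ ⋂ x ∈ S, ({x.1} : Set X)ᶜ ↔ _
  simp

theorem openOf_anti {S S' : Finset (CP X)} (h : S ≤ S') : openOf S' ≤ openOf S := by
  intro y hy
  rw [mem_openOf] at hy ⊢
  exact fun x hx => hy x (h hx)

variable (F : EtCoh.Ab X)

/-- the diagram of subsheaves of sections supported on finite sets of closed points -/
noncomputable def D : Finset (CP X) ⥤ EtCoh.Ab X where
  obj S := sub F (openOf S)
  map f := subMap F (openOf_anti (leOfHom f))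
  map_id S := by
    rw [← cancel_mono (subι F (openOf S)), subMap_ι, Category.id_comp]
  map_comp f g := by
    rw [← cancel_mono (subι F (openOf _)), Category.assoc, subMap_ι, subMap_ι, subMap_ι]

noncomputable def coc : Cocone (D F) where
  pt := F
  ι := { app := fun S => subι F (openOf S)
         naturality := fun S S' f =>
           (subMap_ι F (openOf_anti (leOfHom f))).trans (Category.comp_id _).symm }

noncomputable def ρ : colimit (D F) ⟶ F := colimit.desc (D F) (coc F)

theorem ι_ρ (S : Finset (CP X)) : colimit.ι (D F) S ≫ ρ F = subι F (openOf S) :=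
  colimit.ι_desc _ _

/-- a point outside the vanishing locus of a section lies over the support -/
theorem mem_supp_of_not_mem (U : X.Etale) (s : F.obj.obj (op U)) (W : U.left.Opens)
    (hW : ∀ (V : X.Etale) (φ : V ⟶ U),
      F.obj.map φ.op s = 0 ↔ Set.range φ.left.base ⊆ (W : Set U.left))
    (ζ : U.left) (hζ : ζ ∉ W) : U.hom.base ζ ∈ EtPBC.supp F := by
  by_contra hns
  apply hζ
  have hz : IsZero ((EtCoh.stalk (geomPt U.left ζ ≫ U.hom)).obj F) := by
    by_contra hne
    apply hns
    refine ⟨_, _, _, geomPt U.left ζ ≫ U.hom, ?_, hne⟩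
    rw [range_pt]
    have : (geomPt U.left ζ ≫ U.hom).base default = U.hom.base ζ := by
      rw [Scheme.Hom.comp_base, TopCat.comp_app, geomPt_default]
    exact congrArg (fun a => ({a} : Set X)) this
  let y : Lift (geomPt U.left ζ ≫ U.hom) U := Lift.mk _ (geomPt U.left ζ) rfl
  have h0 : germ (geomPt U.left ζ ≫ U.hom) F U y s = 0 :=
    (AddCommGrpCat.subsingleton_of_isZero hz).elim _ _
  obtain ⟨V, g, y', hy', hg⟩ := (germ_eq_zero_iff F U y s).1 h0
  have h1 := (hW V g).1 hg
  apply h1
  refine ⟨y'.hom.base default, ?_⟩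
  have h2 : (Lift.map g y').hom = y.hom := congrArg Lift.hom hy'
  rw [Lift.map_hom] at h2
  have h3 : (y'.hom ≫ g.left).base default = ζ := by
    rw [h2]
    exact geomPt_default U.left ζ
  rw [Scheme.Hom.comp_base, TopCat.comp_app] at h3
  exact h3

variable [IsLocallyNoetherian X]

/-- every section over an affine object is supported over a finite set of closed points -/
theorem exists_finset (hF : ∀ x ∈ EtPBC.supp F, IsClosed ({x} : Set X)) (U : X.Etale)
    (hU : IsAffine U.left) (s : F.obj.obj (op U)) :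
    ∃ S : Finset (CP X), ∀ (N : X.Etale) (n : N ⟶ U),
      (∀ x : N.left, N.hom.base x ∈ openOf S) → F.obj.map n.op s = 0 := by
  classical
  obtain ⟨W, hW⟩ := Groth.Agent.S0102.result F U s
  haveI : AlgebraicGeometry.Etale U.hom := U.prop
  haveI : IsLocallyNoetherian ((Functor.fromPUnit X).obj U.right) := ‹IsLocallyNoetherian X›
  haveI : IsLocallyNoetherian U.left := LocallyOfFiniteType.isLocallyNoetherian U.hom
  haveI : IsNoetherian U.left := { }
  obtain ⟨T, hTfin, hTcl, hTirr, hTeq⟩ :=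
    TopologicalSpace.NoetherianSpace.exists_finite_set_isClosed_irreducible
      (W.isOpen.isClosed_compl)
  haveI : Finite T := hTfin.to_subtype
  have hgen : ∀ t : T, ∃ ζ : U.left, IsGenericPoint ζ t.1 :=
    fun t => QuasiSober.sober (hTirr t.1 t.2) (hTcl t.1 t.2)
  choose ζ hζ using hgen
  have hζW : ∀ t : T, ζ t ∉ W := by
    intro t
    have h1 : ζ t ∈ t.1 := (hζ t).mem
    have h2 : ζ t ∈ (W : Set U.left)ᶜ := by
      rw [hTeq]
      exact ⟨t.1, t.2, h1⟩
    exact h2
  have hcl : ∀ t : T, IsClosed ({U.hom.base (ζ t)} : Set X) :=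
    fun t => hF _ (mem_supp_of_not_mem F U s W hW (ζ t) (hζW t))
  let g : T → CP X := fun t => ⟨U.hom.base (ζ t), hcl t⟩
  refine ⟨(Set.finite_range g).toFinset, ?_⟩
  intro N n hn
  rw [hW N n]
  rintro _ ⟨x, rfl⟩
  by_contra hx
  have h2 : n.left.base x ∈ (W : Set U.left)ᶜ := hx
  rw [hTeq] at h2
  obtain ⟨t, htT, hxt⟩ := h2
  have h3 : ζ ⟨t, htT⟩ ⤳ n.left.base x := by
    rw [specializes_iff_mem_closure, (hζ ⟨t, htT⟩).def]
    exact hxt
  have h4 : U.hom.base (ζ ⟨t, htT⟩) ⤳ U.hom.base (n.left.base x) :=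
    h3.map U.hom.base.hom.continuous
  have h5 : U.hom.base (n.left.base x) = U.hom.base (ζ ⟨t, htT⟩) :=
    h4.mem_closed (hcl ⟨t, htT⟩) rfl
  have e : n.left ≫ U.hom = N.hom := MorphismProperty.Over.w n
  have h6 : N.hom.base x = U.hom.base (n.left.base x) := by
    rw [← e]
    rfl
  have h7 := (mem_openOf _ _).1 (hn x) (g ⟨t, htT⟩)
    ((Set.finite_range g).mem_toFinset.2 ⟨⟨t, htT⟩, rfl⟩)
  exact h7 (h6.trans h5)

variable [CompactSpace X]

theorem ρ_injective (U : X.Etale) (hU : IsAffine U.left) :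
    Function.Injective ((ρ F).hom.app (op U)) := by
  rw [injective_iff_map_eq_zero]
  intro t ht
  obtain ⟨S, tS, rfl⟩ := sec_rep (D F) (colimit.cocone (D F)) (colimit.isColimit (D F)) U
    (good_of_isAffine U hU) t
  have h1 : (subι F (openOf S)).hom.app (op U) tS = 0 := by
    have := congrArg (fun m => m.hom.app (op U) tS) (ι_ρ F S)
    exact this.symm.trans ht
  have h2 : tS = 0 := by
    apply subι_injective F (openOf S) U
    exact h1.trans (map_zero _).symm
  rw [h2]
  exact map_zero _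

theorem ρ_surjective (hF : ∀ x ∈ EtPBC.supp F, IsClosed ({x} : Set X)) (U : X.Etale)
    (hU : IsAffine U.left) : Function.Surjective ((ρ F).hom.app (op U)) := by
  intro s
  obtain ⟨S, hS⟩ := exists_finset F hF U hU s
  obtain ⟨t, ht⟩ := exists_sub F (openOf S) U s hS
  refine ⟨(colimit.ι (D F) S).hom.app (op U) t, ?_⟩
  have h1 := congrArg (fun m => m.hom.app (op U) t) (ι_ρ F S)
  exact h1.trans ht

theorem isIso_ρ (hF : ∀ x ∈ EtPBC.supp F, IsClosed ({x} : Set X)) : IsIso (ρ F) :=
  isIso_of_bijective_affine (ρ F) (fun U hU => ⟨ρ_injective F U hU, ρ_surjective F hF U hU⟩)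

end Groth.Agent.H1.ClosedPtSupp
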