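import Groth.Agent.S10233
import Groth.Agent.S10196
import Mathlib.AlgebraicGeometry.IdealSheaf.Functorial

/-!
# Closed subspaces of algebraic spaces from invariant ideal sheaves on an atlas (helper1)

* `exists_closedSub_of_comap_eq`: a closed subscheme `j : C ⟶ U` of an atlas whose ideal sheaf has the same
  pullback under `s` and `t` descends to a closed subspace.
* `comap_ker_eq`: the closed subscheme of the atlas cut out by a closed subspace is invariant.
* `exists_presentation`: every algebraic space has a presentation.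
-/

set_option autoImplicit false
universe u
open CategoryTheory CategoryTheory.Limits AlgebraicGeometry
open AlgSp

namespace Groth.Agent.H1.ClosedSub

variable {S : Scheme.{u}}

/-- Every algebraic space has a presentation. -/
theorem exists_presentation (X : AlgSp.Space S) :
    ∃ (U R : Over S) (s t : R ⟶ U) (p : (yon S).obj U ⟶ X.obj), IsPresentation s t p := by
  obtain ⟨U, p, hpe, hps⟩ := X.property.atlas
  obtain ⟨R, s, fst, sq0⟩ := X.property.representable_from_yon p p
  obtain ⟨t, rfl⟩ := (yon S).map_surjective fst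
  exact ⟨U, R, s, t, p, Groth.Agent.S10196.isEtaleEqvRel_of_isPullback p hpe s t sq0, hpe, hps, sq0⟩

/-- A closed subscheme of an atlas whose ideal sheaf is invariant descends to a closed subspace. -/
theorem exists_closedSub_of_comap_eq (X : AlgSp.Space S) {R U : Over S} (s t : R ⟶ U)
    (p : (yon S).obj U ⟶ X.obj) (hp : IsPresentation s t p) {C : Scheme.{u}} (j : C ⟶ U.left)
    [IsClosedImmersion j] (h : j.ker.comap s.left = j.ker.comap t.left) :
    ∃ (Z : AlgSp.Space S) (i : Z ⟶ X) (q : (yon S).obj (Over.mk (j ≫ U.hom)) ⟶ Z.obj),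
      RepWith @IsClosedImmersion i.hom ∧
      IsPullback q ((yon S).map (Over.homMk j rfl : Over.mk (j ≫ U.hom) ⟶ U)) i.hom p := by
  have hs : IsPullback (pullback.fst s.left j) (pullback.snd s.left j) s.left j :=
    IsPullback.of_hasPullback _ _
  have hk : (pullback.fst s.left j).ker = j.ker.comap s.left :=
    Scheme.IdealSheafData.ker_fst_of_isClosedImmersion j s.left
  have hle : j.ker ≤ (pullback.fst s.left j ≫ t.left).ker := by
    rw [Scheme.Hom.ker_comp, Scheme.IdealSheafData.le_map_iff_comap_le, hk, h]
  have ht : IsPullback (pullback.fst s.left j)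
      (IsClosedImmersion.lift j (pullback.fst s.left j ≫ t.left) hle) t.left j :=
    isPullback_of_isClosedImmersion _ _ _ _ (IsClosedImmersion.lift_fac _ _ _).symm (by rw [hk, h])
  obtain ⟨Z, i, q, -, sq, hcl, -⟩ := Groth.Agent.S10233.main X s t p hp j _ _ _ hs ht
  exact ⟨Z, i, q, hcl inferInstance, sq⟩

/-- If `a : W ⟶ C` lies over `g ≫ s`, where `C` is the preimage in `U` of a subsheaf `Z'` of `X`, then some `a'` lies
over `g ≫ t`. -/
theorem factor_swap {X Z' : Sp S} {R U C : Over S} {s t : R ⟶ U} {p : (yon S).obj U ⟶ X}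
    (hst : (yon S).map t ≫ p = (yon S).map s ≫ p) (i' : Z' ⟶ X) (c : C ⟶ U)
    (fst : (yon S).obj C ⟶ Z') (sq : IsPullback fst ((yon S).map c) i' p)
    {W : Over S} (g : W ⟶ R) (a : W ⟶ C) (ha : a ≫ c = g ≫ s) : ∃ a' : W ⟶ C, a' ≫ c = g ≫ t := by
  obtain ⟨l, -, hl2⟩ := sq.exists_lift ((yon S).map a ≫ fst) ((yon S).map (g ≫ t)) (by
    rw [Category.assoc, sq.w, ← Category.assoc, ← Functor.map_comp, ha, Functor.map_comp,
      Functor.map_comp, Category.assoc, Category.assoc, hst])
  obtain ⟨a', rfl⟩ := (yon S).map_surjective l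
  exact ⟨a', (yon S).map_injective (by rw [Functor.map_comp, hl2])⟩

theorem comap_ker_le {X Z' : Sp S} {R U C : Over S} {s t : R ⟶ U} {p : (yon S).obj U ⟶ X}
    (hst : (yon S).map t ≫ p = (yon S).map s ≫ p) (i' : Z' ⟶ X) (c : C ⟶ U)
    (fst : (yon S).obj C ⟶ Z') (sq : IsPullback fst ((yon S).map c) i' p) [IsClosedImmersion c.left] :
    c.left.ker.comap t.left ≤ c.left.ker.comap s.left := by
  rw [← Scheme.IdealSheafData.ker_fst_of_isClosedImmersion c.left t.left,
    ← Scheme.IdealSheafData.ker_fst_of_isClosedImmersion c.left s.left]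
  let W : Over S := Over.mk (pullback.fst s.left c.left ≫ R.hom)
  let g : W ⟶ R := Over.homMk (pullback.fst s.left c.left) rfl
  have hcond : pullback.snd s.left c.left ≫ c.left = pullback.fst s.left c.left ≫ s.left :=
    pullback.condition.symm
  let a : W ⟶ C := Over.homMk (pullback.snd s.left c.left) (by
    show pullback.snd s.left c.left ≫ C.hom = pullback.fst s.left c.left ≫ R.hom
    rw [← Over.w c, ← Category.assoc, hcond, Category.assoc, Over.w s])
  have ha : a ≫ c = g ≫ s := by
    apply Over.OverMorphism.ext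
    exact hcond
  obtain ⟨a', ha'⟩ := factor_swap hst i' c fst sq g a ha
  have ha'l : a'.left ≫ c.left = pullback.fst s.left c.left ≫ t.left := by
    have := congrArg (fun m => m.left) ha'
    exact this
  have hfac : pullback.lift (pullback.fst s.left c.left) a'.left ha'l.symm ≫ pullback.fst t.left c.left =
      pullback.fst s.left c.left := pullback.lift_fst _ _ _
  rw [← hfac]
  exact Scheme.Hom.le_ker_comp _ _

/-- The closed subscheme of an atlas cut out by a closed subspace has an invariant ideal sheaf. -/
theorem comap_ker_eq {X Z' : Sp S} {R U C : Over S} {s t : R ⟶ U} {p : (yon S).obj U ⟶ X}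
    (hst : (yon S).map t ≫ p = (yon S).map s ≫ p) (i' : Z' ⟶ X) (c : C ⟶ U)
    (fst : (yon S).obj C ⟶ Z') (sq : IsPullback fst ((yon S).map c) i' p) [IsClosedImmersion c.left] :
    c.left.ker.comap s.left = c.left.ker.comap t.left :=
  le_antisymm (comap_ker_le hst.symm i' c fst sq) (comap_ker_le hst i' c fst sq)

end Groth.Agent.H1.ClosedSub
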