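import Groth.Agent.Lib.Helper1.ClosedSub
import Mathlib.AlgebraicGeometry.Morphisms.SchemeTheoreticallyDominant

/-!
# Invariance of scheme theoretic images on an atlas (helper1)

* `ker_fst_of_flat`: the kernel of a quasi-compact morphism commutes with flat base change.
* `exists_fac_pullback`: the two preimages in `R` of the preimage in `U` of a subsheaf of `X` factor through each other.
* `comap_ker_eq_of_quasiCompact`: the scheme theoretic image in `U` of the preimage of a subsheaf, quasi-compact over `U`,
  has an invariant ideal sheaf.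
-/

set_option autoImplicit false
universe u
open CategoryTheory CategoryTheory.Limits AlgebraicGeometry
open AlgSp

namespace Groth.Agent.H1.ClosedSub

variable {S : Scheme.{u}}

/-- The morphism to the scheme theoretic image of a quasi-compact morphism is scheme theoretically dominant. -/
theorem isSchemeTheoreticallyDominant_toImage {X Y : Scheme.{u}} (f : X ⟶ Y) [QuasiCompact f] :
    IsSchemeTheoreticallyDominant f.toImage := by
  rw [isSchemeTheoreticallyDominant_iff]
  refine Scheme.IdealSheafData.ext_of_iSup_eq_top
    (fun U : Y.affineOpens => ⟨f.imageι ⁻¹ᵁ U.1, U.2.preimage f.imageι⟩)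
    (Scheme.Hom.iSup_preimage_eq_top _ (iSup_affineOpens_eq_top Y)) ?_
  intro U
  rw [Scheme.Hom.ker_apply, Scheme.IdealSheafData.ideal_bot]
  exact (RingHom.injective_iff_ker_eq_bot _).1 (f.toImage_app_injective U)

/-- The kernel of a quasi-compact morphism commutes with flat base change. -/
theorem ker_fst_of_flat {A B B' : Scheme.{u}} (g : B' ⟶ B) (f : A ⟶ B) [QuasiCompact f] [Flat g] :
    (pullback.fst g f).ker = f.ker.comap g := by
  have hfac : f.toImage ≫ f.imageι = f := f.toImage_imageι
  have hflat : Flat (pullback.snd g f.imageι) := inferInstance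
  have hdom0 : IsSchemeTheoreticallyDominant f.toImage := isSchemeTheoreticallyDominant_toImage f
  have hdom : IsSchemeTheoreticallyDominant (pullback.fst (pullback.snd g f.imageι) f.toImage) :=
    inferInstance
  have h1 : IsPullback (pullback.fst (pullback.snd g f.imageι) f.toImage ≫ pullback.fst g f.imageι)
      (pullback.snd (pullback.snd g f.imageι) f.toImage) g (f.toImage ≫ f.imageι) :=
    ((IsPullback.of_hasPullback (pullback.snd g f.imageι) f.toImage).flip.paste_vert
      (IsPullback.of_hasPullback g f.imageι).flip).flip
  rw [hfac] at h1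
  have h2 : (h1.isoIsPullback _ _ (IsPullback.of_hasPullback g f)).hom ≫ pullback.fst g f =
      pullback.fst (pullback.snd g f.imageι) f.toImage ≫ pullback.fst g f.imageι :=
    IsPullback.isoIsPullback_hom_fst _ _ _ _
  rw [← Scheme.Hom.ker_comp_of_isIso (h1.isoIsPullback _ _ (IsPullback.of_hasPullback g f)).hom, h2,
    Scheme.Hom.ker_comp, hdom.ker_eq_bot, Scheme.IdealSheafData.map_bot,
    Scheme.IdealSheafData.ker_fst_of_isClosedImmersion, Scheme.IdealSheafData.ker_subschemeι]

/-- The preimage under `s` of the preimage in `U` of a subsheaf of `X` factors through the preimage under `t`. -/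
theorem exists_fac_pullback {X Z' : Sp S} {R U C : Over S} {s t : R ⟶ U} {p : (yon S).obj U ⟶ X}
    (hst : (yon S).map t ≫ p = (yon S).map s ≫ p) (i' : Z' ⟶ X) (c : C ⟶ U)
    (fst : (yon S).obj C ⟶ Z') (sq : IsPullback fst ((yon S).map c) i' p) :
    ∃ m : pullback s.left c.left ⟶ pullback t.left c.left,
      m ≫ pullback.fst t.left c.left = pullback.fst s.left c.left := by
  let W : Over S := Over.mk (pullback.fst s.left c.left ≫ R.hom)
  let g : W ⟶ R := Over.homMk (pullback.fst s.left c.left) rfl
  have hcond : pullback.snd s.left c.left ≫ c.left = pullback.fst s.left c.left ≫ s.left :=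
    pullback.condition.symm
  let a : W ⟶ C := Over.homMk (pullback.snd s.left c.left) (by
    show pullback.snd s.left c.left ≫ C.hom = pullback.fst s.left c.left ≫ R.hom
    rw [← Over.w c, ← Category.assoc, hcond, Category.assoc, Over.w s])
  have ha : a ≫ c = g ≫ s := by
    apply Over.OverMorphism.ext
    exact hcond
  obtain ⟨a', ha'⟩ := factor_swap hst i' c fst sq g a ha
  have ha'l : a'.left ≫ c.left = pullback.fst s.left c.left ≫ t.left := by
    have := congrArg (fun m => m.left) ha'
    exact this
  exact ⟨pullback.lift (pullback.fst s.left c.left) a'.left ha'l.symm, pullback.lift_fst _ _ _⟩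

/-- The preimage in `U` of a subsheaf of `X`, when quasi-compact over `U` and a monomorphism, has a scheme theoretic image
with invariant ideal sheaf. -/
theorem comap_ker_eq_of_quasiCompact {X Z' : Sp S} {R U C : Over S} {s t : R ⟶ U}
    {p : (yon S).obj U ⟶ X} (hst : (yon S).map t ≫ p = (yon S).map s ≫ p) (i' : Z' ⟶ X) (c : C ⟶ U)
    (fst : (yon S).obj C ⟶ Z') (sq : IsPullback fst ((yon S).map c) i' p) [QuasiCompact c.left]
    [Mono c.left] [Flat s.left] [Flat t.left] :
    c.left.ker.comap s.left = c.left.ker.comap t.left := by
  rw [← ker_fst_of_flat s.left c.left, ← ker_fst_of_flat t.left c.left]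
  obtain ⟨m, hm⟩ := exists_fac_pullback hst i' c fst sq
  obtain ⟨m', hm'⟩ := exists_fac_pullback hst.symm i' c fst sq
  have hiso : IsIso m := ⟨m', by
    rw [← cancel_mono (pullback.fst s.left c.left), Category.assoc, hm', hm, Category.id_comp], by
    rw [← cancel_mono (pullback.fst t.left c.left), Category.assoc, hm, hm', Category.id_comp]⟩
  rw [← hm, Scheme.Hom.ker_comp_of_isIso]

end Groth.Agent.H1.ClosedSub
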