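import Groth.Prelude.Def_AlgSpCov
import Groth.Agent.Lib.Helper22.FlatSrc

/-!
`AlgSp.LocP @Flat` is stable under composition when the middle sheaf is an algebraic space.
-/

set_option autoImplicit false
universe u
open CategoryTheory CategoryTheory.Limits AlgebraicGeometry
open AlgSp

namespace Groth.Agent.H1.LocPFlatComp

variable {S : Scheme.{u}}

theorem locP_flat_comp {F G H : Sp S} (hG : IsAlgSpace G) (f : F ⟶ G) (g : G ⟶ H)
    (hf : LocP @Flat f) (hg : LocP @Flat g) : LocP @Flat (f ≫ g) := by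
  intro U W a c h ha hc hsq
  obtain ⟨V, b, hb_et, hb_surj⟩ := hG.atlas
  -- `U' = U ×_G V`
  obtain ⟨U', snd, fst, sq⟩ := hb_et.1 (a ≫ f)
  have hsnd_et : Etale snd.left := hb_et.2 _ _ _ sq
  have hsnd_surj : Surjective snd.left := hb_surj.2 _ _ _ sq
  obtain ⟨p, rfl⟩ := (yon S).map_surjective fst
  -- `V' = V ×_H W`
  obtain ⟨V', s, t', sq2⟩ := hc.1 (b ≫ g)
  have hs_et : Etale s.left := hc.2 _ _ _ sq2
  obtain ⟨t, rfl⟩ := (yon S).map_surjective t'
  -- the map `U' ⟶ V'`
  have hw : (yon S).map (snd ≫ h) ≫ c = (yon S).map p ≫ b ≫ g := by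
    rw [Functor.map_comp, Category.assoc, ← hsq, ← Category.assoc ((yon S).map p), sq.w]
    simp only [Category.assoc]
  obtain ⟨q, hq⟩ := (yon S).map_surjective (sq2.lift _ _ hw)
  have hq1 : (yon S).map q ≫ (yon S).map t = (yon S).map (snd ≫ h) := by
    rw [hq]; exact sq2.lift_fst _ _ hw
  have hq2 : (yon S).map q ≫ (yon S).map s = (yon S).map p := by
    rw [hq]; exact sq2.lift_snd _ _ hw
  -- charts
  have ha' : RepWith @Etale ((yon S).map snd ≫ a) :=
    (RepWith (S := S) @Etale).comp_mem _ _ ((repWith_yon_map_iff @Etale snd).2 hsnd_et) ha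
  have hb' : RepWith @Etale ((yon S).map s ≫ b) :=
    (RepWith (S := S) @Etale).comp_mem _ _ ((repWith_yon_map_iff @Etale s).2 hs_et) hb_et
  have hflat_q : Flat q.left := by
    refine hf ((yon S).map snd ≫ a) ((yon S).map s ≫ b) q ha' hb' ?_
    rw [← Category.assoc ((yon S).map q), hq2, Category.assoc, sq.w]
  have hflat_t : Flat t.left := by
    refine hg ((yon S).map s ≫ b) c t hb' hc ?_
    rw [Category.assoc]; exact sq2.w.symm
  have hqt : q ≫ t = snd ≫ h := by
    apply (yon S).map_injective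
    rw [Functor.map_comp, hq1]
  have hcomp : Flat (snd.left ≫ h.left) := by
    have : snd.left ≫ h.left = q.left ≫ t.left := by
      rw [← Over.comp_left, ← Over.comp_left, hqt]
    rw [this]; infer_instance
  exact Groth.Agent.Lib.helper22.flat_of_flat_comp snd.left h.left

end Groth.Agent.H1.LocPFlatComp
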