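import Groth.Prelude.Def_AlgSpCov
import Groth.Agent.Lib.Helper1.LocPFlatComp
import Groth.Agent.Lib.Helper5.AlgSpFibreProduct
import Groth.Agent.S10265

/-!
`AlgSp.LocP @Flat` is stable under base change between algebraic spaces (helper1).
-/

set_option autoImplicit false
universe u
open CategoryTheory CategoryTheory.Limits AlgebraicGeometry
open AlgSp

namespace Groth.Agent.H1.LocPFlatBC

variable {S : Scheme.{u}}

/-- Flatness cancels on the right against etale morphisms. -/
theorem flat_of_comp_etale {A B C : Scheme.{u}} (k : A ⟶ B) (b : B ⟶ C) [Etale b]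
    [Flat (k ≫ b)] : Flat k := by
  have : MorphismProperty.HasOfPostcompProperty @Flat @Etale := by
    rw [MorphismProperty.hasOfPostcompProperty_iff_le_diagonal]
    intro X Y f hf
    have : Etale f := hf
    have : Etale (pullback.diagonal f) := inferInstance
    exact inferInstanceAs <| Flat (pullback.diagonal f)
  exact MorphismProperty.of_postcomp (W := @Flat) (W' := @Etale) k b ‹_› ‹_›

/-- A flat morphism of schemes over `S` is flat on all etale charts. -/
theorem locP_flat_yon_map {U V : Over S} (h : U ⟶ V) [Flat h.left] :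
    LocP @Flat ((yon S).map h) := by
  intro A B a b k ha hb hsq
  obtain ⟨a0, rfl⟩ := (yon S).map_surjective a
  obtain ⟨b0, rfl⟩ := (yon S).map_surjective b
  have ha0 : Etale a0.left := (repWith_yon_map_iff @Etale a0).1 ha
  have hb0 : Etale b0.left := (repWith_yon_map_iff @Etale b0).1 hb
  have e : a0 ≫ h = k ≫ b0 := by
    apply (yon S).map_injective
    rw [Functor.map_comp, Functor.map_comp, hsq]
  have e' : k.left ≫ b0.left = a0.left ≫ h.left := by
    rw [← Over.comp_left, ← Over.comp_left, e]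
  have : Flat (k.left ≫ b0.left) := by rw [e']; infer_instance
  exact flat_of_comp_etale k.left b0.left

/-- A representable etale morphism of sheaves is flat on all etale charts. -/
theorem locP_flat_of_repWith_etale {F G : Sp S} (b : F ⟶ G) (hb : RepWith @Etale b) :
    LocP @Flat b := by
  have h1 : IsEtaleMor b := fun U φ hφ => (RepWith (S := S) @Etale).comp_mem _ _ hφ hb
  refine Groth.Agent.S10265.locP_mono ?_ (Groth.Agent.S10265.locP_etale_of_isEtaleMor b h1)
  intro X Y f hf
  have : Etale f := hf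
  exact inferInstanceAs (Flat f)

/-- The chart construction for base change: for `f : F ⟶ G` flat on etale charts and a pullback square
`F' = F ×_G G'` of algebraic spaces there are a flat morphism of schemes `π : U₃ ⟶ V₂`, a representable
etale `β : h_{V₂} ⟶ G'` and a representable etale surjective `c : h_{U₃} ⟶ F'` over it. -/
theorem exists_flat_chart {F G G' F' : Sp S} (hF : IsAlgSpace F) (hG : IsAlgSpace G)
    (hG' : IsAlgSpace G') {f : F ⟶ G} {g : G' ⟶ G} {fst : F' ⟶ F} {snd : F' ⟶ G'}
    (sq : IsPullback fst snd f g) (hf : LocP @Flat f) :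
    ∃ (U3 V2 : Over S) (π : U3 ⟶ V2) (β : (yon S).obj V2 ⟶ G') (c : (yon S).obj U3 ⟶ F'),
      Flat π.left ∧ RepWith @Etale β ∧ RepWith @Etale c ∧ RepWith @Surjective c ∧
      c ≫ snd = (yon S).map π ≫ β := by
  obtain ⟨V, p, hpe, hps⟩ := hG.atlas
  -- `F_V = F ×_G V`
  have sqF : IsPullback (pullback.fst f p) (pullback.snd f p) f p := IsPullback.of_hasPullback _ _
  have hFV : IsAlgSpace (pullback f p) :=
    Groth.Agent.Lib.helper5.isAlgSpace_of_isPullback hG.diag hF (IsAlgSpace.yon_obj V) sqF
  obtain ⟨U, q, hqe, hqs⟩ := hFV.atlas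
  obtain ⟨h, hh⟩ := (yon S).map_surjective (q ≫ pullback.snd f p)
  have hfe : RepWith @Etale (pullback.fst f p) :=
    (RepWith (S := S) @Etale).of_isPullback sqF.flip hpe
  have hflat : Flat h.left := by
    refine hf (q ≫ pullback.fst f p) p h ((RepWith (S := S) @Etale).comp_mem _ _ hqe hfe) hpe ?_
    rw [Category.assoc, sqF.w, hh, Category.assoc]
  -- `G'_V = G' ×_G V`
  have sqG : IsPullback (pullback.fst g p) (pullback.snd g p) g p := IsPullback.of_hasPullback _ _
  have hGV : IsAlgSpace (pullback g p) :=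
    Groth.Agent.Lib.helper5.isAlgSpace_of_isPullback hG.diag hG' (IsAlgSpace.yon_obj V) sqG
  obtain ⟨V2, β0, hβ0e, hβ0s⟩ := hGV.atlas
  obtain ⟨s2, hs2⟩ := (yon S).map_surjective (β0 ≫ pullback.snd g p)
  have hge : RepWith @Etale (pullback.fst g p) :=
    (RepWith (S := S) @Etale).of_isPullback sqG.flip hpe
  have hgs : RepWith @Surjective (pullback.fst g p) :=
    (RepWith (S := S) @Surjective).of_isPullback sqG.flip hps
  have hβe : RepWith @Etale (β0 ≫ pullback.fst g p) :=
    (RepWith (S := S) @Etale).comp_mem _ _ hβ0e hge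
  have hβs : RepWith @Surjective (β0 ≫ pullback.fst g p) :=
    (RepWith (S := S) @Surjective).comp_mem _ _ hβ0s hgs
  have hβg : (β0 ≫ pullback.fst g p) ≫ g = (yon S).map s2 ≫ p := by
    rw [Category.assoc, sqG.w, hs2, Category.assoc]
  -- `E₁ = F' ×_{G'} V₂`
  have sqE1 : IsPullback (pullback.fst snd (β0 ≫ pullback.fst g p))
      (pullback.snd snd (β0 ≫ pullback.fst g p)) snd (β0 ≫ pullback.fst g p) :=
    IsPullback.of_hasPullback _ _
  have he1e : RepWith @Etale (pullback.fst snd (β0 ≫ pullback.fst g p)) :=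
    (RepWith (S := S) @Etale).of_isPullback sqE1.flip hβe
  have he1s : RepWith @Surjective (pullback.fst snd (β0 ≫ pullback.fst g p)) :=
    (RepWith (S := S) @Surjective).of_isPullback sqE1.flip hβs
  have big1 := sqE1.paste_horiz sq
  rw [hβg] at big1
  have hl1 : (pullback.fst snd (β0 ≫ pullback.fst g p) ≫ fst) ≫ f =
      (pullback.snd snd (β0 ≫ pullback.fst g p) ≫ (yon S).map s2) ≫ p := by
    rw [big1.w, Category.assoc]
  have sqE1' : IsPullback (sqF.lift _ _ hl1) (pullback.snd snd (β0 ≫ pullback.fst g p))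
      (pullback.snd f p) ((yon S).map s2) := by
    refine IsPullback.of_right ?_ (sqF.lift_snd _ _ _) sqF
    rw [sqF.lift_fst]
    exact big1
  -- `U₃ = U ×_V V₂`
  have sqU0 := IsPullback.of_hasPullback h s2
  have sqU := sqU0.map (yon S)
  have hπ : Flat (pullback.snd h s2).left := by
    have := sqU0.map (Over.forget S)
    exact MorphismProperty.of_isPullback (P := @Flat) this hflat
  have hc1 : ((yon S).map (pullback.fst h s2) ≫ q) ≫ pullback.snd f p =
      (yon S).map (pullback.snd h s2) ≫ (yon S).map s2 := by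
    rw [Category.assoc, ← hh]
    exact sqU.w
  have sqC1 : IsPullback ((yon S).map (pullback.fst h s2)) (sqE1'.lift _ _ hc1) q
      (sqF.lift _ _ hl1) := by
    refine IsPullback.of_bot ?_ (sqE1'.lift_fst _ _ _).symm sqE1'
    rw [sqE1'.lift_snd, ← hh]
    exact sqU
  have hc1e : RepWith @Etale (sqE1'.lift _ _ hc1) :=
    (RepWith (S := S) @Etale).of_isPullback sqC1 hqe
  have hc1s : RepWith @Surjective (sqE1'.lift _ _ hc1) :=
    (RepWith (S := S) @Surjective).of_isPullback sqC1 hqs
  refine ⟨_, V2, pullback.snd h s2, β0 ≫ pullback.fst g p,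
    sqE1'.lift _ _ hc1 ≫ pullback.fst snd (β0 ≫ pullback.fst g p), hπ, hβe,
    (RepWith (S := S) @Etale).comp_mem _ _ hc1e he1e,
    (RepWith (S := S) @Surjective).comp_mem _ _ hc1s he1s, ?_⟩
  rw [Category.assoc, sqE1.w, ← Category.assoc, sqE1'.lift_snd]

/-- `LocP @Flat` is stable under base change between algebraic spaces. -/
theorem locP_flat_of_isPullback {F G G' F' : Sp S} (hF : IsAlgSpace F) (hG : IsAlgSpace G)
    (hG' : IsAlgSpace G') {f : F ⟶ G} {g : G' ⟶ G} {fst : F' ⟶ F} {snd : F' ⟶ G'}
    (sq : IsPullback fst snd f g) (hf : LocP @Flat f) : LocP @Flat snd := by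
  obtain ⟨U3, V2, π, β, c, hπ, hβe, hce, hcs, hc⟩ := exists_flat_chart hF hG hG' sq hf
  have hloc : LocP @Flat (c ≫ snd) := by
    rw [hc]
    exact Groth.Agent.H1.LocPFlatComp.locP_flat_comp (IsAlgSpace.yon_obj V2) _ _
      (locP_flat_yon_map π) (locP_flat_of_repWith_etale β hβe)
  intro U' V' a' b' h' ha' hb' hsq
  obtain ⟨U2, r, s', sqT⟩ := hce.1 a'
  have hr_et : Etale r.left := hce.2 _ _ _ sqT
  have hr_surj : Surjective r.left := hcs.2 _ _ _ sqT
  obtain ⟨s, rfl⟩ := (yon S).map_surjective s'
  have hs_et : Etale s.left := ha'.2 _ _ _ sqT.flip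
  have hfl : Flat (r ≫ h').left := by
    refine hloc ((yon S).map s) b' (r ≫ h') ((repWith_yon_map_iff @Etale s).2 hs_et) hb' ?_
    rw [← Category.assoc, sqT.w, Category.assoc, hsq, Functor.map_comp, Category.assoc]
  have : Flat (r.left ≫ h'.left) := by rwa [← Over.comp_left]
  exact Groth.Agent.Lib.helper22.flat_of_flat_comp r.left h'.left

end Groth.Agent.H1.LocPFlatBC
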