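import Groth.Prelude.Def_AlgSpCov
import Groth.Agent.Lib.Helper11.AlgSpBasic
import Groth.Agent.Lib.Helper5.AlgSpFibreProduct

/-!
Stability of `AlgSp.LocP P` under composition, cancellation and base change, for properties `P` of morphisms of
schemes which descend along etale surjections on the source (helper1).

Hypotheses are given explicitly:
* `hESD : Etale f → Surjective f → P (f ≫ g) → P g` (etale descent on the source),
* `hpre : Etale f → P g → P (f ≫ g)`, `hpost : P f → Etale g → P (f ≫ g)`.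
-/

set_option autoImplicit false
universe u
open CategoryTheory CategoryTheory.Limits AlgebraicGeometry
open AlgSp

namespace Groth.Agent.H1.LocPStable

variable {S : Scheme.{u}}

/-- A morphism between two schemes etale over a sheaf `F` is etale. -/
theorem etale_of_charts {F : Sp S} {A B : Over S} (α : (yon S).obj A ⟶ F) (β : (yon S).obj B ⟶ F)
    (hα : RepWith @Etale α) (hβ : RepWith @Etale β) (m : A ⟶ B) (hm : (yon S).map m ≫ β = α) :
    Etale m.left := by
  obtain ⟨E, e, j', sq⟩ := hβ.1 α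
  obtain ⟨j, rfl⟩ := (yon S).map_surjective j'
  have he : Etale e.left := hβ.2 _ _ _ sq
  have hj : Etale j.left := hα.2 _ _ _ sq.flip
  obtain ⟨σ', hσ1, hσ2⟩ := sq.exists_lift ((yon S).map m) (𝟙 _) (by rw [hm, Category.id_comp])
  obtain ⟨σ, rfl⟩ := (yon S).map_surjective σ'
  have h1 : σ ≫ j = m := (yon S).map_injective (by rw [Functor.map_comp]; exact hσ1)
  have h2 : σ ≫ e = 𝟙 _ := (yon S).map_injective (by
    rw [Functor.map_comp, hσ2]; exact ((yon S).map_id A).symm)
  have hσ : Etale σ.left := by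
    apply MorphismProperty.of_postcomp (W := @Etale) (W' := @Etale) σ.left e.left he
    rw [← Over.comp_left, h2]
    exact MorphismProperty.id_mem _ _
  rw [← h1, Over.comp_left]
  infer_instance

/-- Composition. -/
theorem locP_comp {P : MorphismProperty Scheme.{u}} [P.IsStableUnderComposition]
    (hESD : ∀ {X' X Y : Scheme.{u}} (f : X' ⟶ X) (g : X ⟶ Y), Etale f → Surjective f →
      P (f ≫ g) → P g)
    {F G H : Sp S} (hG : IsAlgSpace G) (f : F ⟶ G) (g : G ⟶ H)
    (hf : LocP P f) (hg : LocP P g) : LocP P (f ≫ g) := by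
  intro U W a c k ha hc hsq
  obtain ⟨V, p, hpe, hps⟩ := hG.atlas
  -- V' = V ×_H W
  obtain ⟨V', r, c'', sqV⟩ := hc.1 (p ≫ g)
  obtain ⟨c', rfl⟩ := (yon S).map_surjective c''
  have hr : Etale r.left := hc.2 _ _ _ sqV
  have hPc' : P c'.left := by
    refine hg ((yon S).map r ≫ p) c c'
      ((RepWith (S := S) @Etale).comp_mem _ _ ((repWith_yon_map_iff @Etale r).2 hr) hpe) hc ?_
    rw [Category.assoc, sqV.w]
  -- U1 = U ×_G V
  obtain ⟨U1, s, t'', sqU⟩ := hpe.1 (a ≫ f)
  obtain ⟨t, rfl⟩ := (yon S).map_surjective t''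
  have hs : Etale s.left := hpe.2 _ _ _ sqU
  have hss : Surjective s.left := hps.2 _ _ _ sqU
  -- l : U1 ⟶ V'
  obtain ⟨l', hl1, hl2⟩ := sqV.exists_lift ((yon S).map (s ≫ k)) ((yon S).map t) (by
    have := sqU.w
    rw [Functor.map_comp, Category.assoc, ← hsq, reassoc_of% this])
  obtain ⟨l, rfl⟩ := (yon S).map_surjective l'
  have hPl : P l.left := by
    refine hf ((yon S).map s ≫ a) ((yon S).map r ≫ p) l
      ((RepWith (S := S) @Etale).comp_mem _ _ ((repWith_yon_map_iff @Etale s).2 hs) ha)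
      ((RepWith (S := S) @Etale).comp_mem _ _ ((repWith_yon_map_iff @Etale r).2 hr) hpe) ?_
    rw [Category.assoc, ← sqU.w, ← Category.assoc, hl2]
  have h1 : l ≫ c' = s ≫ k := (yon S).map_injective (by rw [Functor.map_comp]; exact hl1)
  have hcomp : P (s.left ≫ k.left) := by
    rw [← Over.comp_left, ← h1, Over.comp_left]
    exact P.comp_mem _ _ hPl hPc'
  exact hESD s.left k.left hs hss hcomp

/-- Cancellation: if `f ≫ g` has `P` locally then so does `f`, when `P` has the corresponding property for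
schemes. -/
theorem locP_of_comp {P : MorphismProperty Scheme.{u}}
    (hESD : ∀ {X' X Y : Scheme.{u}} (f : X' ⟶ X) (g : X ⟶ Y), Etale f → Surjective f →
      P (f ≫ g) → P g)
    (hpost : ∀ {X Y Z : Scheme.{u}} (f : X ⟶ Y) (g : Y ⟶ Z), P f → Etale g → P (f ≫ g))
    (hcancel : ∀ {X Y Z : Scheme.{u}} (f : X ⟶ Y) (g : Y ⟶ Z), P (f ≫ g) → P f)
    {F G H : Sp S} (hH : IsAlgSpace H) (f : F ⟶ G) (g : G ⟶ H)
    (hfg : LocP P (f ≫ g)) : LocP P f := by
  intro U V a b h ha hb hsq
  obtain ⟨W, c, hce, hcs⟩ := hH.atlas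
  -- V' = V ×_H W
  obtain ⟨V', p, q'', sqV⟩ := hce.1 (b ≫ g)
  obtain ⟨q, rfl⟩ := (yon S).map_surjective q''
  have hp : Etale p.left := hce.2 _ _ _ sqV
  have hps : Surjective p.left := hcs.2 _ _ _ sqV
  -- U' = U ×_V V'
  have sqU : IsPullback (pullback.fst h p) (pullback.snd h p) h p := IsPullback.of_hasPullback h p
  have sqU' := sqU.map (Over.forget S)
  have he : Etale (pullback.fst h p).left := MorphismProperty.of_isPullback (P := @Etale) sqU'.flip hp
  have hes : Surjective (pullback.fst h p).left :=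
    MorphismProperty.of_isPullback (P := @Surjective) sqU'.flip hps
  have hP1 : P (pullback.snd h p ≫ q).left := by
    refine hfg ((yon S).map (pullback.fst h p) ≫ a) c (pullback.snd h p ≫ q)
      ((RepWith (S := S) @Etale).comp_mem _ _ ((repWith_yon_map_iff @Etale _).2 he) ha) hce ?_
    rw [Category.assoc, reassoc_of% hsq, ← Functor.map_comp_assoc, sqU.w, Functor.map_comp,
      Functor.map_comp, Category.assoc, Category.assoc, sqV.w]
  have hP2 : P (pullback.snd h p).left := hcancel _ q.left (by rw [← Over.comp_left]; exact hP1)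
  have hP3 : P ((pullback.fst h p).left ≫ h.left) := by
    rw [← Over.comp_left, sqU.w, Over.comp_left]
    exact hpost _ _ hP2 hp
  exact hESD _ _ he hes hP3

/-- Base change. -/
theorem locP_of_isPullback {P : MorphismProperty Scheme.{u}} [P.IsStableUnderBaseChange]
    (hESD : ∀ {X' X Y : Scheme.{u}} (f : X' ⟶ X) (g : X ⟶ Y), Etale f → Surjective f →
      P (f ≫ g) → P g)
    (hpre : ∀ {X Y Z : Scheme.{u}} (f : X ⟶ Y) (g : Y ⟶ Z), Etale f → P g → P (f ≫ g))
    (hpost : ∀ {X Y Z : Scheme.{u}} (f : X ⟶ Y) (g : Y ⟶ Z), P f → Etale g → P (f ≫ g))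
    {X Y Y' X' : Sp S} (hX : IsAlgSpace X) (hY : IsAlgSpace Y)
    (f : X ⟶ Y) (g : Y' ⟶ Y) (fst : X' ⟶ X) (f' : X' ⟶ Y')
    (sq : IsPullback fst f' f g) (hf : LocP P f) : LocP P f' := by
  intro U' V' a' b' k ha' hb' hsq
  obtain ⟨V, p, hpe, hps⟩ := hY.atlas
  obtain ⟨U, q, hqe, hqs⟩ := hX.atlas
  -- U1 = U ×_Y V
  obtain ⟨U1, s1, h1'', sqU1⟩ := hpe.1 (q ≫ f)
  obtain ⟨h1, rfl⟩ := (yon S).map_surjective h1''
  have hs1 : Etale s1.left := hpe.2 _ _ _ sqU1
  have hs1s : Surjective s1.left := hps.2 _ _ _ sqU1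
  have hc1 : RepWith @Etale ((yon S).map s1 ≫ q) :=
    (RepWith (S := S) @Etale).comp_mem _ _ ((repWith_yon_map_iff @Etale s1).2 hs1) hqe
  have hc1s : RepWith @Surjective ((yon S).map s1 ≫ q) :=
    (RepWith (S := S) @Surjective).comp_mem _ _ ((repWith_yon_map_iff @Surjective s1).2 hs1s) hqs
  have wU1 : (yon S).map h1 ≫ p = ((yon S).map s1 ≫ q) ≫ f := by
    rw [Category.assoc]; exact sqU1.w
  have hPh1 : P h1.left := hf ((yon S).map s1 ≫ q) p h1 hc1 hpe wU1.symm
  set c1 := (yon S).map s1 ≫ q with hc1def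
  -- E = X' ×_X U1
  have sqE : IsPullback (pullback.fst fst c1) (pullback.snd fst c1) fst c1 :=
    IsPullback.of_hasPullback fst c1
  set e1 := pullback.fst fst c1
  set e2 := pullback.snd fst c1
  have he1 : RepWith @Etale e1 :=
    (repWith_isStableUnderBaseChange (S := S) @Etale).of_isPullback sqE.flip hc1
  have he1s : RepWith @Surjective e1 :=
    (repWith_isStableUnderBaseChange (S := S) @Surjective).of_isPullback sqE.flip hc1s
  -- T = U' ×_{X'} E
  obtain ⟨T, t, τ, sqT⟩ := he1.1 a'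
  have ht : Etale t.left := he1.2 _ _ _ sqT
  have hts : Surjective t.left := he1s.2 _ _ _ sqT
  have hτ : RepWith @Etale τ :=
    (repWith_isStableUnderBaseChange (S := S) @Etale).of_isPullback sqT.flip ha'
  -- V'1 = V' ×_Y V
  obtain ⟨V'1, r, m'', sqV'⟩ := hpe.1 (b' ≫ g)
  obtain ⟨m, rfl⟩ := (yon S).map_surjective m''
  have hr : Etale r.left := hpe.2 _ _ _ sqV'
  -- W = U1 ×_V V'1
  have sqW : IsPullback (pullback.fst h1 m) (pullback.snd h1 m) h1 m := IsPullback.of_hasPullback h1 m
  set pr1 := pullback.fst h1 m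
  set pr2 := pullback.snd h1 m
  have sqW' := sqW.map (Over.forget S)
  have sqWy := sqW.map (yon S)
  have hPpr2 : P pr2.left := MorphismProperty.of_isPullback (P := P) sqW' hPh1
  -- x' : yon W ⟶ X'
  have wx' : ((yon S).map pr1 ≫ c1) ≫ f = ((yon S).map pr2 ≫ (yon S).map r ≫ b') ≫ g := by
    rw [Category.assoc, ← wU1, ← Category.assoc, sqWy.w, Category.assoc, sqV'.w]
    simp only [Category.assoc]
  obtain ⟨x', hx'1, hx'2⟩ := sq.exists_lift _ _ wx'
  obtain ⟨ω, hω1, hω2⟩ := sqE.exists_lift x' ((yon S).map pr1) hx'1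
  -- the key square
  have sqω : IsPullback ω ((yon S).map (pr2 ≫ r)) (e1 ≫ f') b' := by
    apply Groth.Agent.Lib.helper5.isPullback_of_exists_lift
    · rw [← Category.assoc, hω1, hx'2, Functor.map_comp, Category.assoc]
    · intro Z ζ1 ζ2 hζ
      have hv1 : (ζ1 ≫ e2 ≫ (yon S).map h1) ≫ p = ζ2 ≫ b' ≫ g := by
        rw [Category.assoc, Category.assoc, wU1, ← Category.assoc e2, ← sqE.w, Category.assoc,
          sq.w, reassoc_of% hζ]
      obtain ⟨v1, hv1a, hv1b⟩ := sqV'.exists_lift _ _ hv1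
      obtain ⟨l, hl1, hl2⟩ := sqWy.exists_lift (ζ1 ≫ e2) v1 (by rw [Category.assoc, hv1a])
      refine ⟨l, ?_, ?_⟩
      · apply sqE.hom_ext
        · rw [Category.assoc, hω1]
          apply sq.hom_ext
          · rw [Category.assoc, hx'1, ← Category.assoc, hl1, Category.assoc, Category.assoc, sqE.w]
          · rw [Category.assoc, hx'2, ← Category.assoc, hl2, ← Category.assoc, hv1b, Category.assoc, hζ]
        · rw [Category.assoc, hω2, hl1]
      · rw [Functor.map_comp, ← Category.assoc, hl2, hv1b]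
    · intro Z l l' hl hl'
      have e1' : l ≫ (yon S).map pr1 = l' ≫ (yon S).map pr1 := by
        rw [← hω2, ← Category.assoc, hl, Category.assoc]
      apply sqWy.hom_ext e1'
      apply sqV'.hom_ext
      · rw [Category.assoc, ← sqWy.w, ← Category.assoc, e1', Category.assoc, sqWy.w, Category.assoc]
      · simpa only [Functor.map_comp, Category.assoc] using hl'
  have hω : RepWith @Etale ω :=
    (repWith_isStableUnderBaseChange (S := S) @Etale).of_isPullback sqω.flip hb'
  -- n : T ⟶ U1, w : T ⟶ V'1, z : T ⟶ W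
  obtain ⟨n, hn⟩ := (yon S).map_surjective (τ ≫ e2)
  have hw0 : ((yon S).map (n ≫ h1)) ≫ p = (yon S).map (t ≫ k) ≫ b' ≫ g := by
    rw [Functor.map_comp, hn, Category.assoc, Category.assoc, wU1, ← Category.assoc e2, ← sqE.w,
      Category.assoc, sq.w, reassoc_of% sqT.w, reassoc_of% hsq, Functor.map_comp, Category.assoc]
  obtain ⟨w', hw1, hw2⟩ := sqV'.exists_lift _ _ hw0
  obtain ⟨w, rfl⟩ := (yon S).map_surjective w'
  have hw1' : w ≫ m = n ≫ h1 := (yon S).map_injective (by rw [Functor.map_comp]; exact hw1)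
  have hw2' : w ≫ r = t ≫ k := (yon S).map_injective (by rw [Functor.map_comp]; exact hw2)
  obtain ⟨z, hz1, hz2⟩ := sqW.exists_lift n w hw1'.symm
  have hzω : (yon S).map z ≫ ω = τ := by
    apply sqE.hom_ext
    · rw [Category.assoc, hω1]
      apply sq.hom_ext
      · rw [Category.assoc, hx'1, ← Category.assoc, ← Functor.map_comp, hz1, hn, Category.assoc,
          Category.assoc, sqE.w]
      · rw [Category.assoc, hx'2, ← Category.assoc, ← Functor.map_comp, hz2, ← Category.assoc,
          ← Functor.map_comp, hw2', Functor.map_comp, Category.assoc, ← hsq, ← Category.assoc,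
          ← sqT.w, Category.assoc]
    · rw [Category.assoc, hω2, ← Functor.map_comp, hz1, hn]
  have hz : Etale z.left := etale_of_charts τ ω hτ hω z hzω
  have hPw : P w.left := by
    rw [← hz2, Over.comp_left]
    exact hpre _ _ hz hPpr2
  have hPtk : P (t.left ≫ k.left) := by
    rw [← Over.comp_left, ← hw2', Over.comp_left]
    exact hpost _ _ hPw hr
  exact hESD _ _ ht hts hPtk

end Groth.Agent.H1.LocPStable
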