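import Groth.Agent.Lib.Helper5.AlgSpLocPInst
import Groth.Agent.Lib.Helper1.LocPStable
import Groth.Agent.Lib.Helper1.LocPFlatBC
import Groth.Agent.Lib.Helper22.FlatSrc

/-!
The seven classes of morphisms (locally of finite type, locally of finite presentation, flat, smooth, etale, locally
quasi-finite, unramified) and `AlgSp.LocP` (helper1).  Everything is stated for a property `P` with helper5's
`LocPData P`; `locPData_of_seven` produces it for the seven classes from `LocPData @Smooth`.
-/

set_option autoImplicit false
universe u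
open CategoryTheory CategoryTheory.Limits AlgebraicGeometry
open AlgSp
open Groth.Agent.Lib.helper5.LocPBC

namespace Groth.Agent.H1.Seven

variable {S : Scheme.{u}}

theorem locPData_flat : LocPData.{u} @Flat where
  baseChange := inferInstance
  pre e g he hg := by
    have := he; have := hg
    infer_instance
  post k e hk he := by
    have := he; have := hk
    infer_instance
  cancel k b hb h := by
    have := hb; have := h
    exact Groth.Agent.H1.LocPFlatBC.flat_of_comp_etale k b
  descend f g hf hs h := by
    have := hf; have := hs; have := h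
    exact Groth.Agent.Lib.helper22.flat_of_flat_comp f g

/-- The disjunction used in the statements on the seven classes. -/
def IsSeven (P : MorphismProperty Scheme.{u}) : Prop :=
  P = @LocallyOfFiniteType ∨ P = @LocallyOfFinitePresentation ∨ P = @Flat ∨ P = @Smooth ∨ P = @Etale ∨
    (∀ ⦃A B : Scheme.{u}⦄ (g : A ⟶ B), P g ↔ (LocallyQuasiFinite g ∧ LocallyOfFiniteType g)) ∨
    (∀ ⦃A B : Scheme.{u}⦄ (g : A ⟶ B), P g ↔ (LocallyOfFiniteType g ∧ FormallyUnramified g))

theorem locPData_of_seven (hsm : LocPData.{u} @Smooth) (P : MorphismProperty Scheme.{u}) (hP : IsSeven P) :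
    LocPData P ∧ P.IsStableUnderComposition := by
  rcases hP with rfl | rfl | rfl | rfl | rfl | h | h
  · exact ⟨locPData_lft, inferInstance⟩
  · exact ⟨locPData_lfp, inferInstance⟩
  · exact ⟨locPData_flat, inferInstance⟩
  · exact ⟨hsm, inferInstance⟩
  · exact ⟨locPData_etale, inferInstance⟩
  · have : P = (@LocallyQuasiFinite ⊓ @LocallyOfFiniteType : MorphismProperty Scheme.{u}) := by
      ext A B g
      exact h g
    rw [this]
    exact ⟨locPData_lqf, inferInstance⟩
  · have : P = (@LocallyOfFiniteType ⊓ @FormallyUnramified : MorphismProperty Scheme.{u}) := by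
      ext A B g
      exact h g
    rw [this]
    exact ⟨locPData_unramified, inferInstance⟩

/-- one chart diagram with surjective etale source chart suffices -/
theorem locP_of_one_chart {P : MorphismProperty Scheme.{u}} (hP : LocPData P) {F G : Sp S} (f : F ⟶ G)
    {U V : Over S} (a : (yon S).obj U ⟶ F) (b : (yon S).obj V ⟶ G) (h : U ⟶ V)
    (ha : RepWith @Etale a) (has : RepWith @Surjective a) (hb : RepWith @Etale b)
    (comm : a ≫ f = (yon S).map h ≫ b) (hh : P h.left) : LocP P f := by
  intro U' V' a' b' h' ha' hb' hsq
  -- U'' = U ×_F U'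
  obtain ⟨U'', r, s', sqU⟩ := ha.1 a'
  obtain ⟨s, rfl⟩ := (yon S).map_surjective s'
  have hr : Etale r.left := ha.2 _ _ _ sqU
  have hrs : Surjective r.left := has.2 _ _ _ sqU
  have hs : Etale s.left := ha'.2 _ _ _ sqU.flip
  -- V'' = V ×_G V'
  obtain ⟨V'', v', v0, sqV⟩ := hb.1 b'
  obtain ⟨v, rfl⟩ := (yon S).map_surjective v0
  have hv' : Etale v'.left := hb.2 _ _ _ sqV
  have hv : Etale v.left := hb'.2 _ _ _ sqV.flip
  -- k : U'' ⟶ V''
  obtain ⟨k0, hk1, hk2⟩ := sqV.exists_lift ((yon S).map (s ≫ h)) ((yon S).map (r ≫ h')) (by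
    rw [Functor.map_comp, Category.assoc, ← comm, ← Category.assoc, sqU.w, Category.assoc, hsq,
      Functor.map_comp, Category.assoc])
  obtain ⟨k, rfl⟩ := (yon S).map_surjective k0
  have hk1' : k ≫ v = s ≫ h := (yon S).map_injective (by rw [Functor.map_comp, hk1])
  have hk2' : k ≫ v' = r ≫ h' := (yon S).map_injective (by rw [Functor.map_comp, hk2])
  have h1 : P (s.left ≫ h.left) := hP.pre _ _ hs hh
  have h2 : P k.left := by
    refine hP.cancel k.left v.left hv ?_
    rw [← Over.comp_left, hk1']
    exact h1
  have h3 : P (r.left ≫ h'.left) := by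
    have := hP.post k.left v'.left h2 hv'
    rwa [← Over.comp_left, hk2'] at this
  exact hP.descend r.left h'.left hr hrs h3

/-- for a representable morphism, `LocP P` agrees with `RepWith P` -/
theorem locP_iff_repWith {P : MorphismProperty Scheme.{u}} (hP : LocPData P) {F G : Sp S}
    (hF : IsAlgSpace F) (hG : IsAlgSpace G) (f : F ⟶ G) (hf : Representable f) :
    LocP P f ↔ RepWith P f := by
  constructor
  · intro h
    refine ⟨hf, ?_⟩
    intro T T' g fst snd sq
    have w : fst ≫ f = (yon S).map snd ≫ g := sq.w
    refine locP_of_chart hP hF hG h fst g snd w ?_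
    have hiso : IsIso (pullback.lift fst ((yon S).map snd) w) := by
      have : pullback.lift fst ((yon S).map snd) w = (sq.isoPullback).hom := by
        apply pullback.hom_ext
        · rw [pullback.lift_fst, IsPullback.isoPullback_hom_fst]
        · rw [pullback.lift_snd, IsPullback.isoPullback_hom_snd]
      rw [this]
      infer_instance
    exact MorphismProperty.of_isIso (RepWith (S := S) @Etale) _
  · intro h U V a b k ha hb hsq
    -- pull back `f` along `b`
    obtain ⟨XV, p, q, sq⟩ := hf b
    have hp : P p.left := h.2 _ _ _ sq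
    have hq : RepWith @Etale q := (RepWith (S := S) @Etale).of_isPullback sq.flip hb
    obtain ⟨m0, hm1, hm2⟩ := sq.exists_lift a ((yon S).map k) hsq
    obtain ⟨m, rfl⟩ := (yon S).map_surjective m0
    have hm : Etale m.left := Groth.Agent.H1.LocPStable.etale_of_charts a q ha hq m hm1
    have : m ≫ p = k := (yon S).map_injective (by rw [Functor.map_comp, hm2])
    rw [← this, Over.comp_left]
    exact hP.pre _ _ hm hp

end Groth.Agent.H1.Seven
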