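import Groth.Agent.Lib.Helper1.MonoRepG

/-!
# A sheaf with a monomorphism locally of finite type to a scheme and an étale atlas is a scheme
(helper1)
-/

set_option autoImplicit false
universe u
open CategoryTheory CategoryTheory.Limits AlgebraicGeometry Opposite

namespace Groth.Agent.H1.MonoRep

open AlgSp Groth.Agent.Lib.Helper14.AlgSpQuot Groth.Agent.H1.ZarRep Groth.Agent.H1.Boot

variable {S : Scheme.{u}}

/-- The kernel pair of `g` is étale when `h_g` factors as a representable étale morphism followed by a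
monomorphism. -/
theorem etKP_of_repWith {K : Sp S} {T V : Over S} (f : K ⟶ (yon S).obj T) [Mono f]
    (φ : (yon S).obj V ⟶ K) (hφ : RepWith @Etale φ) (g : V ⟶ T)
    (hg : φ ≫ f = (yon S).map g) : EtKP g := by
  intro P a b sq
  have sq1 := sq.map (yon S)
  rw [← hg] at sq1
  have sq2 : IsPullback ((yon S).map a) ((yon S).map b) φ φ := isPullback_of_comp_mono f sq1
  exact ((repWith_iff _ _).1 hφ).2 φ ((yon S).map b) a sq2.flip

/-- **A sheaf `K` with a monomorphism to `h_T` and a representable étale epimorphism from a scheme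
`V`, with `V ⟶ T` locally of finite type, is representable** by a scheme `I` with `I ⟶ T` a
monomorphism locally of finite type. -/
theorem exists_rep_of_mono {K : Sp S} {T V : Over S} (f : K ⟶ (yon S).obj T) [Mono f]
    (φ : (yon S).obj V ⟶ K) [Epi φ] (hφ : RepWith @Etale φ) (g : V ⟶ T)
    (hg : φ ≫ f = (yon S).map g) [LocallyOfFiniteType g.left] :
    ∃ (I : Over S) (j : I ⟶ T) (e : (yon S).obj I ≅ K), e.hom ≫ f = (yon S).map j ∧ Mono j ∧
      LocallyOfFiniteType j.left := by
  have hkp : EtKP g := etKP_of_repWith f φ hφ g hg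
  obtain ⟨I, j, hj⟩ := exists_rep_of_etKP g @hkp
  let A : SubPred T := SubPred.ofSheaf f
  have hAg : A.P g := ⟨φ, hg⟩
  have hAiff : ∀ {Z : Over S} (z : Z ⟶ T), A.P z ↔ (SubPred.inIm g).P z := by
    intro Z z
    constructor
    · rintro ⟨s, hs⟩
      refine ⟨liftSieve φ s, liftSieve_mem_of_epi φ s, ?_⟩
      rintro Z' c ⟨x, hx⟩
      obtain ⟨v, rfl⟩ := (yon S).map_surjective x
      refine ⟨v, (yon S).map_injective ?_⟩
      rw [Functor.map_comp, Functor.map_comp, ← hg, ← Category.assoc, hx, Category.assoc, hs]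
    · intro hz
      exact SubPred.inIm_le g A hAg z hz
  have hiff : ∀ {Z : Over S} (z : Z ⟶ T), (∃ u : Z ⟶ I, u ≫ j = z) ↔ A.P z :=
    fun z => (hj.iff z).trans (hAiff z).symm
  obtain ⟨s, hs⟩ := (hiff j).1 ⟨𝟙 _, Category.id_comp _⟩
  haveI := hj.mono
  haveI : Mono s := by
    haveI : Mono (s ≫ f) := by
      rw [hs]
      infer_instance
    exact mono_of_mono s f
  haveI : IsIso s := by
    apply isIso_of_mono_of_liftSieve
    intro Z η
    obtain ⟨z, hz⟩ := (yon S).map_surjective (η ≫ f)
    obtain ⟨u, hu⟩ := (hiff z).2 ⟨η, hz.symm⟩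
    have h1 : (yon S).map u ≫ s = η := by
      rw [← cancel_mono f, Category.assoc, hs, ← Functor.map_comp, hu, hz]
    have h2 : liftSieve s η = ⊤ := by
      rw [← Sieve.id_mem_iff_eq_top]
      exact ⟨(yon S).map u, by rw [h1, (yon S).map_id, Category.id_comp]⟩
    rw [h2]
    exact (AlgSp.J S).top_mem _
  exact ⟨I, j, asIso s, hs, hj.mono, hj.lft⟩

end Groth.Agent.H1.MonoRep
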