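import Groth.Agent.Lib.Helper1.SevenProps
import Groth.Agent.Lib.Helper1.LocPStable
import Groth.Agent.Lib.Helper5.AlgSpFibreProduct
import Groth.Agent.Lib.Helper5.AlgSpLocPInst

/-!
# Diagonals of morphisms of algebraic spaces (helper1)

* `isPullback_diagonal_of_diag`: the base change of the relative diagonal `Δ_f` along `(x, y)` is the base
  change of the absolute diagonal along `(x, y)`.
* `representable_diagonal`: `Δ_f` is representable when the source has representable diagonal.
* `locP_lft_diagonal`, `repWith_lft_diagonal`: `Δ_f` is locally of finite type.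
* `universallyClosed_of_isPullback`: a universally closed morphism of sheaves has universally closed
  scheme-level base changes.
* `repWith_isClosedImmersion_diagonal_of_univClosed`.
-/

set_option autoImplicit false
universe u
open CategoryTheory CategoryTheory.Limits AlgebraicGeometry
open AlgSp

namespace Groth.Agent.H1.Diagonal

section cat

variable {C : Type*} [Category C] [HasBinaryProducts C] [HasPullbacks C]

set_option backward.isDefEq.respectTransparency false in
theorem isPullback_diagonal_of_diag {F G T W : C} (f : F ⟶ G) (x y : T ⟶ F) (hxy : x ≫ f = y ≫ f)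
    {fstW : W ⟶ F} {w : W ⟶ T} (sq : IsPullback fstW w (Limits.diag F) (prod.lift x y)) :
    IsPullback fstW w (pullback.diagonal f) (pullback.lift x y hxy) := by
  have h1 : fstW = w ≫ x := by simpa using congrArg (· ≫ prod.fst) sq.w
  have h2 : fstW = w ≫ y := by simpa using congrArg (· ≫ prod.snd) sq.w
  apply Groth.Agent.Lib.helper5.isPullback_of_exists_lift
  · apply pullback.hom_ext
    · simp [h1]
    · simp [h2]
  · intro Z a b hab
    have e1 : a = b ≫ x := by simpa using congrArg (· ≫ pullback.fst f f) hab
    have e2 : a = b ≫ y := by simpa using congrArg (· ≫ pullback.snd f f) hab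
    refine ⟨sq.lift a b ?_, sq.lift_fst _ _ _, sq.lift_snd _ _ _⟩
    apply Limits.prod.hom_ext
    · simp [← e1]
    · simp [← e2]
  · intro Z l l' hl1 hl2
    exact sq.hom_ext hl1 hl2

end cat

variable {S : Scheme.{u}}

theorem representable_diagonal {F G : Sp S} (hF : Representable (Limits.diag F)) (f : F ⟶ G) :
    Representable (pullback.diagonal f) := by
  intro T g
  have hxy : (g ≫ pullback.fst f f) ≫ f = (g ≫ pullback.snd f f) ≫ f := by
    rw [Category.assoc, Category.assoc, pullback.condition]
  obtain ⟨W, w, fstW, sq⟩ := hF (prod.lift (g ≫ pullback.fst f f) (g ≫ pullback.snd f f))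
  have hg : g = pullback.lift (g ≫ pullback.fst f f) (g ≫ pullback.snd f f) hxy := by
    apply pullback.hom_ext
    · rw [pullback.lift_fst]
    · rw [pullback.lift_snd]
  refine ⟨W, w, fstW, ?_⟩
  rw [hg]
  exact isPullback_diagonal_of_diag f _ _ hxy sq

theorem locP_id_of_etale {P : MorphismProperty Scheme.{u}}
    (hP : ∀ {X Y : Scheme.{u}} (f : X ⟶ Y), Etale f → P f) (F : Sp S) : LocP P (𝟙 F) := by
  intro U V a b h ha hb hsq
  apply hP
  exact Groth.Agent.H1.LocPStable.etale_of_charts a b ha hb h (by rw [← hsq, Category.comp_id])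

theorem locP_lft_diagonal {F G : Sp S} (hF : IsAlgSpace F) (f : F ⟶ G) :
    LocP @LocallyOfFiniteType (pullback.diagonal f) := by
  have hP := Groth.Agent.Lib.helper5.LocPBC.locPData_lft.{u}
  refine Groth.Agent.H1.LocPStable.locP_of_comp (P := @LocallyOfFiniteType)
    (fun f g he hs h => hP.descend f g he hs h) (fun f g hf hg => hP.post f g hf hg)
    (fun f g h => ?_) hF (pullback.diagonal f) (pullback.fst f f) ?_
  · have := h
    exact locallyOfFiniteType_of_comp f g
  · rw [pullback.diagonal_fst]
    exact locP_id_of_etale (fun f hf => by have := hf; infer_instance) F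

theorem repWith_lft_diagonal {F G : Sp S} (hF : IsAlgSpace F) (hG : IsAlgSpace G) (f : F ⟶ G) :
    RepWith @LocallyOfFiniteType (pullback.diagonal f) := by
  have hPull : IsAlgSpace (pullback f f) :=
    Groth.Agent.Lib.helper5.isAlgSpace_of_isPullback hG.diag hF hF (IsPullback.of_hasPullback f f)
  exact (Groth.Agent.H1.Seven.locP_iff_repWith Groth.Agent.Lib.helper5.LocPBC.locPData_lft hF hPull
    (pullback.diagonal f) (representable_diagonal hF.diag f)).1 (locP_lft_diagonal hF f)

/-- A universally closed morphism of sheaves has universally closed scheme-level base changes. -/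
theorem universallyClosed_of_isPullback {F G : Sp S} (f : F ⟶ G) (hc : IsUnivClosedMor f) {Z W : Over S}
    (g : (yon S).obj Z ⟶ G) (i : W ⟶ Z) (fst : (yon S).obj W ⟶ F)
    (sq : IsPullback fst ((yon S).map i) f g) : UniversallyClosed i.left := by
  constructor
  intro T' T fst' t snd' sqT
  let TS : Over S := Over.mk (t ≫ Z.hom)
  let TS' : Over S := Over.mk (snd' ≫ t ≫ Z.hom)
  let t₀ : TS ⟶ Z := Over.homMk t rfl
  let s₀ : TS' ⟶ TS := Over.homMk snd' rfl
  let f₀ : TS' ⟶ W := Over.homMk fst' (by
    show fst' ≫ W.hom = snd' ≫ t ≫ Z.hom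
    rw [← Over.w i, ← Category.assoc, ← sqT.w, Category.assoc])
  have sq0 : IsPullback f₀ s₀ i t₀ := by
    apply IsPullback.of_map (Over.forget S)
    · apply (Over.forget S).map_injective
      simp only [Functor.map_comp]
      exact sqT.w.symm
    · exact sqT.flip
  have sq1 := sq0.map (yon S)
  have sq2 : IsPullback ((yon S).map f₀ ≫ fst) ((yon S).map s₀) f ((yon S).map t₀ ≫ g) :=
    sq1.paste_horiz sq
  have h1 : IsClosedMap (Points.map ((yon S).map s₀)) := hc (IsAlgSpace.yon_obj TS) _ _ _ sq2
  rw [Points.map_yon_map_eq] at h1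
  have h2 : IsClosedMap ((Points.schemeHomeo TS).symm ∘ (Points.schemeHomeo TS ∘ (fun x => s₀.left x) ∘
      (Points.schemeHomeo TS').symm) ∘ (Points.schemeHomeo TS')) :=
    ((Points.schemeHomeo TS).symm.isClosedMap.comp h1).comp (Points.schemeHomeo TS').isClosedMap
  have h3 : ((Points.schemeHomeo TS).symm ∘ (Points.schemeHomeo TS ∘ (fun x => s₀.left x) ∘
      (Points.schemeHomeo TS').symm) ∘ (Points.schemeHomeo TS')) = fun x => snd' x := by
    funext x
    simp
    rfl
  rw [h3] at h2
  exact h2

/-- If the diagonal of a morphism of algebraic spaces is universally closed, it is a closed immersion. -/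
theorem repWith_isClosedImmersion_diagonal_of_univClosed {F G : Sp S} (hF : IsAlgSpace F)
    (hG : IsAlgSpace G) (f : F ⟶ G) (hc : IsUnivClosedMor (pullback.diagonal f)) :
    RepWith @IsClosedImmersion (pullback.diagonal f) := by
  have hlft := repWith_lft_diagonal hF hG f
  refine ⟨hlft.1, ?_⟩
  intro T T' g fst snd sq
  show IsClosedImmersion snd.left
  have h1 : LocallyOfFiniteType snd.left := hlft.2 g fst snd sq
  have h2 : UniversallyClosed snd.left := universallyClosed_of_isPullback _ hc g snd fst sq
  have hm0 : Mono ((yon S).map snd) := sq.mono_snd_of_mono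
  have hm1 : Mono snd := (yon S).mono_of_mono_map hm0
  have h3 : Mono snd.left := inferInstance
  have h4 : IsProper snd.left := { }
  exact (IsClosedImmersion.iff_isProper_and_mono _).2 ⟨h4, h3⟩

end Groth.Agent.H1.Diagonal
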