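import Groth.Agent.S10235
import Groth.Agent.Lib.Helper5.FppfBoot5
import Groth.Agent.Lib.Helper5.EqvGrpd1
import Groth.Agent.Lib.Helper11.AlgSpBasic
import Groth.Agent.Lib.Helper5.AlgSpOpenSub
import Groth.Agent.Lib.Helper2.QuotEx1

/-!
# Algebraic spaces with a finite locally free cover by a scheme (helper1)

`isRepresentable_of_finLocFree_cover`: an algebraic space `X` with a representable, finite locally free,
surjective map `a : h_U ⟶ X` from a scheme such that (in each nonempty closed subset of `U` some point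
has) its fibre `a⁻¹(a(u))` contained in an affine open of `U`, is a scheme.
-/

set_option autoImplicit false
universe u
open CategoryTheory CategoryTheory.Limits AlgebraicGeometry Opposite

namespace Groth.Agent.H1.QuotFin

open AlgSp Groth.Agent.Lib.helper5 Groth.Agent.Lib.helper5.FppfBoot

variable {S : Scheme.{u}}

/-- A representable fppf covering by a scheme is an epimorphism of sheaves. -/
theorem epi_of_repWith_fppf {X : Sp S} {U : Over S} (a : (yon S).obj U ⟶ X)
    (hfl : RepWith @Flat a) (hlfp : RepWith @LocallyOfFinitePresentation a)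
    (hsurj : RepWith @Surjective a) : Epi a := by
  apply epi_of_repBySpWith_fppf
  intro T ξ F' fst snd sq
  obtain ⟨I, i, fst', sq'⟩ := hfl.rep ξ
  have hi1 : Flat i.left := hfl.property ξ fst' i sq'
  have hi2 : LocallyOfFinitePresentation i.left := hlfp.property ξ fst' i sq'
  have hi3 : Surjective i.left := hsurj.property ξ fst' i sq'
  let e : (yon S).obj I ≅ F' := sq'.isoIsPullback _ _ sq
  have he : e.hom ≫ snd = (yon S).map i := sq'.isoIsPullback_hom_snd _ _ sq
  exact fppf_of_iso_yon e snd i he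

theorem ofPt_eq_of_comm {X : Sp S} {U R : Over S} (a : (yon S).obj U ⟶ X) (s t : R ⟶ U)
    (w : (yon S).map t ≫ a = (yon S).map s ≫ a) (r : ↥R.left) :
    Points.ofPt a (t.left r) = Points.ofPt a (s.left r) := by
  rw [← Groth.Agent.Lib.helper11.ofPt_yon_map_comp, ← Groth.Agent.Lib.helper11.ofPt_yon_map_comp, w]

/-- **Quotients by finite locally free equivalence relations.** -/
theorem isRepresentable_of_finLocFree_cover {X : Sp S} {U : Over S} (a : (yon S).obj U ⟶ X)
    (hfl : RepWith finLocFree a) (hsurj : RepWith @Surjective a)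
    (h3 : ∀ Z : Set ↥U.left, IsClosed Z → Z.Nonempty → ∃ u ∈ Z, ∃ W : U.left.Opens,
      IsAffineOpen W ∧ ∀ u' : ↥U.left, Points.ofPt a u' = Points.ofPt a u → u' ∈ W) :
    ∃ M : Over S, Nonempty ((yon S).obj M ≅ X) := by
  obtain ⟨R, s, t', sq⟩ := hfl.rep a
  obtain ⟨t, rfl⟩ := (yon S).map_surjective t'
  have hs : Mor2.IsFinLocFree s.left := hfl.property a _ s sq
  have ht : Mor2.IsFinLocFree t.left := hfl.property a _ t sq.flip
  have hflat : RepWith @Flat a := ⟨hfl.rep, fun _ _ g fst snd h => (hfl.property g fst snd h).2.1⟩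
  have hlfp : RepWith @LocallyOfFinitePresentation a :=
    ⟨hfl.rep, fun _ _ g fst snd h => (hfl.property g fst snd h).2.2⟩
  haveI : Epi a := epi_of_repWith_fppf a hflat hlfp hsurj
  have heq : AlgSp.IsEqvRel s t := isEqvRel_of_isPullback_yon s t a sq
  obtain ⟨M, m, -, -, w, hiso⟩ := Groth.Agent.S10235.result (EqvGrpd.ofEqvRel heq) hs ht heq (by
    intro Z hZ hZne
    obtain ⟨u, huZ, W, hW, hWu⟩ := h3 Z hZ hZne
    refine ⟨u, huZ, W, hW, fun r hr => hWu _ ?_⟩
    have h1 : Points.ofPt a (t.left r) = Points.ofPt a (s.left r) := ofPt_eq_of_comm a s t sq.w r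
    have h2 : s.left r = u := hr
    exact h1.trans (congrArg _ h2))
  obtain ⟨e, -⟩ := isIso_desc_of_isPullback_yon s t a sq
  haveI := hiso
  exact ⟨M, ⟨(QuotSh.repIsoUliftYoneda Scheme.fppfPrecoverage M).symm ≪≫
    (asIso (QuotSh.quotDesc Scheme.fppfPrecoverage m w)).symm ≪≫ e⟩⟩

open Groth.Agent.Lib.helper11 in
theorem preimage_image_ofPt {X : Sp S} {U T V : Over S} {φ : V ⟶ U} {snd : V ⟶ T}
    {a : (yon S).obj U ⟶ X} {g : (yon S).obj T ⟶ X}
    (hpb : IsPullback ((yon S).map φ) ((yon S).map snd) a g) (W : Set ↥U.left) :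
    Points.ofPt g ⁻¹' (Points.ofPt a '' W) = snd.left '' (φ.left ⁻¹' W) := by
  ext t
  constructor
  · rintro ⟨w, hw, hwt⟩
    obtain ⟨v, hv1, hv2⟩ := exists_of_isPullback_schemes hpb w t hwt
    exact ⟨v, by simpa [hv1] using hw, hv2⟩
  · rintro ⟨v, hv, rfl⟩
    exact ⟨φ.left v, hv, ofPt_comm hpb.w v⟩

/-- A representable finite map from a scheme induces a closed map on points. -/
theorem isClosedMap_ofPt_of_finite {X : Sp S} {U : Over S} (a : (yon S).obj U ⟶ X)
    (ha : RepWith @IsFinite a) : IsClosedMap (Points.ofPt a) := by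
  intro W hW
  rw [← isOpen_compl_iff, Points.isOpen_iff]
  intro T g
  obtain ⟨V, snd, fst, hpb⟩ := ha.rep g
  obtain ⟨φ, rfl⟩ := (yon S).map_surjective fst
  have hfin : IsFinite snd.left := ha.property g _ snd hpb
  rw [Set.preimage_compl, isOpen_compl_iff, preimage_image_ofPt hpb]
  exact snd.left.isClosedMap _ (hW.preimage φ.left.continuous)

/-- A representable flat, locally finitely presented map from a scheme induces an open map on
points. -/
theorem isOpenMap_ofPt_of_fppf {X : Sp S} {U : Over S} (a : (yon S).obj U ⟶ X)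
    (hfl : RepWith @Flat a) (hlfp : RepWith @LocallyOfFinitePresentation a) :
    IsOpenMap (Points.ofPt a) := by
  intro W hW
  rw [Points.isOpen_iff]
  intro T g
  obtain ⟨V, snd, fst, hpb⟩ := hfl.rep g
  obtain ⟨φ, rfl⟩ := (yon S).map_surjective fst
  have h1 : Flat snd.left := hfl.property g _ snd hpb
  have h2 : LocallyOfFinitePresentation snd.left := hlfp.property g _ snd hpb
  rw [preimage_image_ofPt hpb]
  exact snd.left.isOpenMap _ (hW.preimage φ.left.continuous)

/-- The fibres of a representable finite map from a scheme are finite. -/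
theorem finite_fibre_ofPt {X : Sp S} {U : Over S} (a : (yon S).obj U ⟶ X)
    (ha : RepWith @IsFinite a) (u : ↥U.left) :
    {u' : ↥U.left | Points.ofPt a u' = Points.ofPt a u}.Finite := by
  obtain ⟨R, s, t', sq⟩ := ha.rep a
  obtain ⟨t, rfl⟩ := (yon S).map_surjective t'
  have hs : IsFinite s.left := ha.property a _ s sq
  refine ((s.left.finite_preimage_singleton u).image t.left).subset ?_
  intro u' hu'
  obtain ⟨r, hr1, hr2⟩ := Groth.Agent.Lib.helper11.exists_of_isPullback_schemes sq u' u hu'
  exact ⟨r, hr2, hr1⟩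

open Groth.Agent.Lib.helper11 in
/-- **Schematic points via finite locally free covers.** If the fibre over `x` of a finite locally free
surjective cover `h_U ⟶ X` lies in an affine open of `U`, then `x` has an open neighbourhood in `X`
which is a scheme. -/
theorem exists_open_representable (X : Space S) {U : Over S} (a : (yon S).obj U ⟶ X.obj)
    (hfl : RepWith finLocFree a) (hsurj : RepWith @Surjective a) (x : Points X.obj)
    (W : U.left.Opens) (hW : IsAffineOpen W) (hxW : ∀ u, Points.ofPt a u = x → u ∈ W) :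
    ∃ (X' : Space S) (j : X' ⟶ X), RepWith @IsOpenImmersion j.hom ∧ X'.obj.obj.IsRepresentable ∧
      x ∈ Set.range (Points.map j.hom) := by
  have hfin : RepWith @IsFinite a := ⟨hfl.rep, fun _ _ g fst snd h => (hfl.property g fst snd h).1⟩
  have hC : IsClosed (Points.ofPt a '' ((W : Set ↥U.left)ᶜ)) :=
    isClosedMap_ofPt_of_finite a hfin _ W.isOpen.isClosed_compl
  have hΩ : IsOpen (Points.ofPt a '' ((W : Set ↥U.left)ᶜ))ᶜ := hC.isOpen_compl
  have hxΩ : x ∈ (Points.ofPt a '' ((W : Set ↥U.left)ᶜ))ᶜ := by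
    rintro ⟨u, hu, rfl⟩
    exact hu (hxW u rfl)
  obtain ⟨a', sq⟩ := OpenSub.isPullback_preim hΩ a
  have hDW : OpenSub.preim hΩ a ≤ W := by
    intro u hu
    by_contra h
    exact hu ⟨u, h, rfl⟩
  have hfl' : RepWith finLocFree a' :=
    (repWith_isStableUnderBaseChange (S := S) finLocFree).of_isPullback sq.flip hfl
  have hsurj' : RepWith @Surjective a' :=
    (repWith_isStableUnderBaseChange (S := S) @Surjective).of_isPullback sq.flip hsurj
  obtain ⟨M, ⟨e⟩⟩ := isRepresentable_of_finLocFree_cover a' hfl' hsurj' (by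
    intro Z _ hZne
    obtain ⟨u', hu'⟩ := hZne
    refine ⟨u', hu', ?_⟩
    have hF := finite_fibre_ofPt a hfin ((OpenSub.preim hΩ a).ι u')
    have hFD : {w : ↥U.left | Points.ofPt a w = Points.ofPt a ((OpenSub.preim hΩ a).ι u')} ⊆
        (OpenSub.preim hΩ a : Set ↥U.left) := by
      intro w hw
      change Points.ofPt a w ∈ (Points.ofPt a '' ((W : Set ↥U.left)ᶜ))ᶜ
      rw [hw]
      exact u'.2
    obtain ⟨f, hf1, hf2⟩ := Groth.Agent.Lib.helper2.QuotLib.exists_basicOpen_of_finite_affine hW _ hF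
      (OpenSub.preim hΩ a) hFD (hFD.trans hDW)
    have hB : IsAffineOpen (U.left.basicOpen f) := hW.basicOpen f
    refine ⟨(OpenSub.preim hΩ a).ι ⁻¹ᵁ U.left.basicOpen f,
      hB.preimage_of_isOpenImmersion _ (by rw [Scheme.Opens.opensRange_ι]; exact hf2), ?_⟩
    intro v hv
    apply hf1
    change Points.ofPt a _ = Points.ofPt a _
    have h1 := congrArg (Points.map (OpenSub.ι X.obj _)) hv
    rw [Points.map_ofPt, Points.map_ofPt, sq.w, ofPt_yon_map_comp, ofPt_yon_map_comp] at h1
    exact h1)
  refine ⟨⟨OpenSub.sub X.obj _, OpenSub.isAlgSpace_sub X.property hΩ⟩,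
    ObjectProperty.homMk (OpenSub.ι X.obj _), OpenSub.repWith_ι X.obj hΩ,
    (representableByOfIso e).isRepresentable, ?_⟩
  change x ∈ Set.range (Points.map (OpenSub.ι X.obj _))
  rw [OpenSub.range_map_ι]
  exact hxΩ

/-- A variant of `isRepresentable_of_finLocFree_cover` for covers by an open subscheme of an affine
scheme: the fibres are finite and hence contained in basic opens. -/
theorem isRepresentable_of_finLocFree_cover_of_openImmersion_affine {X : Sp S} {U : Over S}
    (a : (yon S).obj U ⟶ X) (hfl : RepWith finLocFree a) (hsurj : RepWith @Surjective a)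
    {A : Scheme.{u}} [IsAffine A] (ι : U.left ⟶ A) [IsOpenImmersion ι] :
    ∃ M : Over S, Nonempty ((yon S).obj M ≅ X) := by
  have hfin : RepWith @IsFinite a := ⟨hfl.rep, fun _ _ g fst snd h => (hfl.property g fst snd h).1⟩
  refine isRepresentable_of_finLocFree_cover a hfl hsurj ?_
  intro Z _ hZne
  obtain ⟨u, hu⟩ := hZne
  refine ⟨u, hu, ?_⟩
  have hF := (finite_fibre_ofPt a hfin u).image ι
  obtain ⟨f, hf1, hf2⟩ := Groth.Agent.Lib.helper2.QuotLib.exists_basicOpen_of_finite_affine
    (isAffineOpen_top A) _ hF ι.opensRange (by rintro _ ⟨w, -, rfl⟩; exact ⟨w, rfl⟩)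
    (fun _ _ => trivial)
  have hB : IsAffineOpen (A.basicOpen f) := (isAffineOpen_top A).basicOpen f
  refine ⟨ι ⁻¹ᵁ A.basicOpen f, hB.preimage_of_isOpenImmersion ι hf2, ?_⟩
  intro v hv
  exact hf1 ⟨v, hv, rfl⟩

/-- A representable finite morphism of sheaves induces a closed map on points. -/
theorem isClosedMap_map_of_finite {X Y : Sp S} (f : X ⟶ Y) (hf : RepWith @IsFinite f) :
    IsClosedMap (Points.map f) := by
  intro C hC
  rw [← isOpen_compl_iff, Points.isOpen_iff]
  intro T g
  obtain ⟨V, snd, fst, hpb⟩ := hf.rep g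
  have hfin : IsFinite snd.left := hf.property g _ snd hpb
  have : Points.ofPt g ⁻¹' (Points.map f '' C) = snd.left '' (Points.ofPt fst ⁻¹' C) := by
    ext t
    constructor
    · rintro ⟨x, hx, hxt⟩
      obtain ⟨v, hv1, hv2⟩ := Groth.Agent.Lib.helper11.exists_of_isPullback_scheme hpb x t hxt
      exact ⟨v, by rw [Set.mem_preimage, hv1]; exact hx, hv2⟩
    · rintro ⟨v, hv, rfl⟩
      refine ⟨Points.ofPt fst v, hv, ?_⟩
      rw [Points.map_ofPt, hpb.w, Groth.Agent.Lib.helper11.ofPt_yon_map_comp]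
  rw [Set.preimage_compl, isOpen_compl_iff, this]
  exact snd.left.isClosedMap _ (hC.preimage (Points.continuous_ofPt fst))

end Groth.Agent.H1.QuotFin
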