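import Mathlib

/-!
# Finite sets of codimension zero points of a quasi-separated scheme lie in an affine open (helper1)
-/

set_option autoImplicit false
universe u
open CategoryTheory AlgebraicGeometry TopologicalSpace Opposite

namespace Groth.Agent.H1.DimZeroAffine

variable {U : Scheme.{u}}

/-- At a point with zero-dimensional local ring, a section which is not invertible at the point has
basic open disjoint from a neighbourhood of the point. -/
theorem exists_open_disjoint_basicOpen (x : U) (hx : ringKrullDim ↥(U.presheaf.stalk x) = 0)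
    {W : U.Opens} (hxW : x ∈ W) (g : Γ(U, W)) (hg : x ∉ U.basicOpen g) :
    ∃ N : U.Opens, x ∈ N ∧ N ⊓ U.basicOpen g = ⊥ := by
  haveI : Ring.KrullDimLE 0 ↥(U.presheaf.stalk x) :=
    (ringKrullDimZero_iff_ringKrullDim_eq_zero).2 hx
  have h1 : ¬ IsUnit (U.presheaf.germ W x hxW g) := fun h => hg ((U.mem_basicOpen g x hxW).2 h)
  have h2 : IsNilpotent (U.presheaf.germ W x hxW g) :=
    Ring.KrullDimLE.isNilpotent_iff_mem_nonunits.2 h1
  obtain ⟨n, hn⟩ := h2
  have h3 : U.presheaf.germ W x hxW (g ^ (n + 1)) = U.presheaf.germ W x hxW 0 := by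
    rw [map_pow, pow_succ, hn, zero_mul, map_zero]
  obtain ⟨N, hxN, iU, iV, e⟩ := TopCat.Presheaf.germ_eq U.presheaf x hxW hxW _ _ h3
  refine ⟨N, hxN, ?_⟩
  have h4 := U.basicOpen_res (g ^ (n + 1)) iU.op
  rw [e, map_zero, U.basicOpen_zero, U.basicOpen_pow g (Nat.succ_pos n)] at h4
  exact h4.symm

/-- A point with zero-dimensional local ring has a neighbourhood disjoint from any given
quasi-compact open of an affine open which does not contain it. -/
theorem exists_open_disjoint_of_isCompact (x : U) (hx : ringKrullDim ↥(U.presheaf.stalk x) = 0)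
    {W : U.Opens} (hW : IsAffineOpen W) (hxW : x ∈ W) (K : U.Opens) (hKW : K ≤ W)
    (hK : IsCompact (K : Set U)) (hxK : x ∉ K) :
    ∃ N : U.Opens, x ∈ N ∧ Disjoint (N : Set U) (K : Set U) := by
  refine hK.induction_on (p := fun s => ∃ N : U.Opens, x ∈ N ∧ Disjoint (N : Set U) s)
    ⟨⊤, trivial, Set.disjoint_empty _⟩ ?_ ?_ ?_
  · rintro s t hst ⟨N, hN, hd⟩
    exact ⟨N, hN, hd.mono_right hst⟩
  · rintro s t ⟨N₁, hN₁, hd₁⟩ ⟨N₂, hN₂, hd₂⟩
    refine ⟨N₁ ⊓ N₂, ⟨hN₁, hN₂⟩, ?_⟩
    rw [Set.disjoint_union_right]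
    exact ⟨hd₁.mono_left Set.inter_subset_left, hd₂.mono_left Set.inter_subset_right⟩
  · intro k hk
    obtain ⟨g, hgK, hkg⟩ := hW.exists_basicOpen_le ⟨k, hk⟩ (hKW hk)
    have hxg : x ∉ U.basicOpen g := fun h => hxK (hgK h)
    obtain ⟨N, hxN, hN⟩ := exists_open_disjoint_basicOpen x hx hxW g hxg
    refine ⟨(U.basicOpen g : Set U), mem_nhdsWithin_of_mem_nhds ((U.basicOpen g).isOpen.mem_nhds hkg),
      N, hxN, ?_⟩
    rw [Set.disjoint_iff_inter_eq_empty, ← Opens.coe_inf, hN]
    rfl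

/-- **Finite sets of codimension zero points of a quasi-separated scheme lie in an affine open.** -/
theorem exists_affineOpen_of_finite_dimZero [QuasiSeparatedSpace U] (F : Set U) (hF : F.Finite)
    (h0 : ∀ u ∈ F, ringKrullDim ↥(U.presheaf.stalk u) = 0) :
    ∃ W : U.Opens, IsAffineOpen W ∧ F ⊆ W := by
  induction F, hF using Set.Finite.induction_on with
  | empty => exact ⟨⊥, isAffineOpen_bot U, Set.empty_subset _⟩
  | @insert x F hxF hF ih =>
    obtain ⟨W, hW, hFW⟩ := ih (fun u hu => h0 u (Set.mem_insert_of_mem _ hu))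
    by_cases hxW : x ∈ W
    · exact ⟨W, hW, Set.insert_subset hxW hFW⟩
    obtain ⟨_, ⟨W', hW', rfl⟩, hxW', -⟩ :=
      U.isBasis_affineOpens.exists_subset_of_mem_open (Set.mem_univ x) isOpen_univ
    have hK : IsCompact ((W ⊓ W' : U.Opens) : Set U) :=
      QuasiSeparatedSpace.inter_isCompact _ _ W.2 hW.isCompact W'.2 hW'.isCompact
    obtain ⟨N, hxN, hNK⟩ := exists_open_disjoint_of_isCompact x (h0 x (Set.mem_insert _ _)) hW' hxW'
      (W ⊓ W') inf_le_right hK (fun h => hxW h.1)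
    obtain ⟨f, hfN, hxf⟩ := hW'.exists_basicOpen_le ⟨x, hxN⟩ hxW'
    have hD : IsAffineOpen (U.basicOpen f) := hW'.basicOpen f
    have hdisj : Disjoint W (U.basicOpen f) := by
      rw [← Opens.coe_disjoint, Set.disjoint_left]
      intro y hyW hyf
      exact Set.disjoint_left.1 hNK (hfN hyf) ⟨hyW, U.basicOpen_le f hyf⟩
    exact ⟨W ⊔ U.basicOpen f, hW.sup_of_disjoint hD hdisj,
      Set.insert_subset (Or.inr hxf) (hFW.trans (fun y hy => Or.inl hy))⟩

end Groth.Agent.H1.DimZeroAffine
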