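import Groth.Agent.Lib.Helper1.MonoRepH
import Groth.Agent.Lib.Helper5.AlgSpLocPBC
import Groth.Agent.Lib.Helper5.AlgSpDiagUnram
import Groth.Agent.Lib.Helper5.AlgSpInf3
import Groth.Agent.Lib.Helper7.AlgSpMono

/-!
# Monomorphisms locally of finite type between algebraic spaces (helper1)

* `points_map_injective_of_mono`, `isUnivInjectiveMor_of_mono`
* `exists_rep_of_mono_lft`: a monomorphism locally of finite type is representable by
  monomorphisms locally of finite type.
* `locP_of_mono_lft`
* `mono_of_unramified_univInjective`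
* `isSeparatedMor_of_mono`
-/

set_option autoImplicit false
universe u
open CategoryTheory CategoryTheory.Limits AlgebraicGeometry Opposite

namespace Groth.Agent.H1.MonoSp

open AlgSp Groth.Agent.H1.MonoRep

variable {S : Scheme.{u}}

theorem app_injective_of_mono {F G : Sp S} (m : F ⟶ G) [Mono m] (T : (Over S)ᵒᵖ) :
    Function.Injective (m.hom.app T) := by
  have h1 : Mono m.hom := (Sheaf.Hom.mono_iff_presheaf_mono _ _ m).1 inferInstance
  have h2 := (NatTrans.mono_iff_mono_app m.hom).1 h1 T
  exact (mono_iff_injective _).1 h2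

theorem points_map_injective_of_mono {F G : Sp S} (m : F ⟶ G) [Mono m] :
    Function.Injective (Points.map m) := by
  intro x y
  induction x using Points.ind with
  | h p =>
    induction y using Points.ind with
    | h q =>
      intro h
      rw [Points.map_mk, Points.map_mk, Points.mk_eq_mk_iff] at h
      obtain ⟨Ω, hΩ, w, a, b, hab⟩ := h
      apply Points.sound
      refine ⟨Ω, hΩ, w, a, b, app_injective_of_mono m _ ?_⟩
      rw [NatTrans.naturality_apply, NatTrans.naturality_apply]
      exact hab

theorem isUnivInjectiveMor_of_mono {F G : Sp S} (f : F ⟶ G) [Mono f] : IsUnivInjectiveMor f := by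
  intro Z Z' _ g fst snd sq
  haveI : Mono snd := sq.mono_snd_of_mono
  exact points_map_injective_of_mono snd

/-- A monomorphism locally of finite type of algebraic spaces is representable, by monomorphisms
locally of finite type. -/
theorem exists_rep_of_mono_lft {X Y : Sp S} (hX : IsAlgSpace X) (hY : IsAlgSpace Y) (f : X ⟶ Y)
    [Mono f] (hf : LocP @LocallyOfFiniteType f) {T : Over S} (ξ : (yon S).obj T ⟶ Y) :
    ∃ (I : Over S) (j : I ⟶ T) (k : (yon S).obj I ⟶ X),
      IsPullback k ((yon S).map j) f ξ ∧ Mono j ∧ LocallyOfFiniteType j.left := by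
  have sq : IsPullback (pullback.fst f ξ) (pullback.snd f ξ) f ξ := IsPullback.of_hasPullback _ _
  obtain ⟨U3, V2, π, β, c, hπ, hβe, hce, hcs, hc⟩ :=
    Groth.Agent.Lib.helper5.LocPBC.exists_chart (P := @LocallyOfFiniteType) hX hY
      (IsAlgSpace.yon_obj T) sq hf
  obtain ⟨b, rfl⟩ := (yon S).map_surjective β
  have hb : Etale b.left := (repWith_yon_map_iff _ _).1 hβe
  haveI : LocallyOfFiniteType π.left := hπ
  haveI : LocallyOfFiniteType (π ≫ b).left := by
    rw [Over.comp_left]
    infer_instance
  haveI : Epi c := Groth.Agent.Lib.helper5.epi_of_etale_surjective c hce hcs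
  haveI : Mono (pullback.snd f ξ) := sq.mono_snd_of_mono
  obtain ⟨I, j, e, he, hjm, hjl⟩ := exists_rep_of_mono (pullback.snd f ξ) c hce (π ≫ b)
    (by rw [hc, Functor.map_comp])
  refine ⟨I, j, e.hom ≫ pullback.fst f ξ, ?_, hjm, hjl⟩
  exact IsPullback.of_iso sq e.symm (Iso.refl _) (Iso.refl _) (Iso.refl _) (by simp)
    (by simp [← he]) (by simp) (by simp)

/-- A monomorphism locally of finite type of algebraic spaces satisfies, étale locally, any
property of morphisms of schemes satisfied by étale morphisms and by monomorphisms locally of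
finite type and stable under composition. -/
theorem locP_of_mono_lft {X Y : Sp S} (hX : IsAlgSpace X) (hY : IsAlgSpace Y) (f : X ⟶ Y)
    [Mono f] (hf : LocP @LocallyOfFiniteType f) (P : MorphismProperty Scheme.{u})
    (hP1 : ∀ {A B : Scheme.{u}} (g : A ⟶ B), Etale g → P g)
    (hP2 : ∀ {A B : Scheme.{u}} (g : A ⟶ B), Mono g → LocallyOfFiniteType g → P g)
    (hP3 : ∀ {A B C : Scheme.{u}} (g : A ⟶ B) (g' : B ⟶ C), P g → P g' → P (g ≫ g')) :
    LocP P f := by
  intro U V a b h ha hb hsq
  obtain ⟨I, j, k, sq, hjm, hjl⟩ := exists_rep_of_mono_lft hX hY f hf b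
  have hk : RepWith @Etale k := (repWith_isStableUnderBaseChange (S := S) @Etale).of_isPullback
    sq.flip hb
  obtain ⟨m', hm1, hm2⟩ := sq.exists_lift a ((yon S).map h) hsq
  obtain ⟨m, rfl⟩ := (yon S).map_surjective m'
  have hme : RepWith @Etale ((yon S).map m) :=
    Groth.Agent.Lib.helper5.LocPBC.repWith_etale_of_comp _ k hk (by rw [hm1]; exact ha)
  have hme' : Etale m.left := (repWith_yon_map_iff _ _).1 hme
  have hmj : m ≫ j = h := (yon S).map_injective (by rw [Functor.map_comp, hm2])
  rw [← hmj, Over.comp_left]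
  haveI : Mono j := hjm
  haveI : Mono j.left := inferInstance
  exact hP3 _ _ (hP1 _ hme') (hP2 _ inferInstance hjl)

/-- An unramified universally injective morphism of algebraic spaces is a monomorphism. -/
theorem mono_of_unramified_univInjective {X Y : Sp S} (hX : IsAlgSpace X) (hY : IsAlgSpace Y)
    (f : X ⟶ Y) (hf : LocP (@LocallyOfFiniteType ⊓ @FormallyUnramified) f)
    (hinj : IsUnivInjectiveMor f) : Mono f := by
  have sq : IsPullback (pullback.fst f f) (pullback.snd f f) f f := IsPullback.of_hasPullback f f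
  have hΔoi : RepWith @IsOpenImmersion (pullback.diagonal f) :=
    Groth.Agent.Lib.helper5.DiagUnram.repWith_oi_diagonal_of_unramified hX hY f hf
  have hΔ1 : pullback.diagonal f ≫ pullback.fst f f = 𝟙 X := pullback.diagonal_fst f
  have hΔ2 : pullback.diagonal f ≫ pullback.snd f f = 𝟙 X := pullback.diagonal_snd f
  have hinj2 : Function.Injective (Points.map (pullback.snd f f)) := hinj hX f _ _ sq
  have hΔs : IsSurjectiveMor (pullback.diagonal f) := fun z =>
    ⟨Points.map (pullback.snd f f) z, hinj2 (by rw [← Points.map_comp, hΔ2, Points.map_id])⟩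
  have hΔiso := Groth.Agent.S10194.isIso_of_openImmersion_of_surjective _ hΔoi hΔs
  have hpr : pullback.fst f f = pullback.snd f f := by
    rw [← cancel_epi (pullback.diagonal f), hΔ1, hΔ2]
  refine ⟨fun a b h => ?_⟩
  obtain ⟨l, h1, h2⟩ := sq.exists_lift a b h
  rw [← h1, ← h2, hpr]

/-- A monomorphism of sheaves is separated. -/
theorem isSeparatedMor_of_mono {F G : Sp S} (f : F ⟶ G) [Mono f] : IsSeparatedMor f := by
  haveI : IsIso (pullback.diagonal f) := inferInstance
  exact Groth.Agent.Lib.helper7.repWith_of_isIso @IsClosedImmersion (pullback.diagonal f)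

end Groth.Agent.H1.MonoSp
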