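import Groth.Agent.S9946
import Mathlib.AlgebraicGeometry.ZariskisMainTheorem

/-!
# Quasi-affine descent for separated locally quasi-finite schemes over an étale cover (helper1)
-/

set_option autoImplicit false
universe u
open CategoryTheory CategoryTheory.Limits AlgebraicGeometry Opposite

namespace Groth.Agent.H1.QDesc

open AlgSp

variable {S : Scheme.{u}}

/-- **Zariski's main theorem**: a quasi-compact separated locally quasi-finite scheme over an affine
scheme is quasi-affine. -/
theorem isQuasiAffine_of_lqf {W Z : Scheme.{u}} (f : W ⟶ Z) [IsAffine Z] [LocallyQuasiFinite f]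
    [LocallyOfFiniteType f] [IsSeparated f] [QuasiCompact f] : W.IsQuasiAffine := by
  have : IsAffine f.normalization := isAffine_of_isAffineHom f.fromNormalization
  have : CompactSpace W := QuasiCompact.compactSpace_of_compactSpace f
  exact Scheme.IsQuasiAffine.of_isImmersion f.toNormalization

/-- A quasi-compact separated locally quasi-finite morphism of schemes is quasi-affine as a morphism of
sheaves. -/
theorem isQuasiAffineMor_yon_map {W T : Over S} (w : W ⟶ T) (h1 : LocallyQuasiFinite w.left)
    (h2 : LocallyOfFiniteType w.left) (h3 : IsSeparated w.left) (h4 : QuasiCompact w.left) :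
    IsQuasiAffineMor ((yon S).map w) := by
  intro Z hZ g
  obtain ⟨z, rfl⟩ := (yon S).map_surjective g
  have sq : IsPullback (pullback.fst w z) (pullback.snd w z) w z := IsPullback.of_hasPullback w z
  have sq' := sq.map (Over.forget S)
  refine ⟨Limits.pullback w z, pullback.snd w z, (yon S).map (pullback.fst w z), sq.map (yon S), ?_⟩
  have : IsAffine Z.left := hZ
  have i1 : LocallyQuasiFinite (pullback.snd w z).left :=
    MorphismProperty.of_isPullback (P := @LocallyQuasiFinite) sq' h1
  have i2 : LocallyOfFiniteType (pullback.snd w z).left :=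
    MorphismProperty.of_isPullback (P := @LocallyOfFiniteType) sq' h2
  have i3 : IsSeparated (pullback.snd w z).left :=
    MorphismProperty.of_isPullback (P := @IsSeparated) sq' h3
  have i4 : QuasiCompact (pullback.snd w z).left :=
    MorphismProperty.of_isPullback (P := @QuasiCompact) sq' h4
  exact isQuasiAffine_of_lqf (pullback.snd w z).left

/-- **Descent.** A sheaf over `h_{T₀}` which becomes a quasi-compact separated locally quasi-finite scheme over
an étale cover `T' ⟶ T₀` is representable. -/
theorem exists_rep_of_etale_cover {T₀ T' W' : Over S} (e₀ : T' ⟶ T₀) (he : Etale e₀.left)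
    (hs : Surjective e₀.left) {U : Sp S} (hU : IsAlgSpace U) (f₀ : U ⟶ (yon S).obj T₀)
    (w' : W' ⟶ T') (h1 : LocallyQuasiFinite w'.left)
    (h2 : LocallyOfFiniteType w'.left) (h3 : IsSeparated w'.left) (h4 : QuasiCompact w'.left)
    (b : (yon S).obj W' ⟶ U) (sq : IsPullback b ((yon S).map w') f₀ ((yon S).map e₀)) :
    ∃ (W : Over S) (c : (yon S).obj W ⟶ U) (w : W ⟶ T₀), IsIso c ∧ c ≫ f₀ = (yon S).map w ∧
      QuasiCompact w.left := by
  let X₁ : Space S := ⟨U, hU⟩
  let Y₁ : Space S := (ofScheme S).obj T₀
  let f₁ : X₁ ⟶ Y₁ := ObjectProperty.homMk f₀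
  have hqa : IsQuasiAffineMor f₁.hom :=
    (Groth.Agent.S9946.result f₁ T' ((yon S).map e₀) ((repWith_yon_map_iff _ _).2 he)
      ((repWith_yon_map_iff _ _).2 hs) b ((yon S).map w') sq
      (isQuasiAffineMor_yon_map w' h1 h2 h3 h4)).2
  have hqc : RepWith @QuasiCompact f₀ := by
    refine Groth.Agent.H1.ZarRep.repWith_of_affine f₀ @QuasiCompact (fun Z hZ g => ?_)
    obtain ⟨W, i, fst', sq', hW⟩ := hqa hZ g
    have : IsAffine Z.left := hZ
    exact ⟨W, i, fst', sq', (inferInstance : QuasiCompact i.left)⟩
  obtain ⟨W, w, c, sqW⟩ := hqc.rep (𝟙 _)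
  have hc : IsIso c := sqW.isIso_fst_of_isIso
  refine ⟨W, c, w, hc, ?_, hqc.property _ _ _ sqW⟩
  rw [sqW.w, Category.comp_id]

end Groth.Agent.H1.QDesc
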