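import Mathlib.CategoryTheory.Limits.Shapes.Pullback.IsPullback.Basic
import Mathlib.CategoryTheory.Limits.Shapes.Diagonal

/-!
# Kernel pair of a base change (helper1)

Pure category theory used in the descent of representability along an étale map `e : T' ⟶ T`:
for `P = X ×_T T'`, the kernel pair of `P ⟶ X` is `P'' = P ×_{T'} T''` with `T'' = T' ×_T T'`.
-/

set_option autoImplicit false
universe v u
open CategoryTheory CategoryTheory.Limits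

namespace Groth.Agent.H1.QDesc

variable {C : Type u} [Category.{v} C] {X T T' T'' P P'' : C} {f : X ⟶ T} {e : T' ⟶ T}
  {p2 : P ⟶ X} {p1 : P ⟶ T'} {t₁ t₂ : T'' ⟶ T'} {r : P'' ⟶ T''} {π₂ : P'' ⟶ P}

theorem exists_pi1 (sq : IsPullback p2 p1 f e) (sqT : IsPullback t₁ t₂ e e)
    (sq₂ : IsPullback π₂ r p1 t₂) :
    ∃ π₁ : P'' ⟶ P, π₁ ≫ p2 = π₂ ≫ p2 ∧ π₁ ≫ p1 = r ≫ t₁ ∧ IsPullback π₁ r p1 t₁ ∧
      IsPullback π₁ π₂ p2 p2 := by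
  have hw : (π₂ ≫ p2) ≫ f = (r ≫ t₁) ≫ e := by
    rw [Category.assoc, sq.w, ← Category.assoc, sq₂.w, Category.assoc, Category.assoc, sqT.w]
  refine ⟨sq.lift (π₂ ≫ p2) (r ≫ t₁) hw, sq.lift_fst _ _ _, sq.lift_snd _ _ _, ?_, ?_⟩
  · -- outer rectangle `P'' = X ×_T T''`
    have h1 : IsPullback (π₂ ≫ p2) r f (t₂ ≫ e) := sq₂.paste_horiz sq
    rw [← sqT.w, ← sq.lift_fst _ _ hw] at h1
    exact IsPullback.of_right h1 (sq.lift_snd _ _ _) sq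
  · have h1 : IsPullback (r ≫ t₁) π₂ e (p1 ≫ e) := sq₂.flip.paste_horiz sqT
    rw [← sq.w, ← sq.lift_snd _ _ hw] at h1
    exact IsPullback.of_right h1 (sq.lift_fst _ _ _) sq.flip

theorem exists_diag (sq : IsPullback p2 p1 f e) (sq₂ : IsPullback π₂ r p1 t₂)
    {π₁ : P'' ⟶ P} (h1 : π₁ ≫ p2 = π₂ ≫ p2) (h2 : π₁ ≫ p1 = r ≫ t₁)
    (Δ : T' ⟶ T'') (hΔ₁ : Δ ≫ t₁ = 𝟙 _) (hΔ₂ : Δ ≫ t₂ = 𝟙 _) :
    ∃ d : P ⟶ P'', d ≫ π₁ = 𝟙 _ ∧ d ≫ π₂ = 𝟙 _ ∧ IsPullback d p1 r Δ := by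
  have hw : 𝟙 P ≫ p1 = (p1 ≫ Δ) ≫ t₂ := by
    rw [Category.id_comp, Category.assoc, hΔ₂, Category.comp_id]
  have e1 : sq₂.lift (𝟙 P) (p1 ≫ Δ) hw ≫ π₂ = 𝟙 _ := sq₂.lift_fst _ _ _
  have e2 : sq₂.lift (𝟙 P) (p1 ≫ Δ) hw ≫ r = p1 ≫ Δ := sq₂.lift_snd _ _ _
  refine ⟨sq₂.lift (𝟙 P) (p1 ≫ Δ) hw, ?_, e1, ?_⟩
  · apply sq.hom_ext
    · rw [Category.assoc, h1, ← Category.assoc, e1]
    · rw [Category.assoc, h2, ← Category.assoc, e2, Category.assoc, hΔ₁, Category.comp_id,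
        Category.id_comp]
  · refine IsPullback.of_right ?_ e2 sq₂
    rw [e1, hΔ₂]
    exact IsPullback.of_horiz_isIso ⟨by rw [Category.id_comp, Category.comp_id]⟩

theorem exists_kappa (sq₂ : IsPullback π₂ r p1 t₂) {π₁ : P'' ⟶ P} (sq₁ : IsPullback π₁ r p1 t₁)
    {C₀ PC : C} (c : C₀ ⟶ T'') {q1 : PC ⟶ C₀} {q2 : PC ⟶ P}
    (sqC : IsPullback q2 q1 p1 (c ≫ t₂)) :
    ∃ κ : PC ⟶ P'', κ ≫ π₂ = q2 ∧ κ ≫ r = q1 ≫ c ∧ IsPullback κ q1 r c ∧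
      IsPullback (κ ≫ π₁) q1 p1 (c ≫ t₁) := by
  have hw : q2 ≫ p1 = (q1 ≫ c) ≫ t₂ := by rw [sqC.w, Category.assoc]
  have e1 : sq₂.lift q2 (q1 ≫ c) hw ≫ π₂ = q2 := sq₂.lift_fst _ _ _
  have e2 : sq₂.lift q2 (q1 ≫ c) hw ≫ r = q1 ≫ c := sq₂.lift_snd _ _ _
  have h3 : IsPullback (sq₂.lift q2 (q1 ≫ c) hw) q1 r c := by
    refine IsPullback.of_right ?_ e2 sq₂
    rw [e1]
    exact sqC
  exact ⟨_, e1, e2, h3, h3.paste_horiz sq₁⟩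

end Groth.Agent.H1.QDesc
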