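import Groth.Agent.Lib.Helper1.QGlue
import Groth.Agent.Lib.Helper1.QDescA
import Groth.Agent.Lib.Helper1.QDescB
import Groth.Agent.Lib.Helper1.MonoSp
import Groth.Agent.Lib.Helper5.AlgSpLocPInst
import Groth.Agent.S9904

/-!
# Descent of representable open subspaces along an étale map (helper1)
-/

set_option autoImplicit false
universe u
open CategoryTheory CategoryTheory.Limits AlgebraicGeometry Opposite

namespace Groth.Agent.H1.QDesc

open AlgSp Groth.Agent.Lib.helper5 Groth.Agent.Lib.helper5.OpenSub Groth.Agent.H1.QGlue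

variable {S : Scheme.{u}}

/-! ## Scheme lemmas -/

theorem quasiCompact_of_comp_surjective {X Y Z : Scheme.{u}} (f : X ⟶ Y) (g : Y ⟶ Z)
    (hf : Function.Surjective f) [QuasiCompact (f ≫ g)] : QuasiCompact g := by
  rw [quasiCompact_iff_forall_isAffineOpen]
  intro U hU
  have h1 : IsCompact ((f ≫ g) ⁻¹ᵁ U : Set X) := (f ≫ g).isCompact_preimage hU.isCompact
  have h2 : (g ⁻¹ᵁ U : Set Y) = f '' ((f ≫ g) ⁻¹ᵁ U : Set X) := by
    ext y
    constructor
    · intro hy
      obtain ⟨x, rfl⟩ := hf y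
      exact ⟨x, by simpa using hy, rfl⟩
    · rintro ⟨x, hx, rfl⟩
      simpa using hx
  rw [h2]
  exact h1.image f.continuous

theorem quasiCompact_of_two {W₁ W₂ W T : Scheme.{u}} (g₁ : W₁ ⟶ W) (g₂ : W₂ ⟶ W) (w : W ⟶ T)
    (hcov : ∀ x : W, x ∈ Set.range g₁ ∨ x ∈ Set.range g₂) [QuasiCompact (g₁ ≫ w)]
    [QuasiCompact (g₂ ≫ w)] : QuasiCompact w := by
  rw [quasiCompact_iff_forall_isAffineOpen]
  intro U hU
  have h1 : IsCompact ((g₁ ≫ w) ⁻¹ᵁ U : Set W₁) := (g₁ ≫ w).isCompact_preimage hU.isCompact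
  have h2 : IsCompact ((g₂ ≫ w) ⁻¹ᵁ U : Set W₂) := (g₂ ≫ w).isCompact_preimage hU.isCompact
  have h3 : (w ⁻¹ᵁ U : Set W) = g₁ '' ((g₁ ≫ w) ⁻¹ᵁ U : Set W₁) ∪ g₂ '' ((g₂ ≫ w) ⁻¹ᵁ U : Set W₂) := by
    ext y
    constructor
    · intro hy
      rcases hcov y with ⟨x, rfl⟩ | ⟨x, rfl⟩
      · exact Or.inl ⟨x, by simpa using hy, rfl⟩
      · exact Or.inr ⟨x, by simpa using hy, rfl⟩
    · rintro (⟨x, hx, rfl⟩ | ⟨x, hx, rfl⟩)
      · simpa using hx
      · simpa using hx
  rw [h3]
  exact (h1.image g₁.continuous).union (h2.image g₂.continuous)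

/-! ## Separatedness -/

theorem isSeparatedMor_of_isPullback {X Y V P : Sp S} {f : X ⟶ Y} {p : V ⟶ Y} {fst : P ⟶ X}
    {snd : P ⟶ V} (sq : IsPullback fst snd f p) (hf : IsSeparatedMor f) : IsSeparatedMor snd :=
  (RepWith (S := S) @IsClosedImmersion).of_isPullback
    (Groth.Agent.S9904.isPullback_diagonal_map sq) hf

theorem isPullback_diagonal_comp_mono {C : Type*} [Category C] [HasPullbacks C] {A P B : C}
    (m : A ⟶ P) [Mono m] (p : P ⟶ B) :
    IsPullback (pullback.diagonal (m ≫ p)) m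
      (pullback.map (m ≫ p) (m ≫ p) p p m m (𝟙 B) (by simp) (by simp)) (pullback.diagonal p) := by
  have e1 : pullback.map (m ≫ p) (m ≫ p) p p m m (𝟙 B) (by simp) (by simp) ≫ pullback.fst p p =
      pullback.fst _ _ ≫ m := pullback.lift_fst _ _ _
  have e2 : pullback.map (m ≫ p) (m ≫ p) p p m m (𝟙 B) (by simp) (by simp) ≫ pullback.snd p p =
      pullback.snd _ _ ≫ m := pullback.lift_snd _ _ _
  refine isPullback_of_exists_lift ?_ ?_ ?_
  · apply pullback.hom_ext
    · rw [Category.assoc (pullback.diagonal (m ≫ p)), e1, ← Category.assoc, pullback.diagonal_fst,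
        Category.id_comp, Category.assoc m, pullback.diagonal_fst, Category.comp_id]
    · rw [Category.assoc (pullback.diagonal (m ≫ p)), e2, ← Category.assoc, pullback.diagonal_snd,
        Category.id_comp, Category.assoc m, pullback.diagonal_snd, Category.comp_id]
  · intro Z a b hab
    have h1 : a ≫ pullback.fst _ _ ≫ m = b := by
      have := congrArg (· ≫ pullback.fst p p) hab
      simp only [Category.assoc] at this
      rw [e1, pullback.diagonal_fst, Category.comp_id] at this
      exact this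
    have h2 : a ≫ pullback.snd _ _ ≫ m = b := by
      have := congrArg (· ≫ pullback.snd p p) hab
      simp only [Category.assoc] at this
      rw [e2, pullback.diagonal_snd, Category.comp_id] at this
      exact this
    have h3 : a ≫ pullback.fst _ _ = a ≫ pullback.snd _ _ := by
      rw [← cancel_mono m, Category.assoc, Category.assoc, h1, h2]
    refine ⟨a ≫ pullback.fst _ _, ?_, by rw [Category.assoc, h1]⟩
    apply pullback.hom_ext
    · simp
    · simp [h3]
  · intro Z l l' _ h
    exact (cancel_mono m).1 h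

theorem isSeparatedMor_comp_mono {A P B : Sp S} (m : A ⟶ P) [Mono m] (p : P ⟶ B)
    (hp : IsSeparatedMor p) : IsSeparatedMor (m ≫ p) :=
  (RepWith (S := S) @IsClosedImmersion).of_isPullback (isPullback_diagonal_comp_mono m p).flip hp

end Groth.Agent.H1.QDesc
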