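import Mathlib
import Groth.Agent.Lib.Helper1.QDescC

set_option autoImplicit false
universe u
open CategoryTheory CategoryTheory.Limits AlgebraicGeometry

namespace Groth.Agent.H1.ZSplit

variable {X S : Scheme.{u}} (f : X ⟶ S) [LocallyOfFiniteType f]

set_option backward.defeqAttrib.useBackward true in
set_option backward.isDefEq.respectTransparency false in
open TensorProduct in
theorem exists_etale_of_quasiFiniteAt [IsSeparated f]
    {x : X} {s : S} (h : f x = s) (hx : f.QuasiFiniteAt x) :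
    ∃ (U : Scheme.{u}) (g : U ⟶ S) (u : U), Etale g ∧ g u = s ∧
    ∃ (V : (pullback f g).Opens), IsFinite (V.ι ≫ pullback.snd f g) ∧
      (∃ v ∈ V, pullback.snd f g v = u ∧ pullback.fst f g v = x) ∧
      (∀ z ∈ V, pullback.snd f g z = u → pullback.fst f g z = x) ∧
      (∀ z, pullback.snd f g z = u → pullback.fst f g z = x → z ∈ V) := by
  obtain ⟨_, ⟨U, hU, rfl⟩, hxU, -⟩ := S.isBasis_affineOpens.exists_subset_of_mem_open
    (Set.mem_univ (f x)) isOpen_univ
  obtain ⟨_, ⟨V, hV, rfl⟩, hxV, hUV : V ≤ f ⁻¹ᵁ U⟩ :=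
    X.isBasis_affineOpens.exists_subset_of_mem_open hxU (f ⁻¹ᵁ U).2
  have : (f.appLE U V hUV).hom.FiniteType := f.finiteType_appLE hU hV hUV
  algebraize [(f.appLE U V hUV).hom]
  have : (hV.primeIdealOf ⟨x, hxV⟩).asIdeal.LiesOver (hU.primeIdealOf ⟨f x, hxU⟩).asIdeal := by
    suffices hU.primeIdealOf ⟨f x, hxU⟩ = Spec.map (f.appLE U V hUV) (hV.primeIdealOf ⟨x, hxV⟩) from
      ⟨congr(($this).1)⟩
    apply hU.isoSpec.inv.homeomorph.injective
    apply Subtype.ext
    simp only [IsAffineOpen.primeIdealOf, Scheme.Hom.homeomorph_apply,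
      ← Scheme.Hom.comp_apply, ← Scheme.Opens.ι_apply, IsAffineOpen.isoSpec_hom]
    simp
  have : Algebra.QuasiFiniteAt Γ(S, U) (hV.primeIdealOf ⟨x, hxV⟩).asIdeal :=
    hx.quasiFiniteAt hV hU hUV hxV
  obtain ⟨R, _, _, _, P, _, _, e, _, P', _, _, hP', heP', hpP, _, H⟩ :=
    Algebra.exists_etale_isIdempotentElem_forall_liesOver_eq
    (hU.primeIdealOf ⟨f x, hxU⟩).asIdeal (hV.primeIdealOf ⟨x, hxV⟩).asIdeal
  have : (algebraMap R (Localization.Away e)).Finite := RingHom.finite_algebraMap.mpr ‹_›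
  let φ : Γ(S, U) ⟶ .of R := CommRingCat.ofHom <| algebraMap Γ(S, U) R
  have hφ : φ.hom.Etale := RingHom.etale_algebraMap.mpr ‹_›
  have : Etale (Spec.map φ) := HasRingHomProperty.Spec_iff.mpr hφ
  let e₁ : Spec (.of (R ⊗ Γ(X, V))) ≅ pullback (Spec.map (f.appLE U V hUV)) (Spec.map φ) :=
    (pullbackSpecIso _ _ _).symm ≪≫ pullbackSymmetry _ _
  have he₁ : e₁.hom ≫ pullback.fst _ _ =
      Spec.map (CommRingCat.ofHom Algebra.TensorProduct.includeRight.toRingHom) := by
    dsimp [e₁, RingHom.algebraMap_toAlgebra]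
    rw [Category.assoc, pullbackSymmetry_hom_comp_fst]
    exact pullbackSpecIso_inv_snd ..
  let g : Spec (.of (R ⊗[Γ(S, U)] Γ(X, V))) ⟶ pullback f (Spec.map φ ≫ hU.fromSpec) :=
    e₁.hom ≫ pullback.map _ _ _ _ hV.fromSpec (𝟙 _) hU.fromSpec
      (IsAffineOpen.SpecMap_appLE_fromSpec ..) (by simp)
  let W₁ := g ''ᵁ PrimeSpectrum.basicOpen e
  have : IsFinite (W₁.ι ≫ pullback.snd f _) := by
    let ι : Spec (.of (Localization.Away e)) ⟶ pullback f (Spec.map φ ≫ hU.fromSpec) :=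
      Spec.map (CommRingCat.ofHom <| algebraMap _ _) ≫ g
    have : ι.opensRange = W₁ := by
      simp only [Scheme.Hom.opensRange_comp, ι, W₁]
      congr 1
      exact TopologicalSpace.Opens.ext <| PrimeSpectrum.localization_away_comap_range _ _
    rw [← this, ← MorphismProperty.cancel_left_of_respectsIso @IsFinite
      (Scheme.Hom.isoOpensRange _).hom]
    have H : (pullbackSpecIso _ R _).inv ≫ pullback.fst _ (Spec.map (f.appLE U V hUV)) = _ :=
      pullbackSpecIso_inv_fst ..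
    simpa [Scheme.Hom.isoOpensRange, ι, g, e₁, RingHom.algebraMap_toAlgebra, φ, H,
      ← Spec.map_comp, IsFinite.SpecMap_iff]
  have hgf : g ≫ pullback.fst f _ =
      Spec.map (CommRingCat.ofHom Algebra.TensorProduct.includeRight.toRingHom) ≫ hV.fromSpec := by
    simp [g, reassoc_of% he₁]
  have hgs : g ≫ pullback.snd f _ =
      Spec.map (CommRingCat.ofHom (Algebra.TensorProduct.includeLeftRingHom :
        R →+* R ⊗[Γ(S, U)] Γ(X, V))) := by
    have H : (pullbackSpecIso _ R _).inv ≫ pullback.fst _ (Spec.map (f.appLE U V hUV)) = _ :=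
      pullbackSpecIso_inv_fst ..
    simp [g, e₁, H, RingHom.algebraMap_toAlgebra, φ]
  have hfstP' : pullback.fst f _ (g ⟨P', ‹_›⟩) = x := by
    trans hV.fromSpec ⟨P'.comap Algebra.TensorProduct.includeRight.toRingHom, inferInstance⟩
    · simp [← Scheme.Hom.comp_apply, -Scheme.Hom.comp_base, g, reassoc_of% he₁]; rfl
    convert! hV.fromSpec_primeIdealOf ⟨x, hxV⟩
  have hover : ∀ p : Spec (.of (R ⊗[Γ(S, U)] Γ(X, V))),
      pullback.snd f (Spec.map φ ≫ hU.fromSpec) (g p) = ⟨P, ‹_›⟩ → p.asIdeal.LiesOver P := by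
    intro p hp
    rw [← Scheme.Hom.comp_apply, hgs] at hp
    have h1 : P = (Spec.map (CommRingCat.ofHom (Algebra.TensorProduct.includeLeftRingHom :
        R →+* R ⊗[Γ(S, U)] Γ(X, V))) p).asIdeal := congr(($hp).1).symm
    refine ⟨h1.trans ?_⟩
    rfl
  have hinj : Function.Injective hV.fromSpec := hV.fromSpec.isOpenEmbedding.injective
  have hcomap : ∀ p : Spec (.of (R ⊗[Γ(S, U)] Γ(X, V))),
      pullback.fst f (Spec.map φ ≫ hU.fromSpec) (g p) = x →
      p.asIdeal.comap Algebra.TensorProduct.includeRight.toRingHom =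
        (hV.primeIdealOf ⟨x, hxV⟩).asIdeal := by
    intro p hp
    rw [← Scheme.Hom.comp_apply, hgf, Scheme.Hom.comp_apply] at hp
    have h2 : hV.fromSpec (hV.primeIdealOf ⟨x, hxV⟩) = x := hV.fromSpec_primeIdealOf ⟨x, hxV⟩
    have h3 := hinj (hp.trans h2.symm)
    exact congr(($h3).1)
  refine ⟨Spec (.of R), Spec.map φ ≫ hU.fromSpec, ⟨P, ‹_›⟩, inferInstance, ?_, W₁, ‹_›,
    ⟨g ⟨P', ‹_›⟩, ⟨⟨P', ‹_›⟩, heP', rfl⟩, ?_, hfstP'⟩, ?_, ?_⟩
  · dsimp [Spec.map_apply]
    convert! hU.fromSpec_primeIdealOf ⟨f x, hxU⟩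
    · exact PrimeSpectrum.ext (Ideal.over_def _ _).symm
    · simp [h]
  · rw [← Scheme.Hom.comp_apply, hgs]
    exact PrimeSpectrum.ext (P'.over_def P).symm
  · rintro _ ⟨p, hp, rfl⟩ hz
    have hl := hover p hz
    have hpP' : p.asIdeal = P' := H p.asIdeal p.isPrime hl hp
    have hpp : p = ⟨P', ‹_›⟩ := PrimeSpectrum.ext hpP'
    rw [hpp]
    exact hfstP'
  · intro z hz1 hz2
    have hzr : z ∈ Set.range g := by
      have hm := Scheme.Pullback.range_map (f := Spec.map (f.appLE U V hUV)) (g := Spec.map φ) f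
        (Spec.map φ ≫ hU.fromSpec) hV.fromSpec (𝟙 _) hU.fromSpec
        (IsAffineOpen.SpecMap_appLE_fromSpec ..) (by simp)
      have hz : z ∈ Set.range (pullback.map (Spec.map (f.appLE U V hUV)) (Spec.map φ) f
          (Spec.map φ ≫ hU.fromSpec) hV.fromSpec (𝟙 _) hU.fromSpec
          (IsAffineOpen.SpecMap_appLE_fromSpec ..) (by simp)) := by
        rw [hm]
        refine ⟨?_, ?_⟩
        · rw [hV.range_fromSpec]
          show pullback.fst f (Spec.map φ ≫ hU.fromSpec) z ∈ V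
          rw [hz2]
          exact hxV
        · simp
      obtain ⟨y, hy⟩ := hz
      refine ⟨e₁.inv y, ?_⟩
      rw [← hy]
      simp [g, ← Scheme.Hom.comp_apply]
    obtain ⟨p, rfl⟩ := hzr
    have hl := hover p hz1
    have hc := hcomap p hz2
    have hpP' : p.asIdeal = P' :=
      Ideal.eq_of_comap_eq_comap_of_bijective_residueFieldMap hpP p.asIdeal P' (hc.trans hP'.symm)
    have hep : e ∉ p.asIdeal := by rw [hpP']; exact heP'
    exact ⟨p, hep, rfl⟩



omit [LocallyOfFiniteType f] in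
/-- The union of two opens finite over the base is finite over the base. -/
theorem isFinite_sup {Q U : Scheme.{u}} (h : Q ⟶ U) [IsSeparated h] [LocallyQuasiFinite h]
    [LocallyOfFiniteType h] (A B : Q.Opens) (hA : IsFinite (A.ι ≫ h)) (hB : IsFinite (B.ι ≫ h)) :
    IsFinite ((A ⊔ B).ι ≫ h) := by
  let iA : A.toScheme ⟶ (A ⊔ B).toScheme := Q.homOfLE le_sup_left
  let iB : B.toScheme ⟶ (A ⊔ B).toScheme := Q.homOfLE le_sup_right
  let c : A.toScheme ⨿ B.toScheme ⟶ (A ⊔ B).toScheme := coprod.desc iA iB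
  have hc : c ≫ ((A ⊔ B).ι ≫ h) = coprod.desc (A.ι ≫ h) (B.ι ≫ h) := by
    apply coprod.hom_ext <;> simp [c, iA, iB]
  have hs : Function.Surjective c := by
    intro x
    rcases x.2 with hx | hx
    · refine ⟨(coprod.inl : A.toScheme ⟶ A.toScheme ⨿ B.toScheme) ⟨x.1, hx⟩, ?_⟩
      rw [← Scheme.Hom.comp_apply, coprod.inl_desc]
      apply (A ⊔ B).ι.injective
      rw [← Scheme.Hom.comp_apply, Scheme.homOfLE_ι]
      rfl
    · refine ⟨(coprod.inr : B.toScheme ⟶ A.toScheme ⨿ B.toScheme) ⟨x.1, hx⟩, ?_⟩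
      rw [← Scheme.Hom.comp_apply, coprod.inr_desc]
      apply (A ⊔ B).ι.injective
      rw [← Scheme.Hom.comp_apply, Scheme.homOfLE_ι]
      rfl
  haveI : Surjective c := ⟨hs⟩
  haveI : IsFinite (c ≫ ((A ⊔ B).ι ≫ h)) := by rw [hc]; infer_instance
  haveI : UniversallyClosed ((A ⊔ B).ι ≫ h) := UniversallyClosed.of_comp_surjective c _
  haveI : QuasiCompact ((A ⊔ B).ι ≫ h) := QDesc.quasiCompact_of_comp_surjective c _ hs
  haveI : IsProper ((A ⊔ B).ι ≫ h) := {}
  exact IsFinite.of_isProper_of_locallyQuasiFinite _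

omit [LocallyOfFiniteType f] in
/-- Finiteness over the base of a preimage of an open under a base change. -/
theorem isFinite_preimage_of_isPullback {Q Q' U U' : Scheme.{u}} {π : Q ⟶ Q'} {h : Q ⟶ U}
    {h' : Q' ⟶ U'} {p : U ⟶ U'} (sq : IsPullback π h h' p) (V' : Q'.Opens)
    (hV' : IsFinite (V'.ι ≫ h')) : IsFinite ((π ⁻¹ᵁ V').ι ≫ h) := by
  have s1 := isPullback_morphismRestrict π V'
  have s2 := s1.flip.paste_horiz sq.flip
  exact MorphismProperty.of_isPullback (P := @IsFinite) s2.flip hV'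

omit [LocallyOfFiniteType f] in
/-- **Étale-local splitting at finitely many points** (schemes). -/
theorem exists_etale_split_finset {W T : Scheme.{u}} (w : W ⟶ T) [LocallyOfFiniteType w]
    [IsSeparated w] [LocallyQuasiFinite w] (t : T) (E : Finset W) (hE : ∀ e ∈ E, w e = t) :
    ∃ (U : Scheme.{u}) (g : U ⟶ T) (u : U), Etale g ∧ g u = t ∧
      ∃ V : (pullback w g).Opens, IsFinite (V.ι ≫ pullback.snd w g) ∧
        (∀ z ∈ V, pullback.snd w g z = u → pullback.fst w g z ∈ E) ∧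
        (∀ z, pullback.snd w g z = u → pullback.fst w g z ∈ E → z ∈ V) := by
  classical
  induction E using Finset.induction_on with
  | empty =>
    refine ⟨T, 𝟙 T, t, inferInstance, rfl, ⊥, ?_, ?_, ?_⟩
    · haveI : IsEmpty ↥((⊥ : (pullback w (𝟙 T)).Opens).toScheme) := ⟨fun x => x.2⟩
      infer_instance
    · intro z hz
      exact hz.elim
    · intro z _ hz
      simp at hz
  | insert e E' he ih =>
    obtain ⟨U', g', u', hg', hu', V', hfin', hA', hB'⟩ :=
      ih (fun e' he' => hE e' (Finset.mem_insert_of_mem he'))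
    obtain ⟨U₁, g₁, u₁, hg₁, hu₁, V₁, hfin₁, -, hA₁, hB₁⟩ :=
      exists_etale_of_quasiFiniteAt w (hE e (Finset.mem_insert_self e E')) (w.quasiFiniteAt e)
    obtain ⟨u, huu', huu₁⟩ := Scheme.Pullback.exists_preimage_pullback (f := g') (g := g₁) u' u₁
      (hu'.trans hu₁.symm)
    let p' : pullback g' g₁ ⟶ U' := pullback.fst g' g₁
    let p₁ : pullback g' g₁ ⟶ U₁ := pullback.snd g' g₁
    let g : pullback g' g₁ ⟶ T := p' ≫ g'
    have hgg₁ : g = p₁ ≫ g₁ := pullback.condition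
    let π' : pullback w g ⟶ pullback w g' :=
      pullback.map w g w g' (𝟙 W) p' (𝟙 T) (by simp) (by simp [g])
    let π₁ : pullback w g ⟶ pullback w g₁ :=
      pullback.map w g w g₁ (𝟙 W) p₁ (𝟙 T) (by simp) (by rw [Category.comp_id, hgg₁])
    have hπ'1 : π' ≫ pullback.fst w g' = pullback.fst w g :=
      (pullback.lift_fst _ _ _).trans (Category.comp_id _)
    have hπ'2 : π' ≫ pullback.snd w g' = pullback.snd w g ≫ p' := pullback.lift_snd _ _ _
    have hπ₁1 : π₁ ≫ pullback.fst w g₁ = pullback.fst w g :=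
      (pullback.lift_fst _ _ _).trans (Category.comp_id _)
    have hπ₁2 : π₁ ≫ pullback.snd w g₁ = pullback.snd w g ≫ p₁ := pullback.lift_snd _ _ _
    have sq' : IsPullback π' (pullback.snd w g) (pullback.snd w g') p' := by
      refine IsPullback.of_right ?_ hπ'2 (IsPullback.of_hasPullback w g')
      rw [hπ'1]
      exact IsPullback.of_hasPullback w g
    have sq₁ : IsPullback π₁ (pullback.snd w g) (pullback.snd w g₁) p₁ := by
      refine IsPullback.of_right ?_ hπ₁2 (IsPullback.of_hasPullback w g₁)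
      rw [hπ₁1, ← hgg₁]
      exact IsPullback.of_hasPullback w g
    have hfA := isFinite_preimage_of_isPullback sq' V' hfin'
    have hfB := isFinite_preimage_of_isPullback sq₁ V₁ hfin₁
    have ha' : ∀ z : ↥(pullback w g), pullback.fst w g' (π' z) = pullback.fst w g z := by
      intro z
      rw [← Scheme.Hom.comp_apply, hπ'1]
    have hb' : ∀ z : ↥(pullback w g), pullback.snd w g' (π' z) = p' (pullback.snd w g z) := by
      intro z
      rw [← Scheme.Hom.comp_apply, hπ'2, Scheme.Hom.comp_apply]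
    have ha₁ : ∀ z : ↥(pullback w g), pullback.fst w g₁ (π₁ z) = pullback.fst w g z := by
      intro z
      rw [← Scheme.Hom.comp_apply, hπ₁1]
    have hb₁ : ∀ z : ↥(pullback w g), pullback.snd w g₁ (π₁ z) = p₁ (pullback.snd w g z) := by
      intro z
      rw [← Scheme.Hom.comp_apply, hπ₁2, Scheme.Hom.comp_apply]
    refine ⟨pullback g' g₁, g, u, inferInstance, ?_, π' ⁻¹ᵁ V' ⊔ π₁ ⁻¹ᵁ V₁,
      isFinite_sup _ _ _ hfA hfB, ?_, ?_⟩
    · show g' (p' u) = t
      rw [huu', hu']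
    · rintro z (hz | hz) hzu
      · have h1 : π' z ∈ V' := hz
        have h2 := hA' (π' z) h1 (by rw [hb', hzu, huu'])
        rw [ha'] at h2
        exact Finset.mem_insert_of_mem h2
      · have h1 : π₁ z ∈ V₁ := hz
        have h2 := hA₁ (π₁ z) h1 (by rw [hb₁, hzu, huu₁])
        rw [ha₁] at h2
        rw [h2]
        exact Finset.mem_insert_self e E'
    · intro z hzu hz
      rcases Finset.mem_insert.1 hz with hz | hz
      · right
        show π₁ z ∈ V₁
        exact hB₁ (π₁ z) (by rw [hb₁, hzu, huu₁]) (by rw [ha₁, hz])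
      · left
        show π' z ∈ V'
        exact hB' (π' z) (by rw [hb', hzu, huu']) (by rw [ha', ]; exact hz)

end Groth.Agent.H1.ZSplit
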