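import Mathlib
import Groth.Agent.Lib.Helper1.ZSplitC
import Groth.Agent.S10265

/-!
# Generic finiteness at a maximal point (schemes) — helper1

* `exists_specializes_of_mem_closure_range`: for a quasi-compact morphism every point of the closure of
  the image is a specialization of a point of the image.
* `exists_open_disjoint_range`: a maximal point not in the image of a quasi-compact morphism has an open
  neighbourhood disjoint from the image.
-/

set_option autoImplicit false
universe u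
open CategoryTheory CategoryTheory.Limits AlgebraicGeometry

namespace Groth.Agent.H1.GenFin

theorem exists_specializes_of_mem_closure_image_affine {C U : Scheme.{u}} (c : C ⟶ U)
    {U₀ : U.Opens} (hU₀ : IsAffineOpen U₀) {C₀ : C.Opens} (hC₀ : IsAffineOpen C₀)
    (e : C₀ ≤ c ⁻¹ᵁ U₀) (y : U) (hy : y ∈ U₀) (hcl : y ∈ closure (c '' (C₀ : Set C))) :
    ∃ x ∈ C₀, c x ⤳ y := by
  set φ := c.appLE U₀ C₀ e with hφ
  set p := hU₀.primeIdealOf ⟨y, hy⟩ with hpdef
  have hp : hU₀.fromSpec p = y := hU₀.fromSpec_primeIdealOf ⟨y, hy⟩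
  have hker : (⊥ : Ideal Γ(C, C₀)).comap φ.hom ≤ p.asIdeal := by
    intro a ha
    by_contra hap
    have hyD : y ∈ U.basicOpen a := by
      have h1 : p ∈ (hU₀.fromSpec ⁻¹ᵁ U.basicOpen a) := by
        rw [hU₀.fromSpec_preimage_basicOpen]
        exact hap
      rw [← hp]
      exact h1
    obtain ⟨_, hxD, ⟨x, hx, rfl⟩⟩ := mem_closure_iff.1 hcl _ (U.basicOpen a).2 hyD
    have h0 : φ.hom a = 0 := by simpa using ha
    have hmem : x ∈ C.basicOpen (φ.hom a) := by
      rw [hφ]
      erw [Scheme.basicOpen_appLE]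
      exact ⟨hx, hxD⟩
    rw [h0, Scheme.basicOpen_zero] at hmem
    exact hmem
  obtain ⟨q, -, hq, hqle⟩ := Ideal.exists_ideal_comap_le_prime p.asIdeal (⊥ : Ideal Γ(C, C₀)) hker
  let q' : Spec Γ(C, C₀) := ⟨q, hq⟩
  refine ⟨hC₀.fromSpec q', ?_, ?_⟩
  · have : hC₀.fromSpec q' ∈ Set.range hC₀.fromSpec := ⟨q', rfl⟩
    rw [hC₀.range_fromSpec] at this
    exact this
  · have h1 : c (hC₀.fromSpec q') = hU₀.fromSpec (Spec.map φ q') := by
      rw [← Scheme.Hom.comp_apply, ← Scheme.Hom.comp_apply, hφ, IsAffineOpen.SpecMap_appLE_fromSpec]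
    rw [h1, ← hp]
    apply Specializes.map _ hU₀.fromSpec.continuous
    exact (PrimeSpectrum.le_iff_specializes (PrimeSpectrum.comap φ.hom q') p).1 hqle

/-- For a quasi-compact morphism, every point of the closure of the image is a specialization of a
point of the image. -/
theorem exists_specializes_of_mem_closure_range {C U : Scheme.{u}} (c : C ⟶ U) [QuasiCompact c]
    (y : U) (hy : y ∈ closure (Set.range c)) : ∃ x, c x ⤳ y := by
  obtain ⟨_, ⟨U₀, hU₀, rfl⟩, hyU₀, -⟩ :=
    U.isBasis_affineOpens.exists_subset_of_mem_open (Set.mem_univ y) isOpen_univ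
  have hc : IsCompact (c ⁻¹ᵁ U₀ : Set C) :=
    QuasiCompact.isCompact_preimage (f := c) _ U₀.2 hU₀.isCompact
  obtain ⟨s, hs, hsU⟩ :=
    isCompact_and_isOpen_iff_finite_and_eq_biUnion_affineOpens.1 ⟨hc, (c ⁻¹ᵁ U₀).2⟩
  have h1 : y ∈ closure (c '' (c ⁻¹ᵁ U₀ : Set C)) := by
    rw [mem_closure_iff]
    intro o ho hyo
    obtain ⟨_, ⟨hz1, hz2⟩, ⟨x, rfl⟩⟩ := mem_closure_iff.1 hy (o ∩ U₀) (ho.inter U₀.2) ⟨hyo, hyU₀⟩
    exact ⟨c x, hz1, ⟨x, hz2, rfl⟩⟩
  rw [hsU, Set.image_iUnion₂, hs.closure_biUnion] at h1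
  obtain ⟨i, hi, hyi⟩ := Set.mem_iUnion₂.1 h1
  have hle : (i : C.Opens) ≤ c ⁻¹ᵁ U₀ := by
    intro x hx
    have : x ∈ (c ⁻¹ᵁ U₀ : Set C) := by
      rw [hsU]; exact Set.mem_iUnion₂.2 ⟨i, hi, hx⟩
    exact this
  obtain ⟨x, -, hx⟩ := exists_specializes_of_mem_closure_image_affine c hU₀ i.2 hle y hyU₀ hyi
  exact ⟨x, hx⟩

/-- A maximal point not in the image of a quasi-compact morphism has an open neighbourhood disjoint from
the image. -/
theorem exists_open_disjoint_range {C U : Scheme.{u}} (c : C ⟶ U) [QuasiCompact c] (u : U)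
    (hu : ∀ u' : U, u' ⤳ u → u' = u) (hnot : u ∉ Set.range c) :
    ∃ U' : U.Opens, u ∈ U' ∧ ∀ x : C, c x ∉ U' := by
  refine ⟨⟨(closure (Set.range c))ᶜ, isClosed_closure.isOpen_compl⟩, ?_, ?_⟩
  · intro hcl
    obtain ⟨x, hx⟩ := exists_specializes_of_mem_closure_range c u hcl
    exact hnot ⟨x, hu _ hx⟩
  · intro x hx
    exact hx (subset_closure ⟨x, rfl⟩)

/-- Points over a maximal point under a locally quasi-finite morphism are maximal. -/
theorem maximal_of_map_maximal {U V : Scheme.{u}} (g : U ⟶ V) [LocallyQuasiFinite g] (u : U)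
    (hv : ∀ v' : V, v' ⤳ g u → v' = g u) : ∀ u' : U, u' ⤳ u → u' = u := by
  intro u' hu'
  have h1 : g u' = g u := hv _ (hu'.map g.continuous)
  have hD := (g.isDiscrete_preimage_singleton (g u)).to_subtype
  have h2 : (⟨u', h1⟩ : g ⁻¹' {g u}) ⤳ ⟨u, rfl⟩ := (subtype_specializes_iff _ _).2 hu'
  have h3 := h2.eq
  exact congrArg Subtype.val h3

/-- If `m` is a monomorphism and the outer square is a pullback, so is the inner one. -/
theorem isPullback_of_comp_mono {C : Type*} [Category C] {A B P U U' : C} {a : A ⟶ B} {m : B ⟶ P}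
    [Mono m] {b : A ⟶ U'} {π : P ⟶ U} {j : U' ⟶ U} (sq : IsPullback (a ≫ m) b π j) :
    IsPullback a b (m ≫ π) j := by
  have top : IsPullback a (𝟙 A) m (a ≫ m) := IsPullback.of_vert_isIso_mono ⟨by simp⟩
  have := top.paste_vert sq
  rwa [Category.id_comp] at this

/-- Finiteness over an open descends along a flat lfp cover of that open. -/
theorem isFinite_restrict_of_cover {W V U : Scheme.{u}} (h : W ⟶ V) [LocallyOfFiniteType h]
    [IsSeparated h] [QuasiCompact h] (gU : U ⟶ V) [Flat gU] [LocallyOfFinitePresentation gU]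
    (U'' : U.Opens) (V' : V.Opens) (hle : U'' ≤ gU ⁻¹ᵁ V')
    (hsurj : ∀ y ∈ V', ∃ x ∈ U'', gU x = y)
    (hfin : IsFinite (pullback.snd h gU ∣_ U'')) : IsFinite (h ∣_ V') := by
  set π := pullback.snd h gU with hπ
  let g'' : U''.toScheme ⟶ V'.toScheme := gU.resLE V' U'' hle
  have hg'' : g'' ≫ V'.ι = U''.ι ≫ gU := Scheme.Hom.resLE_comp_ι _ _
  have hV'imm : IsOpenImmersion V'.ι := inferInstance
  have hflat : Flat g'' :=
    MorphismProperty.of_postcomp (W := @Flat) g'' V'.ι hV'imm (by rw [hg'']; infer_instance)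
  have hlfp : LocallyOfFinitePresentation g'' :=
    MorphismProperty.of_postcomp (W := @LocallyOfFinitePresentation) g'' V'.ι hV'imm
      (by rw [hg'']; infer_instance)
  have hsj : Surjective g'' := by
    refine ⟨fun y => ?_⟩
    obtain ⟨x, hx, hxy⟩ := hsurj y.1 y.2
    refine ⟨⟨x, hx⟩, ?_⟩
    apply V'.ι.injective
    rw [← Scheme.Hom.comp_apply, hg'', Scheme.Hom.comp_apply]
    exact hxy
  -- the pullback square
  have s1 : IsPullback (π ⁻¹ᵁ U'').ι (π ∣_ U'') π U''.ι := (isPullback_morphismRestrict π U'').flip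
  have s0 : IsPullback (pullback.fst h gU) π h gU := IsPullback.of_hasPullback _ _
  have outer := s1.paste_horiz s0
  rw [← hg''] at outer
  have right : IsPullback (h ⁻¹ᵁ V').ι (h ∣_ V') h V'.ι := (isPullback_morphismRestrict h V').flip
  have left := IsPullback.of_right' outer right
  -- universally closed
  haveI : UniversallyClosed (h ∣_ V') :=
    MorphismProperty.of_isPullback_of_descendsAlong (P := @UniversallyClosed)
      (Q := (@Surjective ⊓ @Flat ⊓ @LocallyOfFinitePresentation : MorphismProperty Scheme))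
      left.flip ⟨⟨hsj, hflat⟩, hlfp⟩ (inferInstance : UniversallyClosed (π ∣_ U''))
  -- finite fibres
  haveI : LocallyQuasiFinite (h ∣_ V') := by
    apply LocallyQuasiFinite.of_finite_preimage_singleton
    intro y
    obtain ⟨x, rfl⟩ := hsj.surj y
    have hf := (π ∣_ U'').finite_preimage_singleton x
    refine (hf.image (right.lift ((π ⁻¹ᵁ U'').ι ≫ pullback.fst h gU) ((π ∣_ U'') ≫ g'')
      (by rw [outer.w, Category.assoc]))).subset ?_
    intro t ht
    obtain ⟨z, hz1, hz2⟩ := Scheme.exists_preimage_of_isPullback left t x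
      (by simpa using ht)
    exact ⟨z, hz2, hz1⟩
  haveI : IsProper (h ∣_ V') := {}
  exact IsFinite.of_isProper_of_locallyQuasiFinite _

/-- **Generic finiteness at a maximal point.**  A separated morphism of finite type which is quasi-finite
at all points over a maximal point `v` of the target is finite over an affine open neighbourhood of `v`. -/
theorem exists_finite_nbhd {W V : Scheme.{u}} (h : W ⟶ V) [LocallyOfFiniteType h] [IsSeparated h]
    [QuasiCompact h] (v : V) (hv : ∀ v' : V, v' ⤳ v → v' = v)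
    (hqf : ∀ w : W, h w = v → h.QuasiFiniteAt w) :
    ∃ V' : V.Opens, v ∈ V' ∧ IsAffineOpen V' ∧ IsFinite (h ∣_ V') := by
  classical
  set W₀ := h.quasiFiniteLocus with hW₀
  set h₀ := W₀.ι ≫ h with hh₀
  have e0 : h₀ ⁻¹' {v} = W₀.ι ⁻¹' (h ⁻¹' {v}) := by
    ext x; simp [hh₀]
  -- the fibre is finite
  have hFfin : (h₀ ⁻¹' {v}).Finite := by
    have hcomp : IsCompact (h ⁻¹' {v}) := h.isCompact_preimage_singleton v
    have hsub : h ⁻¹' {v} ⊆ Set.range W₀.ι := by
      intro w hw
      rw [Scheme.Opens.range_ι]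
      exact hqf w hw
    have hc2 : IsCompact (W₀.ι ⁻¹' (h ⁻¹' {v})) :=
      (W₀.ι.isOpenEmbedding.isInducing.isCompact_preimage_iff hsub).2 hcomp
    have hd := h₀.isDiscrete_preimage_singleton v
    rw [e0] at hd ⊢
    exact hc2.finite hd
  obtain ⟨U, gU, u, hét, hu, V₁, hfin, -, hB⟩ :=
    Groth.Agent.H1.ZSplit.exists_etale_split_finset h₀ v hFfin.toFinset
      (fun e he => by simpa using he)
  haveI := hét
  haveI := hfin
  haveI : LocallyQuasiFinite gU := Groth.Agent.S10265.lqf_of_etale gU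
  set π := pullback.snd h gU with hπ
  -- the open immersion `P₀ ⟶ P`
  have sP₀ := IsPullback.of_hasPullback h₀ gU
  have sP := IsPullback.of_hasPullback h gU
  set ι₀ := sP.lift (pullback.fst h₀ gU ≫ W₀.ι) (pullback.snd h₀ gU)
      (by rw [Category.assoc, ← hh₀, sP₀.w]) with hι₀
  have hι₀π : ι₀ ≫ π = pullback.snd h₀ gU := sP.lift_snd _ _ _
  have hι₀f : ι₀ ≫ pullback.fst h gU = pullback.fst h₀ gU ≫ W₀.ι := sP.lift_fst _ _ _
  have sq₀ : IsPullback ι₀ (pullback.fst h₀ gU) (pullback.fst h gU) W₀.ι := by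
    have s : IsPullback (pullback.fst h₀ gU) (ι₀ ≫ π) (W₀.ι ≫ h) gU := by
      rw [hι₀π]; exact sP₀
    exact (IsPullback.of_bot s hι₀f.symm sP).flip
  haveI : IsOpenImmersion ι₀ :=
    MorphismProperty.of_isPullback (P := @IsOpenImmersion) sq₀.flip inferInstance
  -- the finite part in `P`
  set V₁' : (pullback h gU).Opens := ι₀ ''ᵁ V₁ with hV₁'
  haveI : IsFinite (V₁'.ι ≫ π) := by
    have e1 : (ι₀.isoImage V₁).hom ≫ (V₁'.ι ≫ π) = V₁.ι ≫ pullback.snd h₀ gU := by
      rw [← Category.assoc, Scheme.Hom.isoImage_hom_ι, Category.assoc, hι₀π]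
    have : IsFinite ((ι₀.isoImage V₁).hom ≫ (V₁'.ι ≫ π)) := by rw [e1]; exact hfin
    exact (MorphismProperty.cancel_left_of_respectsIso @IsFinite (ι₀.isoImage V₁).hom _).1 this
  haveI : UniversallyClosed V₁'.ι := UniversallyClosed.of_comp_of_isSeparated V₁'.ι π
  have hVcl : IsClosed (V₁' : Set ↥(pullback h gU)) := by
    have := V₁'.ι.isClosedMap.isClosed_range
    simpa using this
  -- the complement, as a scheme
  let Z : TopologicalSpace.Closeds ↥(pullback h gU) := ⟨(V₁' : Set _)ᶜ, V₁'.2.isClosed_compl⟩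
  let I := Scheme.IdealSheafData.vanishingIdeal Z
  have hrange : Set.range I.subschemeι = (V₁' : Set _)ᶜ := by
    rw [Scheme.IdealSheafData.range_subschemeι, Scheme.IdealSheafData.coe_support_vanishingIdeal]
    rfl
  -- `u` is not in the image of the complement
  have hnot : u ∉ Set.range (I.subschemeι ≫ π) := by
    rintro ⟨x, hx⟩
    have hz : I.subschemeι x ∉ (V₁' : Set _) := by
      have : I.subschemeι x ∈ Set.range I.subschemeι := ⟨x, rfl⟩
      rw [hrange] at this
      exact this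
    apply hz
    set z := I.subschemeι x with hzdef
    have hzu : π z = u := by rw [← hx, Scheme.Hom.comp_apply]
    have hfz : h (pullback.fst h gU z) = v := by
      rw [← Scheme.Hom.comp_apply, pullback.condition, Scheme.Hom.comp_apply, ← hπ, hzu, hu]
    have hmem : pullback.fst h gU z ∈ W₀ := hqf _ hfz
    obtain ⟨z₀, hz₀1, hz₀2⟩ := Scheme.exists_preimage_of_isPullback sq₀ z
      ⟨pullback.fst h gU z, hmem⟩ rfl
    have h1 : pullback.snd h₀ gU z₀ = u := by
      rw [← hι₀π, Scheme.Hom.comp_apply, hz₀1, hzu]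
    have h2 : pullback.fst h₀ gU z₀ ∈ hFfin.toFinset := by
      rw [hz₀2]
      simp only [Set.Finite.mem_toFinset, Set.mem_preimage, Set.mem_singleton_iff, hh₀,
        Scheme.Hom.comp_apply]
      exact hfz
    exact ⟨z₀, hB z₀ h1 h2, hz₀1⟩
  have humax : ∀ u' : U, u' ⤳ u → u' = u :=
    maximal_of_map_maximal gU u (by rw [hu]; exact hv)
  obtain ⟨U', huU', hU'⟩ := exists_open_disjoint_range (I.subschemeι ≫ π) u humax hnot
  -- an affine open neighbourhood of `v` inside the image of `U'`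
  have hO : IsOpen (gU '' (U' : Set U)) := gU.isOpenMap _ U'.2
  obtain ⟨_, ⟨V', hV', rfl⟩, hvV', hV'O⟩ :=
    V.isBasis_affineOpens.exists_subset_of_mem_open (⟨u, huU', hu⟩ : v ∈ gU '' (U' : Set U)) hO
  refine ⟨V', hvV', hV', ?_⟩
  refine isFinite_restrict_of_cover h gU (U' ⊓ gU ⁻¹ᵁ V') V' inf_le_right ?_ ?_
  · intro y hy
    obtain ⟨x, hx, rfl⟩ := hV'O hy
    exact ⟨x, ⟨hx, hy⟩, rfl⟩
  · -- `π` restricted to `U''` is a base change of the finite part
    set U'' := U' ⊓ gU ⁻¹ᵁ V' with hU''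
    have hle : π ⁻¹ᵁ U'' ≤ V₁' := by
      intro z hz
      by_contra hzV
      have : z ∈ Set.range I.subschemeι := by rw [hrange]; exact hzV
      obtain ⟨x, rfl⟩ := this
      apply hU' x
      rw [Scheme.Hom.comp_apply]
      exact hz.1
    have sqr : IsPullback ((pullback h gU).homOfLE hle ≫ V₁'.ι) (π ∣_ U'') π U''.ι := by
      rw [Scheme.homOfLE_ι]
      exact (isPullback_morphismRestrict π U'').flip
    have := isPullback_of_comp_mono sqr
    exact MorphismProperty.of_isPullback (P := @IsFinite) this inferInstance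

end Groth.Agent.H1.GenFin
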