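import Mathlib

/-!
# Scheme-level odds and ends for generic finiteness — helper1
-/

set_option autoImplicit false
universe u
open CategoryTheory CategoryTheory.Limits AlgebraicGeometry

namespace Groth.Agent.H1.GenFin

/-- A point whose local ring has dimension zero has no proper generizations. -/
theorem maximal_of_dim_zero {U : Scheme.{u}} (u : U)
    (h : ringKrullDim ↥(U.presheaf.stalk u) = 0) : ∀ u' : U, u' ⤳ u → u' = u := by
  intro u' hu'
  have hmem : u' ∈ Set.range (U.fromSpecStalk u) := by
    rw [Scheme.range_fromSpecStalk]; exact hu'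
  obtain ⟨p, rfl⟩ := hmem
  haveI : Ring.KrullDimLE 0 ↥(U.presheaf.stalk u) := by
    rw [Ring.krullDimLE_iff, h]
    rfl
  have hp : p = IsLocalRing.closedPoint ↥(U.presheaf.stalk u) := by
    apply PrimeSpectrum.ext
    have hmax : p.asIdeal.IsMaximal := Ideal.IsPrime.isMaximal' (R := ↥(U.presheaf.stalk u)) p.2
    exact IsLocalRing.eq_maximalIdeal hmax
  rw [hp, Scheme.fromSpecStalk_closedPoint]

/-- Quasi-finiteness at a point is stable under composition. -/
theorem quasiFiniteAt_comp {X Y Z : Scheme.{u}} (f : X ⟶ Y) (g : Y ⟶ Z) (x : X)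
    (hf : f.QuasiFiniteAt x) (hg : g.QuasiFiniteAt (f x)) : (f ≫ g).QuasiFiniteAt x := by
  simp only [Scheme.Hom.QuasiFiniteAt, Scheme.Hom.stalkMap_comp]
  exact hf.comp hg

/-- If `r ≫ h'` is finite with `r` surjective and `h'` affine and locally of finite type, then `h'` is
finite. -/
theorem isFinite_of_surjective_comp {R' W' V' : Scheme.{u}} (r : R' ⟶ W') (h' : W' ⟶ V')
    [Surjective r] [IsAffineHom h'] [LocallyOfFiniteType h'] [IsFinite (r ≫ h')] : IsFinite h' := by
  haveI : UniversallyClosed h' := UniversallyClosed.of_comp_surjective r h'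
  haveI : IsIntegralHom h' := IsIntegralHom.iff_universallyClosed_and_isAffineHom.2 ⟨inferInstance, inferInstance⟩
  exact (IsFinite.iff_isIntegralHom_and_locallyOfFiniteType h').2 ⟨inferInstance, inferInstance⟩

/-- Finiteness over an open, for an arbitrary pullback square. -/
theorem isFinite_of_isPullback_restrict {R V R' : Scheme.{u}} (ρ : R ⟶ V) (V' : V.Opens)
    {a : R' ⟶ R} {b : R' ⟶ V'.toScheme} (sq : IsPullback a b ρ V'.ι)
    (hfin : IsFinite (ρ ∣_ V')) : IsFinite b := by
  have sq' : IsPullback (ρ ⁻¹ᵁ V').ι (ρ ∣_ V') ρ V'.ι := (isPullback_morphismRestrict ρ V').flip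
  have e : (sq.isoIsPullback _ _ sq').hom ≫ (ρ ∣_ V') = b := IsPullback.isoIsPullback_hom_snd _ _ sq sq'
  rw [← e]
  exact (MorphismProperty.cancel_left_of_respectsIso @IsFinite _ _).2 hfin

end Groth.Agent.H1.GenFin
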