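import Mathlib
import Groth.Agent.Lib.Helper1.GenFinA
import Groth.Agent.Lib.Helper1.GenFinE

/-!
# Codimension zero points and quasi-finiteness (schemes) — helper1
-/

set_option autoImplicit false
universe u
open CategoryTheory CategoryTheory.Limits AlgebraicGeometry

namespace Groth.Agent.H1.GenFin

/-- A point without proper generizations has a local ring of dimension zero. -/
theorem dim_zero_of_maximal {U : Scheme.{u}} (u : U) (h : ∀ u' : U, u' ⤳ u → u' = u) :
    ringKrullDim ↥(U.presheaf.stalk u) = 0 := by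
  rw [← ringKrullDimZero_iff_ringKrullDim_eq_zero, Ring.krullDimLE_zero_iff]
  intro I hI
  let p : Spec (U.presheaf.stalk u) := ⟨I, hI⟩
  have h1 : U.fromSpecStalk u p ⤳ u := by
    have : U.fromSpecStalk u p ∈ Set.range (U.fromSpecStalk u) := ⟨p, rfl⟩
    rw [Scheme.range_fromSpecStalk] at this
    exact this
  have h2 : U.fromSpecStalk u p = U.fromSpecStalk u (IsLocalRing.closedPoint _) := by
    rw [h _ h1, Scheme.fromSpecStalk_closedPoint]
  have hinj : Function.Injective (U.fromSpecStalk u) :=
    (U.fromSpecStalk u).isEmbedding.injective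
  have h3 : p = IsLocalRing.closedPoint _ := hinj h2
  have h4 : I = IsLocalRing.maximalIdeal _ := congrArg PrimeSpectrum.asIdeal h3
  rw [h4]
  infer_instance

theorem dim_zero_iff_maximal {U : Scheme.{u}} (u : U) :
    ringKrullDim ↥(U.presheaf.stalk u) = 0 ↔ ∀ u' : U, u' ⤳ u → u' = u :=
  ⟨maximal_of_dim_zero u, dim_zero_of_maximal u⟩

/-- Codimension zero is invariant under étale morphisms. -/
theorem dim_zero_iff_of_etale {U' U : Scheme.{u}} (a : U' ⟶ U) [Etale a] (u' : U') :
    ringKrullDim ↥(U'.presheaf.stalk u') = 0 ↔ ringKrullDim ↥(U.presheaf.stalk (a u')) = 0 := by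
  rw [dim_zero_iff_maximal, dim_zero_iff_maximal]
  constructor
  · intro h η hη
    obtain ⟨η', hη', rfl⟩ := (Flat.generalizingMap a) hη
    rw [h η' hη']
  · intro h
    haveI : LocallyQuasiFinite a := Groth.Agent.S10265.lqf_of_etale a
    exact maximal_of_map_maximal a u' h

/-- A scheme locally of finite type over a field without nontrivial specializations is discrete. -/
theorem discreteTopology_of_lft_field {F : Scheme.{u}} [IsLocallyNoetherian F]
    (h1 : ∀ z z' : F, z ⤳ z' → z = z') : DiscreteTopology F := by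
  haveI : IsLocallyArtinian F := by
    refine ⟨fun W => ?_⟩
    haveI : IsNoetherianRing Γ(F, W) := IsLocallyNoetherian.component_noetherian W
    rw [isArtinianRing_iff_krullDimLE_zero, Ring.krullDimLE_zero_iff]
    intro I hI
    obtain ⟨M, hM, hIM⟩ := Ideal.exists_le_maximal I hI.ne_top
    let pI : Spec Γ(F, W) := ⟨I, hI⟩
    let pM : Spec Γ(F, W) := ⟨M, hM.isPrime⟩
    have hs : pI ⤳ pM := (PrimeSpectrum.le_iff_specializes pI pM).1 hIM
    have hs' := hs.map W.2.fromSpec.continuous
    have heq := W.2.fromSpec.isOpenEmbedding.injective (h1 _ _ hs')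
    have : I = M := congrArg PrimeSpectrum.asIdeal heq
    rw [this]; exact hM
  infer_instance

/-- If no two distinct points of the fibre of `h` over `h u` specialize to one another, then `h` is
quasi-finite at `u`. -/
theorem quasiFiniteAt_of_fibre_t1 {U V : Scheme.{u}} (h : U ⟶ V) [LocallyOfFiniteType h] (u : U)
    (h1 : ∀ z z' : U, h z = h u → h z' = h u → z ⤳ z' → z = z') : h.QuasiFiniteAt u := by
  rw [Scheme.Hom.quasiFiniteAt_iff_isOpen_singleton_asFiber]
  haveI : IsLocallyNoetherian (h.fiber (h u)) :=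
    inferInstanceAs (IsLocallyNoetherian (pullback h (V.fromSpecResidueField (h u))))
  haveI : DiscreteTopology (h.fiber (h u)) := by
    refine discreteTopology_of_lft_field ?_
    intro z z' hzz'
    have hz : h.fiberι (h u) z ∈ h ⁻¹' {h u} := by
      rw [← h.range_fiberι]; exact ⟨z, rfl⟩
    have hz' : h.fiberι (h u) z' ∈ h ⁻¹' {h u} := by
      rw [← h.range_fiberι]; exact ⟨z', rfl⟩
    exact (h.fiberι (h u)).isEmbedding.injective
      (h1 _ _ hz hz' (hzz'.map (h.fiberι (h u)).continuous))
  exact isOpen_discrete _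

/-- If `h` is quasi-finite at `u`, generizations of `u` in the fibre are trivial. -/
theorem eq_of_specializes_of_quasiFiniteAt {U V : Scheme.{u}} (h : U ⟶ V)
    [LocallyOfFiniteType h] (u u' : U) (hq : h.QuasiFiniteAt u) (hs : u' ⤳ u)
    (hu : h u' = h u) : u' = u := by
  have hopen := Scheme.Hom.quasiFiniteAt_iff_isOpen_singleton_asFiber.1 hq
  -- the point `u'` of the fibre
  let z' : h.fiber (h u) := (h.fiberHomeo (h u)).symm ⟨u', hu⟩
  have hz' : h.fiberι (h u) z' = u' := h.fiberι_fiberHomeo_symm _ _
  have hz : h.fiberι (h u) (h.asFiber u) = u := h.fiberι_asFiber u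
  have hsp : z' ⤳ h.asFiber u :=
    (h.fiberι (h u)).isEmbedding.isInducing.specializes_iff.1 (by rw [hz', hz]; exact hs)
  have := hsp.mem_open hopen rfl
  have h3 : z' = h.asFiber u := this
  rw [← hz', h3, hz]

/-- If `h` is quasi-finite at `u'`, specializations of `u'` in the fibre are trivial. -/
theorem eq_of_specializes_of_quasiFiniteAt' {U V : Scheme.{u}} (h : U ⟶ V)
    [LocallyOfFiniteType h] (u u' : U) (hq : h.QuasiFiniteAt u') (hs : u' ⤳ u)
    (hu : h u = h u') : u = u' := by
  have hcl := (hq.isClopen_singleton_asFiber).1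
  let z : h.fiber (h u') := (h.fiberHomeo (h u')).symm ⟨u, hu⟩
  have hz : h.fiberι (h u') z = u := h.fiberι_fiberHomeo_symm _ _
  have hz' : h.fiberι (h u') (h.asFiber u') = u' := h.fiberι_asFiber u'
  have hsp : h.asFiber u' ⤳ z :=
    (h.fiberι (h u')).isEmbedding.isInducing.specializes_iff.1 (by rw [hz', hz]; exact hs)
  have := hsp.mem_closed hcl rfl
  have h3 : z = h.asFiber u' := this
  rw [← hz, h3, hz']

end Groth.Agent.H1.GenFin
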