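import Groth.Agent.Lib.Helper1.GenFinF
import Groth.Agent.S10399
import Groth.Agent.S10343
import Groth.Agent.S3207

/-!
# Codimension zero points and charts — helper1
-/

set_option autoImplicit false
universe u
open CategoryTheory CategoryTheory.Limits AlgebraicGeometry Topology TopologicalSpace
open AlgSp

namespace Groth.Agent.H1.GenFin

open Groth.Agent.Lib.helper5 Groth.Agent.Lib.helper11

variable {S : Scheme.{u}}

/-- The local ring at the point has dimension zero. -/
abbrev D0 : ∀ U : Scheme.{u}, ↥U → Prop := fun U u => ringKrullDim ↥(U.presheaf.stalk u) = 0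

/-- Representable étale morphisms preserve and reflect codimension zero points. -/
theorem hasAt_dimZero_map_iff {P X : Sp S} (hP : IsAlgSpace P) (hX : IsAlgSpace X) (g : P ⟶ X)
    (hg : RepWith @Etale g) (p : Points P) :
    HasAt D0 P p ↔ HasAt D0 X (Points.map g p) := by
  obtain ⟨T, φ, t, hφe, -, rfl⟩ := exists_chart_ofPt ⟨P, hP⟩ p
  have hc : RepWith @Etale (φ ≫ g) := (RepWith (S := S) @Etale).comp_mem _ _ hφe hg
  rw [Points.map_ofPt]
  exact (Groth.Agent.S10399.hasAt_dimZero_iff_chart hP φ hφe t).trans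
    (Groth.Agent.S10399.hasAt_dimZero_iff_chart hX _ hc t).symm

/-- Étale morphisms of algebraic spaces preserve and reflect codimension zero points. -/
theorem hasAt_dimZero_map_iff_of_isEtaleMor {P X : Sp S} (hP : IsAlgSpace P) (hX : IsAlgSpace X)
    (g : P ⟶ X) (hg : IsEtaleMor g) (p : Points P) :
    HasAt D0 P p ↔ HasAt D0 X (Points.map g p) := by
  obtain ⟨T, φ, t, hφe, -, rfl⟩ := exists_chart_ofPt ⟨P, hP⟩ p
  have hc : RepWith @Etale (φ ≫ g) := hg φ hφe
  rw [Points.map_ofPt]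
  exact (Groth.Agent.S10399.hasAt_dimZero_iff_chart hP φ hφe t).trans
    (Groth.Agent.S10399.hasAt_dimZero_iff_chart hX _ hc t).symm

/-- Every nonempty open of the space of points of an algebraic space contains a codimension zero
point. -/
theorem exists_dimZero_mem_open {P : Sp S} (hP : IsAlgSpace P) (Ω : Set (Points P)) (hΩ : IsOpen Ω)
    (hne : Ω.Nonempty) : ∃ p ∈ Ω, HasAt D0 P p := by
  obtain ⟨p₀, hp₀⟩ := hne
  obtain ⟨T, φ, t₀, hφe, -, rfl⟩ := exists_chart_ofPt ⟨P, hP⟩ p₀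
  have hop : IsOpen (Points.ofPt φ ⁻¹' Ω) := hΩ.preimage (Points.continuous_ofPt φ)
  obtain ⟨η, hη, hηmax⟩ := Groth.Agent.S3207.exists_maximal_generization t₀
  have hηΩ : η ∈ Points.ofPt φ ⁻¹' Ω := hη.mem_open hop hp₀
  exact ⟨Points.ofPt φ η, hηΩ,
    (Groth.Agent.S10399.hasAt_dimZero_iff_chart hP φ hφe η).2 (dim_zero_of_maximal η hηmax)⟩

/-- The codimension zero points are dense. -/
theorem dense_dimZero {P : Sp S} (hP : IsAlgSpace P) :
    Dense {p : Points P | HasAt D0 P p} := by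
  rw [dense_iff_inter_open]
  intro Ω hΩ hne
  obtain ⟨p, hp, hp0⟩ := exists_dimZero_mem_open hP Ω hΩ hne
  exact ⟨p, hp, hp0⟩

/-- On a decent space with finitely many codimension zero points, an étale chart from a quasi-compact
scheme through a codimension zero point can be shrunk to an affine open in which the chosen point is
the only point over the codimension zero points. -/
theorem exists_affine_chart_unique_dimZero {Y : Space S} (hY : IsDecent Y.obj)
    (hY0 : {y : Points Y.obj | HasAt D0 Y.obj y}.Finite)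
    {U₁ : Over S} [CompactSpace ↥U₁.left] (b₁ : (yon S).obj U₁ ⟶ Y.obj) (hb₁ : RepWith @Etale b₁)
    (u₁ : ↥U₁.left) (hu₁ : HasAt D0 Y.obj (Points.ofPt b₁ u₁)) :
    ∃ O : U₁.left.Opens, IsAffineOpen O ∧ u₁ ∈ O ∧
      ∀ u ∈ O, HasAt D0 Y.obj (Points.ofPt b₁ u) → u = u₁ := by
  classical
  have hF : {u : ↥U₁.left | HasAt D0 Y.obj (Points.ofPt b₁ u)}.Finite := by
    refine (Set.Finite.biUnion hY0 (t := fun y => Points.ofPt b₁ ⁻¹' {y}) ?_).subset ?_
    · intro y _
      obtain ⟨p, hp, -, hq⟩ := hY y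
      rw [← hp]
      exact Groth.Agent.S10343.finite_fibre_of_qc_point p hq b₁ hb₁
    · intro u hu
      exact Set.mem_biUnion (show Points.ofPt b₁ u ∈ _ from hu) rfl
  have hu₁max := maximal_of_dim_zero u₁
    ((Groth.Agent.S10399.hasAt_dimZero_iff_chart Y.property b₁ hb₁ u₁).1 hu₁)
  set F' : Set ↥U₁.left := {u : ↥U₁.left | HasAt D0 Y.obj (Points.ofPt b₁ u)} \ {u₁} with hF'def
  have hF' : F'.Finite := hF.subset Set.sdiff_subset
  have hnot : u₁ ∉ closure F' := by
    intro hmem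
    rw [← Set.biUnion_of_singleton F', hF'.closure_biUnion] at hmem
    obtain ⟨u, huF, hu⟩ := Set.mem_iUnion₂.1 hmem
    have : u ⤳ u₁ := specializes_iff_mem_closure.2 hu
    exact huF.2 (hu₁max u this)
  obtain ⟨_, ⟨O, hO, rfl⟩, hu₁O, hOsub⟩ :=
    U₁.left.isBasis_affineOpens.exists_subset_of_mem_open hnot isClosed_closure.isOpen_compl
  refine ⟨O, hO, hu₁O, fun u huO hu => ?_⟩
  by_contra hne
  exact hOsub huO (subset_closure ⟨hu, hne⟩)

/-- Finite morphisms are stable under base change. -/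
theorem isFiniteMor_of_isPullback {F G F' G' : Sp S} {f : F ⟶ G} {g₀ : G' ⟶ G} {k : F' ⟶ F}
    {f' : F' ⟶ G'} (sq : IsPullback k f' f g₀) (hf : IsFiniteMor f) : IsFiniteMor f' := by
  intro Z hZ g
  obtain ⟨W, i, fst, hpb, hW, hi⟩ := hf hZ (g ≫ g₀)
  have hw : fst ≫ f = ((yon S).map i ≫ g) ≫ g₀ := by rw [hpb.w, Category.assoc]
  refine ⟨W, i, sq.lift fst ((yon S).map i ≫ g) hw, ?_, hW, hi⟩
  exact IsPullback.of_right (by rw [sq.lift_fst]; exact hpb) (sq.lift_snd _ _ _) sq

/-- Finiteness is insensitive to precomposition with an isomorphism. -/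
theorem isFiniteMor_of_iso_comp {F'' F G : Sp S} (e : F'' ⟶ F) [IsIso e] (f : F ⟶ G)
    (h : IsFiniteMor (e ≫ f)) : IsFiniteMor f := by
  intro Z hZ g
  obtain ⟨W, i, fst, hpb, hW, hi⟩ := h hZ g
  refine ⟨W, i, fst ≫ e, ?_, hW, hi⟩
  have h2 : IsPullback e (e ≫ f) f (𝟙 G) := IsPullback.of_horiz_isIso ⟨by simp⟩
  have := hpb.paste_horiz h2
  rwa [Category.comp_id] at this

end Groth.Agent.H1.GenFin
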