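import Groth.Agent.Lib.Helper1.ZarGlue
import Groth.Agent.Lib.Helper5.AlgSpOpenSub
import Groth.Agent.Lib.Helper5.AlgSpWhereIso
import Groth.Agent.Lib.Helper10.AlgSpPoints

/-!
# Unions of representable open subspaces (helper1)
-/

set_option autoImplicit false
universe u
open CategoryTheory CategoryTheory.Limits AlgebraicGeometry Opposite

namespace Groth.Agent.H1.QGlue

open AlgSp Groth.Agent.Lib.helper5 Groth.Agent.Lib.helper5.OpenSub

variable {S : Scheme.{u}}

/-- `RepWith P` can be tested after composing with a monomorphism. -/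
theorem repWith_of_comp_mono (P : MorphismProperty Scheme.{u}) [P.IsStableUnderBaseChange]
    {A X' X : Sp S} (a' : A ⟶ X') (m : X' ⟶ X) [Mono m]
    (h : RepWith P (a' ≫ m)) : RepWith P a' := by
  refine MorphismProperty.relative.of_exists ?_
  intro T g
  obtain ⟨Q, snd, fst, sq⟩ := h.rep (g ≫ m)
  refine ⟨Q, fst, snd, (Groth.Agent.S9888.isPullback_comp_mono_iff m).1 sq, ?_⟩
  exact h.property _ _ _ sq

/-- Open immersions into a space are monomorphisms. -/
theorem mono_of_oi {A X : Sp S} (j : A ⟶ X) (hj : RepWith @IsOpenImmersion j) : Mono j :=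
  Groth.Agent.Lib.helper7.mono_of_repWith (P := @IsOpenImmersion) (fun _ _ g hg => by
    have : IsOpenImmersion g := hg
    exact (inferInstance : Mono g)) hj

/-- The range on points of a pullback. -/
theorem range_fst_of_isPullback {F G G' P : Sp S} {fst : P ⟶ F} {snd : P ⟶ G'} {f : F ⟶ G}
    {g : G' ⟶ G} (h : IsPullback fst snd f g) :
    Set.range (Points.map fst) = Points.map f ⁻¹' Set.range (Points.map g) := by
  ext x
  constructor
  · rintro ⟨w, rfl⟩
    exact ⟨Points.map snd w, by rw [← Points.map_comp, ← Points.map_comp, h.w]⟩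
  · rintro ⟨z, hz⟩
    obtain ⟨w, hw, -⟩ := Groth.Agent.Lib.helper10.exists_point_of_isPullback h x z hz.symm
    exact ⟨w, hw⟩

/-- Two open subspaces with the same points are isomorphic over the ambient sheaf. -/
theorem exists_iso_of_range_eq {A B X : Sp S} (j : A ⟶ X) (k : B ⟶ X)
    (hj : RepWith @IsOpenImmersion j) (hk : RepWith @IsOpenImmersion k)
    (h : Set.range (Points.map j) = Set.range (Points.map k)) :
    ∃ φ : A ⟶ B, IsIso φ ∧ φ ≫ k = j := by
  obtain ⟨φ, hφ⟩ := (factors_iff k hk j).2 h.le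
  obtain ⟨ψ, hψ⟩ := (factors_iff j hj k).2 h.ge
  have := mono_of_oi j hj
  have := mono_of_oi k hk
  refine ⟨φ, ⟨ψ, ?_, ?_⟩, hφ⟩
  · rw [← cancel_mono j, Category.assoc, hψ, hφ, Category.id_comp]
  · rw [← cancel_mono k, Category.assoc, hφ, hψ, Category.id_comp]


theorem isOpen_range_of_oi' {A X : Sp S} (hA : IsAlgSpace A) (hX : IsAlgSpace X) (j : A ⟶ X)
    (hj : RepWith @IsOpenImmersion j) : IsOpen (Set.range (Points.map j)) :=
  Groth.Agent.Lib.helper5.AlgSpWhereIso.isOpen_range_of_oi (X := ⟨A, hA⟩) (Y := ⟨X, hX⟩)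
    (ObjectProperty.homMk j) hj

open Groth.Agent.Lib.Helper14.AlgSpQuot in
/-- A family of representable open subspaces of an algebraic space glues to a representable open
subspace. -/
theorem exists_rep_union {X : Sp S} (hX : IsAlgSpace X) {ι : Type u} {W : ι → Over S}
    (a : ∀ i, (yon S).obj (W i) ⟶ X) (ha : ∀ i, RepWith @IsOpenImmersion (a i)) :
    ∃ (G₀ : Over S) (α : (yon S).obj G₀ ⟶ X) (g : ∀ i, W i ⟶ G₀),
      RepWith @IsOpenImmersion α ∧ (∀ i, (yon S).map (g i) ≫ α = a i) ∧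
      (∀ i, IsOpenImmersion (g i).left) ∧ (∀ x : G₀.left, ∃ i, x ∈ Set.range (g i).left) ∧
      Set.range (Points.map α) = ⋃ i, Set.range (Points.map (a i)) := by
  set Ω : Set (Points X) := ⋃ i, Set.range (Points.map (a i)) with hΩdef
  have hΩ : IsOpen Ω := isOpen_iUnion (fun i =>
    isOpen_range_of_oi' (IsAlgSpace.yon_obj (W i)) hX (a i) (ha i))
  have hfac : ∀ i, ∃ a' : (yon S).obj (W i) ⟶ sub X Ω, a' ≫ OpenSub.ι X Ω = a i := fun i =>
    (factors_iff (OpenSub.ι X Ω) (repWith_ι X hΩ) (a i)).2 (by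
      rw [range_map_ι]
      exact Set.subset_iUnion (fun i => Set.range (Points.map (a i))) i)
  choose a' ha' using hfac
  have hoi : ∀ i, RepWith @IsOpenImmersion (a' i) := fun i =>
    repWith_of_comp_mono _ (a' i) (OpenSub.ι X Ω) (by rw [ha' i]; exact ha i)
  have hcov : ∀ (Z : Over S) (η : (yon S).obj Z ⟶ sub X Ω),
      Groth.Agent.H1.ZarGlue.famSieve a' η ∈ J S Z := by
    intro Z η
    apply mem_J_of_forall_exists_flat
    intro z
    have hz : Points.ofPt (η ≫ OpenSub.ι X Ω) z ∈ Ω := ofPt_comp_ι_mem η z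
    obtain ⟨i, x, hx⟩ := Set.mem_iUnion.1 hz
    obtain ⟨Q, snd, fst, sq⟩ := (ha i).rep (η ≫ OpenSub.ι X Ω)
    have hsnd : IsOpenImmersion snd.left := (ha i).property _ _ _ sq
    obtain ⟨u, rfl⟩ := (yon S).map_surjective fst
    have sq' : IsPullback ((yon S).map u) ((yon S).map snd) (a' i) η := by
      rw [← ha' i] at sq
      exact (Groth.Agent.S9888.isPullback_comp_mono_iff (OpenSub.ι X Ω)).1 sq
    obtain ⟨q, -, hq⟩ := Groth.Agent.Lib.helper11.exists_of_isPullback_scheme sq x z hx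
    refine ⟨Q, snd, ⟨i, u, sq'.w⟩, ⟨q, hq⟩, inferInstance, inferInstance⟩
  obtain ⟨G₀, α', g, hiso, hg, hgoi, hgcov⟩ := Groth.Agent.H1.ZarGlue.exists_rep hoi hcov
  refine ⟨G₀, α' ≫ OpenSub.ι X Ω, g, ?_, ?_, hgoi, hgcov, ?_⟩
  · exact (RepWith (S := S) @IsOpenImmersion).comp_mem _ _
      (Groth.Agent.Lib.helper7.repWith_of_isIso _ α') (repWith_ι X hΩ)
  · intro i
    rw [← Category.assoc, hg i, ha' i]
  · refine Eq.trans ?_ (range_map_ι X Ω)
    ext x
    constructor
    · rintro ⟨y, rfl⟩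
      exact ⟨Points.map α' y, (Points.map_comp _ _ _).symm⟩
    · rintro ⟨y, rfl⟩
      refine ⟨Points.map (inv α') y, ?_⟩
      rw [Points.map_comp, ← Points.map_comp (inv α') α', IsIso.inv_hom_id, Points.map_id]

end Groth.Agent.H1.QGlue
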