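import Groth.Agent.Lib.Helper1.GenFinR
import Groth.Agent.Lib.Helper1.QuotFin
import Groth.Agent.S10204
import Groth.Agent.Lib.Helper5.AlgSpWhereIso
import Groth.Agent.S10267
import Groth.Agent.S10399

set_option autoImplicit false
universe u
open CategoryTheory CategoryTheory.Limits AlgebraicGeometry Topology TopologicalSpace
open AlgSp

namespace Groth.Agent.H1.CodimZeroSch

open Groth.Agent.H1.QuotFin Groth.Agent.H1.GenFin Groth.Agent.Lib.helper5.FppfBoot
  Groth.Agent.Lib.helper5 Groth.Agent.Lib.helper11 Groth.Agent.Lib.helper15.AlgSpDiag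

variable {S : Scheme.{u}}

theorem isPullback_comp_mono {C : Type*} [Category C] {X Y W Z P : C} {fst : P ⟶ X} {snd : P ⟶ Y}
    {f : X ⟶ W} {g : Y ⟶ W} (h : IsPullback fst snd f g) (i : W ⟶ Z) [Mono i] :
    IsPullback fst snd (f ≫ i) (g ≫ i) := by
  refine IsPullback.mk' (by rw [reassoc_of% h.w]) ?_ ?_
  · intro T φ φ' h1 h2
    exact h.hom_ext h1 h2
  · intro T a b hab
    have : a ≫ f = b ≫ g := by
      rw [← cancel_mono i, Category.assoc, Category.assoc, hab]
    exact ⟨h.lift a b this, h.lift_fst _ _ _, h.lift_snd _ _ _⟩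

/-- Two affine schemes over `S` landing in a common affine open of `S` have an affine product. -/
theorem isAffine_prod_left (A B : Over S) [IsAffine A.left] [IsAffine B.left] (S₀ : S.Opens)
    (hS₀ : IsAffineOpen S₀) (hA : Set.range A.hom ⊆ (S₀ : Set ↥S))
    (hB : Set.range B.hom ⊆ (S₀ : Set ↥S)) : IsAffine (A ⨯ B).left := by
  haveI : IsAffine S₀.toScheme := hS₀
  have hA' : Set.range A.hom ⊆ Set.range S₀.ι := by
    rw [Scheme.Opens.range_ι]; exact hA
  have hB' : Set.range B.hom ⊆ Set.range S₀.ι := by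
    rw [Scheme.Opens.range_ι]; exact hB
  let a' : A.left ⟶ S₀.toScheme := IsOpenImmersion.lift S₀.ι A.hom hA'
  let b' : B.left ⟶ S₀.toScheme := IsOpenImmersion.lift S₀.ι B.hom hB'
  have ea : a' ≫ S₀.ι = A.hom := IsOpenImmersion.lift_fac _ _ _
  have eb : b' ≫ S₀.ι = B.hom := IsOpenImmersion.lift_fac _ _ _
  have h1 := isPullback_comp_mono (IsPullback.of_hasPullback a' b') S₀.ι
  rw [ea, eb] at h1
  have h2 := isPullback_prod_left A B
  let e : (A ⨯ B).left ≅ pullback a' b' := h2.isoIsPullback _ _ h1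
  exact IsAffine.of_isIso e.hom


/-- Variant of `S10185.compact_of_qs` with compactness of the product as a hypothesis. -/
theorem compact_of_qs' {X : Sp S}
    (hX : RepWith @QuasiCompact (Limits.diag X)) (U V P : Over S)
    (a : (yon S).obj U ⟶ X) (b : (yon S).obj V ⟶ X) (fst : P ⟶ U) (snd : P ⟶ V)
    (h2 : CompactSpace ↥(U ⨯ V).left)
    (h : IsPullback ((yon S).map fst) ((yon S).map snd) a b) : CompactSpace ↥P.left := by
  obtain ⟨E, g, fstE, sq⟩ := hX.rep (prodComparison (yon S) U V ≫ prod.map a b)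
  have hqc : QuasiCompact g.left := hX.2 _ fstE g sq
  have sq' : IsPullback fstE ((yon S).map g ≫ prodComparison (yon S) U V) (Limits.diag X)
      (prod.map a b) :=
    sq.of_iso (Iso.refl _) (Iso.refl _) (asIso (prodComparison (yon S) U V)) (Iso.refl _)
      (by simp) (by simp) (by simp) (by simp)
  have sq'' := isPullback_of_isPullback_diag sq'
  have e1 : ((yon S).map g ≫ prodComparison (yon S) U V) ≫ prod.fst =
      (yon S).map (g ≫ prod.fst) := by
    rw [Category.assoc, prodComparison_fst, Functor.map_comp]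
  have e2 : ((yon S).map g ≫ prodComparison (yon S) U V) ≫ prod.snd =
      (yon S).map (g ≫ prod.snd) := by
    rw [Category.assoc, prodComparison_snd, Functor.map_comp]
  rw [e1, e2] at sq''
  let e : (yon S).obj E ≅ (yon S).obj P := sq''.isoIsPullback _ _ h
  let e' : E ≅ P := (yon S).preimageIso e
  have h3 : CompactSpace ↥E.left := QuasiCompact.compactSpace_of_compactSpace g.left
  have h4 : CompactSpace ↥((Over.forget S).obj E) := h3
  exact (Scheme.homeoOfIso ((Over.forget S).mapIso e')).compactSpace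

/-- A morphism from an affine scheme to an algebraic space is quasi-separated (even separated). -/
theorem isQuasiSeparatedMor_of_affine {X : Sp S} (hX : IsAlgSpace X) {U : Over S} [IsAffine U.left]
    (a : (yon S).obj U ⟶ X) : IsQuasiSeparatedMor a := by
  have hrep : AlgSp.Representable a := hX.representable_from_yon a
  refine (repWith_diagonal_iff @QuasiCompact a hrep).2 ?_
  intro T V c p g sq
  obtain ⟨p', rfl⟩ := (yon S).map_surjective p
  -- `(p', g) : V ⟶ U ⨯ T` is a monomorphism
  have hm : Mono (prod.lift p' g) := by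
    constructor
    intro Z h1 h2 h12
    apply (yon S).map_injective
    apply sq.hom_ext
    · rw [← Functor.map_comp, ← Functor.map_comp]
      have := congrArg (fun k => k ≫ prod.fst) h12
      simp only [Category.assoc, prod.lift_fst] at this
      rw [this]
    · rw [← Functor.map_comp, ← Functor.map_comp]
      have := congrArg (fun k => k ≫ prod.snd) h12
      simp only [Category.assoc, prod.lift_snd] at this
      rw [this]
  have hm' : Mono (prod.lift p' g).left := inferInstance
  have hsep : IsSeparated (prod.snd : U ⨯ T ⟶ T).left :=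
    MorphismProperty.of_isPullback (P := @IsSeparated) (isPullback_prod_left U T) inferInstance
  have hg : g.left = (prod.lift p' g).left ≫ (prod.snd : U ⨯ T ⟶ T).left := by
    rw [← Over.comp_left, prod.lift_snd]
  have : IsSeparated g.left := by
    rw [hg]; infer_instance
  exact QuasiSeparated.quasiCompact_diagonal


/-- **Step B**: around the image of a codimension zero point of an affine étale chart landing in an
affine open of the base, a quasi-separated algebraic space is a scheme. -/
theorem exists_open_representable_of_chart (X : Space S) (hqs : IsQuasiSeparatedSp X.obj)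
    {U : Over S} [IsAffine U.left] (S₀ : S.Opens) (hS₀ : IsAffineOpen S₀)
    (hU : Set.range U.hom ⊆ (S₀ : Set ↥S))
    (a : (yon S).obj U ⟶ X.obj) (hae : RepWith @Etale a) (u₀ : ↥U.left)
    (hdim : ringKrullDim ↥(U.left.presheaf.stalk u₀) = 0) :
    ∃ (X' : Space S) (j : X' ⟶ X), RepWith @IsOpenImmersion j.hom ∧ X'.obj.obj.IsRepresentable ∧
      Points.ofPt a u₀ ∈ Set.range (Points.map j.hom) := by
  let Uy : Space S := ⟨(yon S).obj U, IsAlgSpace.yon_obj U⟩
  let f : Uy ⟶ X := ObjectProperty.homMk a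
  have hqc : ∀ O : U.left.Opens, IsAffineOpen O →
      IsQuasiCompactSp (pullback f.hom ((yon S).map (OpenSub.subOverι U O) ≫ a)) := by
    intro O hO
    obtain ⟨P, snd, fst, hpb⟩ := X.property.representable_from_yon a
      ((yon S).map (OpenSub.subOverι U O) ≫ a)
    obtain ⟨fst', rfl⟩ := (yon S).map_surjective fst
    haveI : IsAffine (OpenSub.subOver U O).left := hO
    have hO' : Set.range (OpenSub.subOver U O).hom ⊆ (S₀ : Set ↥S) := by
      rintro _ ⟨y, rfl⟩
      exact hU ⟨O.ι y, rfl⟩
    have h2 : CompactSpace ↥(U ⨯ OpenSub.subOver U O).left := by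
      haveI := isAffine_prod_left U (OpenSub.subOver U O) S₀ hS₀ hU hO'
      infer_instance
    have hP : CompactSpace ↥P.left := compact_of_qs' hqs U _ P a _ fst' snd h2 hpb
    refine ⟨P, hpb.isoPullback.hom, Groth.Agent.Lib.helper7.repWith_of_isIso _ _,
      Groth.Agent.Lib.helper7.repWith_of_isIso _ _, hP⟩
  have hqf : ∀ x : AlgSp.Points Uy.obj, AlgSp.Points.map f.hom x = Points.ofPt a u₀ →
      HasAtMor (Groth.Agent.Lib.helper5.NearLocus.NearAt Groth.Agent.Lib.helper5.LqfLocus.Plqf)
        f.hom x := by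
    intro x _
    obtain ⟨u', hu'⟩ := surjective_ofPt (𝟙 ((yon S).obj U)) (repWith_id @Surjective U) x
    refine ⟨U, U, 𝟙 _, a, 𝟙 U, u', repWith_id @Etale U, hae, by simp; rfl, hu', ⊤, trivial, ?_⟩
    rw [Over.id_left, Category.comp_id]
    exact ⟨Groth.Agent.S10265.lqf_of_etale _, inferInstance⟩
  obtain ⟨Y', X', j, fst, snd, hj, hx, hpb, hfin⟩ := Groth.Agent.H1.GenFinP.main' f
    (isQuasiSeparatedMor_of_affine X.property a)
    (locP_of_repWith_etale @LocallyOfFiniteType (fun f hf => by haveI := hf; infer_instance) a hae) a u₀ hae hdim hqc hqf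
  -- the open neighbourhood
  have hΩ : IsOpen (Set.range (Points.map j.hom) ∩ Set.range (Points.ofPt a)) :=
    (Groth.Agent.Lib.helper5.AlgSpWhereIso.isOpen_range_of_oi j hj).inter
      (isOpenMap_ofPt a hae).isOpen_range
  have hxΩ : Points.ofPt a u₀ ∈ Set.range (Points.map j.hom) ∩ Set.range (Points.ofPt a) :=
    ⟨hx, u₀, rfl⟩
  obtain ⟨a'', sq⟩ := OpenSub.isPullback_preim hΩ a
  -- the open subspace factors through `Y'`
  obtain ⟨k, hk⟩ := (OpenSub.factors_iff j.hom hj (OpenSub.ι X.obj
      (Set.range (Points.map j.hom) ∩ Set.range (Points.ofPt a)))).2 (by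
    rw [OpenSub.range_map_ι]; exact Set.inter_subset_left)
  -- `a''` is finite
  have hw : (a'' ≫ k) ≫ j.hom = (yon S).map (OpenSub.subOverι U (OpenSub.preim hΩ a)) ≫ f.hom := by
    rw [Category.assoc, hk]; exact sq.w
  have sqL : IsPullback (hpb.lift (a'' ≫ k) _ hw) a'' fst.hom k := by
    refine IsPullback.of_right ?_ (hpb.lift_fst _ _ _) hpb.flip
    rw [hpb.lift_snd, hk]
    exact sq.flip
  have hfin'' : RepWith @IsFinite a'' :=
    (Groth.Agent.S10267.finite_iff a'').1 (isFiniteMor_of_isPullback sqL hfin)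
  have het'' : RepWith @Etale a'' :=
    (repWith_isStableUnderBaseChange (S := S) @Etale).of_isPullback sq.flip hae
  have hfl'' : RepWith finLocFree a'' := ⟨hfin''.rep, fun _ _ g fst snd h => by
    have h1 : IsFinite snd.left := hfin''.property g fst snd h
    have h2 : Etale snd.left := het''.property g fst snd h
    exact ⟨h1, (inferInstance : Flat snd.left),
      (inferInstance : LocallyOfFinitePresentation snd.left)⟩⟩
  have hinj : Function.Injective (Points.map (OpenSub.ι X.obj
      (Set.range (Points.map j.hom) ∩ Set.range (Points.ofPt a)))) :=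
    Groth.Agent.Lib.helper5.FpqcIso.injective_map_of_mono _
  have hsurj'' : RepWith @Surjective a'' := by
    refine repWith_surjective_of_surjective a'' het''.rep ?_
    intro y
    have hy : Points.map (OpenSub.ι X.obj _) y ∈
        Set.range (Points.map j.hom) ∩ Set.range (Points.ofPt a) := by
      have := Set.mem_range_self (f := Points.map (OpenSub.ι X.obj
        (Set.range (Points.map j.hom) ∩ Set.range (Points.ofPt a)))) y
      rw [OpenSub.range_map_ι] at this
      exact this
    obtain ⟨u, hu⟩ := hy.2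
    have huD : u ∈ OpenSub.preim hΩ a := by
      change Points.ofPt a u ∈ Set.range (Points.map j.hom) ∩ Set.range (Points.ofPt a)
      rw [hu]; exact hy
    refine ⟨⟨u, huD⟩, ?_⟩
    apply hinj
    rw [Points.map_ofPt, sq.w, ofPt_yon_map_comp, ← hu]
    rfl
  obtain ⟨M, ⟨e⟩⟩ := isRepresentable_of_finLocFree_cover_of_openImmersion_affine a'' hfl'' hsurj''
    (A := U.left) (OpenSub.preim hΩ a).ι
  refine ⟨⟨OpenSub.sub X.obj _, OpenSub.isAlgSpace_sub X.property hΩ⟩,
    ObjectProperty.homMk (OpenSub.ι X.obj _), OpenSub.repWith_ι X.obj hΩ,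
    (representableByOfIso e).isRepresentable, ?_⟩
  change Points.ofPt a u₀ ∈ Set.range (Points.map (OpenSub.ι X.obj _))
  rw [OpenSub.range_map_ι]
  exact hxΩ


/-- **Codimension zero points of quasi-separated algebraic spaces have scheme neighbourhoods**
(no hypothesis on the base). -/
theorem exists_open_representable_of_dimZero (X : Space S) (hqs : IsQuasiSeparatedSp X.obj)
    (x : Points X.obj) (hx : HasAt D0 X.obj x) :
    ∃ (X' : Space S) (j : X' ⟶ X), RepWith @IsOpenImmersion j.hom ∧ X'.obj.obj.IsRepresentable ∧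
      x ∈ Set.range (Points.map j.hom) := by
  obtain ⟨U₁, a₁, u₁, ha₁, hpt, -⟩ := id hx
  obtain ⟨_, ⟨S₀, hS₀, rfl⟩, hmem, -⟩ := S.isBasis_affineOpens.exists_subset_of_mem_open
    (Set.mem_univ (U₁.hom u₁)) isOpen_univ
  obtain ⟨_, ⟨O₁, hO₁, rfl⟩, hu₁, hle⟩ := U₁.left.isBasis_affineOpens.exists_subset_of_mem_open
    (show u₁ ∈ ((U₁.hom ⁻¹ᵁ S₀ : U₁.left.Opens) : Set ↥U₁.left) from hmem) (U₁.hom ⁻¹ᵁ S₀).isOpen
  let U : Over S := OpenSub.subOver U₁ O₁
  haveI : IsAffine U.left := hO₁
  let a : (yon S).obj U ⟶ X.obj := (yon S).map (OpenSub.subOverι U₁ O₁) ≫ a₁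
  have hae : RepWith @Etale a :=
    (RepWith (S := S) @Etale).comp_mem _ _
      ((repWith_yon_map_iff @Etale _).2 (inferInstanceAs (Etale (Scheme.Opens.ι O₁)))) ha₁
  let u₀ : U.left := ⟨u₁, hu₁⟩
  have hu₀ : Points.ofPt a u₀ = x := by
    show Points.ofPt ((yon S).map (OpenSub.subOverι U₁ O₁) ≫ a₁) u₀ = _
    rw [ofPt_yon_map_comp, ← hpt]
    rfl
  have hdim : ringKrullDim ↥(U.left.presheaf.stalk u₀) = 0 :=
    (Groth.Agent.S10399.hasAt_dimZero_iff_chart X.property a hae u₀).1 (by rw [hu₀]; exact hx)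
  have hU : Set.range U.hom ⊆ (S₀ : Set ↥S) := by
    rintro _ ⟨y, rfl⟩
    exact hle y.2
  obtain ⟨X', j, hj, hrep, hmemj⟩ :=
    exists_open_representable_of_chart X hqs S₀ hS₀ hU a hae u₀ hdim
  exact ⟨X', j, hj, hrep, hu₀ ▸ hmemj⟩

end Groth.Agent.H1.CodimZeroSch
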