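import Mathlib
import Groth.Agent.Lib.Helper3.LanFlat

/-!
# Colimits of abelian groups over categories with pushouts and coequalizers are exact (helper1)

If `J` has pushouts and coequalizers, every connected component of `J` is filtered, so that
`colim : (J ⥤ Ab) ⥤ Ab` is a coproduct of filtered colimits and hence preserves finite limits.
Consequence: the left Kan extension along `u.op` (and the sheaf pullback `u_s = g_!`) on abelian
(pre)sheaves is exact when the source of `u` has fibre products and equalizers and `u` preserves
them (Stacks, Modules on Sites, `g_!` exact).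
-/

set_option autoImplicit false

namespace Groth.Agent.H1.CompFiltered

open CategoryTheory Limits

universe w' w

section Cospan

variable {J : Type w} [Category.{w'} J] [HasPushouts J]

theorem exists_cospan_of_zigzag {a b : J} (h : Zigzag a b) :
    ∃ (c : J) (_ : a ⟶ c) (_ : b ⟶ c), True := by
  induction h with
  | refl => exact ⟨a, 𝟙 a, 𝟙 a, trivial⟩
  | tail _ hz ih =>
    obtain ⟨c, f, g, -⟩ := ih
    rcases hz with ⟨⟨m⟩⟩ | ⟨⟨m⟩⟩
    · exact ⟨pushout g m, f ≫ pushout.inl g m, pushout.inr g m, trivial⟩
    · exact ⟨c, f, m ≫ g, trivial⟩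

end Cospan

section Components

variable (J : Type w) [Category.{w'} J]

/-- the projection to the set of connected components -/
abbrev Φ : J ⥤ Discrete (ConnectedComponents J) := ConnectedComponents.functorToDiscrete _ id

variable {J}

theorem mk_left_eq {c : Discrete (ConnectedComponents J)} (A : CostructuredArrow (Φ J) c) :
    Quotient.mk (Zigzag.setoid J) A.left = c.as := Discrete.eq_of_hom A.hom

/-- an object of the component category -/
def mkObj {c : Discrete (ConnectedComponents J)} (k : J)
    (hk : Quotient.mk (Zigzag.setoid J) k = c.as) : CostructuredArrow (Φ J) c :=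
  CostructuredArrow.mk (Y := k) (Discrete.eqToHom hk)

/-- a morphism of the component category -/
def mkHom {c : Discrete (ConnectedComponents J)} {A B : CostructuredArrow (Φ J) c}
    (f : A.left ⟶ B.left) : A ⟶ B :=
  CostructuredArrow.homMk f (Subsingleton.elim _ _)

theorem zigzag_of_costructuredArrow {c : Discrete (ConnectedComponents J)}
    (A B : CostructuredArrow (Φ J) c) : Zigzag A.left B.left :=
  Quotient.exact ((mk_left_eq A).trans (mk_left_eq B).symm)

instance isFiltered_costructuredArrow [HasPushouts J] [HasCoequalizers J]
    (c : Discrete (ConnectedComponents J)) : IsFiltered (CostructuredArrow (Φ J) c) where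
  nonempty := by
    obtain ⟨j, hj⟩ := Quotient.exists_rep c.as
    exact ⟨mkObj j hj⟩
  cocone_objs A B := by
    obtain ⟨k, f, g, -⟩ := exists_cospan_of_zigzag (zigzag_of_costructuredArrow A B)
    have hk : Quotient.mk (Zigzag.setoid J) k = c.as :=
      (Quotient.sound (Zigzag.of_inv f)).trans (mk_left_eq A)
    exact ⟨mkObj k hk, mkHom (B := mkObj k hk) f, mkHom (B := mkObj k hk) g, trivial⟩
  cocone_maps A B f g := by
    have hk : Quotient.mk (Zigzag.setoid J) (coequalizer f.left g.left) = c.as :=
      (Quotient.sound (Zigzag.of_inv (coequalizer.π f.left g.left))).trans (mk_left_eq B)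
    refine ⟨mkObj _ hk, mkHom (B := mkObj _ hk) (coequalizer.π f.left g.left), ?_⟩
    ext
    exact coequalizer.condition f.left g.left

end Components

section Lan

universe v₁ v₂ v₃ u₁ u₂ u₃

variable {C : Type u₁} [Category.{v₁} C] {D : Type u₂} [Category.{v₂} D]
  (E : Type u₃) [Category.{v₃} E]

/-- a left Kan extension functor preserves finite limits as soon as the colimit functors computing
it pointwise do -/
theorem lan_preservesFiniteLimits_of_colim (F : C ⥤ D) [HasFiniteLimits E]
    [∀ X : D, HasColimitsOfShape (CostructuredArrow F X) E]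
    [∀ X : D, PreservesFiniteLimits (colim : (CostructuredArrow F X ⥤ E) ⥤ E)] :
    PreservesFiniteLimits (F.lan : (C ⥤ E) ⥤ D ⥤ E) := by
  apply preservesFiniteLimits_of_preservesFiniteLimitsOfSize.{0}
  intro J _ _
  apply preservesLimitsOfShape_of_evaluation (F.lan : (C ⥤ E) ⥤ D ⥤ E) J
  intro K
  exact preservesLimitsOfShape_of_natIso
    (Groth.Agent.Lib.helper3.lanEvaluationIsoColimGen _ _ _).symm

end Lan

section Main

variable (J : Type w) [Category.{w'} J] [HasPushouts J] [HasCoequalizers J]
  [PreservesFilteredColimitsOfSize.{w', w} (forget AddCommGrpCat.{w})]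

/-- colimits of abelian groups over a category with pushouts and coequalizers are exact -/
theorem colim_preservesFiniteLimits :
    PreservesFiniteLimits (colim : (J ⥤ AddCommGrpCat.{w}) ⥤ AddCommGrpCat.{w}) := by
  have h1 : ∀ c : Discrete (ConnectedComponents J), PreservesFiniteLimits
      (colim : (CostructuredArrow (Φ J) c ⥤ AddCommGrpCat.{w}) ⥤ _) := by
    intro c
    have : PreservesColimitsOfShape (CostructuredArrow (Φ J) c) (forget AddCommGrpCat.{w}) :=
      PreservesFilteredColimitsOfSize.preserves_filtered_colimits _
    infer_instance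
  have h2 : PreservesFiniteLimits ((Φ J).lan :
      (J ⥤ AddCommGrpCat.{w}) ⥤ Discrete (ConnectedComponents J) ⥤ AddCommGrpCat.{w}) :=
    lan_preservesFiniteLimits_of_colim _ (Φ J)
  exact preservesFiniteLimits_of_natIso ((Φ J).lanCompColimIso (H := AddCommGrpCat.{w}))

end Main

section Sites

universe v₁ v₂ u₁ u₂

variable {C : Type u₁} [Category.{v₁} C] {D : Type u₂} [Category.{v₂} D] (u : C ⥤ D)
  [HasPullbacks C] [HasEqualizers C]
  [PreservesLimitsOfShape WalkingCospan u] [PreservesLimitsOfShape WalkingParallelPair u]

instance preservesColimitsOfShape_walkingSpan_op : PreservesColimitsOfShape WalkingSpan u.op := by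
  have : PreservesLimitsOfShape WalkingSpanᵒᵖ u :=
    preservesLimitsOfShape_of_equiv walkingSpanOpEquiv.symm u
  exact preservesColimitsOfShape_op _ _

instance preservesColimitsOfShape_walkingParallelPair_op :
    PreservesColimitsOfShape WalkingParallelPair u.op := by
  have : PreservesLimitsOfShape WalkingParallelPairᵒᵖ u :=
    preservesLimitsOfShape_of_equiv walkingParallelPairOpEquiv u
  exact preservesColimitsOfShape_op _ _

instance hasPushouts_costructuredArrow (V : Dᵒᵖ) : HasPushouts (CostructuredArrow u.op V) :=
  inferInstanceAs (HasColimitsOfShape WalkingSpan (CostructuredArrow u.op V))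

instance hasCoequalizers_costructuredArrow (V : Dᵒᵖ) :
    HasCoequalizers (CostructuredArrow u.op V) :=
  inferInstanceAs (HasColimitsOfShape WalkingParallelPair (CostructuredArrow u.op V))

end Sites

section SheafPullback

universe v₁ v₂ u₁ u₂

variable {C : Type u₁} [Category.{v₁} C] {D : Type u₂} [Category.{v₂} D] (u : C ⥤ D)
  [HasPullbacks C] [HasEqualizers C]
  [PreservesLimitsOfShape WalkingCospan u] [PreservesLimitsOfShape WalkingParallelPair u]
  [PreservesFilteredColimitsOfSize.{v₁, max u₁ v₂} (forget AddCommGrpCat.{max u₁ v₂})]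

/-- left Kan extension of abelian presheaves along `u.op` is exact when `u` preserves fibre
products and equalizers -/
theorem lan_op_preservesFiniteLimits :
    PreservesFiniteLimits (u.op.lan :
      (Cᵒᵖ ⥤ AddCommGrpCat.{max u₁ v₂}) ⥤ Dᵒᵖ ⥤ AddCommGrpCat.{max u₁ v₂}) := by
  have : ∀ V : Dᵒᵖ, PreservesFiniteLimits
      (colim : (CostructuredArrow u.op V ⥤ AddCommGrpCat.{max u₁ v₂}) ⥤ _) :=
    fun V => colim_preservesFiniteLimits (CostructuredArrow u.op V)
  exact lan_preservesFiniteLimits_of_colim _ u.op

variable (J : GrothendieckTopology C) (K : GrothendieckTopology D) [u.IsContinuous J K]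
  [HasSheafify K AddCommGrpCat.{max u₁ v₂}]

/-- `g_!` is exact: the sheaf pullback along a continuous functor preserving fibre products and
equalizers preserves finite limits of abelian sheaves -/
theorem sheafPullback_preservesFiniteLimits :
    PreservesFiniteLimits (u.sheafPullback AddCommGrpCat.{max u₁ v₂} J K) := by
  have h1 := lan_op_preservesFiniteLimits u
  have h2 : PreservesFiniteLimits (Functor.sheafPullbackConstruction.sheafPullback u
      AddCommGrpCat.{max u₁ v₂} J K) := by
    have : PreservesFiniteLimits (u.op.lan ⋙ presheafToSheaf K AddCommGrpCat.{max u₁ v₂}) :=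
      comp_preservesFiniteLimits _ _
    exact comp_preservesFiniteLimits _ _
  exact preservesFiniteLimits_of_natIso
    (Functor.sheafPullbackConstruction.sheafPullbackIso u AddCommGrpCat.{max u₁ v₂} J K).symm

end SheafPullback

end Groth.Agent.H1.CompFiltered
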