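import Mathlib
import Groth.Prelude.Def_CohDer

/-!
Helper library (helper1): the canonical map `⊕_i Hom(K, X i) → Hom(K, ∐ X)` in terms of finite sums;
coproducts of abelian groups.
-/

set_option autoImplicit false
universe w v u
open CategoryTheory CategoryTheory.Limits

namespace Groth.Agent.H1.HomSum

noncomputable section general

open scoped Classical

variable {D : Type u} [Category.{v} D] [Preadditive D]

/-- the canonical map `⊕_i Hom(K, X i) → Hom(K, c.pt)` for a cofan `c` -/
noncomputable def homSum (K : D) {ι : Type w} (X : ι → D) (c : Cofan X) :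
    DirectSum ι (fun i => K ⟶ X i) →+ (K ⟶ c.pt) := by
  classical
  exact DirectSum.toAddMonoid fun i => Preadditive.rightComp K (c.inj i)

lemma homSum_of (K : D) {ι : Type w} (X : ι → D) (c : Cofan X) (i : ι) (σ : K ⟶ X i) :
    homSum K X c (DirectSum.of _ i σ) = σ ≫ c.inj i := by
  classical
  unfold homSum
  rw [DirectSum.toAddMonoid_of]
  rfl

lemma homSum_sum_of (K : D) {ι : Type w} (X : ι → D) (c : Cofan X) (S : Finset ι)
    (σ : ∀ i, K ⟶ X i) :
    homSum K X c (∑ i ∈ S, DirectSum.of _ i (σ i)) = ∑ i ∈ S, σ i ≫ c.inj i := by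
  rw [map_sum]
  exact Finset.sum_congr rfl (fun i _ => homSum_of K X c i (σ i))

lemma homSumToHomCoprod_eq (K : D) {ι : Type v} (X : ι → D) [HasCoproduct X] :
    CohDer.homSumToHomCoprod K X = homSum K X (Cofan.mk (∐ X) (Sigma.ι X)) := rfl

variable (K : D) {ι : Type w} (X : ι → D) (c : Cofan X)

lemma surjective_iff :
    Function.Surjective (homSum K X c) ↔
      ∀ x : K ⟶ c.pt, ∃ (S : Finset ι) (σ : ∀ i, K ⟶ X i), x = ∑ i ∈ S, σ i ≫ c.inj i := by
  classical
  constructor
  · intro h x
    obtain ⟨s, rfl⟩ := h x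
    refine ⟨s.support, fun i => s i, ?_⟩
    rw [← homSum_sum_of]
    exact congrArg _ (DirectSum.sum_support_of s).symm
  · intro h x
    obtain ⟨S, σ, rfl⟩ := h x
    exact ⟨_, homSum_sum_of K X c S σ⟩

lemma injective_iff :
    Function.Injective (homSum K X c) ↔
      ∀ (S : Finset ι) (σ : ∀ i, K ⟶ X i), ∑ i ∈ S, σ i ≫ c.inj i = 0 → ∀ i ∈ S, σ i = 0 := by
  classical
  constructor
  · intro h S σ hσ i hi
    rw [← homSum_sum_of, ← map_zero (homSum K X c)] at hσ
    have h2 := h hσ
    have h3 := congrArg (fun s : DirectSum ι (fun i => K ⟶ X i) => s i) h2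
    simp only [DirectSum.zero_apply] at h3
    rw [← h3, DFinsupp.finsetSum_apply]
    rw [Finset.sum_eq_single i]
    · exact (DirectSum.of_eq_same (β := fun i => K ⟶ X i) i (σ i)).symm
    · intro j _ hji
      exact DirectSum.of_eq_of_ne _ _ _ (Ne.symm hji)
    · intro h4
      exact absurd hi h4
  · intro h
    rw [injective_iff_map_eq_zero]
    intro s hs
    rw [← DirectSum.sum_support_of s, homSum_sum_of] at hs
    have h2 := h _ _ hs
    ext i
    by_cases hi : i ∈ s.support
    · rw [h2 i hi]; rfl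
    · rw [DFinsupp.notMem_support_iff] at hi
      rw [hi]; rfl

end general

noncomputable section ab

open scoped Classical

/-- for a colimit cofan of abelian groups the canonical map from the direct sum is bijective -/
lemma bijective_toAddMonoid_of_isColimit {ι : Type u} (A : ι → AddCommGrpCat.{u}) (c : Cofan A)
    (hc : IsColimit c) :
    Function.Bijective
      (DirectSum.toAddMonoid (fun i => (c.inj i).hom) : DirectSum ι (fun i => A i) →+ c.pt) := by
  let φ : DirectSum ι (fun i => A i) →+ c.pt := DirectSum.toAddMonoid (fun i => (c.inj i).hom)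
  let ψ : c.pt ⟶ AddCommGrpCat.of (DirectSum ι (fun i => A i)) :=
    Cofan.IsColimit.desc hc (fun i => AddCommGrpCat.ofHom (DirectSum.of (fun i => A i) i))
  have hψ : ∀ i (a : A i), ψ (c.inj i a) = DirectSum.of (fun i => A i) i a := by
    intro i a
    have := Cofan.IsColimit.fac hc
      (fun i => AddCommGrpCat.ofHom (DirectSum.of (fun i => A i) i)) i
    exact congrArg (fun f => (ConcreteCategory.hom f) a) this
  have h1 : ∀ s, ψ (φ s) = s := by
    intro s
    have : (ψ.hom.comp φ) = AddMonoidHom.id _ := by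
      apply DirectSum.addHom_ext
      intro i a
      change ψ (φ (DirectSum.of _ i a)) = _
      rw [DirectSum.toAddMonoid_of]
      exact hψ i a
    exact congrArg (fun f => f s) this
  have h2 : ∀ x, φ (ψ x) = x := by
    intro x
    have : ψ ≫ AddCommGrpCat.ofHom φ = 𝟙 c.pt := by
      apply Cofan.IsColimit.hom_ext hc
      intro i
      ext a
      change φ (ψ (c.inj i a)) = c.inj i a
      rw [hψ, DirectSum.toAddMonoid_of]
    exact congrArg (fun f => (ConcreteCategory.hom f) x) this
  exact ⟨fun s s' h => by rw [← h1 s, ← h1 s', h], fun x => ⟨ψ x, h2 x⟩⟩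

end ab

noncomputable section transfer

open scoped Classical

variable {𝒜 : Type w} [Category.{u} 𝒜] [Preadditive 𝒜]

/-- a functor to abelian groups which is "`Hom(P, -)`" and preserves a coproduct: the canonical map
`⊕ Hom(P, Y i) → Hom(P, ∐ Y)` is bijective -/
theorem bijective_homSum_of_preserves (Φ : 𝒜 ⥤ AddCommGrpCat.{u}) (P : 𝒜)
    (η : ∀ F : 𝒜, Φ.obj F ≃+ (P ⟶ F))
    (hη : ∀ {F F' : 𝒜} (φ : F ⟶ F') (x : Φ.obj F), η F' (Φ.map φ x) = η F x ≫ φ)
    {ι : Type u} (Y : ι → 𝒜) [HasCoproduct Y] [PreservesColimit (Discrete.functor Y) Φ] :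
    Function.Bijective (homSum P Y (Cofan.mk (∐ Y) (Sigma.ι Y))) := by
  have hc : IsColimit (Cofan.mk (Φ.obj (∐ Y)) fun i => Φ.map (Sigma.ι Y i)) :=
    isColimitOfHasCoproductOfPreservesColimit Φ Y
  have hψ := bijective_toAddMonoid_of_isColimit (fun i => Φ.obj (Y i)) _ hc
  let ψ : DirectSum ι (fun i => Φ.obj (Y i)) →+ Φ.obj (∐ Y) :=
    DirectSum.toAddMonoid (fun i => (Φ.map (Sigma.ι Y i)).hom)
  let m : DirectSum ι (fun i => Φ.obj (Y i)) →+ DirectSum ι (fun i => P ⟶ Y i) :=
    DirectSum.map (fun i => (η (Y i)).toAddMonoidHom)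
  have hm : Function.Bijective m := by
    constructor
    · exact (DirectSum.map_injective _).2 (fun i => (η (Y i)).injective)
    · exact (DirectSum.map_surjective _).2 (fun i => (η (Y i)).surjective)
  have hcomp : (homSum P Y (Cofan.mk (∐ Y) (Sigma.ι Y))).comp m =
      (η (∐ Y)).toAddMonoidHom.comp ψ := by
    apply DirectSum.addHom_ext
    intro i a
    change homSum P Y _ (m (DirectSum.of (fun i => Φ.obj (Y i)) i a)) =
      η (∐ Y) (ψ (DirectSum.of (fun i => Φ.obj (Y i)) i a))
    rw [DirectSum.toAddMonoid_of]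
    change homSum P Y _ (DirectSum.map _ (DirectSum.of (fun i => Φ.obj (Y i)) i a)) = _
    rw [DirectSum.map_of, homSum_of]
    exact (hη (Sigma.ι Y i) a).symm
  have h2 : Function.Bijective ((homSum P Y (Cofan.mk (∐ Y) (Sigma.ι Y))) ∘ m) := by
    have : ((homSum P Y (Cofan.mk (∐ Y) (Sigma.ι Y))) ∘ m) = (η (∐ Y)) ∘ ψ := by
      funext s
      exact congrArg (fun f => f s) hcomp
    rw [this]
    exact (η (∐ Y)).bijective.comp hψ
  exact (Function.Bijective.of_comp_iff _ hm).1 h2

end transfer

end Groth.Agent.H1.HomSum
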