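import Groth.Agent.Lib.Helper1.SingleHom
import Groth.Agent.Lib.Helper25.DProd

/-!
Helper library (helper1): maps `single_j P ⟶ Q E` for a K-injective complex `E` are given by cycles,
and vanish iff the cycle is a boundary; naturality and additivity of `sig`.
-/

set_option autoImplicit false
set_option linter.unusedSectionVars false
universe w v u
open CategoryTheory CategoryTheory.Limits DerivedCategory

namespace Groth.Agent.H1.KInjSig

open Groth.Agent.H1.SingleHom Groth.Agent.Lib.Helper25.DProd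

variable {𝒜 : Type u} [Category.{v} 𝒜] [Abelian 𝒜] [HasDerivedCategory.{w} 𝒜]

lemma cyc_f {P : 𝒜} (E : CochainComplex 𝒜 ℤ) (j : ℤ) (z : P ⟶ E.cycles j) :
    (cyc E j z).f j =
      (HomologicalComplex.singleObjXSelf (ComplexShape.up ℤ) j P).hom ≫ z ≫ E.iCycles j := by
  unfold cyc
  rw [HomologicalComplex.mkHomFromSingle_f]

lemma cyc_add {P : 𝒜} (E : CochainComplex 𝒜 ℤ) (j : ℤ) (z z' : P ⟶ E.cycles j) :
    cyc E j (z + z') = cyc E j z + cyc E j z' := by
  apply HomologicalComplex.from_single_hom_ext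
  rw [HomologicalComplex.add_f_apply, cyc_f, cyc_f, cyc_f, Preadditive.add_comp,
    Preadditive.comp_add]

lemma sig_add {P : 𝒜} (E : CochainComplex 𝒜 ℤ) (j : ℤ) (z z' : P ⟶ E.cycles j) :
    sig E j (z + z') = sig E j z + sig E j z' := by
  unfold sig
  rw [cyc_add, Functor.map_add, Preadditive.comp_add]

lemma sig_zero {P : 𝒜} (E : CochainComplex 𝒜 ℤ) (j : ℤ) :
    sig E j (0 : P ⟶ E.cycles j) = 0 := by
  have := sig_add E j (0 : P ⟶ E.cycles j) 0
  rw [add_zero] at this
  exact left_eq_add.1 this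

lemma sig_sum {P : 𝒜} (E : CochainComplex 𝒜 ℤ) (j : ℤ) {ι : Type*} (S : Finset ι)
    (z : ι → (P ⟶ E.cycles j)) : sig E j (∑ i ∈ S, z i) = ∑ i ∈ S, sig E j (z i) := by
  classical
  induction S using Finset.induction_on with
  | empty => simp [sig_zero]
  | insert a S ha ih => rw [Finset.sum_insert ha, Finset.sum_insert ha, sig_add, ih]

lemma cyc_comp {P : 𝒜} {E E' : CochainComplex 𝒜 ℤ} (φ : E ⟶ E') (j : ℤ) (z : P ⟶ E.cycles j) :
    cyc E j z ≫ φ = cyc E' j (z ≫ HomologicalComplex.cyclesMap φ j) := by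
  apply HomologicalComplex.from_single_hom_ext
  rw [HomologicalComplex.comp_f, cyc_f, cyc_f]
  simp only [Category.assoc, HomologicalComplex.cyclesMap_i]

lemma sig_comp {P : 𝒜} {E E' : CochainComplex 𝒜 ℤ} (φ : E ⟶ E') (j : ℤ) (z : P ⟶ E.cycles j) :
    sig E j z ≫ Q.map φ = sig E' j (z ≫ HomologicalComplex.cyclesMap φ j) := by
  unfold sig
  rw [Category.assoc, ← Functor.map_comp, cyc_comp]

/-- for K-injective `E`, maps `single_j P ⟶ Q E` come from cycles -/
lemma exists_sig_eq {P : 𝒜} (E : CochainComplex 𝒜 ℤ) [E.IsKInjective] (j : ℤ)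
    (σ : (singleFunctor 𝒜 j).obj P ⟶ Q.obj E) : ∃ z : P ⟶ E.cycles j, σ = sig E j z := by
  obtain ⟨g, hg⟩ := exists_Q_map_eq (I := E) ((eP P j).inv ≫ σ)
  have hd : ((HomologicalComplex.singleObjXSelf (ComplexShape.up ℤ) j P).inv ≫ g.f j) ≫
      E.d j (j + 1) = 0 := by
    rw [Category.assoc, g.comm]
    simp
  let z : P ⟶ E.cycles j := E.liftCycles
    ((HomologicalComplex.singleObjXSelf (ComplexShape.up ℤ) j P).inv ≫ g.f j) (j + 1)
    (by simp) hd
  have hz : cyc E j z = g := by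
    apply HomologicalComplex.from_single_hom_ext
    rw [cyc_f]
    simp [z]
  refine ⟨z, ?_⟩
  unfold sig
  rw [hz, hg, Iso.hom_inv_id_assoc]

/-- for K-injective `E`, `sig E j z = 0` iff `z` is a boundary -/
lemma exists_boundary_of_sig_eq_zero {P : 𝒜} (E : CochainComplex 𝒜 ℤ) [E.IsKInjective]
    (i j : ℤ) (hij : i + 1 = j) (z : P ⟶ E.cycles j) (hz : sig E j z = 0) :
    ∃ y : P ⟶ E.X i, z = y ≫ E.toCycles i j := by
  have h1 : Q.map (cyc E j z) = Q.map 0 := by
    unfold sig at hz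
    rw [Functor.map_zero]
    exact (cancel_epi (eP P j).hom).1 (hz.trans comp_zero.symm)
  obtain ⟨H⟩ := homotopy_of_Q_map_eq _ _ h1
  have h2 := H.comm j
  have hrel : (ComplexShape.up ℤ).Rel i j := hij
  rw [prevD_eq _ hrel, dNext_eq _ (show (ComplexShape.up ℤ).Rel j (j + 1) from rfl)] at h2
  simp only [HomologicalComplex.single_obj_d, zero_comp, zero_add,
    HomologicalComplex.zero_f, add_zero] at h2
  refine ⟨(HomologicalComplex.singleObjXSelf (ComplexShape.up ℤ) j P).inv ≫ H.hom j i, ?_⟩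
  rw [← cancel_mono (E.iCycles j), Category.assoc, Category.assoc,
    HomologicalComplex.toCycles_i, ← h2, cyc_f, Iso.inv_hom_id_assoc]

end Groth.Agent.H1.KInjSig
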