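import Groth.Agent.Lib.Helper1.AbCxElem
import Groth.Agent.Lib.Helper27.Leray3
import Groth.Agent.Lib.Helper27.SSGroth4

/-!
Helper library (helper1): Leray's acyclicity lemma for `Hom(P, -)`, in elementwise form: a
quasi-isomorphism between bounded below complexes with `Ext^{>0}(P, -)`-acyclic terms induces a
bijection on the cohomology of `Hom(P, -)`.
-/

set_option autoImplicit false
set_option linter.unusedSectionVars false
universe v u
open CategoryTheory CategoryTheory.Limits Opposite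

namespace Groth.Agent.H1.LerayHom

open Groth.Agent.Lib.helper27 Groth.Agent.H1.AbCxElem

variable {𝒜 : Type u} [Category.{v} 𝒜] [Abelian 𝒜] [HasExt.{v} 𝒜] [HasInjectiveResolutions 𝒜]

/-- `Hom(P, -)` -/
noncomputable abbrev homF (P : 𝒜) : 𝒜 ⥤ AddCommGrpCat.{v} := preadditiveCoyoneda.obj (op P)

lemma acyc_homF (P Y : 𝒜) (h : ∀ k : ℕ, 0 < k → Subsingleton (Abelian.Ext.{v} P Y k)) :
    Leray.Acyc (homF P) Y := by
  intro k hk
  obtain ⟨e⟩ := ExtCoy.rightDerived_iso_ext (homF P) P (Iso.refl _) k Y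
  have := h k hk
  exact IsZero.of_iso (AddCommGrpCat.isZero_of_subsingleton _) e.symm

variable (P : 𝒜) {K E : CochainComplex 𝒜 ℤ} (φ : K ⟶ E) [QuasiIso φ] (nK nE : ℤ)
  [K.IsStrictlyGE nK] [E.IsStrictlyGE nE]
  (hK : ∀ (m : ℤ) (k : ℕ), 0 < k → Subsingleton (Abelian.Ext.{v} P (K.X m) k))
  (hE : ∀ (m : ℤ) (k : ℕ), 0 < k → Subsingleton (Abelian.Ext.{v} P (E.X m) k))

include nK nE hK hE

lemma quasiIso_homF :
    QuasiIso (((homF P).mapHomologicalComplex (ComplexShape.up ℤ)).map φ) :=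
  Leray.quasiIso_map_of_acyc (homF P) φ nK nE (fun m => acyc_homF P _ (hK m))
    (fun m => acyc_homF P _ (hE m))

/-- injectivity on `H^j Hom(P, -)`, elementwise -/
theorem exists_bound (i j : ℤ) (hij : i + 1 = j) (x : P ⟶ K.X j) (hx : x ≫ K.d j (j + 1) = 0)
    (y : P ⟶ E.X i) (hxy : x ≫ φ.f j = y ≫ E.d i j) : ∃ w : P ⟶ K.X i, x = w ≫ K.d i j := by
  have hq := quasiIso_homF P φ nK nE hK hE
  have hiso : IsIso (HomologicalComplex.homologyMap
      (((homF P).mapHomologicalComplex (ComplexShape.up ℤ)).map φ) j) := inferInstance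
  exact exists_bound_of_injective (((homF P).mapHomologicalComplex (ComplexShape.up ℤ)).map φ)
    i j (j + 1) hij rfl (ConcreteCategory.bijective_of_isIso _).1 x hx y hxy

/-- surjectivity on `H^j Hom(P, -)`, elementwise -/
theorem exists_lift (i j : ℤ) (hij : i + 1 = j) (z : P ⟶ E.X j) (hz : z ≫ E.d j (j + 1) = 0) :
    ∃ (x : P ⟶ K.X j) (y : P ⟶ E.X i), x ≫ K.d j (j + 1) = 0 ∧
      x ≫ φ.f j = z + y ≫ E.d i j := by
  have hq := quasiIso_homF P φ nK nE hK hE
  have hiso : IsIso (HomologicalComplex.homologyMap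
      (((homF P).mapHomologicalComplex (ComplexShape.up ℤ)).map φ) j) := inferInstance
  exact exists_lift_of_surjective (((homF P).mapHomologicalComplex (ComplexShape.up ℤ)).map φ)
    i j (j + 1) hij rfl (ConcreteCategory.bijective_of_isIso _).2 z hz

end Groth.Agent.H1.LerayHom
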