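import Groth.Agent.Lib.Helper1.CompactBdd

/-!
Helper library (helper1): objects `P` of finite `Ext`-dimension in an abelian category with
DG-injective resolutions: `Hom(single_0 P, L) = 0` for `L ∈ D^{≤ b}`, `b + d < 0` (unbounded `L`),
and compactness of `single_0 P` in the unbounded derived category.
-/

set_option autoImplicit false
set_option linter.unusedSectionVars false
universe w v u
open CategoryTheory CategoryTheory.Limits DerivedCategory Pretriangulated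

namespace Groth.Agent.H1.CompactCd

open Groth.Agent.H1.SingleHom Groth.Agent.H1.KInjSig Groth.Agent.H1.HomSum
  Groth.Agent.H1.DCoprod Groth.Agent.Lib.Helper25.DProd

section shift

variable {𝒜 : Type u} [Category.{v} 𝒜] [Abelian 𝒜] [HasExt.{w} 𝒜]

/-- dimension shifting -/
lemma subsingleton_ext_X₃ {S : ShortComplex 𝒜} (hS : S.ShortExact) (P : 𝒜) (k : ℕ)
    (h2 : Subsingleton (Abelian.Ext.{w} P S.X₂ k))
    (h1 : Subsingleton (Abelian.Ext.{w} P S.X₁ (k + 1))) :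
    Subsingleton (Abelian.Ext.{w} P S.X₃ k) := by
  refine subsingleton_of_forall_eq 0 fun x₃ => ?_
  obtain ⟨x₂, hx₂⟩ := Abelian.Ext.covariant_sequence_exact₃ P hS x₃ rfl (Subsingleton.elim _ _)
  rw [← hx₂, Subsingleton.elim x₂ 0, Abelian.Ext.zero_comp]

variable (I : CochainComplex 𝒜 ℤ)

/-- the short complex `Z^m → I^m → Z^{m+1}` -/
noncomputable def sc (m : ℤ) : ShortComplex 𝒜 :=
  ShortComplex.mk (I.iCycles m) (I.toCycles m (m + 1)) (by
    rw [← cancel_mono (I.iCycles (m + 1)), Category.assoc, HomologicalComplex.toCycles_i,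
      HomologicalComplex.iCycles_d, zero_comp])

lemma sc_shortExact (m : ℤ) (h : I.ExactAt (m + 1)) : (sc I m).ShortExact := by
  have hex : (sc I m).Exact := by
    apply ShortComplex.exact_of_f_is_kernel
    exact isKernelOfComp (I.iCycles (m + 1)) (I.d m (m + 1))
      (I.cyclesIsKernel m (m + 1) (by simp)) _ (I.toCycles_i m (m + 1))
  have h1 : Mono (sc I m).f := inferInstanceAs (Mono (I.iCycles m))
  have h2 : Epi (sc I m).g := by
    have e1 : (ShortComplex.mk (I.toCycles m (m + 1)) (I.homologyπ (m + 1)) (by simp)).Exact :=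
      ShortComplex.exact_of_g_is_cokernel _ (I.homologyIsCokernel m (m + 1) (by simp))
    have e2 : I.homologyπ (m + 1) = 0 :=
      ((HomologicalComplex.exactAt_iff_isZero_homology _ _).1 h).eq_of_tgt _ _
    exact e1.epi_f e2
  exact { exact := hex }

variable (P : 𝒜) (d : ℕ)
  (hP : ∀ (F : 𝒜) (k : ℕ), d < k → Subsingleton (Abelian.Ext.{w} P F k))
  (hI : ∀ n, Injective (I.X n)) (b : ℤ) (hb : ∀ n, b < n → I.ExactAt n)

include hP hI hb in
lemma subsingleton_ext_cycles : ∀ (t : ℕ) (k : ℕ), 0 < k → d < k + t →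
    Subsingleton (Abelian.Ext.{w} P (I.cycles (b + t)) k) := by
  intro t
  induction t with
  | zero => exact fun k _ hd => hP _ k (by omega)
  | succ t ih =>
    intro k hk hd
    have hS := sc_shortExact I (b + t) (hb _ (by omega))
    have e : b + ((t + 1 : ℕ) : ℤ) = b + t + 1 := by push_cast; ring
    rw [e]
    refine subsingleton_ext_X₃ hS P k ?_ (ih (k + 1) (by omega) (by omega))
    have : Injective (sc I (b + t)).X₂ := hI (b + t)
    obtain ⟨k', rfl⟩ : ∃ k', k = k' + 1 := ⟨k - 1, by omega⟩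
    exact subsingleton_of_forall_eq 0 fun x => Abelian.Ext.eq_zero_of_injective x

include hP hI hb in
/-- cycles in degrees `> b + d` of a complex of injectives which is exact in degrees `> b`
are boundaries, as seen by maps from `P` -/
theorem exists_boundary (m j : ℤ) (hmj : m + 1 = j) (hm : b + d ≤ m) (z : P ⟶ I.cycles j) :
    ∃ y : P ⟶ I.X m, z = y ≫ I.toCycles m j := by
  subst hmj
  obtain ⟨t, rfl⟩ : ∃ t : ℕ, m = b + t := ⟨(m - b).toNat, by omega⟩
  have hS := sc_shortExact I (b + t) (hb _ (by omega))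
  have h1 : Subsingleton (Abelian.Ext.{w} P (I.cycles (b + t)) 1) :=
    subsingleton_ext_cycles I P d hP hI b hb t 1 (by omega) (by omega)
  obtain ⟨x₂, hx₂⟩ := Abelian.Ext.covariant_sequence_exact₃ P hS (Abelian.Ext.mk₀ z) rfl
    (@Subsingleton.elim _ h1 _ _)
  refine ⟨Abelian.Ext.addEquiv₀ x₂, ?_⟩
  apply (Abelian.Ext.mk₀_bijective P _).1
  have h3 : Abelian.Ext.mk₀ (Abelian.Ext.addEquiv₀ x₂ ≫ (sc I (b + t)).g) =
      x₂.comp (Abelian.Ext.mk₀ (sc I (b + t)).g) (add_zero 0) := by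
    rw [← Abelian.Ext.mk₀_comp_mk₀, Abelian.Ext.mk₀_addEquiv₀_apply]
  exact hx₂.symm.trans h3.symm

end shift

section vanish

variable {𝒜 : Type u} [Category.{v} 𝒜] [Abelian 𝒜] [HasDerivedCategory.{v} 𝒜] [HasExt.{v} 𝒜]
  (hKinj' : ∀ K : CochainComplex 𝒜 ℤ, ∃ (I : CochainComplex 𝒜 ℤ) (f : K ⟶ I),
    I.IsKInjective ∧ QuasiIso f ∧ ∀ n, Injective (I.X n))
  (P : 𝒜) (d : ℕ) (hP : ∀ (F : 𝒜) (k : ℕ), d < k → Subsingleton (Abelian.Ext.{v} P F k))

include hKinj' hP in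
/-- `Hom(single_0 P, L) = 0` for `L ∈ D^{≤ b}` with `b + d < 0` -/
theorem hom_single_eq_zero (L : DerivedCategory 𝒜) (b : ℤ) (hL : L.IsLE b) (hbd : b + d < 0)
    (x : (singleFunctor 𝒜 0).obj P ⟶ L) : x = 0 := by
  obtain ⟨K, hK, ⟨e⟩⟩ := exists_iso_Q_obj_of_isLE L b
  obtain ⟨I, f, hIK, hf, hIinj⟩ := hKinj' K
  have hQf : IsIso (Q.map f) := by rw [isIso_Q_map_iff_quasiIso]; exact hf
  have hex : ∀ n, b < n → I.ExactAt n := by
    intro n hn
    have hKn : K.ExactAt n :=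
      ShortComplex.exact_of_isZero_X₂ _ (K.isZero_of_isStrictlyLE b n hn)
    exact (quasiIsoAt_iff_exactAt f n hKn).1 inferInstance
  obtain ⟨z, hz⟩ := exists_sig_eq I 0 (x ≫ e.hom ≫ Q.map f)
  obtain ⟨y, hy⟩ := exists_boundary I P d hP hIinj b hex (-1) 0 (by norm_num) (by omega) z
  have h0 : x ≫ e.hom ≫ Q.map f = 0 := by
    rw [hz, hy]
    exact sig_toCycles I (-1) 0 (by norm_num) y
  have h1 : IsIso (e.hom ≫ Q.map f) := inferInstance
  exact (cancel_mono (e.hom ≫ Q.map f)).1 (h0.trans zero_comp.symm)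

variable [EnoughInjectives 𝒜] {ι : Type w} [HasColimitsOfShape (Discrete ι) 𝒜]
  (H0 : ∀ Y : ι → 𝒜, Function.Bijective (homSum P Y (Cofan.mk (∐ Y) (Sigma.ι Y))))
  (Hp : ∀ (Y : ι → 𝒜) (k : ℕ), 0 < k → (∀ i, Subsingleton (Abelian.Ext.{v} P (Y i) k)) →
    Subsingleton (Abelian.Ext.{v} P (∐ Y) k))

include hKinj' hP H0 Hp in
/-- compactness of `single_0 P` for arbitrary families, for `P` of finite `Ext`-dimension -/
theorem bijective_homSum_of_cd (n : ℤ) (hn : n + d ≤ 0) (X : ι → DerivedCategory 𝒜)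
    [HasCoproduct X]
    [HasCoproduct (fun i => ((TStructure.t :
      Triangulated.TStructure (DerivedCategory 𝒜)).truncGE n).obj (X i))] :
    Function.Bijective (homSum ((singleFunctor 𝒜 0).obj P) X (Cofan.mk (∐ X) (Sigma.ι X))) := by
  classical
  let t : Triangulated.TStructure (DerivedCategory 𝒜) := TStructure.t
  have hKinj : ∀ K : CochainComplex 𝒜 ℤ, ∃ (I : CochainComplex 𝒜 ℤ) (f : K ⟶ I),
      I.IsKInjective ∧ QuasiIso f := fun K => by
    obtain ⟨I, f, h1, h2, -⟩ := hKinj' K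
    exact ⟨I, f, h1, h2⟩
  have hV : ∀ (L : DerivedCategory 𝒜), t.IsLE L (n - 1) →
      ∀ x : (singleFunctor 𝒜 0).obj P ⟶ L, x = 0 :=
    fun L hL x => hom_single_eq_zero hKinj' P d hP L (n - 1) hL (by omega) x
  let Y : ι → DerivedCategory 𝒜 := fun i => (t.truncGE n).obj (X i)
  let π : ∀ i, X i ⟶ Y i := fun i => (t.truncGEπ n).app (X i)
  -- termwise
  have hinj : ∀ i (x : (singleFunctor 𝒜 0).obj P ⟶ X i), x ≫ π i = 0 → x = 0 := by
    intro i x hx
    obtain ⟨x', hx'⟩ := Triangle.coyoneda_exact₂ _ (t.triangleLTGE_distinguished n (X i)) x hx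
    have h1 : t.IsLE ((t.truncLT n).obj (X i)) (n - 1) := inferInstance
    have h2 : x' = 0 := hV _ h1 x'
    rw [hx', h2]
    exact zero_comp
  have hsurj : ∀ i (y : (singleFunctor 𝒜 0).obj P ⟶ Y i),
      ∃ x : (singleFunctor 𝒜 0).obj P ⟶ X i, x ≫ π i = y := by
    intro i y
    have hA : t.IsLE (((t.truncLT n).obj (X i))⟦(1 : ℤ)⟧) (n - 1) := by
      have h1 : t.IsLE ((t.truncLT n).obj (X i)) (n - 1) := inferInstance
      have h2 : t.IsLE (((t.truncLT n).obj (X i))⟦(1 : ℤ)⟧) (n - 2) :=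
        t.isLE_shift _ (n - 1) 1 (n - 2) (by omega)
      exact t.isLE_of_le _ (n - 2) (n - 1) (by omega)
    have h0 : y ≫ (t.truncGEδLT n).app (X i) = 0 := hV _ hA _
    obtain ⟨x, hx⟩ := Triangle.coyoneda_exact₃ _ (t.triangleLTGE_distinguished n (X i)) y h0
    exact ⟨x, hx.symm⟩
  let Pm : ∐ X ⟶ ∐ Y := Limits.Sigma.map π
  have hPm : ∀ i, Sigma.ι X i ≫ Pm = π i ≫ Sigma.ι Y i := fun i => Limits.Sigma.ι_map π i
  obtain ⟨G, β, γ, hT⟩ := distinguished_cocone_triangle Pm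
  have hI1 : ∀ (W : DerivedCategory 𝒜), t.IsGE W (n - 1) → ∀ g : ∐ Y ⟶ W, Pm ≫ g = 0 → g = 0 := by
    intro W hW g hg
    apply Sigma.hom_ext
    intro i
    rw [comp_zero]
    have h1 : π i ≫ (Sigma.ι Y i ≫ g) = 0 := by
      rw [← Category.assoc, ← hPm, Category.assoc, hg, comp_zero]
    obtain ⟨g', hg'⟩ := Triangle.yoneda_exact₃ _ (t.triangleLTGE_distinguished n (X i))
      (Sigma.ι Y i ≫ g) h1
    have hA : t.IsLE (((t.truncLT n).obj (X i))⟦(1 : ℤ)⟧) (n - 2) :=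
      t.isLE_shift _ (n - 1) 1 (n - 2) (by omega)
    have h2 : g' = 0 := t.zero_of_isLE_of_isGE g' (n - 2) (n - 1) (by omega) hA hW
    rw [h2] at hg'
    exact hg'.trans comp_zero
  have hS1 : ∀ (Z : DerivedCategory 𝒜), t.IsGE Z (n - 1) → ∀ g : (∐ X)⟦(1 : ℤ)⟧ ⟶ Z,
      ∃ g' : (∐ Y)⟦(1 : ℤ)⟧ ⟶ Z, g = Pm⟦(1 : ℤ)⟧' ≫ g' := by
    intro Z hZ g
    let εZ : (Z⟦(-1 : ℤ)⟧)⟦(1 : ℤ)⟧ ≅ Z :=
      (shiftFunctorCompIsoId (DerivedCategory 𝒜) (-1 : ℤ) 1 (by norm_num)).app Z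
    have hZ' : t.IsGE (Z⟦(-1 : ℤ)⟧) n := t.isGE_shift Z (n - 1) (-1) n (by omega)
    obtain ⟨h, hh⟩ := (shiftFunctor (DerivedCategory 𝒜) (1 : ℤ)).map_surjective (g ≫ εZ.inv)
    let h' : ∐ Y ⟶ Z⟦(-1 : ℤ)⟧ := Sigma.desc (fun i => t.descTruncGE (Sigma.ι X i ≫ h) n)
    have hh' : Pm ≫ h' = h := by
      apply Sigma.hom_ext
      intro i
      rw [← Category.assoc, hPm, Category.assoc, Sigma.ι_desc, t.π_descTruncGE]
    refine ⟨h'⟦(1 : ℤ)⟧' ≫ εZ.hom, ?_⟩
    rw [← Category.assoc, ← Functor.map_comp, hh', hh, Category.assoc, Iso.inv_hom_id,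
      Category.comp_id]
  have hG : t.IsLE G (n - 2) := by
    rw [t.isLE_iff_orthogonal (n - 2) (n - 1) (by omega)]
    intro Z g hZ
    have h1 : β ≫ g = 0 := hI1 Z hZ (β ≫ g) (by
      rw [← Category.assoc]
      have := comp_distTriang_mor_zero₁₂ _ hT
      exact (congrArg (fun f => f ≫ g) this).trans zero_comp)
    obtain ⟨g', hg'⟩ := Triangle.yoneda_exact₃ _ hT g h1
    obtain ⟨g'', hg''⟩ := hS1 Z hZ g'
    have h3 := comp_distTriang_mor_zero₃₁ _ hT
    rw [hg', hg'']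
    exact (Category.assoc _ _ _).symm.trans ((congrArg (fun f => f ≫ g'') h3).trans zero_comp)
  have hstar : ∀ x : (singleFunctor 𝒜 0).obj P ⟶ ∐ X, x ≫ Pm = 0 → x = 0 := by
    intro x hx
    have hT' := inv_rot_of_distTriang _ hT
    obtain ⟨x', hx'⟩ := Triangle.coyoneda_exact₂ _ hT' x hx
    have hG' : t.IsLE (G⟦(-1 : ℤ)⟧) (n - 1) := t.isLE_shift G (n - 2) (-1) (n - 1) (by omega)
    have h2 : x' = 0 := hV _ hG' x'
    rw [hx', h2]
    exact zero_comp
  have hYbij := Groth.Agent.H1.CompactBdd.bijective_homSum_single hKinj P H0 Hp Y n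
    (fun i => inferInstanceAs (t.IsGE ((t.truncGE n).obj (X i)) n))
    (Cofan.mk (∐ Y) (Sigma.ι Y)) (coproductIsCoproduct Y)
  constructor
  · rw [injective_iff]
    intro S σ hσ i hi
    apply hinj i
    refine (injective_iff ((singleFunctor 𝒜 0).obj P) Y _).1 hYbij.1 S
      (fun i => σ i ≫ π i) ?_ i hi
    have h1 := congrArg (fun x => x ≫ Pm) hσ
    simp only [Preadditive.sum_comp, zero_comp] at h1
    rw [← h1]
    apply Finset.sum_congr rfl
    intro j _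
    change (σ j ≫ π j) ≫ Sigma.ι Y j = (σ j ≫ Sigma.ι X j) ≫ Pm
    rw [Category.assoc, Category.assoc, hPm]
  · rw [surjective_iff]
    intro x
    change (singleFunctor 𝒜 0).obj P ⟶ ∐ X at x
    obtain ⟨S, y, hy⟩ := (surjective_iff ((singleFunctor 𝒜 0).obj P) Y _).1 hYbij.2 (x ≫ Pm)
    choose ξ hξ using fun i => hsurj i (y i)
    refine ⟨S, ξ, ?_⟩
    have h1 : (x - ∑ i ∈ S, ξ i ≫ Sigma.ι X i) ≫ Pm = 0 := by
      rw [Preadditive.sub_comp, hy, Preadditive.sum_comp, sub_eq_zero]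
      apply Finset.sum_congr rfl
      intro i _
      change y i ≫ Sigma.ι Y i = (ξ i ≫ Sigma.ι X i) ≫ Pm
      rw [Category.assoc, hPm, ← Category.assoc, hξ]
    exact sub_eq_zero.1 (hstar _ h1)

end vanish

end Groth.Agent.H1.CompactCd
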