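import Groth.Agent.Lib.Helper1.DecentQS
import Groth.Agent.S3694

/-!
# Configuration schemes of an étale chart (helper1)

For `a : h_U ⟶ X` representable étale with `U` affine, `Conf a p` is the scheme of `(p+1)`-tuples of
pairwise distinct points of `U` in one fibre of `a`.
-/

set_option autoImplicit false
universe u
open CategoryTheory CategoryTheory.Limits AlgebraicGeometry Topology TopologicalSpace
open AlgSp

namespace Groth.Agent.H1.ConfSp

open Groth.Agent.H1.FibDeg Groth.Agent.H1.DecentOpen Groth.Agent.H1.DecentQS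
  Groth.Agent.Lib.helper5.FppfBoot Groth.Agent.Lib.helper5 Groth.Agent.Lib.helper11

variable {S : Scheme.{u}}

/-- Two `T`-valued points of `U` are apart when no field valued point of `T` equalizes them. -/
def Apart {U T : Over S} (u₁ u₂ : T ⟶ U) : Prop :=
  ∀ (K : Type u) [Field K] (str : Spec (.of K) ⟶ S) (ω : Over.mk str ⟶ T), ω ≫ u₁ ≠ ω ≫ u₂

theorem Apart.symm {U T : Over S} {u₁ u₂ : T ⟶ U} (h : Apart u₁ u₂) : Apart u₂ u₁ :=
  fun K _ str ω e => h K str ω e.symm

theorem Apart.comp {U T T' : Over S} {u₁ u₂ : T ⟶ U} (h : Apart u₁ u₂) (l : T' ⟶ T) :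
    Apart (l ≫ u₁) (l ≫ u₂) := by
  intro K _ str ω e
  apply h K str (ω ≫ l)
  rw [Category.assoc, Category.assoc]
  exact e

/-- A section of an étale morphism is an open immersion. -/
theorem isOpenImmersion_of_section {X Y : Scheme.{u}} (g : X ⟶ Y) [Etale g] (σ : Y ⟶ X)
    (h : σ ≫ g = 𝟙 Y) : IsOpenImmersion σ := by
  haveI : Etale (σ ≫ g) := by rw [h]; infer_instance
  haveI : Etale σ := Etale.of_comp σ g
  haveI : Mono σ := mono_of_mono_fac h
  exact Groth.Agent.S3694.result σ

section Pair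

variable {X : Sp S} {U R : Over S} {a : (yon S).obj U ⟶ X} {s t : R ⟶ U}
  (sq : IsPullback ((yon S).map s) ((yon S).map t) a a)

/-- The morphism to `R = U ×_X U` determined by two points of `U` over the same point of `X`. -/
noncomputable def pair {T : Over S} (u₁ u₂ : T ⟶ U)
    (h : (yon S).map u₁ ≫ a = (yon S).map u₂ ≫ a) : T ⟶ R :=
  (yon S).preimage (sq.lift _ _ h)

theorem pair_s {T : Over S} (u₁ u₂ : T ⟶ U) (h : (yon S).map u₁ ≫ a = (yon S).map u₂ ≫ a) :
    pair sq u₁ u₂ h ≫ s = u₁ := by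
  apply (yon S).map_injective
  rw [Functor.map_comp, pair, Functor.map_preimage, sq.lift_fst]

theorem pair_t {T : Over S} (u₁ u₂ : T ⟶ U) (h : (yon S).map u₁ ≫ a = (yon S).map u₂ ≫ a) :
    pair sq u₁ u₂ h ≫ t = u₂ := by
  apply (yon S).map_injective
  rw [Functor.map_comp, pair, Functor.map_preimage, sq.lift_snd]

include sq in
theorem hom_ext_R {T : Over S} (f g : T ⟶ R) (h1 : f ≫ s = g ≫ s) (h2 : f ≫ t = g ≫ t) : f = g := by
  apply (yon S).map_injective
  apply sq.hom_ext
  · rw [← Functor.map_comp, ← Functor.map_comp, h1]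
  · rw [← Functor.map_comp, ← Functor.map_comp, h2]

theorem comp_pair {T T' : Over S} (l : T' ⟶ T) (u₁ u₂ : T ⟶ U)
    (h : (yon S).map u₁ ≫ a = (yon S).map u₂ ≫ a) :
    l ≫ pair sq u₁ u₂ h = pair sq (l ≫ u₁) (l ≫ u₂)
      (by rw [Functor.map_comp, Functor.map_comp, Category.assoc, Category.assoc, h]) := by
  apply hom_ext_R sq
  · rw [Category.assoc, pair_s, pair_s]
  · rw [Category.assoc, pair_t, pair_t]

/-- The diagonal `U ⟶ R`. -/
noncomputable def diagR : U ⟶ R := pair sq (𝟙 U) (𝟙 U) rfl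

theorem diagR_s : diagR sq ≫ s = 𝟙 U := pair_s sq _ _ _
theorem diagR_t : diagR sq ≫ t = 𝟙 U := pair_t sq _ _ _

theorem pair_self {T : Over S} (v : T ⟶ U) : pair sq v v rfl = v ≫ diagR sq := by
  apply hom_ext_R sq
  · rw [pair_s, Category.assoc, diagR_s, Category.comp_id]
  · rw [pair_t, Category.assoc, diagR_t, Category.comp_id]

theorem isOpenImmersion_diagR [Etale s.left] : IsOpenImmersion (diagR sq).left := by
  apply isOpenImmersion_of_section s.left
  rw [← Over.comp_left, diagR_s, Over.id_left]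

theorem isClosedImmersion_diagR [IsSeparated s.left] : IsClosedImmersion (diagR sq).left := by
  haveI : IsClosedImmersion ((diagR sq).left ≫ s.left) := by
    rw [← Over.comp_left, diagR_s, Over.id_left]; infer_instance
  exact IsClosedImmersion.of_comp (diagR sq).left s.left

/-- The locus where two points of `U` over the same point of `X` agree. -/
theorem mem_range_diagR_iff [Etale s.left] {T : Over S} (u₁ u₂ : T ⟶ U)
    (h : (yon S).map u₁ ≫ a = (yon S).map u₂ ≫ a) (t₀ : ↥T.left) :
    (pair sq u₁ u₂ h).left t₀ ∈ Set.range (diagR sq).left ↔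
      ∃ (K : Type u) (_ : Field K) (str : Spec (.of K) ⟶ S) (ω : Over.mk str ⟶ T),
        (∀ y, ω.left y = t₀) ∧ ω ≫ u₁ = ω ≫ u₂ := by
  haveI := isOpenImmersion_diagR sq
  constructor
  · intro hmem
    let ω : Over.mk (T.left.fromSpecResidueField t₀ ≫ T.hom) ⟶ T :=
      Over.homMk (T.left.fromSpecResidueField t₀) rfl
    refine ⟨T.left.residueField t₀, inferInstance, _, ω, ?_, ?_⟩
    · intro y
      have : T.left.fromSpecResidueField t₀ y ∈ Set.range (T.left.fromSpecResidueField t₀) := ⟨y, rfl⟩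
      rw [Scheme.range_fromSpecResidueField] at this
      exact this
    · have hsub : Set.range (ω ≫ pair sq u₁ u₂ h).left ⊆ Set.range (diagR sq).left := by
        rintro _ ⟨y, rfl⟩
        have hy : ω.left y = t₀ := by
          have : T.left.fromSpecResidueField t₀ y ∈ Set.range (T.left.fromSpecResidueField t₀) :=
            ⟨y, rfl⟩
          rw [Scheme.range_fromSpecResidueField] at this
          exact this
        rw [Over.comp_left, Scheme.Hom.comp_apply, hy]
        exact hmem
      have e1 : IsOpenImmersion.lift (diagR sq).left (ω ≫ pair sq u₁ u₂ h).left hsub ≫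
          (diagR sq).left = (ω ≫ pair sq u₁ u₂ h).left := IsOpenImmersion.lift_fac _ _ _
      apply Over.OverMorphism.ext
      have e2 : (ω ≫ u₁).left = (ω ≫ pair sq u₁ u₂ h).left ≫ s.left := by
        rw [← Over.comp_left, Category.assoc, pair_s]
      have e3 : (ω ≫ u₂).left = (ω ≫ pair sq u₁ u₂ h).left ≫ t.left := by
        rw [← Over.comp_left, Category.assoc, pair_t]
      have e4 : (diagR sq).left ≫ s.left = 𝟙 _ := by rw [← Over.comp_left, diagR_s, Over.id_left]
      have e5 : (diagR sq).left ≫ t.left = 𝟙 _ := by rw [← Over.comp_left, diagR_t, Over.id_left]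
      rw [e2, e3, ← e1, Category.assoc, Category.assoc, e4, e5]
  · rintro ⟨K, _, str, ω, hω, e⟩
    obtain ⟨y⟩ : Nonempty ↥(Spec (.of K)) := inferInstance
    have e1 : ω ≫ pair sq u₁ u₂ h = (ω ≫ u₁) ≫ diagR sq := by
      rw [comp_pair, ← pair_self]
      congr 1
      exact e.symm
    refine ⟨(ω ≫ u₁).left y, ?_⟩
    rw [← hω y, ← Scheme.Hom.comp_apply, ← Scheme.Hom.comp_apply, ← Over.comp_left, ← Over.comp_left, e1]

theorem apart_iff [Etale s.left] {T : Over S} (u₁ u₂ : T ⟶ U)
    (h : (yon S).map u₁ ≫ a = (yon S).map u₂ ≫ a) :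
    Apart u₁ u₂ ↔ ∀ t₀ : ↥T.left, (pair sq u₁ u₂ h).left t₀ ∉ Set.range (diagR sq).left := by
  constructor
  · intro hap t₀ hmem
    obtain ⟨K, _, str, ω, -, e⟩ := (mem_range_diagR_iff sq u₁ u₂ h t₀).1 hmem
    exact hap K str ω e
  · intro hn K _ str ω e
    obtain ⟨y⟩ : Nonempty ↥(Spec (.of K)) := inferInstance
    apply hn (ω.left y)
    rw [mem_range_diagR_iff]
    refine ⟨K, inferInstance, str, ω, ?_, e⟩
    intro y'
    congr 1
    exact @Subsingleton.elim _ (inferInstanceAs (Subsingleton ↥(Spec (.of K)))) _ _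

end Pair

/-- The scheme of `(p+1)`-tuples of pairwise apart points of `U` in a fibre of `a : h_U ⟶ X`. -/
structure Conf {X : Sp S} {U : Over S} (a : (yon S).obj U ⟶ X) (p : ℕ) where
  W : Over S
  pr : Fin (p + 1) → (W ⟶ U)
  comm : ∀ i j, (yon S).map (pr i) ≫ a = (yon S).map (pr j) ≫ a
  apart : ∀ i j, i ≠ j → Apart (pr i) (pr j)
  lift : ∀ {T : Over S} (v : Fin (p + 1) → (T ⟶ U)),
    (∀ i j, (yon S).map (v i) ≫ a = (yon S).map (v j) ≫ a) →
    (∀ i j, i ≠ j → Apart (v i) (v j)) → (T ⟶ W)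
  lift_pr : ∀ {T : Over S} (v : Fin (p + 1) → (T ⟶ U))
    (h1 : ∀ i j, (yon S).map (v i) ≫ a = (yon S).map (v j) ≫ a)
    (h2 : ∀ i j, i ≠ j → Apart (v i) (v j)) (i : Fin (p + 1)), lift v h1 h2 ≫ pr i = v i
  hom_ext : ∀ {T : Over S} (f g : T ⟶ W), (∀ i, f ≫ pr i = g ≫ pr i) → f = g
  etale : Etale (pr 0).left
  sep : IsSeparated (pr 0).left
  compact : RepWith @QuasiCompact a → CompactSpace ↥U.left → CompactSpace ↥W.left

section Exist

variable {X : Sp S} {U R : Over S} {a : (yon S).obj U ⟶ X} {s t : R ⟶ U}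

/-- The configuration scheme of one point is `U`. -/
noncomputable def Conf.base (a : (yon S).obj U ⟶ X) : Conf a 0 where
  W := U
  pr := fun _ => 𝟙 U
  comm := fun _ _ => rfl
  apart := fun i j hij => absurd (@Subsingleton.elim _ (inferInstanceAs (Subsingleton (Fin 1))) i j) hij
  lift := fun v _ _ => v 0
  lift_pr := fun v _ _ i => by
    rw [Category.comp_id]
    congr 1
    exact @Subsingleton.elim _ (inferInstanceAs (Subsingleton (Fin 1))) _ _
  hom_ext := fun f g h => by
    have := h 0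
    rwa [Category.comp_id, Category.comp_id] at this
  etale := by rw [Over.id_left]; infer_instance
  sep := by rw [Over.id_left]; infer_instance
  compact := fun _ h => h

theorem nonempty_conf_succ [IsAffine U.left] (hae : RepWith @Etale a)
    (sq : IsPullback ((yon S).map s) ((yon S).map t) a a) {p : ℕ} (C : Conf a p) :
    Nonempty (Conf a (p + 1)) := by
  haveI hs_et : Etale s.left := hae.2 _ _ _ sq.flip
  haveI hs_sep : IsSeparated s.left := isSeparated_left_of_affine sq
  haveI := isClosedImmersion_diagR sq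
  obtain ⟨P, snd, fst', sqP⟩ := hae.1 ((yon S).map (C.pr 0) ≫ a)
  obtain ⟨φ, rfl⟩ := (yon S).map_surjective fst'
  have hsnd_et : Etale snd.left := hae.2 _ _ _ sqP
  have hsnd_sep : IsSeparated snd.left := isSeparated_left_of_affine' sqP.flip
  have hi : ∀ i, (yon S).map (snd ≫ C.pr i) ≫ a = (yon S).map φ ≫ a := by
    intro i
    rw [Functor.map_comp, Category.assoc, C.comm i 0, sqP.w]
  -- the closed loci where the new point meets an old one
  let E : Fin (p + 1) → Set ↥P.left := fun i =>
    (pair sq (snd ≫ C.pr i) φ (hi i)).left ⁻¹' Set.range (diagR sq).left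
  have hE : ∀ i, IsClosed (E i) := fun i =>
    (diagR sq).left.isClosedEmbedding.isClosed_range.preimage
      (pair sq (snd ≫ C.pr i) φ (hi i)).left.continuous
  let D : P.left.Opens := ⟨(⋃ i, E i)ᶜ, (isClosed_iUnion_of_finite hE).isOpen_compl⟩
  let W' : Over S := OpenSub.subOver P D
  let ι' : W' ⟶ P := OpenSub.subOverι P D
  have hι'_mem : ∀ (w : ↥W'.left) (i : Fin (p + 1)), ι'.left w ∉ E i := by
    intro w i hmem
    have hw : ι'.left w ∈ (D : Set ↥P.left) := w.2
    exact hw (Set.mem_iUnion.2 ⟨i, hmem⟩)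
  let pr' : Fin (p + 1 + 1) → (W' ⟶ U) :=
    Fin.lastCases (ι' ≫ φ) (fun i => ι' ≫ snd ≫ C.pr i)
  have hpr'_last : pr' (Fin.last (p + 1)) = ι' ≫ φ := Fin.lastCases_last
  have hpr'_cast : ∀ i : Fin (p + 1), pr' i.castSucc = ι' ≫ snd ≫ C.pr i :=
    fun i => Fin.lastCases_castSucc i
  have hcomm0 : ∀ i, (yon S).map (pr' i) ≫ a = (yon S).map ι' ≫ (yon S).map φ ≫ a := by
    intro i
    refine Fin.lastCases ?_ (fun i => ?_) i
    · rw [hpr'_last, Functor.map_comp, Category.assoc]
    · rw [hpr'_cast, Functor.map_comp, Category.assoc, hi i]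
  have hap_cl : ∀ i : Fin (p + 1), Apart (ι' ≫ snd ≫ C.pr i) (ι' ≫ φ) := by
    intro i
    have hh : (yon S).map (ι' ≫ snd ≫ C.pr i) ≫ a = (yon S).map (ι' ≫ φ) ≫ a := by
      rw [(yon S).map_comp ι' (snd ≫ C.pr i), (yon S).map_comp ι' φ, Category.assoc, Category.assoc, hi i]
    rw [apart_iff sq _ _ hh]
    intro w hmem
    apply hι'_mem w i
    show (pair sq (snd ≫ C.pr i) φ (hi i)).left (ι'.left w) ∈ Set.range (diagR sq).left
    rw [← Scheme.Hom.comp_apply, ← Over.comp_left, comp_pair]
    exact hmem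
  have hι'φ : ι' ≫ φ = pr' (Fin.last (p + 1)) := hpr'_last.symm
  have key : ∀ {T : Over S} (v : Fin (p + 1 + 1) → (T ⟶ U)),
      (∀ i j, (yon S).map (v i) ≫ a = (yon S).map (v j) ≫ a) →
      (∀ i j, i ≠ j → Apart (v i) (v j)) → ∃ l : T ⟶ W', ∀ i, l ≫ pr' i = v i := by
    intro T v h1 h2
    let l₀ : T ⟶ C.W := C.lift (fun i => v i.castSucc) (fun i j => h1 _ _)
      (fun i j hij => h2 _ _ (fun e => hij (Fin.castSucc_injective _ e)))
    have hl₀ : ∀ i, l₀ ≫ C.pr i = v i.castSucc := fun i => C.lift_pr _ _ _ i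
    have hcond : (yon S).map (v (Fin.last (p + 1))) ≫ a =
        (yon S).map l₀ ≫ (yon S).map (C.pr 0) ≫ a := by
      rw [← Category.assoc, ← Functor.map_comp, hl₀ 0]
      exact h1 _ _
    let l₁ : T ⟶ P := (yon S).preimage (sqP.lift _ _ hcond)
    have hl₁φ : l₁ ≫ φ = v (Fin.last (p + 1)) := by
      apply (yon S).map_injective
      rw [Functor.map_comp, Functor.map_preimage, sqP.lift_fst]
    have hl₁s : l₁ ≫ snd = l₀ := by
      apply (yon S).map_injective
      rw [Functor.map_comp, Functor.map_preimage, sqP.lift_snd]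
    have hrange : Set.range l₁.left ⊆ Set.range D.ι := by
      rintro _ ⟨t₀, rfl⟩
      rw [Scheme.Opens.range_ι]
      show l₁.left t₀ ∈ (⋃ i, E i)ᶜ
      intro hmem
      obtain ⟨i, hmem⟩ := Set.mem_iUnion.1 hmem
      have hmem' : (pair sq (snd ≫ C.pr i) φ (hi i)).left (l₁.left t₀) ∈
          Set.range (diagR sq).left := hmem
      rw [← Scheme.Hom.comp_apply, ← Over.comp_left, comp_pair] at hmem'
      have hh : (yon S).map (l₁ ≫ snd ≫ C.pr i) ≫ a = (yon S).map (l₁ ≫ φ) ≫ a := by
        rw [(yon S).map_comp l₁ (snd ≫ C.pr i), (yon S).map_comp l₁ φ, Category.assoc,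
          Category.assoc, hi i]
      have hap : Apart (l₁ ≫ snd ≫ C.pr i) (l₁ ≫ φ) := by
        rw [hl₁φ, ← Category.assoc, hl₁s, hl₀]
        exact h2 _ _ (Fin.castSucc_lt_last i).ne
      exact (apart_iff sq _ _ hh).1 hap t₀ hmem'
    let l₂ : T ⟶ W' := Over.homMk (IsOpenImmersion.lift D.ι l₁.left hrange) (by
      show IsOpenImmersion.lift D.ι l₁.left hrange ≫ D.ι ≫ P.hom = T.hom
      rw [← Category.assoc, IsOpenImmersion.lift_fac]
      exact Over.w l₁)
    have hl₂ : l₂ ≫ ι' = l₁ := by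
      apply Over.OverMorphism.ext
      show IsOpenImmersion.lift D.ι l₁.left hrange ≫ D.ι = l₁.left
      exact IsOpenImmersion.lift_fac _ _ _
    refine ⟨l₂, fun i => ?_⟩
    refine Fin.lastCases ?_ (fun i => ?_) i
    · rw [hpr'_last, ← Category.assoc, hl₂, hl₁φ]
    · rw [hpr'_cast, ← Category.assoc, hl₂, ← Category.assoc, hl₁s, hl₀]
  refine ⟨{
    W := W'
    pr := pr'
    comm := fun i j => by rw [hcomm0 i, hcomm0 j]
    apart := ?_
    lift := fun v h1 h2 => (key v h1 h2).choose
    lift_pr := fun v h1 h2 => (key v h1 h2).choose_spec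
    hom_ext := ?_
    etale := ?_
    sep := ?_
    compact := ?_ }⟩
  · -- apart
    intro i j hij
    revert hij
    refine Fin.lastCases ?_ (fun i => ?_) i <;> refine Fin.lastCases ?_ (fun j => ?_) j
    · intro h; exact absurd rfl h
    · intro _
      rw [hpr'_last, hpr'_cast]
      exact (hap_cl j).symm
    · intro _
      rw [hpr'_last, hpr'_cast]
      exact hap_cl i
    · intro hij
      rw [hpr'_cast, hpr'_cast]
      have hne : i ≠ j := fun e => hij (by rw [e])
      have := (C.apart i j hne).comp (ι' ≫ snd)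
      simpa only [Category.assoc] using this
  · -- hom_ext
    intro T f g h
    haveI : Mono ι' := by
      have : Mono ι'.left := inferInstanceAs (Mono D.ι)
      exact (Over.forget S).mono_of_mono_map this
    rw [← cancel_mono ι']
    apply (yon S).map_injective
    apply sqP.hom_ext
    · rw [← Functor.map_comp, ← Functor.map_comp, Category.assoc, Category.assoc, hι'φ]
      exact congrArg _ (h _)
    · rw [← Functor.map_comp, ← Functor.map_comp]
      congr 1
      apply C.hom_ext
      intro i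
      have := h i.castSucc
      rw [hpr'_cast] at this
      simpa only [Category.assoc] using this
  · -- etale
    have e : pr' 0 = ι' ≫ snd ≫ C.pr 0 := hpr'_cast 0
    rw [e, Over.comp_left, Over.comp_left]
    haveI := C.etale
    haveI : Etale ι'.left := inferInstanceAs (Etale D.ι)
    infer_instance
  · -- separated
    have e : pr' 0 = ι' ≫ snd ≫ C.pr 0 := hpr'_cast 0
    rw [e, Over.comp_left, Over.comp_left]
    haveI := C.sep
    haveI : IsSeparated ι'.left := inferInstanceAs (IsSeparated D.ι)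
    infer_instance
  · -- compact
    intro hq hU
    haveI : CompactSpace ↥C.W.left := C.compact hq hU
    haveI hsnd_qc : QuasiCompact snd.left := hq.2 _ _ _ sqP
    haveI : CompactSpace ↥P.left := QuasiCompact.compactSpace_of_compactSpace snd.left
    haveI := isOpenImmersion_diagR sq
    have hEo : ∀ i, IsOpen (E i) := fun i =>
      (diagR sq).left.isOpenEmbedding.isOpen_range.preimage
        (pair sq (snd ≫ C.pr i) φ (hi i)).left.continuous
    have hDc : IsClosed (D : Set ↥P.left) := (isOpen_iUnion hEo).isClosed_compl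
    exact isCompact_iff_compactSpace.1 hDc.isCompact

end Exist

theorem nonempty_conf {X : Sp S} {U R : Over S} {a : (yon S).obj U ⟶ X} {s t : R ⟶ U}
    [IsAffine U.left] (hae : RepWith @Etale a)
    (sq : IsPullback ((yon S).map s) ((yon S).map t) a a) (p : ℕ) : Nonempty (Conf a p) := by
  induction p with
  | zero => exact ⟨Conf.base a⟩
  | succ p ih =>
    obtain ⟨C⟩ := ih
    exact nonempty_conf_succ hae sq C

end Groth.Agent.H1.ConfSp
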