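import Mathlib

/-!
# Finiteness of a morphism from a finite disjoint union (helper1)
-/

set_option autoImplicit false
universe u
open CategoryTheory CategoryTheory.Limits AlgebraicGeometry Topology TopologicalSpace

namespace Groth.Agent.H1.FinCover

/-- A morphism which is universally closed on each member of a finite open cover of the source is
universally closed. -/
theorem universallyClosed_of_finite_cover {X Y : Scheme.{u}} (J : X ⟶ Y) {G : Type u} [Finite G]
    (Xg : G → Scheme.{u}) (ι : ∀ g, Xg g ⟶ X) (hcov : ∀ x : X, ∃ g, x ∈ Set.range (ι g))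
    (hJ : ∀ g, UniversallyClosed (ι g ≫ J)) : UniversallyClosed J := by
  rw [universallyClosed_eq]
  intro X' Y' i₁ i₂ f' sq
  intro C hC
  have hcl : ∀ g, IsClosedMap (pullback.fst i₁ (ι g) ≫ f') := by
    intro g
    have sq1 : IsPullback (pullback.snd i₁ (ι g)) (pullback.fst i₁ (ι g)) (ι g) i₁ :=
      (IsPullback.of_hasPullback i₁ (ι g)).flip
    have sq2 : IsPullback i₁ f' J i₂ := sq.flip
    have sq3 := sq1.paste_vert sq2
    haveI : UniversallyClosed (pullback.fst i₁ (ι g) ≫ f') :=
      MorphismProperty.of_isPullback (P := @UniversallyClosed) sq3 (hJ g)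
    exact (pullback.fst i₁ (ι g) ≫ f').isClosedMap
  have e : f' '' C = ⋃ g, (pullback.fst i₁ (ι g) ≫ f') '' ((pullback.fst i₁ (ι g)) ⁻¹' C) := by
    ext y
    simp only [Set.mem_image, Set.mem_iUnion, Set.mem_preimage]
    constructor
    · rintro ⟨x, hx, rfl⟩
      obtain ⟨g, z, hz⟩ := hcov (i₁ x)
      obtain ⟨w, hw1, hw2⟩ := Scheme.Pullback.exists_preimage_pullback (f := i₁) (g := ι g) x z hz.symm
      exact ⟨g, w, by rw [hw1]; exact hx, by rw [Scheme.Hom.comp_apply, hw1]⟩
    · rintro ⟨g, w, hw, rfl⟩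
      exact ⟨pullback.fst i₁ (ι g) w, hw, by rw [Scheme.Hom.comp_apply]⟩
  rw [e]
  exact isClosed_iUnion_of_finite (fun g => hcl g _ (hC.preimage (pullback.fst i₁ (ι g)).continuous))

/-- A morphism which is finite on each member of a finite cover of the source by pairwise disjoint
open subschemes is finite. -/
theorem isFinite_of_finite_disjoint_cover {X Y : Scheme.{u}} (J : X ⟶ Y) {G : Type u} [Finite G]
    (Xg : G → Scheme.{u}) (ι : ∀ g, Xg g ⟶ X) [∀ g, IsOpenImmersion (ι g)]
    (hcov : ∀ x : X, ∃ g, x ∈ Set.range (ι g))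
    (hdisj : ∀ g h, g ≠ h → Disjoint (Set.range (ι g)) (Set.range (ι h)))
    (hJ : ∀ g, IsFinite (ι g ≫ J)) : IsFinite J := by
  let 𝒰 : X.OpenCover :=
    { I₀ := G
      X := Xg
      f := ι
      mem₀ := by
        rw [Scheme.presieve₀_mem_precoverage_iff]
        exact ⟨hcov, inferInstance⟩ }
  haveI : LocallyOfFiniteType J :=
    IsZariskiLocalAtSource.of_openCover (P := @LocallyOfFiniteType) 𝒰
      (fun g => by haveI := hJ g; show LocallyOfFiniteType (ι g ≫ J); infer_instance)
  haveI : UniversallyClosed J :=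
    universallyClosed_of_finite_cover J Xg ι hcov (fun g => by haveI := hJ g; infer_instance)
  haveI : IsAffineHom J := by
    constructor
    intro V hV
    have e : J ⁻¹ᵁ V = ⨆ g, (ι g) ''ᵁ ((ι g ≫ J) ⁻¹ᵁ V) := by
      apply SetLike.coe_injective
      rw [Opens.coe_iSup]
      ext x
      simp only [Scheme.Hom.coe_preimage, Set.mem_preimage, SetLike.mem_coe, Set.mem_iUnion,
        Scheme.Hom.coe_image, Set.mem_image]
      constructor
      · intro hx
        obtain ⟨g, y, rfl⟩ := hcov x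
        exact ⟨g, y, by rw [Scheme.Hom.comp_apply]; exact hx, rfl⟩
      · rintro ⟨g, y, hy, rfl⟩
        rw [Scheme.Hom.comp_apply] at hy
        exact hy
    rw [e]
    apply IsAffineOpen.iSup_of_disjoint
    · intro g
      haveI := hJ g
      exact (IsAffineHom.isAffine_preimage (f := ι g ≫ J) V hV).image_of_isOpenImmersion (ι g)
    · intro g h hgh
      show Disjoint ((ι g) ''ᵁ ((ι g ≫ J) ⁻¹ᵁ V)) ((ι h) ''ᵁ ((ι h ≫ J) ⁻¹ᵁ V))
      rw [← Opens.coe_disjoint]
      refine (hdisj g h hgh).mono ?_ ?_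
      · rintro _ ⟨y, -, rfl⟩
        exact ⟨y, rfl⟩
      · rintro _ ⟨y, -, rfl⟩
        exact ⟨y, rfl⟩
  have h1 : IsIntegralHom J := IsIntegralHom.iff_universallyClosed_and_isAffineHom.2 ⟨‹_›, ‹_›⟩
  exact (IsFinite.iff_isIntegralHom_and_locallyOfFiniteType J).2 ⟨h1, ‹_›⟩

end Groth.Agent.H1.FinCover
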