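import Groth.Agent.Lib.Helper24.EtaleReduced
import Groth.Agent.S10366

/-!
A scheme etale over a reduced scheme is reduced; reducedness of etale charts of reduced sheaves (helper1).
Ring-level input: `Groth.Agent.Lib.Helper24.EtaleReduced.isReduced_of_etale`.
-/

set_option autoImplicit false
universe u
open CategoryTheory CategoryTheory.Limits AlgebraicGeometry
open AlgSp

namespace Groth.Agent.H1.EtaleReduced

variable {S : Scheme.{u}}

/-- A scheme etale over a reduced scheme is reduced. -/
theorem isReduced_of_etale {X Y : Scheme.{u}} (f : X ⟶ Y) [Etale f] [IsReduced Y] : IsReduced X := by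
  have : ∀ x : X, _root_.IsReduced (X.presheaf.stalk x) := by
    intro x
    obtain ⟨V, hV, hxV, -⟩ := exists_isAffineOpen_mem_and_subset (x := f x) (U := ⊤) trivial
    obtain ⟨W, hW, hxW, hWV⟩ := exists_isAffineOpen_mem_and_subset (x := x) (U := f ⁻¹ᵁ V) hxV
    have het := Etale.etale_appLE f hV hW hWV
    algebraize [(f.appLE V W hWV).hom]
    have hA : Algebra.Etale Γ(Y, V) Γ(X, W) := het
    have hred : _root_.IsReduced Γ(X, W) :=
      Groth.Agent.Lib.Helper24.EtaleReduced.isReduced_of_etale Γ(Y, V) Γ(X, W)
    have hloc := hW.isLocalization_stalk ⟨x, hxW⟩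
    exact @isReduced_localizationPreserves _ _ (hW.primeIdealOf ⟨x, hxW⟩).asIdeal.primeCompl
      (X.presheaf.stalk x) _ (X.presheaf.algebra_section_stalk ⟨x, hxW⟩) hloc hred
  exact isReduced_of_isReduced_stalk X

/-- Every etale chart of a reduced sheaf is reduced. -/
theorem isReduced_of_chart {X : Sp S} (hX : EtaleLocally (fun U => IsReduced U) X) {B : Over S}
    (b : (yon S).obj B ⟶ X) (hb : RepWith @Etale b) : IsReduced B.left := by
  obtain ⟨U, a, hae, has, hUR⟩ := hX
  have hUR' : IsReduced U.left := hUR
  obtain ⟨W, snd, fst, hpb⟩ := hae.rep b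
  obtain ⟨φ, rfl⟩ := (yon S).map_surjective fst
  have hsnd_et : Etale snd.left := hae.property b _ snd hpb
  have hsnd_surj : Surjective snd.left := has.property b _ snd hpb
  have hφ : Etale φ.left := hb.property a _ φ hpb.flip
  have : IsReduced W.left := isReduced_of_etale φ.left
  exact Groth.Agent.S10366.isReduced_of_flat_surjective snd.left

end Groth.Agent.H1.EtaleReduced
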