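import Groth.Agent.Lib.Helper1.Conf1
import Groth.Agent.Lib.Helper5.QuotDiag2
import Groth.Agent.Lib.Helper5.ResidualSp1
import Groth.Agent.Lib.Helper1.FinCover

/-!
# The symmetric group action on configuration schemes and the quotient (helper1)
-/

set_option autoImplicit false
universe u
open CategoryTheory CategoryTheory.Limits AlgebraicGeometry Topology TopologicalSpace
open AlgSp

namespace Groth.Agent.H1.ConfSp

open Groth.Agent.H1.FibDeg Groth.Agent.H1.DecentOpen Groth.Agent.H1.DecentQS
  Groth.Agent.Lib.helper5.FppfBoot Groth.Agent.Lib.helper5 Groth.Agent.Lib.helper11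
  Groth.Agent.Lib.Helper14.AlgSpQuot Groth.Agent.Lib.Helper14.RepSh

variable {S : Scheme.{u}} {X : Sp S} {U : Over S} {a : (yon S).obj U ⟶ X} {p : ℕ}

namespace Conf

variable (C : Conf a p)

/-- The structure map to `X`. -/
noncomputable def toX : (yon S).obj C.W ⟶ X := (yon S).map (C.pr 0) ≫ a

theorem map_pr_comp (i : Fin (p + 1)) : (yon S).map (C.pr i) ≫ a = C.toX := C.comm i 0

/-- The action of a permutation of the indices. -/
noncomputable def act (σ : Equiv.Perm (Fin (p + 1))) : C.W ⟶ C.W :=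
  C.lift (fun i => C.pr (σ i)) (fun _ _ => C.comm _ _)
    (fun i j hij => C.apart _ _ (σ.injective.ne hij))

theorem act_pr (σ : Equiv.Perm (Fin (p + 1))) (i : Fin (p + 1)) :
    C.act σ ≫ C.pr i = C.pr (σ i) := C.lift_pr _ _ _ i

theorem act_one : C.act 1 = 𝟙 C.W := by
  apply C.hom_ext
  intro i
  rw [act_pr, Category.id_comp]
  rfl

theorem act_mul (σ τ : Equiv.Perm (Fin (p + 1))) : C.act (σ * τ) = C.act σ ≫ C.act τ := by
  apply C.hom_ext
  intro i
  rw [act_pr, Category.assoc, act_pr, act_pr]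
  rfl

theorem act_toX (σ : Equiv.Perm (Fin (p + 1))) : (yon S).map (C.act σ) ≫ C.toX = C.toX := by
  unfold toX
  rw [← Category.assoc, ← Functor.map_comp, act_pr]
  exact C.comm _ _

/-- The automorphism of a permutation. -/
noncomputable def actIso (σ : Equiv.Perm (Fin (p + 1))) : C.W ≅ C.W where
  hom := C.act σ
  inv := C.act σ⁻¹
  hom_inv_id := by rw [← act_mul, mul_inv_cancel, act_one]
  inv_hom_id := by rw [← act_mul, inv_mul_cancel, act_one]

/-- The symmetric group, in the universe of the schemes. -/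
abbrev G (p : ℕ) : Type u := ULift.{u, 0} (Equiv.Perm (Fin (p + 1)))

/-- The action as a group homomorphism. -/
noncomputable def ρ : G p →* Aut C.W where
  toFun g := C.actIso g.down⁻¹
  map_one' := by
    apply Iso.ext
    show C.act ((1 : G.{u} p).down)⁻¹ = 𝟙 _
    rw [ULift.one_down, inv_one, act_one]
  map_mul' g h := by
    apply Iso.ext
    show C.act ((g * h).down)⁻¹ = C.act h.down⁻¹ ≫ C.act g.down⁻¹
    rw [ULift.mul_down, mul_inv_rev, act_mul]

theorem ρ_hom (g : G p) : (C.ρ g).hom = C.act g.down⁻¹ := rfl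

theorem ρ_free (g : G p) (x : ↥C.W.left) (hg : g ≠ 1) :
    C.W.left.fromSpecResidueField x ≫ (C.ρ g).hom.left ≠ C.W.left.fromSpecResidueField x := by
  intro e
  have hσ : g.down⁻¹ ≠ 1 := by
    intro h
    apply hg
    apply ULift.ext
    rw [ULift.one_down]
    exact inv_eq_one.1 h
  obtain ⟨i, hi⟩ : ∃ i, g.down⁻¹ i ≠ i := by
    by_contra hcon
    push Not at hcon
    exact hσ (Equiv.ext hcon)
  let ω : Over.mk (C.W.left.fromSpecResidueField x ≫ C.W.hom) ⟶ C.W :=
    Over.homMk (C.W.left.fromSpecResidueField x) rfl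
  have e1 : ω ≫ C.act g.down⁻¹ = ω := by
    apply Over.OverMorphism.ext
    rw [Over.comp_left]
    exact e
  have e2 : ω ≫ C.pr (g.down⁻¹ i) = ω ≫ C.pr i := by
    rw [← act_pr, ← Category.assoc, e1]
  exact C.apart _ _ hi _ _ ω e2

section Quot

/-- The coproduct of copies of `W` indexed by the symmetric group. -/
noncomputable def cof : Cofan (fun _ : G.{u} p => C.W) :=
  Cofan.mk (∐ fun _ : G.{u} p => C.W) (Sigma.ι _)

noncomputable def cofIsColimit : IsColimit C.cof := coproductIsCoproduct _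

noncomputable def sR : C.cof.pt ⟶ C.W := Sigma.desc (fun _ => 𝟙 C.W)

noncomputable def tR : C.cof.pt ⟶ C.W := Sigma.desc (fun g => (C.ρ g).hom)

theorem inj_sR (g : G.{u} p) : C.cof.inj g ≫ C.sR = 𝟙 C.W := by
  show Sigma.ι _ g ≫ Sigma.desc _ = _
  rw [Sigma.ι_desc]

theorem inj_tR (g : G.{u} p) : C.cof.inj g ≫ C.tR = (C.ρ g).hom := by
  show Sigma.ι _ g ≫ Sigma.desc _ = _
  rw [Sigma.ι_desc]

theorem isEtaleEqvRel : IsEtaleEqvRel C.sR C.tR :=
  Groth.Agent.S9889.result S C.W (G.{u} p) C.ρ (fun g x hg => C.ρ_free g x hg) C.cof C.cofIsColimit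
    C.sR C.tR C.inj_sR C.inj_tR

/-- The quotient of the configuration scheme by the symmetric group. -/
noncomputable def V : Sp S := QuotSh.quot Scheme.fppfPrecoverage C.sR C.tR

theorem isAlgSpace_V : IsAlgSpace C.V := Groth.Agent.S9868.result S C.sR C.tR C.isEtaleEqvRel

/-- The quotient map. -/
noncomputable def π : (yon S).obj C.W ⟶ C.V := quotMap C.sR C.tR

instance : Epi C.π := epi_quotMap _ _

theorem isPullback_π : IsPullback ((yon S).map C.tR) ((yon S).map C.sR) C.π C.π :=
  isPullback_quotMap C.isEtaleEqvRel.toIsEqvRel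

end Quot

section QuotProps

theorem disjoint_range_inj (g h : G.{u} p) (hgh : g ≠ h) :
    Disjoint (Set.range (C.cof.inj g).left) (Set.range (C.cof.inj h).left) := by
  rw [Set.disjoint_left]
  rintro x ⟨y, rfl⟩ ⟨z, hz⟩
  have h1 := congrArg (Groth.Agent.S9889.eL C.cof C.cofIsColimit).hom hz
  rw [← Scheme.Hom.comp_apply, ← Scheme.Hom.comp_apply, Groth.Agent.S9889.inj_eL,
    Groth.Agent.S9889.inj_eL] at h1
  have hd := disjoint_opensRange_sigmaι (fun _ : G.{u} p => C.W.left) g h hgh
  rw [← Opens.coe_disjoint, Set.disjoint_left] at hd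
  exact hd ⟨y, rfl⟩ ⟨z, h1⟩

theorem isFinite_tR : IsFinite C.tR.left := by
  haveI : ∀ g, IsOpenImmersion (C.cof.inj g).left :=
    fun g => Groth.Agent.S9889.isOpenImmersion_inj C.cof C.cofIsColimit g
  refine Groth.Agent.H1.FinCover.isFinite_of_finite_disjoint_cover C.tR.left
    (fun _ : G.{u} p => C.W.left) (fun g => (C.cof.inj g).left)
    (fun x => Groth.Agent.S9889.exists_mem_range_inj C.cof C.cofIsColimit x)
    (fun g h hgh => C.disjoint_range_inj g h hgh) ?_
  intro g
  rw [← Over.comp_left, C.inj_tR]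
  haveI : IsIso (C.ρ g).hom.left := inferInstanceAs (IsIso ((Over.forget S).map (C.ρ g).hom))
  infer_instance

theorem surjective_tR : Surjective C.tR.left := by
  refine ⟨fun x => ⟨(C.cof.inj 1).left x, ?_⟩⟩
  rw [← Scheme.Hom.comp_apply, ← Over.comp_left, C.inj_tR, map_one]
  rfl

theorem representable_π : Representable C.π := by
  haveI : Etale C.tR.left := C.isEtaleEqvRel.etale_right
  exact Groth.Agent.H1.Boot.representable_of_kernelPair C.π C.tR C.sR C.isPullback_π _

theorem repWith_etale_π : RepWith @Etale C.π :=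
  repWith_of_kernelPair @Etale C.sR C.tR _ C.representable_π C.isPullback_π
    C.isEtaleEqvRel.etale_right

theorem repWith_surjective_π : RepWith @Surjective C.π :=
  repWith_of_kernelPair @Surjective C.sR C.tR _ C.representable_π C.isPullback_π C.surjective_tR

theorem repWith_isFinite_π : RepWith @IsFinite C.π :=
  repWith_of_kernelPair @IsFinite C.sR C.tR _ C.representable_π C.isPullback_π C.isFinite_tR

theorem repWith_finLocFree_π : RepWith finLocFree C.π := by
  refine ⟨C.representable_π, ?_⟩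
  intro T V g fst snd sq
  have h1 : IsFinite snd.left := C.repWith_isFinite_π.2 g fst snd sq
  have h2 : Etale snd.left := C.repWith_etale_π.2 g fst snd sq
  exact ⟨h1, (inferInstance : Flat snd.left), (inferInstance : LocallyOfFinitePresentation snd.left)⟩

/-- The map from the quotient to `X`. -/
theorem exists_toX : ∃ f : C.V ⟶ X, C.π ≫ f = C.toX := by
  let ρW := QuotSh.repIsoUliftYoneda Scheme.fppfPrecoverage C.W
  let p' : QuotSh.rep Scheme.fppfPrecoverage C.W ⟶ X := ρW.hom ≫ C.toX
  have hw : (yon S).map C.sR ≫ C.toX = (yon S).map C.tR ≫ C.toX := by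
    haveI : ∀ g, IsOpenImmersion (C.cof.inj g).left :=
      fun g => Groth.Agent.S9889.isOpenImmersion_inj C.cof C.cofIsColimit g
    refine yon_hom_ext_of_family _ _ (fun _ : G.{u} p => C.W) (fun g => C.cof.inj g)
      (fun g => inferInstance) (fun g => inferInstance)
      (fun x => Groth.Agent.S9889.exists_mem_range_inj C.cof C.cofIsColimit x) ?_
    intro g
    rw [← Category.assoc, ← Category.assoc, ← Functor.map_comp, ← Functor.map_comp, C.inj_sR,
      C.inj_tR, C.ρ_hom, C.act_toX, CategoryTheory.Functor.map_id, Category.id_comp]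
  have w : QuotSh.repMap Scheme.fppfPrecoverage C.sR ≫ p' =
      QuotSh.repMap Scheme.fppfPrecoverage C.tR ≫ p' := by
    have h1 := yon_map_repIso_inv C.sR
    have h2 := yon_map_repIso_inv C.tR
    have e1 : QuotSh.repMap Scheme.fppfPrecoverage C.sR =
        (QuotSh.repIsoUliftYoneda Scheme.fppfPrecoverage C.cof.pt).hom ≫ (yon S).map C.sR ≫ ρW.inv := by
      rw [h1]; simp
    have e2 : QuotSh.repMap Scheme.fppfPrecoverage C.tR =
        (QuotSh.repIsoUliftYoneda Scheme.fppfPrecoverage C.cof.pt).hom ≫ (yon S).map C.tR ≫ ρW.inv := by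
      rw [h2]; simp
    rw [e1, e2]
    simp only [p', Category.assoc, Iso.inv_hom_id_assoc]
    rw [hw]
  let i : QuotSh.quot Scheme.fppfPrecoverage C.sR C.tR ⟶ X := coequalizer.desc p' w
  have h1 : QuotSh.quotπ Scheme.fppfPrecoverage C.sR C.tR ≫ i = p' := coequalizer.π_desc _ _
  refine ⟨i, ?_⟩
  calc C.π ≫ i
      = ρW.inv ≫ (QuotSh.quotπ Scheme.fppfPrecoverage C.sR C.tR ≫ i) := Category.assoc _ _ _
    _ = ρW.inv ≫ p' := by rw [h1]
    _ = C.toX := by simp [p']

end QuotProps

end Conf

end Groth.Agent.H1.ConfSp
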