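import Mathlib
import Groth.Agent.Lib.Helper2.QuotEx1

/-!
# Finite sets of points of a scheme étale and separated over an affine scheme (helper1)
-/

set_option autoImplicit false
universe u
open CategoryTheory CategoryTheory.Limits AlgebraicGeometry Topology TopologicalSpace

namespace Groth.Agent.H1.FinAff

/-- A finite set of points of a scheme is contained in a quasi-compact open. -/
theorem exists_compact_open_of_finite (W : Scheme.{u}) (F : Set W) (hF : F.Finite) :
    ∃ W' : W.Opens, IsCompact (W' : Set W) ∧ F ⊆ W' := by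
  have h : ∀ x : W, ∃ A : W.Opens, IsAffineOpen A ∧ x ∈ A := by
    intro x
    obtain ⟨_, ⟨A, hA, rfl⟩, hxA, -⟩ :=
      W.isBasis_affineOpens.exists_subset_of_mem_open (Set.mem_univ x) isOpen_univ
    exact ⟨A, hA, hxA⟩
  choose A hA hxA using h
  refine ⟨⨆ x ∈ F, A x, ?_, ?_⟩
  · have : ((⨆ x ∈ F, A x : W.Opens) : Set W) = ⋃ x ∈ F, (A x : Set W) := by
      simp
    rw [this]
    exact hF.isCompact_biUnion (fun x _ => (hA x).isCompact)
  · intro x hx
    have : ((⨆ x ∈ F, A x : W.Opens) : Set W) = ⋃ x ∈ F, (A x : Set W) := by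
      simp
    show x ∈ ((⨆ x ∈ F, A x : W.Opens) : Set W)
    rw [this]
    exact Set.mem_biUnion hx (hxA x)

theorem locallyQuasiFinite_of_etale {X Y : Scheme.{u}} (f : X ⟶ Y) [Etale f] :
    LocallyQuasiFinite f := by
  have h : Etale f := inferInstance
  rw [HasRingHomProperty.eq_affineLocally @Etale] at h
  rw [HasRingHomProperty.eq_affineLocally @LocallyQuasiFinite]
  refine affineLocally_le ?_ f h
  intro R S _ _ f hf
  algebraize [f]
  have : Algebra.Etale R S := hf
  show Algebra.QuasiFinite R S
  infer_instance

/-- **Finite sets of points lie in affine opens** for a scheme separated and étale over an affine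
scheme. -/
theorem exists_affineOpen_of_finite {W U : Scheme.{u}} (f : W ⟶ U) [Etale f] [IsSeparated f]
    [IsAffine U] (F : Set W) (hF : F.Finite) : ∃ A : W.Opens, IsAffineOpen A ∧ F ⊆ A := by
  obtain ⟨W', hW'c, hFW'⟩ := exists_compact_open_of_finite W F hF
  haveI : CompactSpace ↥W'.toScheme := isCompact_iff_compactSpace.1 hW'c
  let g : W'.toScheme ⟶ U := W'.ι ≫ f
  haveI : QuasiCompact g := inferInstance
  haveI : Etale g := inferInstance
  haveI : IsSeparated g := inferInstance
  haveI : LocallyQuasiFinite g := locallyQuasiFinite_of_etale g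
  haveI : IsOpenImmersion g.toNormalization := inferInstance
  haveI : IsAffine g.normalization := isAffine_of_isAffineHom g.fromNormalization
  let N := g.normalization
  let F' : Set N := g.toNormalization '' (W'.ι ⁻¹' F)
  have hF' : F'.Finite := (hF.preimage W'.ι.isOpenEmbedding.injective.injOn).image _
  obtain ⟨r, hr1, hr2⟩ := Groth.Agent.Lib.helper2.QuotLib.exists_basicOpen_of_finite_affine
    (isAffineOpen_top N) F' hF' g.toNormalization.opensRange
    (by rintro _ ⟨w, -, rfl⟩; exact ⟨w, rfl⟩) (fun _ _ => trivial)
  have hB : IsAffineOpen (N.basicOpen r) := (isAffineOpen_top N).basicOpen r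
  have hA' : IsAffineOpen (g.toNormalization ⁻¹ᵁ N.basicOpen r) :=
    hB.preimage_of_isOpenImmersion g.toNormalization hr2
  refine ⟨W'.ι ''ᵁ (g.toNormalization ⁻¹ᵁ N.basicOpen r), hA'.image_of_isOpenImmersion W'.ι, ?_⟩
  intro x hx
  have hxW' : x ∈ W' := hFW' hx
  refine ⟨⟨x, hxW'⟩, ?_, rfl⟩
  apply hr1
  exact ⟨⟨x, hxW'⟩, hx, rfl⟩

/-- The target of a surjective universally closed morphism from a separated scheme is separated. -/
theorem isSeparated_of_surjective_of_universallyClosed {W V : Scheme.{u}} (π : W ⟶ V)
    [Surjective π] [UniversallyClosed π] [W.IsSeparated] : V.IsSeparated := by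
  constructor
  rw [AlgebraicGeometry.isSeparated_iff]
  have e : terminal.from W = π ≫ terminal.from V := Subsingleton.elim _ _
  let m := pullback.map (terminal.from W) (terminal.from W) (terminal.from V) (terminal.from V)
    π π (𝟙 _) ((Category.comp_id _).trans e) ((Category.comp_id _).trans e)
  haveI hm : UniversallyClosed m :=
    MorphismProperty.pullbackMap (P := @UniversallyClosed) ‹UniversallyClosed π› ‹UniversallyClosed π› e e
  have hd : pullback.diagonal (terminal.from W) ≫ m = π ≫ pullback.diagonal (terminal.from V) := by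
    apply pullback.hom_ext
    · simp only [m, Category.assoc, pullback.diagonal_fst, Category.comp_id]
      rw [pullback.lift_fst, ← Category.assoc, pullback.diagonal_fst, Category.id_comp]
    · simp only [m, Category.assoc, pullback.diagonal_snd, Category.comp_id]
      rw [pullback.lift_snd, ← Category.assoc, pullback.diagonal_snd, Category.id_comp]
  haveI : IsClosedImmersion (pullback.diagonal (terminal.from W)) :=
    (AlgebraicGeometry.isSeparated_iff _).1 inferInstance
  have hcl : IsClosed (Set.range (pullback.diagonal (terminal.from W))) :=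
    (pullback.diagonal (terminal.from W)).isClosedEmbedding.isClosed_range
  have hr : Set.range (pullback.diagonal (terminal.from V)) =
      m '' Set.range (pullback.diagonal (terminal.from W)) := by
    ext z
    constructor
    · rintro ⟨v, rfl⟩
      obtain ⟨w, rfl⟩ := π.surjective v
      refine ⟨pullback.diagonal (terminal.from W) w, ⟨w, rfl⟩, ?_⟩
      rw [← Scheme.Hom.comp_apply, hd, Scheme.Hom.comp_apply]
    · rintro ⟨_, ⟨w, rfl⟩, rfl⟩
      refine ⟨π w, ?_⟩
      rw [← Scheme.Hom.comp_apply, ← hd, Scheme.Hom.comp_apply]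
  apply IsClosedImmersion.of_isPreimmersion
  rw [hr]
  exact m.isClosedMap _ hcl

end Groth.Agent.H1.FinAff
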