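import Groth.Agent.Lib.Helper1.Conf2
import Groth.Agent.Lib.Helper1.FinAff
import Groth.Agent.Lib.Helper1.QuotFin

/-!
# The quotient of a configuration scheme is a separated scheme (helper1)
-/

set_option autoImplicit false
universe u
open CategoryTheory CategoryTheory.Limits AlgebraicGeometry Topology TopologicalSpace
open AlgSp

namespace Groth.Agent.H1.ConfSp

open Groth.Agent.H1.FibDeg Groth.Agent.H1.DecentOpen Groth.Agent.H1.DecentQS
  Groth.Agent.Lib.helper5.FppfBoot Groth.Agent.Lib.helper5 Groth.Agent.Lib.helper11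
  Groth.Agent.Lib.Helper14.AlgSpQuot Groth.Agent.Lib.Helper14.RepSh Groth.Agent.H1.QuotFin

variable {S : Scheme.{u}} {X : Sp S} {U : Over S} {a : (yon S).obj U ⟶ X} {p : ℕ}

namespace Conf

variable (C : Conf a p)

theorem isSeparated_W [IsAffine U.left] : C.W.left.IsSeparated := by
  haveI := C.sep
  constructor
  have e : terminal.from C.W.left = (C.pr 0).left ≫ terminal.from U.left := Subsingleton.elim _ _
  rw [e]
  infer_instance

/-- The quotient of the configuration scheme by the symmetric group is a separated scheme. -/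
theorem exists_rep [IsAffine U.left] :
    ∃ (M : Over S) (q : C.W ⟶ M) (e : (yon S).obj M ≅ C.V), (yon S).map q ≫ e.hom = C.π ∧
      M.left.IsSeparated ∧ Etale q.left ∧ Surjective q.left ∧ IsFinite q.left := by
  haveI := C.etale
  haveI := C.sep
  obtain ⟨M, ⟨e⟩⟩ := isRepresentable_of_finLocFree_cover C.π C.repWith_finLocFree_π
    C.repWith_surjective_π (by
      intro Z _ hZne
      obtain ⟨u, hu⟩ := hZne
      refine ⟨u, hu, ?_⟩
      obtain ⟨A, hA, hFA⟩ := Groth.Agent.H1.FinAff.exists_affineOpen_of_finite (C.pr 0).left _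
        (finite_fibre_ofPt C.π C.repWith_isFinite_π u)
      exact ⟨A, hA, fun u' hu' => hFA hu'⟩)
  obtain ⟨q, hq⟩ := (yon S).map_surjective (C.π ≫ e.inv)
  have hqe : (yon S).map q ≫ e.hom = C.π := by
    rw [hq, Category.assoc, Iso.inv_hom_id, Category.comp_id]
  have hP : ∀ (P : MorphismProperty Scheme.{u}) [P.IsStableUnderBaseChange] [P.RespectsIso],
      RepWith P C.π → P q.left := by
    intro P _ _ h
    rw [← repWith_yon_map_iff P q, hq]
    exact MorphismProperty.RespectsIso.postcomp _ e.inv _ h
  have h1 : Etale q.left := hP @Etale C.repWith_etale_π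
  have h2 : Surjective q.left := hP @Surjective C.repWith_surjective_π
  have h3 : IsFinite q.left := hP @IsFinite C.repWith_isFinite_π
  haveI := C.isSeparated_W
  exact ⟨M, q, e, hqe, Groth.Agent.H1.FinAff.isSeparated_of_surjective_of_universallyClosed q.left,
    h1, h2, h3⟩

end Conf

end Groth.Agent.H1.ConfSp
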