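import Groth.Agent.Lib.Helper1.Conf3

/-!
# Field valued points of configuration schemes (helper1)
-/

set_option autoImplicit false
universe u
open CategoryTheory CategoryTheory.Limits AlgebraicGeometry Topology TopologicalSpace
open AlgSp

namespace Groth.Agent.H1.ConfSp

open Groth.Agent.H1.FibDeg Groth.Agent.H1.DecentOpen Groth.Agent.H1.DecentQS
  Groth.Agent.Lib.helper5.FppfBoot Groth.Agent.Lib.helper5 Groth.Agent.Lib.helper11
  Groth.Agent.Lib.Helper14.AlgSpQuot Groth.Agent.Lib.Helper14.RepSh Groth.Agent.H1.QuotFin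

variable {S : Scheme.{u}} {X : Sp S} {U R : Over S} {a : (yon S).obj U ⟶ X} {s t : R ⟶ U}

/-- A morphism between spectra of fields over `S` is an epimorphism in `Over S`. -/
theorem epi_over_field {K Ω : Type u} [Field K] [Field Ω] {str : Spec (.of K) ⟶ S}
    {str' : Spec (.of Ω) ⟶ S} (ε : Over.mk str' ⟶ Over.mk str) : Epi ε := by
  haveI : Epi ((Over.forget S).map ε) := epi_of_field ε.left
  exact (Over.forget S).epi_of_epi_map inferInstance

theorem apart_field_iff {K : Type u} [Field K] {str : Spec (.of K) ⟶ S}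
    (v₁ v₂ : Over.mk str ⟶ U) : Apart v₁ v₂ ↔ v₁ ≠ v₂ := by
  constructor
  · intro h e
    exact h K str (𝟙 _) (by rw [e])
  · intro h Ω _ str' ω e
    haveI := epi_over_field ω
    exact h ((cancel_epi ω).1 e)

theorem exists_injective_of_le_encard {α : Type*} (A : Set α) (n : ℕ)
    (h : (n : ℕ∞) ≤ A.encard) : ∃ ℓ : Fin n → α, Function.Injective ℓ ∧ ∀ j, ℓ j ∈ A := by
  classical
  obtain ⟨t, ht, htn⟩ := Set.exists_subset_encard_eq h
  have htfin : t.Finite := Set.finite_of_encard_eq_coe htn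
  have hcard : htfin.toFinset.card = n := by
    have := htfin.encard_eq_coe_toFinset_card
    rw [htn] at this
    exact_mod_cast this.symm
  let e := htfin.toFinset.equivFinOfCardEq hcard
  refine ⟨fun j => (e.symm j : α), ?_, ?_⟩
  · intro i j hij
    exact e.symm.injective (Subtype.ext hij)
  · intro j
    exact ht (htfin.mem_toFinset.1 (e.symm j).2)

theorem degGE_iff (sq : IsPullback ((yon S).map s) ((yon S).map t) a a) (n : ℕ) (u : ↥U.left) :
    DegGE s.left n u ↔ ∃ (K : Type u) (_ : Field K) (str : Spec (.of K) ⟶ S)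
      (g : Over.mk str ⟶ U), (∀ y, g.left y = u) ∧ (n : ℕ∞) ≤ (Fib a ((yon S).map g ≫ a)).encard := by
  constructor
  · rintro ⟨K, hK, g₀, hg₀, hn⟩
    let g : Over.mk (g₀ ≫ U.hom) ⟶ U := Over.homMk g₀ rfl
    refine ⟨K, hK, g₀ ≫ U.hom, g, hg₀, ?_⟩
    rw [← encard_liftsO_eq sq g, ← encard_lifts_eq_liftsO s g]
    exact hn
  · rintro ⟨K, hK, str, g, hg, hn⟩
    refine ⟨K, hK, g.left, hg, ?_⟩
    rw [encard_lifts_eq_liftsO s g, encard_liftsO_eq sq g]
    exact hn

/-- The open strata of the fibre degree in the space of points. -/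
def Dset (a : (yon S).obj U ⟶ X) (s : R ⟶ U) (n : ℕ) : Set (Points X) :=
  Points.ofPt a '' {u | DegGE s.left n u}

theorem ofPt_mem_Dset_iff (sq : IsPullback ((yon S).map s) ((yon S).map t) a a) (n : ℕ)
    (u : ↥U.left) : Points.ofPt a u ∈ Dset a s n ↔ DegGE s.left n u := by
  constructor
  · rintro ⟨u', hu', e⟩
    exact degGE_of_ofPt_eq sq e hu'
  · intro h
    exact ⟨u, h, rfl⟩

theorem Dset_anti (n : ℕ) : Dset a s (n + 1) ⊆ Dset a s n := by
  rintro _ ⟨u, hu, rfl⟩
  exact ⟨u, DegGE.mono (Nat.le_succ n) hu, rfl⟩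

theorem isOpen_Dset [IsAffine U.left] (hae : RepWith @Etale a)
    (sq : IsPullback ((yon S).map s) ((yon S).map t) a a) (n : ℕ) : IsOpen (Dset a s n) := by
  haveI : Etale s.left := hae.2 _ _ _ sq.flip
  haveI : IsSeparated s.left := isSeparated_left_of_affine sq
  exact isOpenMap_ofPt a hae _ (isOpen_degGE n s.left)

theorem Dset_one (sq : IsPullback ((yon S).map s) ((yon S).map t) a a)
    (has : Function.Surjective (Points.ofPt a)) : Dset a s 1 = Set.univ := by
  rw [Set.eq_univ_iff_forall]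
  intro x
  obtain ⟨u, rfl⟩ := has x
  rw [ofPt_mem_Dset_iff sq, degGE_iff sq]
  let g : Over.mk (U.left.fromSpecResidueField u ≫ U.hom) ⟶ U :=
    Over.homMk (U.left.fromSpecResidueField u) rfl
  refine ⟨U.left.residueField u, inferInstance, _, g, ?_, ?_⟩
  · intro y
    have : U.left.fromSpecResidueField u y ∈ Set.range (U.left.fromSpecResidueField u) := ⟨y, rfl⟩
    rw [Scheme.range_fromSpecResidueField] at this
    exact this
  · have : g ∈ Fib a ((yon S).map g ≫ a) := rfl
    have h1 : (1 : ℕ∞) ≤ (Fib a ((yon S).map g ≫ a)).encard :=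
      Set.one_le_encard_iff_nonempty.2 ⟨g, this⟩
    exact_mod_cast h1

namespace Conf

variable {p : ℕ} (C : Conf a p)

theorem exists_lift_field {K : Type u} [Field K] {str : Spec (.of K) ⟶ S}
    (v : Fin (p + 1) → (Over.mk str ⟶ U)) (hv : Function.Injective v)
    (hc : ∀ i j, (yon S).map (v i) ≫ a = (yon S).map (v j) ≫ a) :
    ∃ l : Over.mk str ⟶ C.W, ∀ i, l ≫ C.pr i = v i :=
  ⟨C.lift v hc (fun i j hij => (apart_field_iff _ _).2 (hv.ne hij)), fun i => C.lift_pr _ _ _ i⟩

theorem pr_injective_field {K : Type u} [Field K] {str : Spec (.of K) ⟶ S}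
    (w : Over.mk str ⟶ C.W) : Function.Injective (fun i => w ≫ C.pr i) := by
  intro i j hij
  by_contra hne
  exact C.apart i j hne K str w hij

theorem range_ofPt_toX (sq : IsPullback ((yon S).map s) ((yon S).map t) a a) :
    Set.range (Points.ofPt C.toX) = Dset a s (p + 1) := by
  apply Set.Subset.antisymm
  · rintro _ ⟨w, rfl⟩
    have e : Points.ofPt C.toX w = Points.ofPt a ((C.pr 0).left w) := by
      unfold toX
      rw [ofPt_yon_map_comp]
    rw [e, ofPt_mem_Dset_iff sq, degGE_iff sq]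
    let ω : Over.mk (C.W.left.fromSpecResidueField w ≫ C.W.hom) ⟶ C.W :=
      Over.homMk (C.W.left.fromSpecResidueField w) rfl
    refine ⟨C.W.left.residueField w, inferInstance, _, ω ≫ C.pr 0, ?_, ?_⟩
    · intro y
      rw [Over.comp_left, Scheme.Hom.comp_apply]
      congr 1
      have : C.W.left.fromSpecResidueField w y ∈ Set.range (C.W.left.fromSpecResidueField w) :=
        ⟨y, rfl⟩
      rw [Scheme.range_fromSpecResidueField] at this
      exact this
    · have hsub : Set.range (fun i => ω ≫ C.pr i) ⊆ Fib a ((yon S).map (ω ≫ C.pr 0) ≫ a) := by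
        rintro _ ⟨i, rfl⟩
        show (yon S).map (ω ≫ C.pr i) ≫ a = (yon S).map (ω ≫ C.pr 0) ≫ a
        rw [Functor.map_comp, Functor.map_comp, Category.assoc, Category.assoc, C.comm i 0]
      refine le_trans ?_ (Set.encard_le_encard hsub)
      have h3 : ((fun i => ω ≫ C.pr i) '' Set.univ).encard = (Set.univ : Set (Fin (p + 1))).encard :=
        Set.InjOn.encard_image (Set.injOn_of_injective (C.pr_injective_field ω))
      rw [← Set.image_univ, h3, Set.encard_univ]
      simp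
  · rintro _ ⟨u, hu, rfl⟩
    obtain ⟨K, hK, str, g, hg, hn⟩ := (degGE_iff sq (p + 1) u).1 hu
    obtain ⟨ℓ, hℓinj, hℓmem⟩ := exists_injective_of_le_encard _ _ hn
    obtain ⟨l, hl⟩ := C.exists_lift_field ℓ hℓinj (fun i j => by
      have h1 : (yon S).map (ℓ i) ≫ a = _ := hℓmem i
      have h2 : (yon S).map (ℓ j) ≫ a = _ := hℓmem j
      rw [h1, h2])
    obtain ⟨y⟩ : Nonempty ↥(Spec (.of K)) := inferInstance
    refine ⟨l.left y, ?_⟩
    have e1 : Points.ofPt C.toX (l.left y) = Points.ofPt ((yon S).map (ℓ 0) ≫ a) y := by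
      unfold toX
      rw [← ofPt_yon_map_comp, ← Category.assoc, ← Functor.map_comp, hl 0]
    have h0 : (yon S).map (ℓ 0) ≫ a = (yon S).map g ≫ a := hℓmem 0
    rw [e1, h0, ofPt_yon_map_comp]
    congr 1
    exact hg y

theorem act_π (σ : Equiv.Perm (Fin (p + 1))) : (yon S).map (C.act σ) ≫ C.π = C.π := by
  let g : G.{u} p := ULift.up σ⁻¹
  have hg : (C.ρ g).hom = C.act σ := by
    rw [C.ρ_hom]
    show C.act (σ⁻¹)⁻¹ = C.act σ
    rw [inv_inv]
  have h1 : (yon S).map (C.cof.inj g) ≫ (yon S).map C.tR ≫ C.π =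
      (yon S).map (C.cof.inj g) ≫ (yon S).map C.sR ≫ C.π := by
    rw [C.isPullback_π.w]
  rw [← Category.assoc, ← Category.assoc, ← Functor.map_comp, ← Functor.map_comp, C.inj_tR,
    C.inj_sR, hg, CategoryTheory.Functor.map_id, Category.id_comp] at h1
  exact h1

/-- **Universal injectivity over the stratum of exact degree.** -/
theorem eq_of_comp_eq (sq : IsPullback ((yon S).map s) ((yon S).map t) a a)
    {M : Over S} (q : C.W ⟶ M) (hqs : Surjective q.left) (f : (yon S).obj M ⟶ X)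
    (hqf : (yon S).map q ≫ f = C.toX) (hinv : ∀ σ, C.act σ ≫ q = q)
    {K : Type u} [Field K] {str : Spec (.of K) ⟶ S} (m m' : Over.mk str ⟶ M)
    (h : (yon S).map m ≫ f = (yon S).map m' ≫ f)
    (hdeg : ∀ (u : ↥U.left) (y : ↥(Spec (.of K))),
      Points.ofPt a u = Points.ofPt ((yon S).map m ≫ f) y → ¬ DegGE s.left (p + 2) u) :
    m = m' := by
  classical
  -- a lift of a field point of `M` to `W` after a field extension
  have lift : ∀ {K₁ : Type u} [Field K₁] {str₁ : Spec (.of K₁) ⟶ S} (m₁ : Over.mk str₁ ⟶ M),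
      ∃ (Ω : Type u) (_ : Field Ω) (str₂ : Spec (.of Ω) ⟶ S) (ε : Over.mk str₂ ⟶ Over.mk str₁)
        (w : Over.mk str₂ ⟶ C.W), w ≫ q = ε ≫ m₁ := by
    intro K₁ _ str₁ m₁
    obtain ⟨y₀⟩ : Nonempty ↥(Spec (.of K₁)) := inferInstance
    obtain ⟨w₀, hw₀⟩ := hqs.surj (m₁.left y₀)
    obtain ⟨Ω, hΩ, e, ρ, -, hρe⟩ := exists_ext q.left m₁.left w₀ (fun y => by
      rw [hw₀]
      congr 1
      exact @Subsingleton.elim _ (inferInstanceAs (Subsingleton ↥(Spec (.of K₁)))) _ _)
    have hw : ρ ≫ C.W.hom = e ≫ str₁ := by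
      have h1 : ρ ≫ q.left ≫ M.hom = e ≫ m₁.left ≫ M.hom := by
        rw [← Category.assoc, hρe, Category.assoc]
      rw [Over.w q, Over.w m₁] at h1
      exact h1
    refine ⟨Ω, hΩ, e ≫ str₁, Over.homMk e rfl, Over.homMk ρ hw, ?_⟩
    apply Over.OverMorphism.ext
    exact hρe
  obtain ⟨Ω₁, _, str₁, ε₁, w₁, hw₁⟩ := lift m
  obtain ⟨Ω₂, _, str₂, ε₂, w', hw'⟩ := lift (ε₁ ≫ m')
  let w₂ : Over.mk str₂ ⟶ C.W := ε₂ ≫ w₁
  let E : Over.mk str₂ ⟶ Over.mk str := ε₂ ≫ ε₁
  have hw₂ : w₂ ≫ q = E ≫ m := by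
    show (ε₂ ≫ w₁) ≫ q = (ε₂ ≫ ε₁) ≫ m
    rw [Category.assoc, hw₁, Category.assoc]
  have hw'E : w' ≫ q = E ≫ m' := by
    rw [hw']
    exact (Category.assoc _ _ _).symm
  let φ₂ : (yon S).obj (Over.mk str₂) ⟶ X := (yon S).map (E ≫ m) ≫ f
  have hφ₂' : φ₂ = (yon S).map (E ≫ m') ≫ f := by
    show (yon S).map (E ≫ m) ≫ f = _
    rw [(yon S).map_comp E m, (yon S).map_comp E m', Category.assoc, Category.assoc, h]
  have hA : ∀ i, w₂ ≫ C.pr i ∈ Fib a φ₂ := by
    intro i
    show (yon S).map (w₂ ≫ C.pr i) ≫ a = (yon S).map (E ≫ m) ≫ f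
    rw [Functor.map_comp, Category.assoc, C.map_pr_comp, ← hqf, ← Category.assoc,
      ← Functor.map_comp, hw₂]
  have hB : ∀ i, w' ≫ C.pr i ∈ Fib a φ₂ := by
    intro i
    show (yon S).map (w' ≫ C.pr i) ≫ a = φ₂
    rw [hφ₂', Functor.map_comp, Category.assoc, C.map_pr_comp, ← hqf, ← Category.assoc,
      ← Functor.map_comp, hw'E]
  -- the fibre has at most `p + 1` elements
  have hle : (Fib a φ₂).encard ≤ (p + 1 : ℕ) := by
    obtain ⟨y₂⟩ : Nonempty ↥(Spec (.of Ω₂)) := inferInstance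
    let g : Over.mk str₂ ⟶ U := w₂ ≫ C.pr 0
    have hg : (yon S).map g ≫ a = φ₂ := hA 0
    have hpt : Points.ofPt a (g.left y₂) = Points.ofPt ((yon S).map m ≫ f) (E.left y₂) := by
      rw [← ofPt_yon_map_comp, hg]
      show Points.ofPt ((yon S).map (E ≫ m) ≫ f) y₂ = _
      rw [(yon S).map_comp E m, Category.assoc, ofPt_yon_map_comp]
    have hnd := hdeg (g.left y₂) (E.left y₂) hpt
    rw [degGE_iff sq] at hnd
    by_contra hcon
    push Not at hcon
    apply hnd
    refine ⟨Ω₂, inferInstance, str₂, g, ?_, ?_⟩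
    · intro y
      congr 1
      exact @Subsingleton.elim _ (inferInstanceAs (Subsingleton ↥(Spec (.of Ω₂)))) _ _
    · rw [hg]
      have := Order.add_one_le_of_lt hcon
      exact_mod_cast this
  have hfin : (Fib a φ₂).Finite := Set.finite_of_encard_le_coe hle
  haveI : Fintype ↥(Fib a φ₂) := hfin.fintype
  have hcard : Fintype.card ↥(Fib a φ₂) ≤ Fintype.card (Fin (p + 1)) := by
    rw [Fintype.card_fin]
    have h1 : (Fib a φ₂).encard = (Fintype.card ↥(Fib a φ₂) : ℕ∞) := by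
      rw [Set.encard_eq_coe_toFinset_card, Set.toFinset_card]
    rw [h1] at hle
    exact_mod_cast hle
  let A' : Fin (p + 1) → ↥(Fib a φ₂) := fun i => ⟨w₂ ≫ C.pr i, hA i⟩
  let B' : Fin (p + 1) → ↥(Fib a φ₂) := fun i => ⟨w' ≫ C.pr i, hB i⟩
  have hA'inj : Function.Injective A' := fun i j hij =>
    C.pr_injective_field w₂ (congrArg Subtype.val hij)
  have hB'inj : Function.Injective B' := fun i j hij =>
    C.pr_injective_field w' (congrArg Subtype.val hij)
  have hA'bij : Function.Bijective A' :=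
    (Fintype.bijective_iff_injective_and_card A').2
      ⟨hA'inj, le_antisymm (Fintype.card_le_of_injective A' hA'inj) hcard⟩
  have hB'bij : Function.Bijective B' :=
    (Fintype.bijective_iff_injective_and_card B').2
      ⟨hB'inj, le_antisymm (Fintype.card_le_of_injective B' hB'inj) hcard⟩
  let σ : Equiv.Perm (Fin (p + 1)) :=
    (Equiv.ofBijective B' hB'bij).trans (Equiv.ofBijective A' hA'bij).symm
  have hσ : ∀ i, w₂ ≫ C.pr (σ i) = w' ≫ C.pr i := by
    intro i
    have h1 : A' (σ i) = B' i := by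
      show A' ((Equiv.ofBijective A' hA'bij).symm (Equiv.ofBijective B' hB'bij i)) = B' i
      exact (Equiv.ofBijective A' hA'bij).apply_symm_apply _
    exact congrArg Subtype.val h1
  have hw'eq : w' = w₂ ≫ C.act σ := by
    apply C.hom_ext
    intro i
    rw [Category.assoc, C.act_pr, hσ]
  have hfinal : E ≫ m' = E ≫ m := by
    rw [← hw'E, hw'eq, Category.assoc, hinv, hw₂]
  haveI := epi_over_field E
  exact ((cancel_epi E).1 hfinal).symm

end Conf

end Groth.Agent.H1.ConfSp
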