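import Groth.Agent.Lib.Helper1.Conf4
import Groth.Agent.Lib.Helper5.AlgSpLocPInst

/-!
# Charts adapted to the strata of the fibre degree (helper1)
-/

set_option autoImplicit false
universe u
open CategoryTheory CategoryTheory.Limits AlgebraicGeometry Topology TopologicalSpace
open AlgSp

namespace Groth.Agent.H1.ConfSp

open Groth.Agent.H1.FibDeg Groth.Agent.H1.DecentOpen Groth.Agent.H1.DecentQS
  Groth.Agent.Lib.helper5.FppfBoot Groth.Agent.Lib.helper5 Groth.Agent.Lib.helper11
  Groth.Agent.Lib.Helper14.AlgSpQuot Groth.Agent.Lib.Helper14.RepSh Groth.Agent.H1.QuotFin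

variable {S : Scheme.{u}} {X : Sp S} {U R : Over S} {a : (yon S).obj U ⟶ X} {s t : R ⟶ U}

/-- Étale descent along an étale surjective morphism of the source, for maps to a sheaf. -/
theorem repWith_etale_of_comp {W M : Over S} (q : W ⟶ M) (hqe : Etale q.left)
    (hqs : Surjective q.left) (f : (yon S).obj M ⟶ X) (hf : Representable f)
    (h : RepWith @Etale ((yon S).map q ≫ f)) : RepWith @Etale f := by
  refine ⟨hf, ?_⟩
  intro T P g fst snd sqf
  obtain ⟨φ, rfl⟩ := (yon S).map_surjective fst
  have sqQ : IsPullback (pullback.fst q φ) (pullback.snd q φ) q φ := IsPullback.of_hasPullback q φ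
  have sqQ' := (sqQ.map (yon S)).flip
  have big := (sqQ'.paste_horiz sqf.flip).flip
  rw [← Functor.map_comp] at big
  have h1 : Etale (pullback.snd q φ ≫ snd).left := h.2 _ _ _ big
  have h2 : Etale (pullback.snd q φ).left :=
    MorphismProperty.of_isPullback (P := @Etale) (sqQ.map (Over.forget S)) hqe
  have h3 : Surjective (pullback.snd q φ).left :=
    MorphismProperty.of_isPullback (P := @Surjective) (sqQ.map (Over.forget S)) hqs
  rw [Over.comp_left] at h1
  exact Groth.Agent.Lib.helper5.LocPBC.locPData_etale.descend _ _ h2 h3 h1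

/-- **The chart adapted to the stratum of fibre degree `p + 1`.** -/
theorem exists_stratum_chart (hX : IsAlgSpace X) [IsAffine U.left] (hae : RepWith @Etale a)
    (sq : IsPullback ((yon S).map s) ((yon S).map t) a a) (p : ℕ) :
    ∃ (M : Over S) (f : (yon S).obj M ⟶ X), M.left.IsSeparated ∧ RepWith @Etale f ∧
      Set.range (Points.ofPt f) = Dset a s (p + 1) ∧
      (RepWith @QuasiCompact a → CompactSpace ↥M.left) ∧
      ∀ {K : Type u} [Field K] {str : Spec (.of K) ⟶ S} (m m' : Over.mk str ⟶ M),
        (yon S).map m ≫ f = (yon S).map m' ≫ f →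
        (∀ y, Points.ofPt ((yon S).map m ≫ f) y ∉ Dset a s (p + 2)) → m = m' := by
  obtain ⟨C⟩ := nonempty_conf hae sq p
  obtain ⟨M, q, e, hqe, hsep, hqet, hqs, -⟩ := C.exists_rep
  obtain ⟨fV, hfV⟩ := C.exists_toX
  let f : (yon S).obj M ⟶ X := e.hom ≫ fV
  have hqf : (yon S).map q ≫ f = C.toX := by
    show (yon S).map q ≫ e.hom ≫ fV = _
    rw [← Category.assoc, hqe, hfV]
  have hq' : (yon S).map q = C.π ≫ e.inv := by
    rw [← hqe, Category.assoc, Iso.hom_inv_id, Category.comp_id]
  have htoX : RepWith @Etale C.toX := by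
    unfold Conf.toX
    exact (RepWith (S := S) @Etale).comp_mem _ _ ((repWith_yon_map_iff @Etale _).2 C.etale) hae
  have hfe : RepWith @Etale f :=
    repWith_etale_of_comp q hqet hqs f (hX.representable_from_yon f) (by rw [hqf]; exact htoX)
  have hrange : Set.range (Points.ofPt f) = Dset a s (p + 1) := by
    rw [← C.range_ofPt_toX sq, ← hqf]
    ext x
    constructor
    · rintro ⟨m, rfl⟩
      obtain ⟨w, rfl⟩ := hqs.surj m
      exact ⟨w, ofPt_yon_map_comp q f w⟩
    · rintro ⟨w, rfl⟩
      exact ⟨q.left w, (ofPt_yon_map_comp q f w).symm⟩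
  refine ⟨M, f, hsep, hfe, hrange, ?_, ?_⟩
  · intro hq
    haveI : CompactSpace ↥C.W.left := C.compact hq inferInstance
    have : (Set.univ : Set ↥M.left) = Set.range q.left :=
      (Set.range_eq_univ.2 q.left.surjective).symm
    exact ⟨this ▸ isCompact_range q.left.continuous⟩
  · intro K _ str m m' h hdeg
    refine C.eq_of_comp_eq sq q hqs f hqf ?_ m m' h ?_
    · intro σ
      apply (yon S).map_injective
      rw [Functor.map_comp, hq', ← Category.assoc, C.act_π]
    · intro u y hu hcon
      apply hdeg y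
      rw [← hu]
      exact (ofPt_mem_Dset_iff sq _ u).2 hcon

end Groth.Agent.H1.ConfSp
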