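import Groth.Agent.Lib.Helper1.Conf5
import Groth.Agent.S3694
import Groth.Agent.S10194
import Groth.Agent.S10192
import Groth.Agent.Lib.Helper5.AlgSpOpenSub
import Groth.Agent.Lib.Helper5.AlgSpLargestOpen
import Groth.Agent.Lib.Helper5.AlgSpWhereIso
import Groth.Agent.Lib.Helper1.QGlue

/-!
# Stratum charts restrict to isomorphisms over the stratum (helper1)
-/

set_option autoImplicit false
universe u
open CategoryTheory CategoryTheory.Limits AlgebraicGeometry Topology TopologicalSpace
open AlgSp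

namespace Groth.Agent.H1.ConfSp

open Groth.Agent.Lib.helper5 Groth.Agent.Lib.helper11

variable {S : Scheme.{u}}

/-- If an étale chart `f : h_M ⟶ Y` covers the image of a representable `i : Z ⟶ Y` and is injective on
field points over that image, then the base change of `f` along `i` is an isomorphism. -/
theorem isIso_fst_of_injective_on_fieldPts {Y Z : Sp S} {M : Over S} (i : Z ⟶ Y)
    (f : (yon S).obj M ⟶ Y) (hf : RepWith @Etale f)
    (hsub : Set.range (Points.map i) ⊆ Set.range (Points.ofPt f))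
    (hinj : ∀ {K : Type u} [Field K] {str : Spec (.of K) ⟶ S} (m m' : Over.mk str ⟶ M),
        (yon S).map m ≫ f = (yon S).map m' ≫ f →
        (∀ y, Points.ofPt ((yon S).map m ≫ f) y ∈ Set.range (Points.map i)) → m = m')
    {P : Sp S} (fst : P ⟶ Z) (snd : P ⟶ (yon S).obj M) (sq : IsPullback fst snd i f) :
    IsIso fst := by
  have hfst : RepWith @Etale fst :=
    (repWith_isStableUnderBaseChange (S := S) @Etale).of_isPullback sq.flip hf
  have hoi : RepWith @IsOpenImmersion fst := by
    refine ⟨hfst.1, ?_⟩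
    intro T V g φ' ψ hpb
    have het : Etale ψ.left := hfst.2 g φ' ψ hpb
    have hui : UniversallyInjective ψ.left := by
      refine ((tfae_universallyInjective ψ.left).out 0 1).2 ?_
      intro K _ g₁ g₂ h12
      dsimp only at h12
      let str : Spec (.of K) ⟶ S := g₁ ≫ V.hom
      let m₁ : Over.mk str ⟶ V := Over.homMk g₁ rfl
      have hg₂ : g₂ ≫ V.hom = str := by
        show g₂ ≫ V.hom = g₁ ≫ V.hom
        rw [← Over.w ψ, ← Category.assoc, ← h12, Category.assoc]
      let m₂ : Over.mk str ⟶ V := Over.homMk g₂ hg₂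
      have hmψ : m₁ ≫ ψ = m₂ ≫ ψ := by
        apply Over.OverMorphism.ext
        exact h12
      suffices m₁ = m₂ from congrArg (fun m => m.left) this
      apply (yon S).map_injective
      have hψ : (yon S).map m₁ ≫ (yon S).map ψ = (yon S).map m₂ ≫ (yon S).map ψ := by
        rw [← Functor.map_comp, ← Functor.map_comp, hmψ]
      refine hpb.hom_ext ?_ hψ
      have hfst12 : ((yon S).map m₁ ≫ φ') ≫ fst = ((yon S).map m₂ ≫ φ') ≫ fst := by
        rw [Category.assoc, Category.assoc, hpb.w, ← Category.assoc, ← Category.assoc, hψ]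
      refine sq.hom_ext hfst12 ?_
      obtain ⟨n₁, hn₁⟩ := (yon S).map_surjective (((yon S).map m₁ ≫ φ') ≫ snd)
      obtain ⟨n₂, hn₂⟩ := (yon S).map_surjective (((yon S).map m₂ ≫ φ') ≫ snd)
      rw [← hn₁, ← hn₂]
      congr 1
      apply hinj n₁ n₂
      · rw [hn₁, hn₂, Category.assoc, Category.assoc, ← sq.w, ← Category.assoc, ← Category.assoc,
          hfst12]
        simp only [Category.assoc, sq.w]
      · intro y
        rw [hn₁, Category.assoc, ← sq.w, ← Category.assoc, ← Points.map_ofPt]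
        exact ⟨_, rfl⟩
    exact Groth.Agent.S3694.result ψ.left
  have hsurj : IsSurjectiveMor fst := by
    intro z
    obtain ⟨m, hm⟩ := hsub ⟨z, rfl⟩
    rw [Points.ofPt_eq_map_ofScheme] at hm
    obtain ⟨w, hw, -⟩ := Groth.Agent.Lib.helper10.exists_point_of_isPullback sq z _ hm.symm
    exact ⟨w, hw⟩
  exact Groth.Agent.S10194.isIso_of_openImmersion_of_surjective fst hoi hsurj

open Groth.Agent.Lib.helper5.OpenSub Groth.Agent.Lib.helper5.LargestOpen
  Groth.Agent.Lib.helper5.AlgSpWhereIso in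
/-- **The filtration by open subspaces attached to a decreasing sequence of opens with stratum
charts.** -/
theorem filtration_abstract (X : Space S) (D : ℕ → Set (Points X.obj)) (hDopen : ∀ n, IsOpen (D n))
    (hDanti : ∀ n, D (n + 1) ⊆ D n) (hD1 : D 1 = Set.univ) (Q : Over S → Prop)
    (hchart : ∀ p, ∃ (M : Over S) (f : (yon S).obj M ⟶ X.obj), M.left.IsSeparated ∧ Q M ∧
      RepWith @Etale f ∧ Set.range (Points.ofPt f) = D (p + 1) ∧
      ∀ {K : Type u} [Field K] {str : Spec (.of K) ⟶ S} (m m' : Over.mk str ⟶ M),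
        (yon S).map m ≫ f = (yon S).map m' ≫ f →
        (∀ y, Points.ofPt ((yon S).map m ≫ f) y ∉ D (p + 2)) → m = m') :
    ∃ (Uo : ℕ → Space S) (j : ∀ p, Uo p ⟶ X) (k : ∀ p, Uo (p + 1) ⟶ Uo p)
      (T : ℕ → Space S) (i : ∀ p, T p ⟶ Uo p),
      (∀ p, RepWith @IsOpenImmersion (j p).hom) ∧ (∀ p, k p ≫ j p = j (p + 1)) ∧ IsIso (j 1) ∧
      (∀ p, Set.range (Points.map (j p).hom) = D p) ∧
      (∀ p, IsRedInduced (Set.range (Points.map (k p).hom))ᶜ (i p).hom) ∧
      (∀ p, 1 ≤ p → ∃ (V : Over S) (f : (yon S).obj V ⟶ (Uo p).obj), V.left.IsSeparated ∧ Q V ∧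
        RepWith @Etale f ∧ RepWith @Surjective f ∧
        ∀ (P : Sp S) (fst : P ⟶ (T p).obj) (snd : P ⟶ (yon S).obj V),
          IsPullback fst snd (i p).hom f → IsIso fst) := by
  classical
  let Uo : ℕ → Space S := fun n => ⟨sub X.obj (D n), isAlgSpace_sub X.property (hDopen n)⟩
  let j : ∀ p, Uo p ⟶ X := fun n => ObjectProperty.homMk (ι X.obj (D n))
  have hj : ∀ p, RepWith @IsOpenImmersion (j p).hom := fun n => repWith_ι X.obj (hDopen n)
  have hjr : ∀ p, Set.range (Points.map (j p).hom) = D p := fun n => range_map_ι X.obj (D n)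
  have hjinj : ∀ p, Function.Injective (Points.map (j p).hom) := fun n => injective_of_oi (hj n)
  have hjmono : ∀ p, Mono (j p).hom := fun n => inferInstanceAs (Mono (ι X.obj (D n)))
  have hkex : ∀ p, ∃ g : (Uo (p + 1)).obj ⟶ (Uo p).obj, g ≫ (j p).hom = (j (p + 1)).hom := by
    intro n
    refine (factors_iff (j n).hom (hj n) (j (n + 1)).hom).2 ?_
    rw [hjr, hjr]
    exact hDanti n
  let k : ∀ p, Uo (p + 1) ⟶ Uo p := fun n => ObjectProperty.homMk (hkex n).choose
  have hk : ∀ p, (k p).hom ≫ (j p).hom = (j (p + 1)).hom := fun n => (hkex n).choose_spec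
  have hkoi : ∀ p, RepWith @IsOpenImmersion (k p).hom := by
    intro n
    haveI := hjmono n
    exact Groth.Agent.H1.QGlue.repWith_of_comp_mono @IsOpenImmersion (k n).hom (j n).hom
      (by rw [hk]; exact hj (n + 1))
  have hkr : ∀ p (y : Points (Uo p).obj),
      y ∈ Set.range (Points.map (k p).hom) ↔ Points.map (j p).hom y ∈ D (p + 1) := by
    intro n y
    constructor
    · rintro ⟨z, rfl⟩
      rw [← Points.map_comp, hk, ← hjr]
      exact ⟨z, rfl⟩
    · intro hy
      rw [← hjr] at hy
      obtain ⟨z, hz⟩ := hy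
      refine ⟨z, hjinj n ?_⟩
      rw [← Points.map_comp, hk, hz]
  have hTex : ∀ p, ∃ (Z : Space S) (i : Z ⟶ Uo p),
      IsRedInduced (Set.range (Points.map (k p).hom))ᶜ i.hom := by
    intro n
    exact Groth.Agent.S10192.result (Uo n) _ (isOpen_range_of_oi (k n) (hkoi n)).isClosed_compl
  let T : ℕ → Space S := fun n => (hTex n).choose
  let i : ∀ p, T p ⟶ Uo p := fun n => (hTex n).choose_spec.choose
  have hi : ∀ p, IsRedInduced (Set.range (Points.map (k p).hom))ᶜ (i p).hom :=
    fun n => (hTex n).choose_spec.choose_spec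
  refine ⟨Uo, j, k, T, i, hj, ?_, ?_, hjr, hi, ?_⟩
  · intro n
    apply ObjectProperty.hom_ext
    exact hk n
  · have h1 : IsIso (j 1).hom := by
      refine Groth.Agent.S10194.isIso_of_openImmersion_of_surjective (j 1).hom (hj 1) ?_
      intro x
      have : x ∈ Set.range (Points.map (j 1).hom) := by rw [hjr, hD1]; trivial
      exact this
    have h2 : IsIso ((ObjectProperty.ι (IsAlgSpace (S := S))).map (j 1)) := h1
    exact isIso_of_reflects_iso (j 1) (ObjectProperty.ι (IsAlgSpace (S := S)))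
  · intro p hp
    obtain ⟨q, rfl⟩ : ∃ q, p = q + 1 := ⟨p - 1, by omega⟩
    obtain ⟨M, f, hsep, hQ, hfe, hfr, hfinj⟩ := hchart q
    have hmem : ∀ t : ↥M.left, Points.ofPt f t ∈ D (q + 1) := by
      intro t; rw [← hfr]; exact ⟨t, rfl⟩
    let f' : (yon S).obj M ⟶ (Uo (q + 1)).obj := lift f hmem
    have hf' : f' ≫ (j (q + 1)).hom = f := lift_ι f hmem
    haveI := hjmono (q + 1)
    have hf'e : RepWith @Etale f' :=
      Groth.Agent.H1.QGlue.repWith_of_comp_mono @Etale f' (j (q + 1)).hom (by rw [hf']; exact hfe)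
    have hf'surj : Function.Surjective (Points.ofPt f') := by
      intro y
      have : Points.map (j (q + 1)).hom y ∈ Set.range (Points.ofPt f) := by
        rw [hfr, ← hjr]; exact ⟨y, rfl⟩
      obtain ⟨m, hm⟩ := this
      refine ⟨m, hjinj (q + 1) ?_⟩
      rw [Points.map_ofPt, hf', hm]
    refine ⟨M, f', hsep, hQ, hf'e, repWith_surjective_of_surjective f' hf'e.1 hf'surj, ?_⟩
    intro P fst snd sq
    refine isIso_fst_of_injective_on_fieldPts (i (q + 1)).hom f' hf'e ?_ ?_ fst snd sq
    · intro y _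
      exact hf'surj y
    · intro K _ str m m' hmm hy
      apply hfinj m m'
      · rw [← hf', ← Category.assoc, ← Category.assoc, hmm]
      · intro y hcon
        have h1 := hy y
        rw [(hi (q + 1)).2.1] at h1
        apply h1
        rw [hkr, Points.map_ofPt, Category.assoc, hf']
        exact hcon

end Groth.Agent.H1.ConfSp
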