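import Groth.Agent.Lib.Helper1.TorsColimSupp
import Groth.Agent.S0141

/-!
# Closure of a constructible set in a Noetherian quasi-sober space (helper1)
-/

set_option autoImplicit false
universe u
open CategoryTheory CategoryTheory.Limits AlgebraicGeometry Opposite

namespace Groth.Agent.H1.ConstrClosure

open Groth.Agent.H1.TorsColim Groth.Agent.H1.TorsColimSupp Groth.Agent.H1.EtStalk
  Groth.Agent.H1.EtGerm Groth.Agent.H1.ConstrGen

section Topology

variable {T : Type*} [TopologicalSpace T]

/-- a constructible set either contains the generic point of `Z` and the complement is nowhere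
dense in `Z`, or does not contain the generic point and is nowhere dense in `Z` -/
theorem exists_closed_of_isConstructible {Z : Set T} (η : T) (hη : IsGenericPoint η Z) {S : Set T}
    (hS : Topology.IsConstructible S) :
    ∃ Z' : Set T, IsClosed Z' ∧ η ∉ Z' ∧ (η ∈ S → Sᶜ ∩ Z ⊆ Z') ∧ (η ∉ S → S ∩ Z ⊆ Z') := by
  induction hS using Topology.IsConstructible.empty_union_induction with
  | open_retrocompact U hUo hUc =>
    by_cases h : η ∈ U
    · exact ⟨Uᶜ, hUo.isClosed_compl, fun hc => hc h, fun _ => Set.inter_subset_left,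
        fun h' => absurd h h'⟩
    · refine ⟨∅, isClosed_empty, fun hc => hc, fun h' => absurd h' h, fun _ => ?_⟩
      rintro x ⟨hxU, hxZ⟩
      exact absurd ((hη.mem_open_set_iff hUo).2 ⟨x, hxZ, hxU⟩) h
  | union s hs t ht ihs iht =>
    obtain ⟨Z₁, hZ₁, h1, h1a, h1b⟩ := ihs
    obtain ⟨Z₂, hZ₂, h2, h2a, h2b⟩ := iht
    by_cases hsη : η ∈ s
    · refine ⟨Z₁, hZ₁, h1, fun _ => ?_, fun h => absurd (Or.inl hsη) h⟩
      rintro x ⟨hx, hxZ⟩
      exact h1a hsη ⟨fun hxs => hx (Or.inl hxs), hxZ⟩
    · by_cases htη : η ∈ t
      · refine ⟨Z₂, hZ₂, h2, fun _ => ?_, fun h => absurd (Or.inr htη) h⟩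
        rintro x ⟨hx, hxZ⟩
        exact h2a htη ⟨fun hxt => hx (Or.inr hxt), hxZ⟩
      · refine ⟨Z₁ ∪ Z₂, hZ₁.union hZ₂, ?_, ?_, fun _ => ?_⟩
        · rintro (h | h)
          · exact h1 h
          · exact h2 h
        · rintro (h | h)
          · exact absurd h hsη
          · exact absurd h htη
        · rintro x ⟨hx | hx, hxZ⟩
          · exact Or.inl (h1b hsη ⟨hx, hxZ⟩)
          · exact Or.inr (h2b htη ⟨hx, hxZ⟩)
  | compl s hs ih =>
    obtain ⟨Z₁, hZ₁, h1, h1a, h1b⟩ := ih
    refine ⟨Z₁, hZ₁, h1, fun h => ?_, fun h => ?_⟩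
    · rw [compl_compl]
      exact h1b h
    · exact h1a (not_not.1 h)

/-- in a Noetherian quasi-sober space, the closure of a constructible subset of a set stable under
specialization stays inside that set -/
theorem closure_subset_of_stableUnderSpecialization [TopologicalSpace.NoetherianSpace T]
    [QuasiSober T] {E S : Set T} (hE : StableUnderSpecialization E)
    (hS : Topology.IsConstructible S) (hSE : S ⊆ E) : closure S ⊆ E := by
  have key : ∀ Z : TopologicalSpace.Closeds T, closure (S ∩ (Z : Set T)) ⊆ E := by
    intro Z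
    induction Z using WellFoundedLT.induction with
    | ind Z ih =>
      by_cases hirr : IsIrreducible (Z : Set T)
      · obtain ⟨η, hη⟩ := QuasiSober.sober hirr Z.isClosed
        obtain ⟨Z', hZ', hηZ', ha, hb⟩ := exists_closed_of_isConstructible η hη hS
        by_cases hηS : η ∈ S
        · refine (closure_minimal Set.inter_subset_right Z.isClosed).trans ?_
          intro x hx
          refine hE ?_ (hSE hηS)
          rw [specializes_iff_mem_closure, hη.def]
          exact hx
        · have hlt : (⟨Z' ∩ Z, hZ'.inter Z.isClosed⟩ : TopologicalSpace.Closeds T) < Z := by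
            refine lt_of_le_of_ne (fun x hx => hx.2) ?_
            intro heq
            have : η ∈ ((⟨Z' ∩ Z, hZ'.inter Z.isClosed⟩ : TopologicalSpace.Closeds T) : Set T) := by
              rw [heq]
              exact hη.mem
            exact hηZ' this.1
          have h1 := ih _ hlt
          have h2 : S ∩ (Z : Set T) = S ∩ (Z' ∩ (Z : Set T)) := by
            ext x
            constructor
            · rintro ⟨hxS, hxZ⟩
              exact ⟨hxS, hb hηS ⟨hxS, hxZ⟩, hxZ⟩
            · rintro ⟨hxS, -, hxZ⟩
              exact ⟨hxS, hxZ⟩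
          rw [h2]
          exact h1
      · by_cases hne : (Z : Set T).Nonempty
        · have hpre : ¬ IsPreirreducible (Z : Set T) := fun h => hirr ⟨hne, h⟩
          rw [isPreirreducible_iff_isClosed_union_isClosed] at hpre
          push Not at hpre
          obtain ⟨z₁, z₂, hz₁, hz₂, hcov, hn1, hn2⟩ := hpre
          have hlt1 : (⟨z₁ ∩ Z, hz₁.inter Z.isClosed⟩ : TopologicalSpace.Closeds T) < Z := by
            refine lt_of_le_of_ne (fun x hx => hx.2) ?_
            intro heq
            apply hn1
            intro x hx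
            have : x ∈ ((⟨z₁ ∩ Z, hz₁.inter Z.isClosed⟩ : TopologicalSpace.Closeds T) : Set T) := by
              rw [heq]
              exact hx
            exact this.1
          have hlt2 : (⟨z₂ ∩ Z, hz₂.inter Z.isClosed⟩ : TopologicalSpace.Closeds T) < Z := by
            refine lt_of_le_of_ne (fun x hx => hx.2) ?_
            intro heq
            apply hn2
            intro x hx
            have : x ∈ ((⟨z₂ ∩ Z, hz₂.inter Z.isClosed⟩ : TopologicalSpace.Closeds T) : Set T) := by
              rw [heq]
              exact hx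
            exact this.1
          have h2 : S ∩ (Z : Set T) = (S ∩ (z₁ ∩ (Z : Set T))) ∪ (S ∩ (z₂ ∩ (Z : Set T))) := by
            ext x
            constructor
            · rintro ⟨hxS, hxZ⟩
              rcases hcov hxZ with h | h
              · exact Or.inl ⟨hxS, h, hxZ⟩
              · exact Or.inr ⟨hxS, h, hxZ⟩
            · rintro (⟨hxS, -, hxZ⟩ | ⟨hxS, -, hxZ⟩)
              · exact ⟨hxS, hxZ⟩
              · exact ⟨hxS, hxZ⟩
          rw [h2, closure_union]
          exact Set.union_subset (ih _ hlt1) (ih _ hlt2)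
        · rw [Set.not_nonempty_iff_eq_empty] at hne
          rw [hne, Set.inter_empty, closure_empty]
          exact Set.empty_subset _
  have := key ⊤
  simpa using this

end Topology

variable {X : Scheme.{u}}

theorem supp_subset_of_mono {G F : EtCoh.Ab X} (a : G ⟶ F) [Mono a] :
    EtPBC.supp G ⊆ EtPBC.supp F := by
  rintro x ⟨Ω, i1, i2, ξ, hξ, hne⟩
  refine ⟨Ω, i1, i2, ξ, hξ, ?_⟩
  intro h
  apply hne
  haveI : Subsingleton ((EtCoh.stalk ξ).obj F) := AddCommGrpCat.subsingleton_of_isZero h
  haveI : Subsingleton ((EtCoh.stalk ξ).obj G) := (stalk_injective_of_mono ξ a).subsingleton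
  exact AddCommGrpCat.isZero_of_subsingleton _

/-- **cofinality**: on a Noetherian scheme every constructible sheaf over `F` maps to its image,
a constructible subsheaf of `F` -/
theorem exists_image [IsNoetherian X] (F : EtCoh.Ab X) (j : JObj F) :
    ∃ (j' : JObj F) (_ : j ⟶ j'), EtPBC.supp j'.i.G ⊆ EtPBC.supp F := by
  obtain ⟨N, hN, hGN⟩ := exists_killedBy j.i.G j.hc
  have hc' : EtPBC.IsConstructible (Limits.image j.m) :=
    Groth.Agent.S0141.result X (factorThruImage j.m) N hN hGN j.hc
  obtain ⟨j', e, he⟩ := exists_model (Limits.image j.m) hc' (Limits.image.ι j.m)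
  refine ⟨j', ⟨factorThruImage j.m ≫ e.hom, by rw [Category.assoc, he, image.fac]⟩, ?_⟩
  rw [← supp_of_iso e]
  exact supp_subset_of_mono (Limits.image.ι j.m)

end Groth.Agent.H1.ConstrClosure
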