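import Groth.Agent.Lib.Helper21.StalkConst
import Groth.Agent.Lib.Helper21.StalkSplit

/-!
# Stalks of constructible sheaves: finiteness and independence of the geometric point (helper1)
-/

set_option autoImplicit false
universe u
open CategoryTheory CategoryTheory.Limits AlgebraicGeometry Opposite

namespace Groth.Agent.H1.ConstrGen

open Groth.Agent.Lib.helper21.PtCrit Groth.Agent.Lib.helper21.SuppConstr
  Groth.Agent.Lib.helper21.StalkConst Groth.Agent.H1.EtStalk Groth.Agent.H1.EtGerm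
  Groth.Agent.H1.EtStalkPull

variable {X : Scheme.{u}}

/-- all geometric stalks of a constructible sheaf at points over `x` are in bijection with one finite
group -/
theorem exists_stalk_model (F : EtCoh.Ab X) (hF : EtPBC.IsConstructible F) (x : X) :
    ∃ (M : Type) (_ : AddCommGroup M) (_ : Finite M), ∀ (Ω : Type u) [Field Ω] [IsSepClosed Ω]
      (ξ : Spec (CommRingCat.of Ω) ⟶ X), ξ default = x →
        Nonempty (M ≃ (EtCoh.stalk ξ).obj F) := by
  obtain ⟨V, T, g, hg, hxV, hr, hflc⟩ := exists_flc_of_constructible F hF x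
  have hxr : x ∈ Set.range g := by
    rw [hr]
    exact ⟨hxV, subset_closure rfl⟩
  obtain ⟨t, ht⟩ := hxr
  obtain ⟨I, W, hcov, h⟩ := hflc
  obtain ⟨a, w, hw⟩ := hcov t
  obtain ⟨M, iM, fM, ⟨e⟩⟩ := h a
  refine ⟨M, iM, fM, ?_⟩
  intro Ω _ _ ξ hξ
  obtain ⟨ζ, hζ⟩ := exists_lift_of_immersion g ξ (by rw [hξ]; exact ⟨t, ht⟩)
  subst hζ
  have hζt : ζ default = t := by
    apply g.isEmbedding.injective
    rw [ht, ← hξ]
    rfl
  haveI : AlgebraicGeometry.Etale (W a).hom := (W a).prop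
  obtain ⟨l, hl1, -⟩ := Scheme.exists_fac_of_etale_of_isSepClosed (W a).hom ζ w
    (hw.trans hζt.symm)
  let y : Lift ζ (W a) := Lift.mk ζ l hl1
  let e1 : ULift.{u + 1} M ≃ (EtCoh.stalk ζ).obj ((EtCoh.pull g).obj F) :=
    Equiv.ofBijective (stalkOfConst ((EtCoh.pull g).obj F) e ζ y)
      ⟨stalkOfConst_injective _ e ζ y, stalkOfConst_surjective _ e ζ y⟩
  let e2 : (EtCoh.stalk ζ).obj ((EtCoh.pull g).obj F) ≃ (EtCoh.stalk (ζ ≫ g)).obj F :=
    ((stalkPullIso g ζ).app F).addCommGroupIsoToAddEquiv.toEquiv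
  exact ⟨(Equiv.ulift.symm.trans e1).trans e2⟩

theorem finite_stalk (F : EtCoh.Ab X) (hF : EtPBC.IsConstructible F)
    {Ω : Type u} [Field Ω] [IsSepClosed Ω] (ξ : Spec (CommRingCat.of Ω) ⟶ X) :
    Finite ((EtCoh.stalk ξ).obj F) := by
  obtain ⟨M, _, _, h⟩ := exists_stalk_model F hF (ξ default)
  obtain ⟨e⟩ := h Ω ξ rfl
  exact Finite.of_equiv M e

/-- vanishing of the stalk of a constructible sheaf does not depend on the geometric point over a
given point -/
theorem isZero_stalk_of_isZero_stalk (F : EtCoh.Ab X) (hF : EtPBC.IsConstructible F)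
    {Ω₀ : Type u} [Field Ω₀] [IsSepClosed Ω₀] (ξ₀ : Spec (CommRingCat.of Ω₀) ⟶ X)
    (h₀ : IsZero ((EtCoh.stalk ξ₀).obj F))
    {Ω : Type u} [Field Ω] [IsSepClosed Ω] (ξ : Spec (CommRingCat.of Ω) ⟶ X)
    (hξ : ξ default = ξ₀ default) : IsZero ((EtCoh.stalk ξ).obj F) := by
  obtain ⟨M, _, _, h⟩ := exists_stalk_model F hF (ξ₀ default)
  obtain ⟨e₀⟩ := h Ω₀ ξ₀ rfl
  obtain ⟨e⟩ := h Ω ξ hξ
  have h1 : Subsingleton ((EtCoh.stalk ξ₀).obj F) := AddCommGrpCat.subsingleton_of_isZero h₀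
  have h2 : Subsingleton M := e₀.subsingleton
  have h3 : Subsingleton ((EtCoh.stalk ξ).obj F) := e.symm.subsingleton
  exact AddCommGrpCat.isZero_of_subsingleton _

/-- a point at which one geometric stalk of a constructible sheaf vanishes is not in the support -/
theorem not_mem_supp (F : EtCoh.Ab X) (hF : EtPBC.IsConstructible F)
    {Ω₀ : Type u} [Field Ω₀] [IsSepClosed Ω₀] (ξ₀ : Spec (CommRingCat.of Ω₀) ⟶ X)
    (h₀ : IsZero ((EtCoh.stalk ξ₀).obj F)) : ξ₀ default ∉ EtPBC.supp F := by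
  rintro ⟨Ω, _, _, ξ, hξ, hne⟩
  apply hne
  apply isZero_stalk_of_isZero_stalk F hF ξ₀ h₀ ξ
  have : ξ default ∈ Set.range ξ := ⟨default, rfl⟩
  rw [hξ] at this
  exact this

end Groth.Agent.H1.ConstrGen
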