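import Groth.Agent.Lib.Helper1.ExtZeroE
import Groth.Agent.Lib.Helper21.Constr

/-!
# `j_! M` is constructible for `U` quasi-compact and quasi-separated, étale over a qcqs `X` (helper1)
-/

set_option autoImplicit false
universe u
open CategoryTheory CategoryTheory.Limits AlgebraicGeometry Opposite

namespace Groth.Agent.H1.ExtZero

open Groth.Agent.Lib.helper21.Constr Groth.Agent.H1.EtGerm

variable {X : Scheme.{u}}

theorem isConstructible_of_iso {F G : EtCoh.Ab X} (e : F ≅ G) (hF : EtPBC.IsConstructible F) :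
    EtPBC.IsConstructible G := by
  intro W hW
  obtain ⟨n, T, g, hi, hc, hd, hu, hf⟩ := hF W hW
  exact ⟨n, T, g, hi, hc, hd, hu, fun i _ => flc_of_iso ((EtCoh.pull (g i)).mapIso e) (hf i)⟩

theorem isConstructible_of_isZero {F Z : EtCoh.Ab X} (hF : EtPBC.IsConstructible F) (hZ : IsZero Z) :
    EtPBC.IsConstructible Z := by
  have h := (constr_kernel_cokernel (𝟙 F) hF hF).1
  have hk : IsZero (kernel (𝟙 F)) := by
    rw [IsZero.iff_id_eq_zero, ← cancel_mono (kernel.ι (𝟙 F)), zero_comp, Category.id_comp]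
    have := kernel.condition (𝟙 F)
    rwa [Category.comp_id] at this
  exact isConstructible_of_iso (hk.iso hZ) h

theorem isConstructible_biproduct_fin {F₀ : EtCoh.Ab X} (h₀ : EtPBC.IsConstructible F₀) :
    ∀ (n : ℕ) (f : Fin n → EtCoh.Ab X), (∀ i, EtPBC.IsConstructible (f i)) →
      EtPBC.IsConstructible (⨁ f) := by
  intro n
  induction n with
  | zero =>
    intro f _
    apply isConstructible_of_isZero h₀
    rw [IsZero.iff_id_eq_zero]
    apply biproduct.hom_ext
    intro j
    exact Fin.elim0 j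
  | succ n ih =>
    intro f hf
    let S : ShortComplex (EtCoh.Ab X) := ShortComplex.mk (biproduct.ι f 0)
      (biproduct.lift (fun j : Fin n => biproduct.π f j.succ)) (by
        apply biproduct.hom_ext
        intro j
        rw [Category.assoc, biproduct.lift_π, zero_comp, biproduct.ι_π_ne]
        exact (Fin.succ_ne_zero j).symm)
    have hsplit : S.Splitting :=
      { r := biproduct.π f 0
        s := biproduct.desc (fun j : Fin n => biproduct.ι f j.succ)
        f_r := biproduct.ι_π_self f 0
        s_g := by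
          apply biproduct.hom_ext'
          intro j
          apply biproduct.hom_ext
          intro k
          change biproduct.ι (fun j : Fin n => f j.succ) j ≫
            (biproduct.desc (fun j : Fin n => biproduct.ι f j.succ) ≫
              biproduct.lift (fun j : Fin n => biproduct.π f j.succ)) ≫
            biproduct.π (fun j : Fin n => f j.succ) k = _
          rw [Category.assoc, biproduct.lift_π, biproduct.ι_desc_assoc, Category.comp_id]
          by_cases hjk : j = k
          · subst hjk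
            rw [biproduct.ι_π_self, biproduct.ι_π_self]
          · rw [biproduct.ι_π_ne _ hjk, biproduct.ι_π_ne]
            exact fun h => hjk (Fin.succ_injective _ h)
        id := by
          change biproduct.π f 0 ≫ biproduct.ι f 0 +
            biproduct.lift (fun j : Fin n => biproduct.π f j.succ) ≫
              biproduct.desc (fun j : Fin n => biproduct.ι f j.succ) = 𝟙 _
          rw [biproduct.lift_desc, ← biproduct.total, Fin.sum_univ_succ] }
    exact constr_of_shortExact S hsplit.shortExact (hf 0) (ih _ (fun j => hf j.succ))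

theorem isConstructible_biproduct {F₀ : EtCoh.Ab X} (h₀ : EtPBC.IsConstructible F₀)
    {K : Type} [Finite K] (f : K → EtCoh.Ab X) (hf : ∀ k, EtPBC.IsConstructible (f k)) :
    EtPBC.IsConstructible (⨁ f) := by
  obtain ⟨n, ⟨e⟩⟩ := Finite.exists_equiv_fin K
  have h := isConstructible_biproduct_fin h₀ n (fun i => f (e.symm i)) (fun i => hf _)
  exact isConstructible_of_iso
    (biproduct.whiskerEquiv e.symm (fun i => Iso.refl _)) h

section MV

variable [CompactSpace X] [QuasiSeparatedSpace X]

theorem isConstructible_ez_of_separated (U : X.Etale) [IsSeparated U.hom] [QuasiCompact U.hom]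
    (M : Type) [AddCommGroup M] [Finite M] : EtPBC.IsConstructible (ez U (cof.{u} M)) :=
  isConstructible_of_separated X U M _ (gen U (cof.{u} M)) (isExtZero_ez U (cof.{u} M))

/-- the inclusion `W₁ ⊆ W₂` as a morphism of the small étale site -/
noncomputable def restrictOpenLE (U : X.Etale) {W₁ W₂ : U.left.Opens} (h : W₁ ≤ W₂) :
    restrictOpen U W₁ ⟶ restrictOpen U W₂ :=
  MorphismProperty.Over.homMk (U.left.homOfLE h) (by
    change U.left.homOfLE h ≫ W₂.ι ≫ U.hom = W₁.ι ≫ U.hom
    rw [Scheme.homOfLE_ι_assoc]) trivial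

theorem restrictOpenLE_ι (U : X.Etale) {W₁ W₂ : U.left.Opens} (h : W₁ ≤ W₂) :
    restrictOpenLE U h ≫ restrictOpenι U W₂ = restrictOpenι U W₁ := by
  apply MorphismProperty.Over.Hom.ext
  exact Scheme.homOfLE_ι _ h

theorem plain_lift {S Z : Scheme.{u}} (W : S.Opens) (φ : Z ⟶ S) (hφ : ∀ z : Z, φ z ∈ W) :
    ∃ l : Z ⟶ W.toScheme, l ≫ W.ι = φ := by
  have hr : Set.range φ ⊆ Set.range W.ι := by
    rw [Scheme.Opens.range_ι]
    rintro _ ⟨z, rfl⟩
    exact hφ z
  exact ⟨IsOpenImmersion.lift W.ι φ hr, IsOpenImmersion.lift_fac _ _ _⟩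

/-- a morphism to `U` whose image lies in `W` factors through `W` -/
theorem exists_lift_restrictOpen' {U Z : X.Etale} (W : U.left.Opens) (φ : Z ⟶ U)
    (hφ : ∀ z : Z.left, φ.left z ∈ W) :
    ∃ t : Z ⟶ restrictOpen U W, t ≫ restrictOpenι U W = φ := by
  obtain ⟨l, hl⟩ := plain_lift (S := U.left) (Z := Z.left) W φ.left hφ
  refine ⟨MorphismProperty.Over.homMk l ?_ trivial, ?_⟩
  · change l ≫ W.ι ≫ U.hom = Z.hom
    rw [← Category.assoc, hl]
    exact MorphismProperty.Over.w φ
  · apply MorphismProperty.Over.Hom.ext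
    exact hl

theorem mono_restrictOpenι (U : X.Etale) (W : U.left.Opens) {Z : X.Etale}
    (t₁ t₂ : Z ⟶ restrictOpen U W) (h : t₁ ≫ restrictOpenι U W = t₂ ≫ restrictOpenι U W) :
    t₁ = t₂ := by
  apply MorphismProperty.Over.Hom.ext
  have h' : t₁.left ≫ W.ι = t₂.left ≫ W.ι := congrArg (fun k => k.left) h
  exact (cancel_mono W.ι).mp h'

/-- **`j_! M` is constructible for `j : U → X` étale with `U`, `X` quasi-compact and
quasi-separated.** -/
theorem isConstructible_ez (U : X.Etale) [CompactSpace U.left] [QuasiSeparatedSpace U.left]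
    (M : Type) [AddCommGroup M] [Finite M] : EtPBC.IsConstructible (ez U (cof.{u} M)) := by
  haveI : Etale U.hom := U.prop
  obtain ⟨m, W, hW, hWcov⟩ := Groth.Agent.Lib.helper21.Strata.exists_finite_affine_refinement
    (⊤ : U.left.Opens) (by simpa using isCompact_univ) (fun _ => True)
    (fun x hx => by
      obtain ⟨W, h1, h2, h3⟩ := Groth.Agent.Lib.helper21.Strata.exists_affine_nbhd
        (⊤ : U.left.Opens) x hx
      exact ⟨W, h1, h2, h3, trivial⟩)
  have hWaff : ∀ k, IsAffineOpen (W k) := fun k => (hW k).1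
  -- a constructible sheaf to start with
  have h₀ : EtPBC.IsConstructible (ez (EtCoh.top X) (cof.{u} M)) :=
    haveI : IsSeparated (EtCoh.top X).hom := inferInstanceAs (IsSeparated (𝟙 X))
    haveI : QuasiCompact (EtCoh.top X).hom := inferInstanceAs (QuasiCompact (𝟙 X))
    isConstructible_ez_of_separated (EtCoh.top X) M
  -- the pieces
  have hV : ∀ k, EtPBC.IsConstructible (ez (restrictOpen U (W k)) (cof.{u} M)) := by
    intro k
    haveI : IsAffine (W k).toScheme := hWaff k
    haveI : IsSeparated (restrictOpen U (W k)).hom :=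
      inferInstanceAs (IsSeparated ((W k).ι ≫ U.hom))
    haveI : QuasiCompact (restrictOpen U (W k)).hom :=
      quasiCompact_of_compactSpace (X := (W k).toScheme) (Y := X) ((W k).ι ≫ U.hom)
    exact isConstructible_ez_of_separated _ M
  have hWW : ∀ kl : Fin m × Fin m,
      EtPBC.IsConstructible (ez (restrictOpen U (W kl.1 ⊓ W kl.2)) (cof.{u} M)) := by
    rintro ⟨k, l⟩
    haveI : IsAffine (W k).toScheme := hWaff k
    haveI : (W k ⊓ W l).toScheme.IsSeparated := ⟨by
      rw [← terminal.comp_from (U.left.homOfLE (inf_le_left : W k ⊓ W l ≤ W k))]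
      infer_instance⟩
    haveI : CompactSpace (W k ⊓ W l).toScheme :=
      isCompact_iff_compactSpace.mp
        (QuasiSeparatedSpace.inter_isCompact (W k : Set U.left) (W l : Set U.left) (W k).isOpen
          (hWaff k).isCompact (W l).isOpen (hWaff l).isCompact)
    haveI : IsSeparated (restrictOpen U (W k ⊓ W l)).hom :=
      inferInstanceAs (IsSeparated ((W k ⊓ W l).ι ≫ U.hom))
    haveI : QuasiCompact (restrictOpen U (W k ⊓ W l)).hom :=
      quasiCompact_of_compactSpace (X := (W k ⊓ W l).toScheme) (Y := X) ((W k ⊓ W l).ι ≫ U.hom)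
    exact isConstructible_ez_of_separated _ M
  let Vk : Fin m → X.Etale := fun k => restrictOpen U (W k)
  let a : ∀ k, Vk k ⟶ U := fun k => restrictOpenι U (W k)
  let Wkl : Fin m → Fin m → X.Etale := fun k l => restrictOpen U (W k ⊓ W l)
  let p : ∀ k l, Wkl k l ⟶ Vk k := fun k l => restrictOpenLE U inf_le_left
  let q : ∀ k l, Wkl k l ⟶ Vk l := fun k l => restrictOpenLE U inf_le_right
  have hcomm : ∀ k l, p k l ≫ a k = q k l ≫ a l := fun k l =>
    (restrictOpenLE_ι U _).trans (restrictOpenLE_ι U _).symm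
  have hcov : ∀ x : U.left, ∃ k, x ∈ Set.range (a k).left.base := by
    intro x
    have hx : x ∈ ⋃ k, (W k : Set U.left) := by rw [hWcov]; trivial
    obtain ⟨k, hk⟩ := Set.mem_iUnion.mp hx
    refine ⟨k, ?_⟩
    have : Set.range (a k).left.base = (W k : Set U.left) := Scheme.Opens.range_ι (W k)
    rw [this]
    exact hk
  have hlift : ∀ (k l : Fin m) (Z : X.Etale) (gk : Z ⟶ Vk k) (gl : Z ⟶ Vk l),
      gk ≫ a k = gl ≫ a l → ∀ z : Z.left, ∃ (Z' : X.Etale) (e : Z' ⟶ Z) (t : Z' ⟶ Wkl k l),
        z ∈ Set.range e.left.base ∧ t ≫ p k l = e ≫ gk ∧ t ≫ q k l = e ≫ gl := by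
    intro k l Z gk gl hg z
    have hmem : ∀ z : Z.left, (gk ≫ a k).left z ∈ W k ⊓ W l := by
      intro z
      refine ⟨?_, ?_⟩
      · exact (gk.left z).2
      · rw [hg]
        exact (gl.left z).2
    obtain ⟨t, ht⟩ := exists_lift_restrictOpen' (W k ⊓ W l) (gk ≫ a k) hmem
    refine ⟨Z, 𝟙 Z, t, ⟨z, rfl⟩, ?_, ?_⟩
    · apply mono_restrictOpenι U (W k)
      rw [Category.assoc, Category.id_comp]
      exact ((congrArg (fun m => t ≫ m) (restrictOpenLE_ι U _)).trans ht)
    · apply mono_restrictOpenι U (W l)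
      rw [Category.assoc, Category.id_comp]
      exact ((congrArg (fun m => t ≫ m) (restrictOpenLE_ι U _)).trans (ht.trans hg))
  have hS0 : EtPBC.IsConstructible (S0 Vk (cof.{u} M)) := isConstructible_biproduct h₀ _ hV
  have hS1 : EtPBC.IsConstructible (S1 Wkl (cof.{u} M)) := isConstructible_biproduct h₀ _ hWW
  have hcoker := (constr_kernel_cokernel (dMap Vk Wkl p q (cof.{u} M)) hS1 hS0).2
  obtain ⟨hcolim⟩ := isColimit_piMap U Vk a Wkl p q (cof.{u} M) hcomm hcov hlift
  exact isConstructible_of_iso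
    ((cokernelIsCokernel (dMap Vk Wkl p q (cof.{u} M))).coconePointUniqueUpToIso hcolim) hcoker

end MV

end Groth.Agent.H1.ExtZero
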