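import Groth.Agent.Lib.Helper1.ConstrGenA
import Groth.Agent.Lib.Helper1.ExtZeroF
import Groth.Agent.Lib.Helper1.EtLocTors
import Groth.Agent.Lib.Helper21.ConstrTop

/-!
# Constructible sheaves killed by `n` are quotients of finite sums of `j_! ℤ/n` (helper1)
-/

set_option autoImplicit false
universe u v
open CategoryTheory CategoryTheory.Limits AlgebraicGeometry Opposite

namespace Groth.Agent.H1.ConstrGen

open Groth.Agent.H1.ExtZero Groth.Agent.H1.EtStalk Groth.Agent.H1.EtGerm
  Groth.Agent.Lib.helper21.Constr Groth.Agent.Lib.helper21.SuppConstr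

variable {X : Scheme.{u}}

/-- the coefficient group `ℤ/n` -/
abbrev Zn (n : ℕ) : AddCommGrpCat.{u + 1} := cof.{u} (ZMod n)

/-- the homomorphism `ℤ/n → F(U)` defined by an `n`-torsion section -/
noncomputable def secHom (n : ℕ) {F : EtCoh.Ab X} {U : X.Etale} (s : F.obj.obj (op U))
    (hs : n • s = 0) : Zn.{u} n ⟶ F.obj.obj (op U) :=
  AddCommGrpCat.ofHom
    ((ZMod.lift n ⟨zmultiplesHom _ s, by
      change (n : ℤ) • s = 0
      rw [natCast_zsmul, hs]⟩).comp AddEquiv.ulift.toAddMonoidHom)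

theorem secHom_one (n : ℕ) {F : EtCoh.Ab X} {U : X.Etale} (s : F.obj.obj (op U))
    (hs : n • s = 0) : secHom n s hs ⟨1⟩ = s := by
  have h0 : secHom n s hs ⟨1⟩ = ZMod.lift n ⟨zmultiplesHom _ s, by
      change (n : ℤ) • s = 0
      rw [natCast_zsmul, hs]⟩ (1 : ZMod n) := rfl
  rw [h0]
  have h1 : ((1 : ℤ) : ZMod n) = 1 := Int.cast_one
  rw [← h1, ZMod.lift_coe]
  change (1 : ℤ) • s = s
  rw [one_zsmul]

/-- the morphism `j_{U!} ℤ/n → F` defined by an `n`-torsion section -/
noncomputable def secMap (n : ℕ) {F : EtCoh.Ab X} {U : X.Etale} (s : F.obj.obj (op U))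
    (hs : n • s = 0) : ez U (Zn.{u} n) ⟶ F :=
  (isExtZero_ez U (Zn.{u} n)).desc (secHom n s hs)

theorem secMap_gen (n : ℕ) {F : EtCoh.Ab X} {U : X.Etale} (s : F.obj.obj (op U))
    (hs : n • s = 0) : (secMap n s hs).hom.app (op U) (gen U (Zn.{u} n) ⟨1⟩) = s := by
  have h := (isExtZero_ez U (Zn.{u} n)).fac (secHom n s hs)
  have h2 := congrArg (fun m : Zn.{u} n ⟶ F.obj.obj (op U) => m ⟨1⟩) h
  exact h2.trans (secHom_one n s hs)

section Family

variable (n : ℕ) (F : EtCoh.Ab X) {K : Type v} [Finite K] (U : K → X.Etale)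
  (s : ∀ k, F.obj.obj (op (U k))) (hs : ∀ k, n • s k = 0)

/-- the sum of the `j_{U_k !} ℤ/n` -/
noncomputable abbrev PP : EtCoh.Ab X := ⨁ fun k : K => ez (U k) (Zn.{u} n)

/-- the map `⊕ j_{U_k !} ℤ/n → F` defined by a family of `n`-torsion sections -/
noncomputable def genMap : PP n U ⟶ F :=
  biproduct.desc (fun k => secMap n (s k) (hs k))

theorem ι_genMap (k : K) :
    biproduct.ι (fun k : K => ez (U k) (Zn.{u} n)) k ≫ genMap n F U s hs = secMap n (s k) (hs k) :=
  biproduct.ι_desc _ _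

/-- every `s k` is in the image of `genMap` -/
theorem exists_genMap_eq (k : K) :
    ∃ t : (PP n U).obj.obj (op (U k)), (genMap n F U s hs).hom.app (op (U k)) t = s k := by
  refine ⟨(biproduct.ι (fun k : K => ez (U k) (Zn.{u} n)) k).hom.app (op (U k))
    (gen (U k) (Zn.{u} n) ⟨1⟩), ?_⟩
  have h := congrArg (fun m : ez (U k) (Zn.{u} n) ⟶ F =>
    m.hom.app (op (U k)) (gen (U k) (Zn.{u} n) ⟨1⟩)) (ι_genMap n F U s hs k)
  exact h.trans (secMap_gen n (s k) (hs k))

end Family

theorem isConstructible_biproduct' {F₀ : EtCoh.Ab X} (h₀ : EtPBC.IsConstructible F₀)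
    {K : Type v} [Finite K] (f : K → EtCoh.Ab X) (hf : ∀ k, EtPBC.IsConstructible (f k)) :
    EtPBC.IsConstructible (⨁ f) := by
  obtain ⟨n, ⟨e⟩⟩ := Finite.exists_equiv_fin K
  have h := isConstructible_biproduct_fin h₀ n (fun i => f (e.symm i)) (fun i => hf _)
  exact isConstructible_of_iso
    (biproduct.whiskerEquiv e.symm (fun i => Iso.refl _)) h

section QCQS

variable [CompactSpace X] [QuasiSeparatedSpace X]

theorem isConstructible_PP (n : ℕ) (hn : 0 < n) {K : Type v} [Finite K] (U : K → X.Etale)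
    (hU : ∀ k, IsAffine (U k).left) : EtPBC.IsConstructible (PP.{u} n U) := by
  haveI : NeZero n := ⟨hn.ne'⟩
  haveI : CompactSpace (EtCoh.top X).left := inferInstanceAs (CompactSpace X)
  haveI : QuasiSeparatedSpace (EtCoh.top X).left := inferInstanceAs (QuasiSeparatedSpace X)
  have h₀ : EtPBC.IsConstructible (ez (EtCoh.top X) (cof.{u} (ZMod n))) :=
    isConstructible_ez (EtCoh.top X) (ZMod n)
  apply isConstructible_biproduct' h₀
  intro k
  haveI := hU k
  exact isConstructible_ez (U k) (ZMod n)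

theorem isConstructible_cokernel_genMap (n : ℕ) (hn : 0 < n) (F : EtCoh.Ab X)
    (hF : EtPBC.IsConstructible F) {K : Type v} [Finite K] (U : K → X.Etale)
    (hU : ∀ k, IsAffine (U k).left) (s : ∀ k, F.obj.obj (op (U k))) (hs : ∀ k, n • s k = 0) :
    EtPBC.IsConstructible (cokernel (genMap n F U s hs)) :=
  (constr_kernel_cokernel _ (isConstructible_PP n hn U hU) hF).2

/-- generation of the stalks at the geometric points over a given point -/
theorem exists_gen_at (n : ℕ) (hn : 0 < n) (F : EtCoh.Ab X) (hF : EtPBC.IsConstructible F)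
    (hFn : EtCoh.KilledBy n F) (x : X) :
    ∃ (N : ℕ) (U : Fin N → X.Etale) (_ : ∀ k, IsAffine (U k).left)
      (s : ∀ k, F.obj.obj (op (U k))),
      x ∉ EtPBC.supp (cokernel (genMap n F U s (fun k => hFn _ (s k)))) := by
  haveI := finite_stalk F hF (geomPt X x)
  obtain ⟨W, w, σ, hσ⟩ := Groth.Agent.Lib.helper21.StalkSplit.exists_splitting F (geomPt X x)
  obtain ⟨W', g, ⟨e, he⟩, hW'⟩ := Groth.Agent.H1.EtFiltH.restrict_affine W (w.hom.base default)
  obtain ⟨w', hw', -⟩ := exists_lift_of_point g w e he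
  obtain ⟨N, ⟨eq⟩⟩ := Finite.exists_equiv_fin ((EtCoh.stalk (geomPt X x)).obj F)
  let U : Fin N → X.Etale := fun _ => W'
  let s : ∀ k : Fin N, F.obj.obj (op (U k)) := fun k => F.obj.map g.op (σ (eq.symm k))
  have hs : ∀ k, n • s k = 0 := fun k => hFn _ (s k)
  refine ⟨N, U, fun _ => hW', s, ?_⟩
  have hgerm : ∀ k, germ (geomPt X x) F W' w' (s k) = eq.symm k := by
    intro k
    change germ (geomPt X x) F W' w' (F.obj.map g.op (σ (eq.symm k))) = _
    rw [germ_res, hw', hσ]
  have hconstr := isConstructible_cokernel_genMap n hn F hF U (fun _ => hW') s hs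
  have hzero : IsZero ((EtCoh.stalk (geomPt X x)).obj (cokernel (genMap n F U s hs))) := by
    have h0 : ∀ q : (EtCoh.stalk (geomPt X x)).obj (cokernel (genMap n F U s hs)), q = 0 := by
      intro q
      obtain ⟨p, rfl⟩ := stalk_surjective_of_epi (geomPt X x) (cokernel.π (genMap n F U s hs)) q
      obtain ⟨t, ht⟩ := exists_genMap_eq n F U s hs (eq p)
      have hp : p = germ (geomPt X x) F W' w' (s (eq p)) := by
        rw [hgerm, Equiv.symm_apply_apply]
      rw [hp, ← ht, ← stalk_map_germ, ← ConcreteCategory.comp_apply, ← Functor.map_comp,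
        cokernel.condition, Functor.map_zero]
      rfl
    haveI : Subsingleton ((EtCoh.stalk (geomPt X x)).obj (cokernel (genMap n F U s hs))) :=
      ⟨fun a b => by rw [h0 a, h0 b]⟩
    exact AddCommGrpCat.isZero_of_subsingleton _
  have := not_mem_supp _ hconstr (geomPt X x) hzero
  rwa [show (geomPt X x) default = x from geomPt_default X x] at this

/-- **Constructible sheaves killed by `n` are finitely generated**: there is an epimorphism from a
finite sum of sheaves `j_{U!} ℤ/n` with `U` affine. -/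
theorem exists_gen (n : ℕ) (hn : 0 < n) (F : EtCoh.Ab X) (hF : EtPBC.IsConstructible F)
    (hFn : EtCoh.KilledBy n F) :
    ∃ (K : Type u) (_ : Finite K) (U : K → X.Etale) (_ : ∀ k, IsAffine (U k).left)
      (s : ∀ k, F.obj.obj (op (U k))), Epi (genMap n F U s (fun k => hFn _ (s k))) := by
  choose N U hU s hx using exists_gen_at n hn F hF hFn
  let C : X → Set X := fun x =>
    (EtPBC.supp (cokernel (genMap n F (U x) (s x) (fun k => hFn _ (s x k)))))ᶜ
  have hC : ∀ x, Topology.IsConstructible (C x) := fun x =>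
    (isConstructible_supp _
      (isConstructible_cokernel_genMap n hn F hF (U x) (hU x) (s x) (fun k => hFn _ _))).compl
  have hcov : (⋃ x, C x) = Set.univ :=
    Set.eq_univ_of_forall (fun x => Set.mem_iUnion.2 ⟨x, hx x⟩)
  obtain ⟨t, ht⟩ :=
    Groth.Agent.Lib.helper21.ConstrTop.exists_finite_subcover_of_isConstructible C hC hcov
  let K : Type u := Σ x : {x // x ∈ t}, Fin (N x.1)
  let UK : K → X.Etale := fun k => U k.1.1 k.2
  let sK : ∀ k : K, F.obj.obj (op (UK k)) := fun k => s k.1.1 k.2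
  refine ⟨K, inferInstance, UK, fun k => hU _ _, sK, ?_⟩
  apply epi_of_stalk
  intro y
  have hy : y ∈ ⋃ x ∈ t, C x := by rw [ht]; trivial
  obtain ⟨x, hx1⟩ := Set.mem_iUnion.1 hy
  obtain ⟨hxt, hyC⟩ := Set.mem_iUnion.1 hx1
  let incl : PP.{u} n (U x) ⟶ PP.{u} n UK :=
    biproduct.desc (fun k : Fin (N x) =>
      biproduct.ι (fun k : K => ez (UK k) (Zn.{u} n)) ⟨⟨x, hxt⟩, k⟩)
  have hfac : incl ≫ genMap n F UK sK (fun k => hFn _ (sK k)) =
      genMap n F (U x) (s x) (fun k => hFn _ (s x k)) := by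
    apply biproduct.hom_ext'
    intro k
    rw [biproduct.ι_desc_assoc, ι_genMap, ι_genMap]
  have hz : IsZero ((EtCoh.stalk (geomPt X y)).obj
      (cokernel (genMap n F (U x) (s x) (fun k => hFn _ (s x k))))) := by
    by_contra h
    apply hyC
    refine ⟨_, inferInstance, inferInstance, geomPt X y, ?_, h⟩
    rw [range_geom]
    exact congrArg (fun z => ({z} : Set X)) (geomPt_default X y)
  have hex := (ShortComplex.exact_cokernel (genMap n F (U x) (s x) (fun k => hFn _ (s x k))))
  haveI := stalk_preservesHomology (geomPt X y)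
  have hex' := hex.map (EtCoh.stalk (geomPt X y))
  rw [ShortComplex.ab_exact_iff] at hex'
  intro p
  obtain ⟨q, hq⟩ := hex' p ((AddCommGrpCat.subsingleton_of_isZero hz).elim _ _)
  refine ⟨(EtCoh.stalk (geomPt X y)).map incl q, ?_⟩
  rw [← ConcreteCategory.comp_apply, ← Functor.map_comp, hfac]
  exact hq

end QCQS

end Groth.Agent.H1.ConstrGen
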