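import Groth.Agent.Lib.Helper1.ConstrGenB
import Groth.Agent.Lib.Helper1.SheafExactLoc

/-!
# Presentation of constructible sheaves killed by `n` (helper1)
-/

set_option autoImplicit false
universe u v
open CategoryTheory CategoryTheory.Limits AlgebraicGeometry Opposite

namespace Groth.Agent.H1.ConstrGen

open Groth.Agent.H1.ExtZero Groth.Agent.Lib.helper21.Constr

variable {X : Scheme.{u}}

theorem smul_id_PP (n : ℕ) {K : Type v} [Finite K] (U : K → X.Etale) :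
    n • 𝟙 (PP.{u} n U) = 0 := by
  apply biproduct.hom_ext'
  intro k
  rw [Preadditive.comp_nsmul, Category.comp_id, comp_zero]
  have h1 : n • 𝟙 (ez (U k) (Zn.{u} n)) = 0 :=
    (isExtZero_ez (U k) (Zn.{u} n)).smul_id_eq_zero n (fun a => by
      apply ULift.ext
      change n • a.down = 0
      rw [nsmul_eq_mul, ZMod.natCast_self, zero_mul])
  have h2 := congrArg (fun m => m ≫ biproduct.ι (fun k : K => ez (U k) (Zn.{u} n)) k) h1
  simp only [Preadditive.nsmul_comp, Category.id_comp, zero_comp] at h2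
  exact h2

theorem killedBy_of_smul_id {F : EtCoh.Ab X} (n : ℕ) (h : n • 𝟙 F = 0) : EtCoh.KilledBy n F := by
  intro V s
  have h1 : (n • 𝟙 F).hom.app (op V) s = n • s := rfl
  rw [← h1, h]
  rfl

theorem killedBy_of_mono {F G : EtCoh.Ab X} (ι : G ⟶ F) [Mono ι] (n : ℕ)
    (hF : EtCoh.KilledBy n F) : EtCoh.KilledBy n G := by
  intro V s
  apply Groth.Agent.H1.SheafExactLoc.injective_app_of_mono ι (op V)
  rw [map_nsmul, map_zero]
  exact hF V _

section QCQS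

variable [CompactSpace X] [QuasiSeparatedSpace X]

/-- presentation with arbitrary finite index types -/
theorem exists_presentation' (n : ℕ) (hn : 0 < n) (F : EtCoh.Ab X) (hF : EtPBC.IsConstructible F)
    (hFn : EtCoh.KilledBy n F) :
    ∃ (K₁ K₀ : Type u) (_ : Finite K₁) (_ : Finite K₀) (V : K₁ → X.Etale) (U : K₀ → X.Etale)
      (_ : ∀ j, IsAffine (V j).left) (_ : ∀ i, IsAffine (U i).left)
      (φ : PP.{u} n V ⟶ PP.{u} n U), Nonempty (F ≅ cokernel φ) := by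
  obtain ⟨K₀, hK₀, U, hU, s, hepi⟩ := exists_gen n hn F hF hFn
  obtain ⟨π, hπ⟩ : ∃ π : PP.{u} n U ⟶ F, π = genMap n F U s (fun k => hFn _ (s k)) := ⟨_, rfl⟩
  haveI : Epi π := hπ ▸ hepi
  have hK : EtPBC.IsConstructible (kernel π) :=
    (constr_kernel_cokernel π (isConstructible_PP n hn U hU) hF).1
  have hKn : EtCoh.KilledBy n (kernel π) :=
    killedBy_of_mono (kernel.ι π) n (killedBy_of_smul_id n (smul_id_PP n U))
  obtain ⟨K₁, hK₁, V, hV, s₁, hepi₁⟩ := exists_gen n hn (kernel π) hK hKn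
  obtain ⟨ρ, hρ⟩ : ∃ ρ : PP.{u} n V ⟶ kernel π,
    ρ = genMap n (kernel π) V s₁ (fun k => hKn _ (s₁ k)) := ⟨_, rfl⟩
  haveI : Epi ρ := hρ ▸ hepi₁
  refine ⟨K₁, K₀, hK₁, hK₀, V, U, hV, hU, ρ ≫ kernel.ι π, ⟨?_⟩⟩
  have e1 : cokernel (ρ ≫ kernel.ι π) ≅ cokernel (kernel.ι π) := cokernelEpiComp ρ (kernel.ι π)
  have e2 : cokernel (kernel.ι π) ≅ F :=
    (cokernelIsCokernel (kernel.ι π)).coconePointUniqueUpToIso
      (Abelian.epiIsCokernelOfKernel _ (limit.isLimit (parallelPair π 0)))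
  exact (e1 ≪≫ e2).symm

/-- **Presentation of a constructible sheaf killed by `n`** on a quasi-compact quasi-separated
scheme. -/
theorem exists_presentation (n : ℕ) (hn : 0 < n) (F : EtCoh.Ab X) (hF : EtPBC.IsConstructible F)
    (hFn : EtCoh.KilledBy n F) :
    ∃ (a b : ℕ) (V : Fin a → X.Etale) (U : Fin b → X.Etale)
      (_ : ∀ j, IsAffine (V j).left) (_ : ∀ i, IsAffine (U i).left)
      (φ : PP.{u} n V ⟶ PP.{u} n U), Nonempty (F ≅ cokernel φ) := by
  obtain ⟨K₁, K₀, hK₁, hK₀, V, U, hV, hU, φ, ⟨e⟩⟩ := exists_presentation' n hn F hF hFn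
  obtain ⟨a, ⟨e₁⟩⟩ := Finite.exists_equiv_fin K₁
  obtain ⟨b, ⟨e₀⟩⟩ := Finite.exists_equiv_fin K₀
  let i₁ : PP.{u} n (fun j : Fin a => V (e₁.symm j)) ≅ PP.{u} n V :=
    biproduct.whiskerEquiv (f := fun j : Fin a => ez (V (e₁.symm j)) (Zn.{u} n))
      (g := fun j : K₁ => ez (V j) (Zn.{u} n)) e₁.symm (fun _ => Iso.refl _)
  let i₀ : PP.{u} n (fun i : Fin b => U (e₀.symm i)) ≅ PP.{u} n U :=
    biproduct.whiskerEquiv (f := fun j : Fin b => ez (U (e₀.symm j)) (Zn.{u} n))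
      (g := fun j : K₀ => ez (U j) (Zn.{u} n)) e₀.symm (fun _ => Iso.refl _)
  refine ⟨a, b, fun j => V (e₁.symm j), fun i => U (e₀.symm i), fun j => hV _, fun i => hU _,
    i₁.hom ≫ φ ≫ i₀.inv, ⟨e ≪≫ (cokernel.mapIso _ _ i₁ i₀ ?_).symm⟩⟩
  rw [Category.assoc, Category.assoc, Iso.inv_hom_id, Category.comp_id]

end QCQS

end Groth.Agent.H1.ConstrGen
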