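import Groth.Agent.Lib.Helper1.ConstrGenC

/-!
# Constructible sheaves on qcqs schemes are killed by a positive integer (helper1)
-/

set_option autoImplicit false
universe u v
open CategoryTheory CategoryTheory.Limits AlgebraicGeometry Opposite

namespace Groth.Agent.H1.ConstrGen

open Groth.Agent.H1.ExtZero Groth.Agent.Lib.helper21.Constr Groth.Agent.Lib.helper21.StalkConst
  Groth.Agent.H1.EtStalk Groth.Agent.H1.EtGerm Groth.Agent.Lib.helper21.SuppConstr

variable {X : Scheme.{u}}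

theorem card_stalk_eq_of_same_point (F : EtCoh.Ab X) (hF : EtPBC.IsConstructible F)
    {Ω₀ : Type u} [Field Ω₀] [IsSepClosed Ω₀] (ξ₀ : Spec (CommRingCat.of Ω₀) ⟶ X)
    {Ω : Type u} [Field Ω] [IsSepClosed Ω] (ξ : Spec (CommRingCat.of Ω) ⟶ X)
    (hξ : ξ default = ξ₀ default) :
    Nat.card ((EtCoh.stalk ξ).obj F) = Nat.card ((EtCoh.stalk ξ₀).obj F) := by
  obtain ⟨M, _, _, h⟩ := exists_stalk_model F hF (ξ₀ default)
  obtain ⟨e₀⟩ := h Ω₀ ξ₀ rfl
  obtain ⟨e⟩ := h Ω ξ hξ
  exact (Nat.card_congr e).symm.trans (Nat.card_congr e₀)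

theorem exists_killedBy [CompactSpace X] [QuasiSeparatedSpace X] (F : EtCoh.Ab X)
    (hF : EtPBC.IsConstructible F) : ∃ N : ℕ, 0 < N ∧ EtCoh.KilledBy N F := by
  have hcov : (⋃ n : ℕ, cardLoc F n) = Set.univ := by
    apply Set.eq_univ_of_forall
    intro x
    refine Set.mem_iUnion.2 ⟨Nat.card ((EtCoh.stalk (geomPt X x)).obj F), _, inferInstance,
      inferInstance, geomPt X x, ?_, rfl⟩
    rw [range_geom]
    exact congrArg (fun z => ({z} : Set X)) (geomPt_default X x)
  obtain ⟨t, ht⟩ := Groth.Agent.Lib.helper21.ConstrTop.exists_finite_subcover_of_isConstructible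
    (fun n : ℕ => cardLoc F n) (fun n => isConstructible_cardLoc F hF n) hcov
  refine ⟨∏ n ∈ t, (if n = 0 then 1 else n), ?_, ?_⟩
  · apply Finset.prod_pos
    intro n _
    split_ifs with h
    · exact Nat.one_pos
    · exact Nat.pos_of_ne_zero h
  · intro V s
    apply Groth.Agent.H1.EtFiltH.eq_zero_of_locally F V
    intro y
    obtain ⟨ξ, Ly, hLy⟩ := exists_geomPt_lift V y
    have hx : ξ default ∈ ⋃ n ∈ t, cardLoc F n := by rw [ht]; trivial
    obtain ⟨n, hn1⟩ := Set.mem_iUnion.1 hx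
    obtain ⟨hnt, Ω', _, _, ξ', hξ', hcard⟩ := Set.mem_iUnion.1 hn1
    have hξ'd : ξ' default = ξ default := by
      have : ξ' default ∈ Set.range ξ' := ⟨default, rfl⟩
      rw [hξ'] at this
      exact this
    have hcard2 : Nat.card ((EtCoh.stalk ξ).obj F) = n :=
      (card_stalk_eq_of_same_point F hF ξ' ξ hξ'd.symm).trans hcard
    haveI := finite_stalk F hF ξ
    have hn0 : n ≠ 0 := by
      rw [← hcard2]
      exact Nat.card_pos.ne'
    have hdvd : n ∣ ∏ n ∈ t, (if n = 0 then 1 else n) := by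
      have := Finset.dvd_prod_of_mem (fun n : ℕ => if n = 0 then 1 else n) hnt
      simpa [hn0] using this
    obtain ⟨q, hq⟩ := hdvd
    have hgerm : germ ξ F V Ly ((∏ n ∈ t, (if n = 0 then 1 else n)) • s) = 0 := by
      rw [germ_nsmul, hq, mul_comm, mul_nsmul, ← hcard2, card_nsmul_eq_zero']
    obtain ⟨V', g, y', hy', hs⟩ := (germ_eq_zero_iff F V Ly _).1 hgerm
    refine ⟨V', g, ⟨y'.hom.base default, ?_⟩, hs⟩
    have h1 : (Lift.map g y').hom = Ly.hom := congrArg Lift.hom hy'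
    rw [Lift.map_hom] at h1
    have h2 := congrArg (fun m : Spec (CommRingCat.of _) ⟶ V.left => m.base default) h1
    exact h2.trans hLy

end Groth.Agent.H1.ConstrGen
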