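import Mathlib

/-!
# Images of constructible sets under open maps that are injective over a constructible set (helper1)
-/

set_option autoImplicit false
open Topology TopologicalSpace Set

namespace Groth.Agent.H1.ConstrTop

variable {V Y : Type*} [TopologicalSpace V] [TopologicalSpace Y]

/-- Let `g : V → Y` be an open map from a compact space to a quasi-separated space, and `T ⊆ Y` a
constructible set contained in the range of `g` over which `g` is injective.  Then `g` maps the part
over `T` of any constructible set to a constructible set. -/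
theorem isConstructible_image_inter_preimage [CompactSpace V] [QuasiSeparatedSpace Y] (g : V → Y)
    (hgc : Continuous g) (hgo : IsOpenMap g) (T : Set Y) (hT : IsConstructible T)
    (hTr : T ⊆ range g) (hinj : ∀ v v', g v ∈ T → g v = g v' → v = v')
    (C : Set V) (hC : IsConstructible C) : IsConstructible (g '' (C ∩ g ⁻¹' T)) := by
  induction hC using IsConstructible.empty_union_induction with
  | open_retrocompact O hOopen hOcomp =>
    have h1 : g '' (O ∩ g ⁻¹' T) = g '' O ∩ T := by
      rw [image_inter_preimage]
    rw [h1]
    have hOc : IsCompact O := hOcomp.isCompact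
    exact ((hOc.image hgc).isConstructible (hgo O hOopen)).inter hT
  | union s hs t ht hs' ht' =>
    rw [union_inter_distrib_right, image_union]
    exact hs'.union ht'
  | compl s hs hs' =>
    have h1 : g '' (sᶜ ∩ g ⁻¹' T) = T \ g '' (s ∩ g ⁻¹' T) := by
      ext y
      constructor
      · rintro ⟨v, ⟨hvs, hvT⟩, rfl⟩
        refine ⟨hvT, ?_⟩
        rintro ⟨v', ⟨hv's, hv'T⟩, hv'⟩
        have : v' = v := hinj v' v hv'T hv'
        exact hvs (this ▸ hv's)
      · rintro ⟨hyT, hy⟩
        obtain ⟨v, rfl⟩ := hTr hyT
        refine ⟨v, ⟨fun hvs => hy ⟨v, ⟨hvs, hyT⟩, rfl⟩, hyT⟩, rfl⟩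
    rw [h1]
    exact hT.sdiff hs'

end Groth.Agent.H1.ConstrTop
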