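import Groth.Agent.Lib.Helper4.AlgSpSpectral
import Groth.Agent.Lib.Helper1.ConstrTop

/-!
# Quasi-compactness of preimages of quasi-compact opens in quasi-separated spaces (helper1)
-/

set_option autoImplicit false
universe u
open CategoryTheory CategoryTheory.Limits AlgebraicGeometry Topology TopologicalSpace
open AlgSp

namespace Groth.Agent.H1.ConstrSp

open Groth.Agent.Lib.helper11 Groth.Agent.Lib.helper4.AlgSpSpectral

variable {S : Scheme.{u}}

/-- The locus in a quasi-compact scheme `U` of points with the same image in a quasi-separated space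
as some point of a quasi-compact scheme `V` is quasi-compact. -/
theorem isCompact_preimage_range [QuasiSeparatedSpace ↥S] {X : Sp S} (hqs : IsQuasiSeparatedSp X)
    {U V : Over S} [CompactSpace ↥U.left] [CompactSpace ↥V.left] (a : (yon S).obj U ⟶ X)
    (b : (yon S).obj V ⟶ X) : IsCompact (Points.ofPt a ⁻¹' Set.range (Points.ofPt b)) := by
  haveI : CompactSpace ↥(U ⨯ V).left := compactSpace_prod_of_quasiSeparatedSpace U V
  obtain ⟨W, φ, ψ, hW, hw, hl⟩ := exists_affine_chart_sp hqs a b
  haveI := hW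
  have : Points.ofPt a ⁻¹' Set.range (Points.ofPt b) = Set.range φ.left := by
    ext u
    constructor
    · rintro ⟨v, hv⟩
      obtain ⟨w, hw1, -⟩ := hl u v hv.symm
      exact ⟨w, hw1⟩
    · rintro ⟨w, rfl⟩
      exact ⟨ψ.left w, (ofPt_comm hw w).symm⟩
  rw [this]
  exact isCompact_range φ.left.continuous

/-- The preimage of a quasi-compact open of the space of points of a quasi-separated algebraic space
in a quasi-compact scheme is quasi-compact. -/
theorem isCompact_preimage [QuasiSeparatedSpace ↥S] (X : Space S) (hqs : IsQuasiSeparatedSp X.obj)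
    {U : Over S} [CompactSpace ↥U.left] (a : (yon S).obj U ⟶ X.obj) (s : Set (Points X.obj))
    (hso : IsOpen s) (hsc : IsCompact s) : IsCompact (Points.ofPt a ⁻¹' s) := by
  classical
  obtain ⟨U', p, hpe, hps⟩ := X.property.atlas
  have hsurj := surjective_ofPt p hps
  -- affine opens of the atlas mapping into `s`
  let I := {O : U'.left.affineOpens // Points.ofPt p '' ((O : U'.left.Opens) : Set ↥U'.left) ⊆ s}
  have hcov : s ⊆ ⋃ i : I, Points.ofPt p '' ((i.1 : U'.left.Opens) : Set ↥U'.left) := by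
    intro x hx
    obtain ⟨u, rfl⟩ := hsurj x
    have hopen : IsOpen (Points.ofPt p ⁻¹' s) := hso.preimage (Points.continuous_ofPt p)
    obtain ⟨_, ⟨O, hO, rfl⟩, hu, hsub⟩ :=
      (U'.left.isBasis_affineOpens).exists_subset_of_mem_open (show u ∈ Points.ofPt p ⁻¹' s from hx)
        hopen
    refine Set.mem_iUnion.mpr ⟨⟨⟨O, hO⟩, ?_⟩, u, hu, rfl⟩
    rintro _ ⟨u', hu', rfl⟩
    exact hsub hu'
  obtain ⟨t, ht⟩ := hsc.elim_finite_subcover
    (fun i : I => Points.ofPt p '' ((i.1 : U'.left.Opens) : Set ↥U'.left))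
    (fun i => isOpenMap_ofPt p hpe _ (i.1 : U'.left.Opens).2) hcov
  have hs_eq : s = ⋃ i ∈ t, Points.ofPt p '' ((i.1 : U'.left.Opens) : Set ↥U'.left) := by
    apply Set.Subset.antisymm ht
    intro x hx
    simp only [Set.mem_iUnion] at hx
    obtain ⟨i, -, hi⟩ := hx
    exact i.2 hi
  rw [hs_eq, Set.preimage_iUnion₂]
  refine t.finite_toSet.isCompact_biUnion fun i _ => ?_
  let O : U'.left.Opens := i.1
  haveI : IsAffine (O : Scheme.{u}) := i.1.2
  let V : Over S := Over.mk (O.ι ≫ U'.hom)
  let jV : V ⟶ U' := Over.homMk O.ι rfl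
  haveI : CompactSpace ↥V.left := inferInstanceAs (CompactSpace ↥(O : Scheme.{u}))
  have hr : Set.range (Points.ofPt ((yon S).map jV ≫ p)) =
      Points.ofPt p '' ((i.1 : U'.left.Opens) : Set ↥U'.left) := by
    ext x
    constructor
    · rintro ⟨v, rfl⟩
      exact ⟨O.ι v, v.2, (ofPt_yon_map_comp jV p v).symm⟩
    · rintro ⟨u, hu, rfl⟩
      exact ⟨⟨u, hu⟩, ofPt_yon_map_comp jV p ⟨u, hu⟩⟩
  rw [← hr]
  exact isCompact_preimage_range hqs a ((yon S).map jV ≫ p)

/-- A locally constructible subset of the space of points of a quasi-separated algebraic space is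
étale locally constructible. -/
theorem isLocallyConstructible_preimage [QuasiSeparatedSpace ↥S] (X : Space S)
    (hqs : IsQuasiSeparatedSp X.obj) (E : Set (Points X.obj)) (hE : IsLocallyConstructible E)
    {U : Over S} (a : (yon S).obj U ⟶ X.obj) (ha : RepWith @Etale a) :
    IsLocallyConstructible (Points.ofPt a ⁻¹' E) := by
  intro u
  obtain ⟨W, hWx, hWo, hWc⟩ := hE (Points.ofPt a u)
  have hpre : IsOpen (Points.ofPt a ⁻¹' W) := hWo.preimage (Points.continuous_ofPt a)
  obtain ⟨_, ⟨O', hO, rfl⟩, huO, hsub⟩ :=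
    (U.left.isBasis_affineOpens).exists_subset_of_mem_open
      (show u ∈ Points.ofPt a ⁻¹' W from (mem_of_mem_nhds hWx : Points.ofPt a u ∈ W)) hpre
  obtain ⟨O, rfl⟩ : ∃ O : U.left.Opens, O = O' := ⟨O', rfl⟩
  refine ⟨O, O.2.mem_nhds huO, O.2, ?_⟩
  haveI : IsAffine (O : Scheme.{u}) := hO
  let V : Over S := Over.mk (O.ι ≫ U.hom)
  let jV : V ⟶ U := Over.homMk O.ι rfl
  haveI : CompactSpace ↥V.left := inferInstanceAs (CompactSpace ↥(O : Scheme.{u}))
  haveI : QuasiSeparatedSpace ↥V.left := inferInstanceAs (QuasiSeparatedSpace ↥(O : Scheme.{u}))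
  let a' : (yon S).obj V ⟶ X.obj := (yon S).map jV ≫ a
  have ha' : ∀ v : ↥V.left, Points.ofPt a' v = Points.ofPt a (O.ι v) := fun v =>
    ofPt_yon_map_comp jV a v
  have ha'e : RepWith @Etale a' := by
    refine (repWith_isMultiplicative (S := S) @Etale).comp_mem _ _ ?_ ha
    rw [repWith_yon_map_iff]
    exact inferInstanceAs (Etale O.ι)
  let φ : ↥V.left → ↥W := fun v => ⟨Points.ofPt a' v, by rw [ha']; exact hsub v.2⟩
  have hφc : Continuous φ := (Points.continuous_ofPt a').subtype_mk _
  have hφo : IsOpenMap φ := by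
    intro A hA
    have : IsOpen (Subtype.val '' (φ '' A)) := by
      rw [← Set.image_comp]
      exact isOpenMap_ofPt a' ha'e A hA
    exact (hWo.isOpenEmbedding_subtypeVal.isOpen_iff_image_isOpen).2 this
  have key : IsConstructible (φ ⁻¹' (Subtype.val ⁻¹' E : Set ↥W)) := by
    refine IsConstructible.preimage hφc ?_ hWc
    intro s hso hsr
    have hopen : IsOpen (φ ⁻¹' s) := hso.preimage hφc
    rw [QuasiSeparatedSpace.isRetrocompact_iff_isCompact hopen]
    have hrc : IsCompact (Set.range φ) := isCompact_range hφc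
    have hro : IsOpen (Set.range φ) := hφo.isOpen_range
    have h1 : IsCompact (s ∩ Set.range φ) := hsr hrc hro
    have h2 : IsOpen (s ∩ Set.range φ) := hso.inter hro
    have h3 : φ ⁻¹' s = Points.ofPt a' ⁻¹' (Subtype.val '' (s ∩ Set.range φ)) := by
      ext v
      constructor
      · intro hv
        exact ⟨φ v, ⟨hv, v, rfl⟩, rfl⟩
      · rintro ⟨w, ⟨hw, -⟩, hwv⟩
        have : w = φ v := Subtype.ext hwv
        rw [Set.mem_preimage, ← this]
        exact hw
    rw [h3]
    exact isCompact_preimage X hqs a' _ (hWo.isOpenMap_subtype_val _ h2)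
      (h1.image continuous_subtype_val)
  have hfin : (Subtype.val ⁻¹' (Points.ofPt a ⁻¹' E) : Set ↥O) =
      φ ⁻¹' (Subtype.val ⁻¹' E : Set ↥W) := by
    ext v
    show Points.ofPt a v.1 ∈ E ↔ Points.ofPt a' v ∈ E
    rw [ha']
    rfl
  rw [← hfin] at key
  exact key

end Groth.Agent.H1.ConstrSp
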