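import Mathlib
import Groth.Agent.Lib.Helper1.HomSum

/-!
Helper library (helper1): `Hom(P, -)` commutes with a coproduct as soon as every map `P ⟶ ∐ Y` factors
through a finite subcoproduct (e.g. if `Hom(P, -)` commutes with filtered colimits);
additive functors commuting with filtered colimits kill coproducts of objects they kill.
-/

set_option autoImplicit false
universe w v u
open CategoryTheory CategoryTheory.Limits

namespace Groth.Agent.H1.CoprodFiltered

open Groth.Agent.H1.HomSum CoproductsFromFiniteFiltered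

section proj

variable {𝒜 : Type w} [Category.{v} 𝒜] [Preadditive 𝒜] {ι : Type u} (Y : ι → 𝒜) [HasCoproduct Y]

/-- projection from the coproduct -/
noncomputable def proj (j : ι) : ∐ Y ⟶ Y j := by
  classical
  exact Sigma.desc (fun t => if h : t = j then eqToHom (by rw [h]) else 0)

lemma ι_proj_self (j : ι) : Sigma.ι Y j ≫ proj Y j = 𝟙 _ := by
  classical
  unfold proj
  rw [Sigma.ι_desc, dif_pos rfl, eqToHom_refl]

lemma ι_proj_of_ne (i j : ι) (h : i ≠ j) : Sigma.ι Y i ≫ proj Y j = 0 := by
  classical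
  unfold proj
  rw [Sigma.ι_desc, dif_neg h]

/-- injectivity of the canonical map is automatic -/
lemma injective_homSum (P : 𝒜) :
    Function.Injective (homSum P Y (Cofan.mk (∐ Y) (Sigma.ι Y))) := by
  classical
  rw [injective_iff]
  intro S σ hσ j hj
  have h1 := congrArg (fun f => f ≫ proj Y j) hσ
  simp only [Preadditive.sum_comp, zero_comp] at h1
  rw [Finset.sum_eq_single j] at h1
  · change (σ j ≫ Sigma.ι Y j) ≫ proj Y j = 0 at h1
    rwa [Category.assoc, ι_proj_self, Category.comp_id] at h1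
  · intro i _ hij
    change (σ i ≫ Sigma.ι Y i) ≫ proj Y j = 0
    rw [Category.assoc, ι_proj_of_ne Y i j hij, comp_zero]
  · intro h
    exact absurd hj h

variable [HasFiniteCoproducts 𝒜]

/-- inclusion of a finite subcoproduct -/
noncomputable def incl (S : Finset (Discrete ι)) :
    (∐ fun x : S => (Discrete.functor Y).obj x) ⟶ ∐ Y :=
  Sigma.desc fun s => Sigma.ι Y s.1.as

lemma ι_incl (S : Finset (Discrete ι)) (s : S) :
    Sigma.ι (fun x : S => (Discrete.functor Y).obj x) s ≫ incl Y S = Sigma.ι Y s.1.as :=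
  Sigma.ι_desc _ _

/-- surjectivity if every map to the coproduct factors through a finite subcoproduct -/
lemma surjective_homSum (P : 𝒜)
    (hsurj : ∀ x : P ⟶ ∐ Y, ∃ (S : Finset (Discrete ι))
      (z : P ⟶ ∐ fun x : S => (Discrete.functor Y).obj x), x = z ≫ incl Y S) :
    Function.Surjective (homSum P Y (Cofan.mk (∐ Y) (Sigma.ι Y))) := by
  classical
  rw [surjective_iff]
  intro x
  change P ⟶ ∐ Y at x
  obtain ⟨S, z, hz⟩ := hsurj x
  refine ⟨S.image Discrete.as, fun i => x ≫ proj Y i, ?_⟩
  have key : incl Y S ≫ (∑ d ∈ S, proj Y d.as ≫ Sigma.ι Y d.as) = incl Y S := by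
    apply Sigma.hom_ext
    intro s
    rw [← Category.assoc, ι_incl, Preadditive.comp_sum, Finset.sum_eq_single s.1]
    · rw [← Category.assoc, ι_proj_self]
      exact Category.id_comp _
    · intro d _ hd
      rw [← Category.assoc, ι_proj_of_ne Y s.1.as d.as (fun h => hd (Discrete.ext h.symm)),
        zero_comp]
    · intro h
      exact absurd s.2 h
  have h1 : x = x ≫ ∑ d ∈ S, proj Y d.as ≫ Sigma.ι Y d.as := by
    conv_lhs => rw [hz, ← key, ← Category.assoc, ← hz]
  rw [Finset.sum_image (by intro a _ b _ h; exact Discrete.ext h)]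
  refine h1.trans ?_
  rw [Preadditive.comp_sum]
  apply Finset.sum_congr rfl
  intro d _
  change _ = (x ≫ proj Y d.as) ≫ Sigma.ι Y d.as
  rw [Category.assoc]

end proj

section preserves

variable {𝒜 : Type w} [Category.{u} 𝒜] [Preadditive 𝒜] [HasFiniteCoproducts 𝒜]
  {ι : Type u} (Y : ι → 𝒜) [HasCoproduct Y] [HasColimitsOfShape (Finset (Discrete ι)) 𝒜]

/-- if a functor `Ψ` to abelian groups is "`Hom(P, -)`" and preserves the filtered colimit of finite
subcoproducts of `Y`, then `Hom(P, -)` commutes with the coproduct of `Y` -/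
theorem bijective_homSum_of_preserves_filtered (P : 𝒜) (Ψ : 𝒜 ⥤ AddCommGrpCat.{u})
    (η : ∀ F : 𝒜, Ψ.obj F ≃ (P ⟶ F))
    (hη : ∀ {F F' : 𝒜} (φ : F ⟶ F') (x : Ψ.obj F), η F' (Ψ.map φ x) = η F x ≫ φ)
    [PreservesColimit (liftToFinsetObj (Discrete.functor Y)) Ψ] :
    Function.Bijective (homSum P Y (Cofan.mk (∐ Y) (Sigma.ι Y))) := by
  refine ⟨injective_homSum Y P, surjective_homSum Y P fun x => ?_⟩
  have hc := isColimitOfPreserves Ψ (isColimitFiniteSubproductsCocone Y)
  obtain ⟨S, y, hy⟩ := Concrete.isColimit_exists_rep _ hc ((η _).symm x)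
  have h1 : η (∐ Y) (Ψ.map (incl Y S) y) =
      η (∐ fun x : S => (Discrete.functor Y).obj x) y ≫ incl Y S := hη (incl Y S) y
  have h2 : Ψ.map (incl Y S) y = (η (∐ Y)).symm x := hy
  refine ⟨S, η (∐ fun x : S => (Discrete.functor Y).obj x) y, ?_⟩
  rw [← h1, h2, Equiv.apply_symm_apply]

end preserves

section vanish

/-- a colimit of zero objects is zero -/
lemma isZero_of_isColimit {C J : Type*} [Category C] [Category J] [HasZeroMorphisms C]
    {F : J ⥤ C} {c : Cocone F} (hc : IsColimit c) (h : ∀ j, IsZero (F.obj j)) : IsZero c.pt := by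
  rw [IsZero.iff_id_eq_zero]
  apply hc.hom_ext
  intro j
  exact (h j).eq_of_src _ _

/-- an additive functor kills a finite coproduct of objects it kills -/
lemma isZero_map_sigma {C D : Type*} [Category C] [Category D] [Preadditive C] [Preadditive D]
    (Φ : C ⥤ D) [Φ.Additive] {ι : Type*} [Finite ι] (f : ι → C) [HasCoproduct f]
    [HasFiniteBiproducts C]
    (h : ∀ i, IsZero (Φ.obj (f i))) : IsZero (Φ.obj (∐ f)) := by
  classical
  have := Fintype.ofFinite ι
  have hb : HasBiproduct f := inferInstance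
  have e : ∐ f ≅ ⨁ f := (biproduct.isoCoproduct f).symm
  refine IsZero.of_iso ?_ (Φ.mapIso e)
  rw [IsZero.iff_id_eq_zero, ← Φ.map_id]
  have ht : 𝟙 (⨁ f) = ∑ j, biproduct.π f j ≫ biproduct.ι f j :=
    (IsBilimit.total (biproduct.isBilimit f)).symm
  rw [ht, Φ.map_sum]
  refine Finset.sum_eq_zero fun i _ => ?_
  rw [Φ.map_comp, (h i).eq_of_tgt (Φ.map (biproduct.π f i)) 0, zero_comp]

variable {𝒜 : Type w} [Category.{v} 𝒜] [Preadditive 𝒜] [HasFiniteBiproducts 𝒜]
  [HasFiniteCoproducts 𝒜]
  {ι : Type u} (Y : ι → 𝒜) [HasCoproduct Y] [HasColimitsOfShape (Finset (Discrete ι)) 𝒜]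

/-- an additive functor preserving the filtered colimit of finite subcoproducts kills the coproduct
of objects it kills -/
theorem isZero_map_sigma_of_preserves_filtered {D : Type*} [Category D] [Preadditive D]
    (Φ : 𝒜 ⥤ D) [Φ.Additive] [PreservesColimit (liftToFinsetObj (Discrete.functor Y)) Φ]
    (h : ∀ i, IsZero (Φ.obj (Y i))) : IsZero (Φ.obj (∐ Y)) := by
  have hc := isColimitOfPreserves Φ (isColimitFiniteSubproductsCocone Y)
  refine isZero_of_isColimit hc fun S => ?_
  change IsZero (Φ.obj (∐ fun x : S => (Discrete.functor Y).obj x))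
  exact isZero_map_sigma Φ _ fun x => h x.1.as

end vanish

end Groth.Agent.H1.CoprodFiltered
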