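import Mathlib
import Groth.Agent.Lib.Helper1.HomSum

/-!
Helper library (helper1): a cofan of abelian groups receiving a bijection from the direct sum is a
colimit; `Hom(P, -)` preserves coproducts as soon as the canonical maps `⊕ Hom(P, Y i) → Hom(P, ∐ Y)`
are bijective.
-/

set_option autoImplicit false
universe w u
open CategoryTheory CategoryTheory.Limits Opposite

namespace Groth.Agent.H1.CoyonedaCoprod

open Groth.Agent.H1.HomSum

noncomputable section

open scoped Classical

/-- a cofan of abelian groups for which the canonical map from the direct sum is bijective is a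
colimit -/
def isColimitOfBijective {ι : Type u} (A : ι → AddCommGrpCat.{u}) (c : Cofan A)
    (h : Function.Bijective
      (DirectSum.toAddMonoid (fun i => (c.inj i).hom) : DirectSum ι (fun i => A i) →+ c.pt)) :
    IsColimit c := by
  let φ : DirectSum ι (fun i => A i) ≃+ c.pt := AddEquiv.ofBijective _ h
  have hφ : ∀ i (a : A i), φ (DirectSum.of (fun i => A i) i a) = c.inj i a := fun i a => by
    change DirectSum.toAddMonoid (fun i => (c.inj i).hom) (DirectSum.of _ i a) = _
    rw [DirectSum.toAddMonoid_of]
  have hφ' : ∀ i (a : A i), φ.symm (c.inj i a) = DirectSum.of (fun i => A i) i a := fun i a => by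
    rw [← hφ, AddEquiv.symm_apply_apply]
  refine Cofan.IsColimit.mk c
    (fun s => AddCommGrpCat.ofHom
      ((DirectSum.toAddMonoid (fun i => (s.inj i).hom)).comp φ.symm.toAddMonoidHom)) ?_ ?_
  · intro s i
    ext a
    change DirectSum.toAddMonoid (fun i => (s.inj i).hom) (φ.symm (c.inj i a)) = s.inj i a
    rw [hφ', DirectSum.toAddMonoid_of]
  · intro s m hm
    ext x
    obtain ⟨y, rfl⟩ := φ.surjective x
    change m (φ y) = DirectSum.toAddMonoid (fun i => (s.inj i).hom) (φ.symm (φ y))
    rw [AddEquiv.symm_apply_apply]
    have : m.hom.comp φ.toAddMonoidHom = DirectSum.toAddMonoid (fun i => (s.inj i).hom) := by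
      apply DirectSum.addHom_ext
      intro i a
      change m (φ (DirectSum.of (fun i => A i) i a)) =
        DirectSum.toAddMonoid (fun i => (s.inj i).hom) (DirectSum.of (fun i => A i) i a)
      rw [hφ, DirectSum.toAddMonoid_of]
      exact congrArg (fun f => (ConcreteCategory.hom f) a) (hm i)
    exact congrArg (fun f => f y) this

variable {𝒜 : Type w} [Category.{u} 𝒜] [Preadditive 𝒜]

/-- `Hom(P, -)` preserves `ι`-indexed coproducts if the canonical maps are bijective -/
theorem preservesColimitsOfShape_coyoneda_of_bijective (P : 𝒜) {ι : Type u}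
    [HasCoproductsOfShape ι 𝒜]
    (h : ∀ Y : ι → 𝒜, Function.Bijective (homSum P Y (Cofan.mk (∐ Y) (Sigma.ι Y)))) :
    PreservesColimitsOfShape (Discrete ι) (preadditiveCoyoneda.obj (op P)) := by
  refine ⟨fun {K} => ?_⟩
  have hY : PreservesColimit (Discrete.functor (K.obj ∘ Discrete.mk))
      (preadditiveCoyoneda.obj (op P)) := by
    apply preservesColimit_of_preserves_colimit_cocone
      (coproductIsCoproduct (K.obj ∘ Discrete.mk))
    refine (isColimitMapCoconeCofanMkEquiv _ _ _).symm ?_
    apply isColimitOfBijective
    exact h (K.obj ∘ Discrete.mk)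
  exact preservesColimit_of_iso_diagram _ (Discrete.natIsoFunctor (F := K)).symm

end

end Groth.Agent.H1.CoyonedaCoprod
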