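import Groth.Agent.Lib.Helper1.EtFiltH

/-!
# Sheaves killed by a sequence of multiplications (helper1)

If every section of `F` over an affine étale `X`-scheme is, étale locally, killed by a product
`a k ⋯ a (l - 1)` (for every starting index `k`), then the colimit of `F ⟶ F ⟶ ⋯` (multiplication by
`a i`) vanishes, and (for `X` qcqs) every cohomology class of `F` is killed by some `a 0 ⋯ a (k - 1)`.
-/

set_option autoImplicit false
universe u
open CategoryTheory CategoryTheory.Limits AlgebraicGeometry Opposite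

namespace Groth.Agent.H1.EtFiltH

open Groth.Agent.H1.EtCartan Groth.Agent.H1.FiltExt CategoryTheory.Abelian

variable {X : Scheme.{u}}

theorem preservesFilteredColimitsOfSize_zero :
    PreservesFilteredColimitsOfSize.{0, 0} (forget AddCommGrpCat.{u + 1}) := by
  haveI : PreservesFilteredColimitsOfSize.{u + 1, u + 1} (forget AddCommGrpCat.{u + 1}) :=
    inferInstance
  exact preservesSmallestFilteredColimits_of_preservesFilteredColimits _

theorem hasExactColimitsOfShape_nat (X : Scheme.{u}) : HasExactColimitsOfShape ℕ (EtCoh.Ab X) := by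
  haveI : AB5OfSize.{0, 0} (EtCoh.Ab X) := AB5OfSize_of_univLE.{0, 0, u + 1, u + 1} _
  infer_instance

theorem good_of_isAffine (U : X.Etale) (hU : IsAffine U.left) : good U :=
  ⟨inferInstance, inferInstance⟩

theorem isZero_colimit_mulSeq (F : EtCoh.Ab X) (a : ℕ → ℤ)
    (hloc : ∀ (U : X.Etale), IsAffine U.left → ∀ (t : F.obj.obj (op U)) (e : U.left) (k : ℕ),
      ∃ (V : X.Etale) (g : V ⟶ U) (l : ℕ), e ∈ Set.range g.left.base ∧ k ≤ l ∧
        (∏ i ∈ Finset.Ico k l, a i) • F.obj.map g.op t = 0) :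
    IsZero (colimit (mulSeq F a)) := by
  haveI := preservesFilteredColimitsOfSize_zero.{u}
  apply isZero_of_sections
  intro U hU s
  obtain ⟨k, t, rfl⟩ := sec_rep (mulSeq F a) (colimit.cocone _) (colimit.isColimit _) U
    (good_of_isAffine U hU) s
  apply eq_zero_of_locally
  intro e
  obtain ⟨V, g, l, he, hkl, hz⟩ := hloc U hU t e k
  refine ⟨V, g, he, ?_⟩
  have h1 := map_app_apply' (colimit.ι (mulSeq F a) k) g t
  have h2 : (mulSeq F a).map (homOfLE hkl) ≫ colimit.ι (mulSeq F a) l =
      colimit.ι (mulSeq F a) k := colimit.w (mulSeq F a) (homOfLE hkl)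
  have h3 : (colimit.ι (mulSeq F a) k).hom.app (op V) (F.obj.map g.op t) =
      (colimit.ι (mulSeq F a) l).hom.app (op V)
        (((mulSeq F a).map (homOfLE hkl)).hom.app (op V) (F.obj.map g.op t)) := by
    rw [← h2]
    rfl
  have h4 : ((mulSeq F a).map (homOfLE hkl)).hom.app (op V) (F.obj.map g.op t) = 0 := by
    exact hz
  exact h1.symm.trans (h3.trans ((congrArg _ h4).trans (map_zero _)))

theorem exists_prod_smul_eq_zero [CompactSpace X] [QuasiSeparatedSpace X] (F : EtCoh.Ab X)
    (a : ℕ → ℤ)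
    (hloc : ∀ (U : X.Etale), IsAffine U.left → ∀ (t : F.obj.obj (op U)) (e : U.left) (k : ℕ),
      ∃ (V : X.Etale) (g : V ⟶ U) (l : ℕ), e ∈ Set.range g.left.base ∧ k ≤ l ∧
        (∏ i ∈ Finset.Ico k l, a i) • F.obj.map g.op t = 0) (n : ℕ) (x : EtCoh.H X F n) :
    ∃ k : ℕ, (∏ i ∈ Finset.Ico 0 k, a i) • x = 0 := by
  haveI := preservesFilteredColimitsOfSize_zero.{u}
  haveI := hasExactColimitsOfShape_nat X
  have hz := isZero_colimit_mulSeq F a hloc
  haveI : Subsingleton (EtCoh.H X (colimit (mulSeq F a)) n) := Sheaf.subsingleton_H_of_isZero hz n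
  obtain ⟨k, f, hf⟩ := (elementwise n (mulSeq F a)).2 0 x (Subsingleton.elim _ _)
  refine ⟨k, ?_⟩
  rw [← push_zsmul_id (ZZ X) _ n x]
  exact hf

end Groth.Agent.H1.EtFiltH
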