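import Groth.Agent.Lib.Helper1.ConstrGenD
import Groth.Agent.Lib.Helper1.EtCartanC
import Groth.Agent.Lib.Helper1.EtMulSeq

/-!
# Compact objects in abelian étale sheaves (helper1)

`IsCpt P`: `Hom(P, -)` commutes with small filtered colimits, in elementwise form.
`j_{U!} ℤ/n` is compact for `U` qcqs; compact objects are closed under finite sums and cokernels;
constructible sheaves on a qcqs scheme are compact.
-/

set_option autoImplicit false
universe u v
open CategoryTheory CategoryTheory.Limits AlgebraicGeometry Opposite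

namespace Groth.Agent.H1.Cpt

open Groth.Agent.H1.ExtZero Groth.Agent.H1.ConstrGen Groth.Agent.H1.EtCartan

variable {X : Scheme.{u}}

/-- elementwise compactness w.r.t. small filtered colimits -/
structure IsCpt (P : EtCoh.Ab X) : Prop where
  surj : ∀ {J : Type u} [SmallCategory J] [IsFiltered J] (K : J ⥤ EtCoh.Ab X) (c : Cocone K)
    (_ : IsColimit c) (ψ : P ⟶ c.pt), ∃ (j : J) (ψ' : P ⟶ K.obj j), ψ' ≫ c.ι.app j = ψ
  inj : ∀ {J : Type u} [SmallCategory J] [IsFiltered J] (K : J ⥤ EtCoh.Ab X) (c : Cocone K)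
    (_ : IsColimit c) (j : J) (a : P ⟶ K.obj j), a ≫ c.ι.app j = 0 →
      ∃ (k : J) (f : j ⟶ k), a ≫ K.map f = 0

theorem IsCpt.of_iso {P P' : EtCoh.Ab X} (e : P ≅ P') (h : IsCpt P) : IsCpt P' := by
  constructor
  · intro J _ _ K c hc ψ
    obtain ⟨j, ψ', hψ'⟩ := h.surj K c hc (e.hom ≫ ψ)
    refine ⟨j, e.inv ≫ ψ', ?_⟩
    rw [Category.assoc, hψ', Iso.inv_hom_id_assoc]
  · intro J _ _ K c hc j a ha
    obtain ⟨k, f, hf⟩ := h.inj K c hc j (e.hom ≫ a) (by rw [Category.assoc, ha, comp_zero])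
    refine ⟨k, f, ?_⟩
    rw [Category.assoc] at hf
    have := congrArg (fun m => e.inv ≫ m) hf
    simpa using this

theorem Zn_hom_ext (n : ℕ) {G : AddCommGrpCat.{u + 1}} (a b : Zn.{u} n ⟶ G)
    (h : a ⟨1⟩ = b ⟨1⟩) : a = b := by
  ext ⟨x⟩
  obtain ⟨m, rfl⟩ := ZMod.intCast_surjective x
  have h1 : (⟨(m : ZMod n)⟩ : ULift.{u + 1} (ZMod n)) = m • (⟨1⟩ : ULift.{u + 1} (ZMod n)) := by
    apply ULift.ext
    change (m : ZMod n) = m • (1 : ZMod n)
    simp
  change a (⟨(m : ZMod n)⟩ : ULift.{u + 1} (ZMod n)) = b (⟨(m : ZMod n)⟩ : ULift.{u + 1} (ZMod n))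
  rw [h1, map_zsmul, map_zsmul, h]

theorem Zn_nsmul_one (n : ℕ) : n • (⟨1⟩ : Zn.{u} n) = 0 := by
  apply ULift.ext
  change n • (1 : ZMod n) = 0
  rw [nsmul_eq_mul, ZMod.natCast_self, zero_mul]

/-- `j_{U!} ℤ/n` is compact for `U` quasi-compact quasi-separated -/
theorem isCpt_ez (U : X.Etale) (hU : good U) (n : ℕ) : IsCpt (ez U (Zn.{u} n)) := by
  have hE := isExtZero_ez U (Zn.{u} n)
  constructor
  · intro J _ _ K c hc ψ
    obtain ⟨s, hs⟩ : ∃ s, s = ψ.hom.app (op U) (gen U (Zn.{u} n) ⟨1⟩) := ⟨_, rfl⟩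
    have hns : n • s = 0 := by
      rw [hs, ← map_nsmul, ← map_nsmul, Zn_nsmul_one, map_zero, map_zero]
    obtain ⟨j, t, ht⟩ := sec_rep K c hc U hU s
    have h0 : (c.ι.app j).hom.app (op U) (n • t) = (c.ι.app j).hom.app (op U) 0 := by
      rw [map_nsmul, ht, hns, map_zero]
    obtain ⟨k, f, hf⟩ := sec_eq K c hc U hU j (n • t) 0 h0
    rw [map_nsmul, map_zero] at hf
    refine ⟨k, secMap n _ hf, ?_⟩
    apply hE.hom_ext
    apply Zn_hom_ext
    change (c.ι.app k).hom.app (op U)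
      ((secMap n _ hf).hom.app (op U) (gen U (Zn.{u} n) ⟨1⟩)) = _
    rw [secMap_gen]
    have hw := congrArg (fun m => m.hom.app (op U) t) (c.w f)
    exact hw.trans (ht.trans hs)
  · intro J _ _ K c hc j a ha
    obtain ⟨t, ht⟩ : ∃ t, t = a.hom.app (op U) (gen U (Zn.{u} n) ⟨1⟩) := ⟨_, rfl⟩
    have h0 : (c.ι.app j).hom.app (op U) t = (c.ι.app j).hom.app (op U) 0 := by
      rw [map_zero, ht]
      exact congrArg (fun m => m.hom.app (op U) (gen U (Zn.{u} n) ⟨1⟩)) ha
    obtain ⟨k, f, hf⟩ := sec_eq K c hc U hU j t 0 h0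
    refine ⟨k, f, ?_⟩
    apply hE.hom_ext
    apply Zn_hom_ext
    change (K.map f).hom.app (op U) (a.hom.app (op U) (gen U (Zn.{u} n) ⟨1⟩)) = 0
    rw [← ht, hf, map_zero]

/-- the cokernel of a map between compact objects is compact -/
theorem isCpt_cokernel {P₁ P₀ : EtCoh.Ab X} (φ : P₁ ⟶ P₀) (h₁ : IsCpt P₁) (h₀ : IsCpt P₀) :
    IsCpt (cokernel φ) := by
  constructor
  · intro J _ _ K c hc ψ
    obtain ⟨j, ψ₀, hψ₀⟩ := h₀.surj K c hc (cokernel.π φ ≫ ψ)
    obtain ⟨k, f, hf⟩ := h₁.inj K c hc j (φ ≫ ψ₀) (by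
      rw [Category.assoc, hψ₀, cokernel.condition_assoc, zero_comp])
    refine ⟨k, cokernel.desc φ (ψ₀ ≫ K.map f) (by rw [← Category.assoc]; exact hf), ?_⟩
    rw [← cancel_epi (cokernel.π φ), cokernel.π_desc_assoc, Category.assoc, c.w f, hψ₀]
  · intro J _ _ K c hc j a ha
    obtain ⟨k, f, hf⟩ := h₀.inj K c hc j (cokernel.π φ ≫ a) (by
      rw [Category.assoc, ha, comp_zero])
    refine ⟨k, f, ?_⟩
    rw [← cancel_epi (cokernel.π φ), comp_zero, ← Category.assoc]
    exact hf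

/-- finite sums of compact objects are compact -/
theorem isCpt_biproduct {ι : Type v} [Finite ι] (f : ι → EtCoh.Ab X) (hf : ∀ i, IsCpt (f i)) :
    IsCpt (⨁ f) := by
  classical
  haveI := Fintype.ofFinite ι
  constructor
  · intro J _ _ K c hc ψ
    have key : ∀ s : Finset ι, ∃ j : J, ∀ i ∈ s, ∃ ψ' : f i ⟶ K.obj j,
        ψ' ≫ c.ι.app j = biproduct.ι f i ≫ ψ := by
      intro s
      induction s using Finset.induction_on with
      | empty => exact ⟨IsFiltered.nonempty.some, fun i hi => absurd hi (Finset.notMem_empty i)⟩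
      | insert i₀ s _ ih =>
        obtain ⟨j, hj⟩ := ih
        obtain ⟨j₀, ψ₀, hψ₀⟩ := (hf i₀).surj K c hc (biproduct.ι f i₀ ≫ ψ)
        refine ⟨IsFiltered.max j j₀, fun i hi => ?_⟩
        rcases Finset.mem_insert.mp hi with rfl | hi
        · exact ⟨ψ₀ ≫ K.map (IsFiltered.rightToMax j j₀), by rw [Category.assoc, c.w, hψ₀]⟩
        · obtain ⟨ψ', hψ'⟩ := hj i hi
          exact ⟨ψ' ≫ K.map (IsFiltered.leftToMax j j₀), by rw [Category.assoc, c.w, hψ']⟩
    obtain ⟨j, hj⟩ := key Finset.univ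
    choose ψ' hψ' using fun i => hj i (Finset.mem_univ i)
    refine ⟨j, biproduct.desc ψ', ?_⟩
    apply biproduct.hom_ext'
    intro i
    rw [biproduct.ι_desc_assoc, hψ']
  · intro J _ _ K c hc j a ha
    have key : ∀ s : Finset ι, ∃ (k : J) (g : j ⟶ k), ∀ i ∈ s,
        biproduct.ι f i ≫ a ≫ K.map g = 0 := by
      intro s
      induction s using Finset.induction_on with
      | empty => exact ⟨j, 𝟙 j, fun i hi => absurd hi (Finset.notMem_empty i)⟩
      | insert i₀ s _ ih =>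
        obtain ⟨k, g, hg⟩ := ih
        obtain ⟨k₀, g₀, hg₀⟩ := (hf i₀).inj K c hc j (biproduct.ι f i₀ ≫ a) (by
          rw [Category.assoc, ha, comp_zero])
        obtain ⟨m, p, p₀, hp⟩ := IsFiltered.span g g₀
        refine ⟨m, g ≫ p, fun i hi => ?_⟩
        rcases Finset.mem_insert.mp hi with rfl | hi
        · rw [hp, K.map_comp, ← Category.assoc, ← Category.assoc]
          rw [Category.assoc] at hg₀
          rw [Category.assoc (biproduct.ι f i) a, hg₀, zero_comp]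
        · rw [K.map_comp, ← Category.assoc, ← Category.assoc]
          rw [Category.assoc (biproduct.ι f i) a, hg i hi, zero_comp]
    obtain ⟨k, g, hg⟩ := key Finset.univ
    refine ⟨k, g, ?_⟩
    apply biproduct.hom_ext'
    intro i
    rw [comp_zero]
    exact hg i (Finset.mem_univ i)

theorem isCpt_PP (n : ℕ) {ι : Type v} [Finite ι] (U : ι → X.Etale) (hU : ∀ i, IsAffine (U i).left) :
    IsCpt (PP.{u} n U) :=
  isCpt_biproduct _ (fun i => isCpt_ez (U i) (Groth.Agent.H1.EtFiltH.good_of_isAffine (U i) (hU i)) n)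

/-- **constructible sheaves on a qcqs scheme are compact** -/
theorem isCpt_of_isConstructible [CompactSpace X] [QuasiSeparatedSpace X] (F : EtCoh.Ab X)
    (hF : EtPBC.IsConstructible F) : IsCpt F := by
  obtain ⟨N, hN, hFN⟩ := exists_killedBy F hF
  obtain ⟨a, b, V, U, hV, hU, φ, ⟨e⟩⟩ := exists_presentation N hN F hF hFN
  exact (isCpt_cokernel φ (isCpt_PP N V hV) (isCpt_PP N U hU)).of_iso e.symm

/-- compact objects give colimit-preserving `Hom` functors -/
theorem preservesColimitsOfShape_coyoneda (F : EtCoh.Ab X) (hF : IsCpt F)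
    (J : Type u) [SmallCategory J] [IsFiltered J] :
    PreservesColimitsOfShape J (coyoneda.obj (op F)) := by
  constructor
  intro K
  apply preservesColimit_of_preserves_colimit_cocone (colimit.isColimit K)
  apply Types.FilteredColimit.isColimitOf'
  · intro ψ
    obtain ⟨j, ψ', hψ'⟩ := hF.surj K (colimit.cocone K) (colimit.isColimit K) ψ
    exact ⟨j, ψ', hψ'.symm⟩
  · intro j a b hab
    obtain ⟨a', ha'⟩ : ∃ a' : F ⟶ K.obj j, a' = a := ⟨a, rfl⟩
    obtain ⟨b', hb'⟩ : ∃ b' : F ⟶ K.obj j, b' = b := ⟨b, rfl⟩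
    have hab' : a' ≫ (colimit.cocone K).ι.app j = b' ≫ (colimit.cocone K).ι.app j := by
      rw [ha', hb']
      exact hab
    have h0 : (a' - b') ≫ (colimit.cocone K).ι.app j = 0 := by
      rw [Preadditive.sub_comp, sub_eq_zero]
      exact hab'
    obtain ⟨k, f, hf⟩ := hF.inj K (colimit.cocone K) (colimit.isColimit K) j (a' - b') h0
    refine ⟨k, f, ?_⟩
    rw [Preadditive.sub_comp, sub_eq_zero] at hf
    rw [← ha', ← hb']
    exact hf

end Groth.Agent.H1.Cpt
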