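import Groth.Agent.Lib.Helper1.CptA

/-!
# Compact objects in abelian étale sheaves, universe-polymorphic index categories (helper1)

`IsCptG.{w, w'} P`: `Hom(P, -)` commutes with small filtered colimits, in elementwise form.
`j_{U!} ℤ/n` is compact for `U` qcqs; compact objects are closed under finite sums and cokernels;
constructible sheaves on a qcqs scheme are compact.
-/

set_option autoImplicit false
universe w w' u v
open CategoryTheory CategoryTheory.Limits AlgebraicGeometry Opposite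

namespace Groth.Agent.H1.CptG

open Groth.Agent.H1.ExtZero Groth.Agent.H1.ConstrGen Groth.Agent.H1.EtCartan Groth.Agent.H1.Cpt

variable {X : Scheme.{u}}

/-- elementwise compactness w.r.t. small filtered colimits -/
structure IsCptG (P : EtCoh.Ab X) : Prop where
  surj : ∀ {J : Type w} [Category.{w'} J] [IsFiltered J]
    [HasColimitsOfShape J AddCommGrpCat.{u + 1}]
    [PreservesColimitsOfShape J (forget AddCommGrpCat.{u + 1})] (K : J ⥤ EtCoh.Ab X) (c : Cocone K)
    (_ : IsColimit c) (ψ : P ⟶ c.pt), ∃ (j : J) (ψ' : P ⟶ K.obj j), ψ' ≫ c.ι.app j = ψ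
  inj : ∀ {J : Type w} [Category.{w'} J] [IsFiltered J]
    [HasColimitsOfShape J AddCommGrpCat.{u + 1}]
    [PreservesColimitsOfShape J (forget AddCommGrpCat.{u + 1})] (K : J ⥤ EtCoh.Ab X) (c : Cocone K)
    (_ : IsColimit c) (j : J) (a : P ⟶ K.obj j), a ≫ c.ι.app j = 0 →
      ∃ (k : J) (f : j ⟶ k), a ≫ K.map f = 0

theorem IsCptG.of_iso {P P' : EtCoh.Ab X} (e : P ≅ P') (h : IsCptG.{w, w'} P) :
    IsCptG.{w, w'} P' := by
  constructor
  · intro J _ _ _ _ K c hc ψ
    obtain ⟨j, ψ', hψ'⟩ := h.surj K c hc (e.hom ≫ ψ)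
    refine ⟨j, e.inv ≫ ψ', ?_⟩
    rw [Category.assoc, hψ', Iso.inv_hom_id_assoc]
  · intro J _ _ _ _ K c hc j a ha
    obtain ⟨k, f, hf⟩ := h.inj K c hc j (e.hom ≫ a) (by rw [Category.assoc, ha, comp_zero])
    refine ⟨k, f, ?_⟩
    rw [Category.assoc] at hf
    have := congrArg (fun m => e.inv ≫ m) hf
    simpa using this

/-- `j_{U!} ℤ/n` is compact for `U` quasi-compact quasi-separated -/
theorem isCptG_ez (U : X.Etale) (hU : good U) (n : ℕ) : IsCptG.{w, w'} (ez U (Zn.{u} n)) := by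
  have hE := isExtZero_ez U (Zn.{u} n)
  constructor
  · intro J _ _ _ _ K c hc ψ
    obtain ⟨s, hs⟩ : ∃ s, s = ψ.hom.app (op U) (gen U (Zn.{u} n) ⟨1⟩) := ⟨_, rfl⟩
    have hns : n • s = 0 := by
      rw [hs, ← map_nsmul, ← map_nsmul, Zn_nsmul_one, map_zero, map_zero]
    obtain ⟨j, t, ht⟩ := sec_rep K c hc U hU s
    have h0 : (c.ι.app j).hom.app (op U) (n • t) = (c.ι.app j).hom.app (op U) 0 := by
      rw [map_nsmul, ht, hns, map_zero]
    obtain ⟨k, f, hf⟩ := sec_eq K c hc U hU j (n • t) 0 h0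
    rw [map_nsmul, map_zero] at hf
    refine ⟨k, secMap n _ hf, ?_⟩
    apply hE.hom_ext
    apply Zn_hom_ext
    change (c.ι.app k).hom.app (op U)
      ((secMap n _ hf).hom.app (op U) (gen U (Zn.{u} n) ⟨1⟩)) = _
    rw [secMap_gen]
    have hw := congrArg (fun m => m.hom.app (op U) t) (c.w f)
    exact hw.trans (ht.trans hs)
  · intro J _ _ _ _ K c hc j a ha
    obtain ⟨t, ht⟩ : ∃ t, t = a.hom.app (op U) (gen U (Zn.{u} n) ⟨1⟩) := ⟨_, rfl⟩
    have h0 : (c.ι.app j).hom.app (op U) t = (c.ι.app j).hom.app (op U) 0 := by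
      rw [map_zero, ht]
      exact congrArg (fun m => m.hom.app (op U) (gen U (Zn.{u} n) ⟨1⟩)) ha
    obtain ⟨k, f, hf⟩ := sec_eq K c hc U hU j t 0 h0
    refine ⟨k, f, ?_⟩
    apply hE.hom_ext
    apply Zn_hom_ext
    change (K.map f).hom.app (op U) (a.hom.app (op U) (gen U (Zn.{u} n) ⟨1⟩)) = 0
    rw [← ht, hf, map_zero]

/-- the cokernel of a map between compact objects is compact -/
theorem isCptG_cokernel {P₁ P₀ : EtCoh.Ab X} (φ : P₁ ⟶ P₀) (h₁ : IsCptG.{w, w'} P₁)
    (h₀ : IsCptG.{w, w'} P₀) :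
    IsCptG.{w, w'} (cokernel φ) := by
  constructor
  · intro J _ _ _ _ K c hc ψ
    obtain ⟨j, ψ₀, hψ₀⟩ := h₀.surj K c hc (cokernel.π φ ≫ ψ)
    obtain ⟨k, f, hf⟩ := h₁.inj K c hc j (φ ≫ ψ₀) (by
      rw [Category.assoc, hψ₀, cokernel.condition_assoc, zero_comp])
    refine ⟨k, cokernel.desc φ (ψ₀ ≫ K.map f) (by rw [← Category.assoc]; exact hf), ?_⟩
    rw [← cancel_epi (cokernel.π φ), cokernel.π_desc_assoc, Category.assoc, c.w f, hψ₀]
  · intro J _ _ _ _ K c hc j a ha
    obtain ⟨k, f, hf⟩ := h₀.inj K c hc j (cokernel.π φ ≫ a) (by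
      rw [Category.assoc, ha, comp_zero])
    refine ⟨k, f, ?_⟩
    rw [← cancel_epi (cokernel.π φ), comp_zero, ← Category.assoc]
    exact hf

/-- finite sums of compact objects are compact -/
theorem isCptG_biproduct {ι : Type v} [Finite ι] (f : ι → EtCoh.Ab X)
    (hf : ∀ i, IsCptG.{w, w'} (f i)) :
    IsCptG.{w, w'} (⨁ f) := by
  classical
  haveI := Fintype.ofFinite ι
  constructor
  · intro J _ _ _ _ K c hc ψ
    have key : ∀ s : Finset ι, ∃ j : J, ∀ i ∈ s, ∃ ψ' : f i ⟶ K.obj j,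
        ψ' ≫ c.ι.app j = biproduct.ι f i ≫ ψ := by
      intro s
      induction s using Finset.induction_on with
      | empty => exact ⟨IsFiltered.nonempty.some, fun i hi => absurd hi (Finset.notMem_empty i)⟩
      | insert i₀ s _ ih =>
        obtain ⟨j, hj⟩ := ih
        obtain ⟨j₀, ψ₀, hψ₀⟩ := (hf i₀).surj K c hc (biproduct.ι f i₀ ≫ ψ)
        refine ⟨IsFiltered.max j j₀, fun i hi => ?_⟩
        rcases Finset.mem_insert.mp hi with rfl | hi
        · exact ⟨ψ₀ ≫ K.map (IsFiltered.rightToMax j j₀), by rw [Category.assoc, c.w, hψ₀]⟩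
        · obtain ⟨ψ', hψ'⟩ := hj i hi
          exact ⟨ψ' ≫ K.map (IsFiltered.leftToMax j j₀), by rw [Category.assoc, c.w, hψ']⟩
    obtain ⟨j, hj⟩ := key Finset.univ
    choose ψ' hψ' using fun i => hj i (Finset.mem_univ i)
    refine ⟨j, biproduct.desc ψ', ?_⟩
    apply biproduct.hom_ext'
    intro i
    rw [biproduct.ι_desc_assoc, hψ']
  · intro J _ _ _ _ K c hc j a ha
    have key : ∀ s : Finset ι, ∃ (k : J) (g : j ⟶ k), ∀ i ∈ s,
        biproduct.ι f i ≫ a ≫ K.map g = 0 := by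
      intro s
      induction s using Finset.induction_on with
      | empty => exact ⟨j, 𝟙 j, fun i hi => absurd hi (Finset.notMem_empty i)⟩
      | insert i₀ s _ ih =>
        obtain ⟨k, g, hg⟩ := ih
        obtain ⟨k₀, g₀, hg₀⟩ := (hf i₀).inj K c hc j (biproduct.ι f i₀ ≫ a) (by
          rw [Category.assoc, ha, comp_zero])
        obtain ⟨m, p, p₀, hp⟩ := IsFiltered.span g g₀
        refine ⟨m, g ≫ p, fun i hi => ?_⟩
        rcases Finset.mem_insert.mp hi with rfl | hi
        · rw [hp, K.map_comp, ← Category.assoc, ← Category.assoc]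
          rw [Category.assoc] at hg₀
          rw [Category.assoc (biproduct.ι f i) a, hg₀, zero_comp]
        · rw [K.map_comp, ← Category.assoc, ← Category.assoc]
          rw [Category.assoc (biproduct.ι f i) a, hg i hi, zero_comp]
    obtain ⟨k, g, hg⟩ := key Finset.univ
    refine ⟨k, g, ?_⟩
    apply biproduct.hom_ext'
    intro i
    rw [comp_zero]
    exact hg i (Finset.mem_univ i)

theorem isCptG_PP (n : ℕ) {ι : Type v} [Finite ι] (U : ι → X.Etale) (hU : ∀ i, IsAffine (U i).left) :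
    IsCptG.{w, w'} (PP.{u} n U) :=
  isCptG_biproduct _ (fun i => isCptG_ez (U i) (Groth.Agent.H1.EtFiltH.good_of_isAffine (U i) (hU i)) n)

/-- **constructible sheaves on a qcqs scheme are compact** -/
theorem isCptG_of_isConstructible [CompactSpace X] [QuasiSeparatedSpace X] (F : EtCoh.Ab X)
    (hF : EtPBC.IsConstructible F) : IsCptG.{w, w'} F := by
  obtain ⟨N, hN, hFN⟩ := exists_killedBy F hF
  obtain ⟨a, b, V, U, hV, hU, φ, ⟨e⟩⟩ := exists_presentation N hN F hF hFN
  exact (isCptG_cokernel φ (isCptG_PP N V hV) (isCptG_PP N U hU)).of_iso e.symm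

end Groth.Agent.H1.CptG
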