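import Groth.Agent.S0171

/-!
# Curves: sheaves with vanishing generic stalks are supported on closed points (helper1)
-/

set_option autoImplicit false
universe u
open CategoryTheory CategoryTheory.Limits AlgebraicGeometry Opposite

namespace Groth.Agent.H1.CurveSupp

/-- in a `T0` space of Krull dimension at most one, a non-closed point has no proper
generalization -/
theorem eq_of_specializes_of_not_isClosed {T : Type*} [TopologicalSpace T] [T0Space T]
    (hdim : topologicalKrullDim T ≤ 1) (y : T) (hy : ¬ IsClosed ({y} : Set T)) (y' : T)
    (h : y' ⤳ y) : y' = y := by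
  by_contra hne
  -- a point `z ≠ y` in the closure of `y`
  obtain ⟨z, hz, hzy⟩ : ∃ z, z ∈ closure ({y} : Set T) ∧ z ≠ y := by
    by_contra hcon
    push Not at hcon
    apply hy
    have : closure ({y} : Set T) = {y} := by
      apply Set.Subset.antisymm
      · intro z hz
        exact hcon z hz
      · exact subset_closure
    rw [← this]
    exact isClosed_closure
  have hyz : y ⤳ z := specializes_iff_mem_closure.2 hz
  let a : TopologicalSpace.IrreducibleCloseds T :=
    ⟨closure {z}, isIrreducible_singleton.closure, isClosed_closure⟩
  let b : TopologicalSpace.IrreducibleCloseds T :=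
    ⟨closure {y}, isIrreducible_singleton.closure, isClosed_closure⟩
  let c : TopologicalSpace.IrreducibleCloseds T :=
    ⟨closure {y'}, isIrreducible_singleton.closure, isClosed_closure⟩
  have hab : a < b := by
    refine lt_of_le_of_ne ?_ ?_
    · change closure {z} ⊆ closure {y}
      exact hyz.closure_subset
    · intro heq
      have h1 : closure ({z} : Set T) = closure {y} := congrArg (fun s : TopologicalSpace.IrreducibleCloseds T => (s : Set T)) heq
      have h2 : z ⤳ y := by
        rw [specializes_iff_mem_closure, h1]
        exact subset_closure rfl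
      exact hzy ((hyz.antisymm h2).eq).symm
  have hbc : b < c := by
    refine lt_of_le_of_ne ?_ ?_
    · change closure {y} ⊆ closure {y'}
      exact h.closure_subset
    · intro heq
      have h1 : closure ({y} : Set T) = closure {y'} := congrArg (fun s : TopologicalSpace.IrreducibleCloseds T => (s : Set T)) heq
      have h2 : y ⤳ y' := by
        rw [specializes_iff_mem_closure, h1]
        exact subset_closure rfl
      exact hne ((h.antisymm h2).eq)
  let p : LTSeries (TopologicalSpace.IrreducibleCloseds T) :=
    ((RelSeries.singleton _ a).snoc b (by simpa using hab)).snoc c (by simpa using hbc)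
  have hp : p.length = 2 := rfl
  have h1 := Order.LTSeries.length_le_krullDim p
  rw [hp] at h1
  have h2 : ((2 : ℕ) : WithBot ℕ∞) ≤ 1 := h1.trans hdim
  norm_cast at h2

/-- on a scheme of dimension at most one, an abelian sheaf whose stalks vanish at the geometric
points over points without proper generalizations is supported on closed points -/
theorem isClosed_of_mem_supp {C : Scheme.{u}} (hdim : topologicalKrullDim C ≤ 1) (F : EtCoh.Ab C)
    (hgen : ∀ (Ω : Type u) [Field Ω] [IsSepClosed Ω] (ξ : Spec (CommRingCat.of Ω) ⟶ C),
      (∀ x ∈ Set.range ξ.base, ∀ y : C, y ⤳ x → y = x) → IsZero ((EtCoh.stalk ξ).obj F))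
    (x : C) (hx : x ∈ EtPBC.supp F) : IsClosed ({x} : Set C) := by
  obtain ⟨Ω, _, _, ξ, hξ, hne⟩ := hx
  by_contra hcl
  apply hne
  apply hgen Ω ξ
  intro x' hx' y hy
  have : x' = x := by
    have h1 : x' ∈ Set.range ξ := hx'
    rw [hξ] at h1
    exact h1
  subst this
  exact eq_of_specializes_of_not_isClosed hdim x' hcl y hy

end Groth.Agent.H1.CurveSupp
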