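import Mathlib

set_option autoImplicit false
universe u

namespace Groth.Agent.H1.CycloRing

open Polynomial

theorem universal (n : ℕ) (hn : 0 < n) :
    ∃ (_ : IsDomain (AdjoinRoot (cyclotomic n ℤ))),
      IsPrimitiveRoot (AdjoinRoot.root (cyclotomic n ℤ)) n := by
  have hirr : Irreducible (cyclotomic n ℤ) := cyclotomic.irreducible hn
  have hdom : IsDomain (AdjoinRoot (cyclotomic n ℤ)) := AdjoinRoot.isDomain_of_prime hirr.prime
  refine ⟨hdom, ?_⟩
  have hdeg : (cyclotomic n ℤ).degree ≠ 0 := by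
    rw [degree_cyclotomic]
    exact_mod_cast (Nat.totient_pos.2 hn).ne'
  have hinj : Function.Injective (AdjoinRoot.of (cyclotomic n ℤ)) :=
    AdjoinRoot.of.injective_of_degree_ne_zero hdeg
  have hchar : CharZero (AdjoinRoot (cyclotomic n ℤ)) :=
    charZero_of_injective_ringHom hinj
  have hroot : IsRoot (cyclotomic n (AdjoinRoot (cyclotomic n ℤ))) (AdjoinRoot.root _) := by
    have := AdjoinRoot.isRoot_root (cyclotomic n ℤ)
    rwa [map_cyclotomic] at this
  exact (isRoot_cyclotomic_iff_charZero hn).1 hroot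

variable {R : Type u} [CommRing R] (n : ℕ) (hn : 0 < n) (ζ : R)
  (hζ : aeval ζ (cyclotomic n ℤ) = 0)

/-- the ring map from the universal ring -/
noncomputable def φ : AdjoinRoot (cyclotomic n ℤ) →+* R :=
  AdjoinRoot.lift (Int.castRingHom R) ζ (by
    rw [← hζ, aeval_def, algebraMap_int_eq])

theorem φ_root : φ n ζ hζ (AdjoinRoot.root _) = ζ := AdjoinRoot.lift_root _

include hn hζ in
theorem pow_eq_one : ζ ^ n = 1 := by
  obtain ⟨_, h⟩ := universal n hn
  have := congrArg (φ n ζ hζ) h.pow_eq_one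
  rwa [map_pow, φ_root, map_one] at this

include hn hζ in
theorem isUnit_one_sub_pow (hnR : IsUnit (n : R)) (k : ℕ) (hk0 : 0 < k) (hk : k < n) :
    IsUnit (1 - ζ ^ k) := by
  obtain ⟨_, h⟩ := universal n hn
  obtain ⟨n', rfl⟩ : ∃ n', n = n' + 1 := ⟨n - 1, by omega⟩
  obtain ⟨k', rfl⟩ : ∃ k', k = k' + 1 := ⟨k - 1, by omega⟩
  have h1 := congrArg (φ (n' + 1) ζ hζ) h.prod_one_sub_pow_eq_order
  rw [map_prod] at h1
  simp only [map_sub, map_one, map_pow, φ_root, map_add, map_natCast] at h1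
  have h2 : IsUnit (∏ x ∈ Finset.range n', (1 - ζ ^ (x + 1))) := by
    rw [h1]
    exact_mod_cast hnR
  exact isUnit_of_dvd_unit (Finset.dvd_prod_of_mem (fun x => 1 - ζ ^ (x + 1))
    (Finset.mem_range.2 (by omega : k' < n'))) h2

include hn hζ in
theorem geom_sum_pow_eq_zero (hnR : IsUnit (n : R)) (k : ℕ) (hk0 : 0 < k) (hk : k < n) :
    ∑ j ∈ Finset.range n, (ζ ^ k) ^ j = 0 := by
  have h1 : (ζ ^ k - 1) * ∑ j ∈ Finset.range n, (ζ ^ k) ^ j = 0 := by
    rw [mul_geom_sum, ← pow_mul, mul_comm, pow_mul, pow_eq_one n hn ζ hζ, one_pow, sub_self]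
  have h2 : IsUnit (ζ ^ k - 1) := by
    have := (isUnit_one_sub_pow n hn ζ hζ hnR k hk0 hk).neg
    rwa [neg_sub] at this
  exact (h2.mul_right_eq_zero).1 h1

include hn hζ in
theorem exists_partition (hnR : IsUnit (n : R)) (s : R) (hs : s ^ n = 1) :
    ∃ e : ℕ → R, ∑ j ∈ Finset.range n, e j = n ∧ ∀ j, (s * ζ ^ j - 1) * e j = 0 := by
  refine ⟨fun j => ∑ k ∈ Finset.range n, (s * ζ ^ j) ^ k, ?_, ?_⟩
  · rw [Finset.sum_comm]
    have h1 : ∀ k ∈ Finset.range n, ∑ j ∈ Finset.range n, (s * ζ ^ j) ^ k =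
        s ^ k * ∑ j ∈ Finset.range n, (ζ ^ k) ^ j := by
      intro k _
      rw [Finset.mul_sum]
      refine Finset.sum_congr rfl (fun j _ => ?_)
      rw [mul_pow, ← pow_mul, ← pow_mul, mul_comm j k]
    rw [Finset.sum_congr rfl h1, Finset.sum_eq_single 0]
    · simp
    · intro k hk hk0
      rw [geom_sum_pow_eq_zero n hn ζ hζ hnR k (Nat.pos_of_ne_zero hk0) (Finset.mem_range.1 hk),
        mul_zero]
    · intro h
      exact absurd (Finset.mem_range.2 hn) h
  · intro j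
    change (s * ζ ^ j - 1) * ∑ k ∈ Finset.range n, (s * ζ ^ j) ^ k = 0
    rw [mul_geom_sum, mul_pow, hs, one_mul, ← pow_mul, mul_comm j n, pow_mul,
      pow_eq_one n hn ζ hζ, one_pow, sub_self]

end Groth.Agent.H1.CycloRing
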