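import Groth.Agent.Lib.Helper25.DProd

/-!
Helper library (helper1): coproducts in the derived category are computed termwise on complexes
(when every complex has a K-injective resolution): `Q (∐ K)` is a coproduct of the `Q (K t)`.
-/

set_option autoImplicit false
universe w' w v u
open CategoryTheory CategoryTheory.Limits

namespace Groth.Agent.H1.DCoprod

open CochainComplex DerivedCategory Groth.Agent.Lib.Helper25.DProd

variable {A : Type u} [Category.{v} A] [Abelian A]

section

variable {T : Type w'} [HasColimitsOfShape (Discrete T) A] (K : T → CochainComplex A ℤ)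

/-- the coproduct of complexes is computed termwise -/
noncomputable def isColimitEval (n : ℤ) :
    IsColimit ((HomologicalComplex.eval A (ComplexShape.up ℤ) n).mapCocone
      (colimit.cocone (Discrete.functor K))) :=
  isColimitOfPreserves (HomologicalComplex.eval A (ComplexShape.up ℤ) n)
    (colimit.isColimit (Discrete.functor K))

lemma hom_ext_X (n : ℤ) {Y : A} (f g : (∐ K).X n ⟶ Y)
    (h : ∀ t, (Sigma.ι K t).f n ≫ f = (Sigma.ι K t).f n ≫ g) : f = g := by
  apply (isColimitEval K n).hom_ext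
  rintro ⟨t⟩
  exact h t

/-- descent in degree `n` -/
noncomputable def descX (n : ℤ) {Y : A} (f : ∀ t, (K t).X n ⟶ Y) : (∐ K).X n ⟶ Y :=
  (isColimitEval K n).desc (Cocone.mk Y (Discrete.natTrans fun ⟨t⟩ => f t))

@[reassoc (attr := simp)]
lemma ι_descX (n : ℤ) {Y : A} (f : ∀ t, (K t).X n ⟶ Y) (t : T) :
    (Sigma.ι K t).f n ≫ descX K n f = f t :=
  (isColimitEval K n).fac (Cocone.mk Y (Discrete.natTrans fun ⟨t⟩ => f t)) ⟨t⟩

/-- a map from a coproduct of complexes which is null-homotopic on each summand is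
null-homotopic -/
noncomputable def homotopyZeroOfSigma {L : CochainComplex A ℤ} (f : ∐ K ⟶ L)
    (H : ∀ t, Homotopy (Sigma.ι K t ≫ f) 0) : Homotopy f 0 where
  hom n m := descX K n (fun t => (H t).hom n m)
  zero n m hnm := by
    apply hom_ext_X
    intro t
    rw [ι_descX, comp_zero]
    exact (H t).zero n m hnm
  comm n := by
    apply hom_ext_X
    intro t
    have h1 := (H t).comm n
    rw [dNext_eq _ (show (ComplexShape.up ℤ).Rel n (n + 1) from rfl),
      prevD_eq _ (show (ComplexShape.up ℤ).Rel (n - 1) n by simp)] at h1 ⊢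
    simp only [HomologicalComplex.zero_f, add_zero, HomologicalComplex.comp_f] at h1 ⊢
    rw [Preadditive.comp_add, ← Category.assoc, HomologicalComplex.Hom.comm, Category.assoc,
      ι_descX, ι_descX_assoc]
    exact h1

/-- the coproduct of complexes in degree `n`, as a colimit cofan -/
noncomputable def isColimitCofanX (n : ℤ) :
    IsColimit (Cofan.mk ((∐ K).X n) (fun t => (Sigma.ι K t).f n)) :=
  Cofan.IsColimit.mk _ (fun s => descX K n s.inj) (fun s t => ι_descX K n s.inj t)
    (fun s m hm => hom_ext_X K n _ _ (fun t => (hm t).trans (ι_descX K n s.inj t).symm))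

lemma isStrictlyGE_sigma (a : ℤ) (h : ∀ t, (K t).IsStrictlyGE a) : (∐ K).IsStrictlyGE a := by
  rw [CochainComplex.isStrictlyGE_iff]
  intro n hn
  rw [IsZero.iff_id_eq_zero]
  apply hom_ext_X
  intro t
  exact ((K t).isZero_of_isStrictlyGE a n hn).eq_of_src _ _

end

section derived

variable [HasDerivedCategory.{w} A]
  (hKinj : ∀ K : CochainComplex A ℤ, ∃ (I : CochainComplex A ℤ) (f : K ⟶ I),
    I.IsKInjective ∧ QuasiIso f)
  {T : Type w'} [HasColimitsOfShape (Discrete T) A] (K : T → CochainComplex A ℤ)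

include hKinj

/-- every object of the derived category is `Q` of a K-injective complex -/
lemma exists_kInjective_iso (Z : DerivedCategory A) :
    ∃ (I : CochainComplex A ℤ), I.IsKInjective ∧ Nonempty (Z ≅ Q.obj I) := by
  obtain ⟨I, f, hI, hf⟩ := hKinj (Q.objPreimage Z)
  have : IsIso (Q.map f) := by rw [isIso_Q_map_iff_quasiIso]; exact hf
  exact ⟨I, hI, ⟨(Q.objObjPreimageIso Z).symm ≪≫ asIso (Q.map f)⟩⟩

/-- the universal property of `Q (∐ K)` -/
lemma existsUnique_desc (Z : DerivedCategory A) (p : ∀ t, Q.obj (K t) ⟶ Z) :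
    ∃! m : Q.obj (∐ K) ⟶ Z, ∀ t, Q.map (Sigma.ι K t) ≫ m = p t := by
  obtain ⟨I, hI, ⟨eZ⟩⟩ := exists_kInjective_iso hKinj Z
  have hφ : ∀ t, ∃ φ : K t ⟶ I, Q.map φ = p t ≫ eZ.hom := fun t => exists_Q_map_eq _
  choose φ hφ using hφ
  refine ⟨Q.map (Sigma.desc φ) ≫ eZ.inv, fun t => ?_, fun m hm => ?_⟩
  · rw [← Category.assoc, ← Q.map_comp, Sigma.ι_desc, hφ, Category.assoc, Iso.hom_inv_id,
      Category.comp_id]
  · obtain ⟨μ, hμ⟩ := exists_Q_map_eq (I := I) (m ≫ eZ.hom)
    have h1 : ∀ t, Nonempty (Homotopy (Sigma.ι K t ≫ (μ - Sigma.desc φ)) 0) := by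
      intro t
      have h2 : Q.map (Sigma.ι K t ≫ μ) = Q.map (Sigma.ι K t ≫ Sigma.desc φ) := by
        rw [Q.map_comp, hμ, ← Category.assoc, hm t, Sigma.ι_desc, hφ]
      obtain ⟨h3⟩ := homotopy_of_Q_map_eq _ _ h2
      rw [Preadditive.comp_sub]
      exact ⟨Homotopy.equivSubZero h3⟩
    have h4 : Homotopy (μ - Sigma.desc φ) 0 := homotopyZeroOfSigma K _ (fun t => (h1 t).some)
    have h5 : Q.map μ = Q.map (Sigma.desc φ) :=
      DerivedCategory.Q_map_eq_of_homotopy A (Homotopy.equivSubZero.symm h4)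
    rw [← h5, hμ, Category.assoc, Iso.hom_inv_id, Category.comp_id]

/-- `Q (∐ K)` is a coproduct of the `Q (K t)` -/
noncomputable def isColimitCofanQ :
    IsColimit (Cofan.mk (Q.obj (∐ K)) (fun t => Q.map (Sigma.ι K t))) :=
  Cofan.IsColimit.mk _ (fun s => (existsUnique_desc hKinj K s.pt s.inj).choose)
    (fun s t => (existsUnique_desc hKinj K s.pt s.inj).choose_spec.1 t)
    (fun s m hm => (existsUnique_desc hKinj K s.pt s.inj).choose_spec.2 m hm)

end derived

end Groth.Agent.H1.DCoprod
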