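import Mathlib

/-!
# Images of nowhere dense closed sets under finite étale morphisms (helper1)
-/

set_option autoImplicit false
universe u
open CategoryTheory CategoryTheory.Limits AlgebraicGeometry TopologicalSpace Opposite

namespace Groth.Agent.H1.FinEtNowhere

/-- A finite `A`-algebra generated by `d` elements has at most `d` ring homomorphisms to a field
over a given homomorphism from `A`. -/
theorem not_injective_ringHom {A B K : Type*} [CommRing A] [CommRing B] [Field K] (τ : A →+* B)
    (ψ : A →+* K) {d : ℕ} (b : Fin d → B) (hb : ∀ x : B, ∃ c : Fin d → A, x = ∑ i, τ (c i) * b i)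
    (φ : Fin (d + 1) → (B →+* K)) (hφ : ∀ j, (φ j).comp τ = ψ) : ¬ Function.Injective φ := by
  intro hinj
  -- the `d + 1` vectors `(φ j (b i))_i` in `K ^ d` are linearly dependent
  have hdep : ¬ LinearIndependent K (fun j : Fin (d + 1) => fun i : Fin d => φ j (b i)) := by
    intro hli
    have := hli.fintype_card_le_finrank
    simp at this
  rw [Fintype.linearIndependent_iff] at hdep
  push Not at hdep
  obtain ⟨c, hc, j₀, hj₀⟩ := hdep
  -- hence the homomorphisms are linearly dependent as functions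
  have hli := linearIndependent_monoidHom B K
  have hli' : LinearIndependent K (fun j : Fin (d + 1) => ((φ j : B →* K) : B → K)) :=
    hli.comp (fun j => (φ j : B →* K)) (by
      intro j j' h
      apply hinj
      ext x
      exact congrArg (fun f : B →* K => f x) h)
  rw [Fintype.linearIndependent_iff] at hli'
  refine hj₀ (hli' c ?_ j₀)
  funext x
  obtain ⟨a, rfl⟩ := hb x
  have hcomp : ∀ j (y : A), φ j (τ y) = ψ y := fun j y => by rw [← hφ j]; rfl
  simp only [Finset.sum_apply, Pi.smul_apply, smul_eq_mul, Pi.zero_apply, MonoidHom.coe_coe,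
    map_sum, map_mul, hcomp]
  have h2 : ∀ i, ∑ j, c j * φ j (b i) = 0 := fun i => by
    have := congrFun hc i
    simpa using this
  calc ∑ j, c j * ∑ i, ψ (a i) * φ j (b i)
      = ∑ i, ψ (a i) * ∑ j, c j * φ j (b i) := by
        simp only [Finset.mul_sum]
        rw [Finset.sum_comm]
        refine Finset.sum_congr rfl fun i _ => Finset.sum_congr rfl fun j _ => by ring
    _ = 0 := by simp [h2]


/-- Bounded number of lifts of field valued points along a finite morphism of affine schemes. -/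
theorem exists_bound_lifts_affine {Y Z : Scheme.{u}} [IsAffine Y] [IsAffine Z] (t : Y ⟶ Z)
    [IsFinite t] : ∃ d : ℕ, ∀ (K : Type u) [Field K] (g : Spec (.of K) ⟶ Z)
      (ℓ : Fin (d + 1) → (Spec (.of K) ⟶ Y)), (∀ j, ℓ j ≫ t = g) → ¬ Function.Injective ℓ := by
  have hfin : t.appTop.hom.Finite :=
    ((HasAffineProperty.iff_of_isAffine (P := @IsFinite)).1 (inferInstance : IsFinite t)).2
  letI := t.appTop.hom.toAlgebra
  haveI : Module.Finite Γ(Z, ⊤) Γ(Y, ⊤) := hfin
  obtain ⟨d, b, hb⟩ := Module.Finite.exists_fin (R := Γ(Z, ⊤)) (M := Γ(Y, ⊤))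
  refine ⟨d, fun K _ g ℓ hℓ hinj => ?_⟩
  refine not_injective_ringHom t.appTop.hom (g.appTop ≫ (Scheme.ΓSpecIso (.of K)).hom).hom b ?_
    (fun j => ((ℓ j).appTop ≫ (Scheme.ΓSpecIso (.of K)).hom).hom) ?_ ?_
  · intro x
    have hx : x ∈ Submodule.span Γ(Z, ⊤) (Set.range b) := by rw [hb]; trivial
    obtain ⟨c, hc⟩ := (Submodule.mem_span_range_iff_exists_fun _).1 hx
    refine ⟨c, ?_⟩
    rw [← hc]
    rfl
  · intro j
    rw [← hℓ j, Scheme.Hom.comp_appTop]
    rfl
  · intro j j' h
    apply hinj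
    apply ext_of_isAffine
    have h' : (ℓ j).appTop ≫ (Scheme.ΓSpecIso (.of K)).hom =
        (ℓ j').appTop ≫ (Scheme.ΓSpecIso (.of K)).hom := CommRingCat.hom_ext h
    exact (cancel_mono _).1 h'

/-- Bounded number of lifts of field valued points, landing in a given affine open, along a finite
morphism. -/
theorem exists_bound_lifts {R U : Scheme.{u}} (t : R ⟶ U) [IsFinite t] (O : U.Opens)
    (hO : IsAffineOpen O) : ∃ d : ℕ, ∀ (K : Type u) [Field K] (g : Spec (.of K) ⟶ U)
      (ℓ : Fin (d + 1) → (Spec (.of K) ⟶ R)), Set.range g ⊆ (O : Set U) →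
        (∀ j, ℓ j ≫ t = g) → ¬ Function.Injective ℓ := by
  haveI : IsAffine O.toScheme := hO
  haveI : IsAffine (t ⁻¹ᵁ O).toScheme := hO.preimage t
  obtain ⟨d, hd⟩ := exists_bound_lifts_affine (t ∣_ O)
  refine ⟨d, fun K _ g ℓ hg hℓ hinj => ?_⟩
  have hg' : Set.range g ⊆ Set.range O.ι := by rw [Scheme.Opens.range_ι]; exact hg
  have hℓ' : ∀ j, Set.range (ℓ j) ⊆ Set.range (t ⁻¹ᵁ O).ι := by
    intro j
    rw [Scheme.Opens.range_ι]
    rintro _ ⟨y, rfl⟩
    change t (ℓ j y) ∈ O
    rw [← Scheme.Hom.comp_apply, hℓ j]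
    exact hg ⟨y, rfl⟩
  let g' : Spec (.of K) ⟶ O.toScheme := IsOpenImmersion.lift O.ι g hg'
  let ℓ' : Fin (d + 1) → (Spec (.of K) ⟶ (t ⁻¹ᵁ O).toScheme) := fun j =>
    IsOpenImmersion.lift (t ⁻¹ᵁ O).ι (ℓ j) (hℓ' j)
  refine hd K g' ℓ' ?_ ?_
  · intro j
    rw [← cancel_mono O.ι, Category.assoc, morphismRestrict_ι, IsOpenImmersion.lift_fac_assoc,
      IsOpenImmersion.lift_fac, hℓ j]
  · intro j j' h
    apply hinj
    have := congrArg (fun f => f ≫ (t ⁻¹ᵁ O).ι) h
    simpa only [ℓ', IsOpenImmersion.lift_fac] using this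


/-- Key induction: if a nonempty open lies in the image of a nowhere dense closed set under a finite
étale morphism, there are field valued points of that open with arbitrarily many lifts. -/
theorem exists_many_lifts (k : ℕ) : ∀ {R U : Scheme.{u}} (t : R ⟶ U) [IsFinite t] [Etale t]
    (T : Set R), IsClosed T → interior T = ∅ → ∀ (O : U.Opens), (O : Set U).Nonempty →
    (O : Set U) ⊆ t '' T →
    ∃ (K : Type u) (_ : Field K) (g : Spec (.of K) ⟶ U) (ℓ : Fin k → (Spec (.of K) ⟶ R)),
      (∀ i, ℓ i ≫ t = g) ∧ Function.Injective ℓ ∧ Set.range g ⊆ (O : Set U) := by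
  induction k with
  | zero =>
    intro R U t _ _ T _ _ O hO _
    obtain ⟨u, hu⟩ := hO
    refine ⟨U.residueField u, inferInstance, U.fromSpecResidueField u, Fin.elim0,
      fun i => i.elim0, fun i => i.elim0, ?_⟩
    rw [Scheme.range_fromSpecResidueField]
    exact Set.singleton_subset_iff.2 hu
  | succ k ih =>
    intro R U t _ _ T hT hT' O hO hOT
    have hΔo : IsOpen (Set.range (pullback.diagonal t)) :=
      (pullback.diagonal t).isOpenEmbedding.isOpen_range
    have hΔc : IsClosed (Set.range (pullback.diagonal t)) :=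
      (pullback.diagonal t).isClosedEmbedding.isClosed_range
    let R'o : (pullback t t).Opens := ⟨(Set.range (pullback.diagonal t))ᶜ, hΔc.isOpen_compl⟩
    haveI : IsClosedImmersion R'o.ι := .of_isPreimmersion R'o.ι (by
      rw [Scheme.Opens.range_ι]; exact hΔo.isClosed_compl)
    let t' : R'o.toScheme ⟶ R := R'o.ι ≫ pullback.fst t t
    let q : R'o.toScheme ⟶ R := R'o.ι ≫ pullback.snd t t
    have hqopen : IsOpenMap q := q.isOpenMap
    have hT'c : IsClosed (q ⁻¹' T) := hT.preimage q.continuous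
    have hT'i : interior (q ⁻¹' T) = ∅ := by
      rw [Set.eq_empty_iff_forall_notMem]
      intro x hx
      have h1 : q x ∈ interior (q '' (q ⁻¹' T)) := hqopen.image_interior_subset _ ⟨x, hx, rfl⟩
      have h2 : q x ∈ interior T := interior_mono (Set.image_preimage_subset _ _) h1
      rw [hT'] at h2
      exact h2
    let O' : R.Opens := ⟨((t ⁻¹ᵁ O : R.Opens) : Set R) ∩ Tᶜ, (t ⁻¹ᵁ O).isOpen.inter hT.isOpen_compl⟩
    have hO'ne : (O' : Set R).Nonempty := by
      by_contra hne
      rw [Set.not_nonempty_iff_eq_empty] at hne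
      obtain ⟨u, hu⟩ := hO
      obtain ⟨r, -, hr⟩ := hOT hu
      have hsub : ((t ⁻¹ᵁ O : R.Opens) : Set R) ⊆ T := by
        intro y hy
        by_contra hyT
        have : y ∈ (O' : Set R) := ⟨hy, hyT⟩
        rw [hne] at this
        exact this
      have h1 : r ∈ interior T := interior_maximal hsub (t ⁻¹ᵁ O).isOpen (by
        change t r ∈ O
        rw [hr]; exact hu)
      rw [hT'] at h1
      exact h1
    have hO'T : (O' : Set R) ⊆ t' '' (q ⁻¹' T) := by
      rintro r ⟨hrO, hrT⟩
      obtain ⟨r₂, hr₂T, hr₂⟩ := hOT (show t r ∈ (O : Set U) from hrO)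
      obtain ⟨z, hz1, hz2⟩ := Scheme.Pullback.exists_preimage_pullback (f := t) (g := t) r r₂ hr₂.symm
      have hz : z ∉ Set.range (pullback.diagonal t) := by
        rintro ⟨r', rfl⟩
        rw [← Scheme.Hom.comp_apply, pullback.diagonal_fst] at hz1
        rw [← Scheme.Hom.comp_apply, pullback.diagonal_snd] at hz2
        apply hrT
        have : r = r₂ := hz1.symm.trans hz2
        rw [this]; exact hr₂T
      refine ⟨⟨z, hz⟩, ?_, ?_⟩
      · change pullback.snd t t z ∈ T
        rw [hz2]; exact hr₂T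
      · exact hz1
    obtain ⟨K, hK, g', ℓ', h1, hinj, hrange⟩ := ih t' (q ⁻¹' T) hT'c hT'i O' hO'ne hO'T
    refine ⟨K, hK, g' ≫ t, Fin.cons g' (fun i => ℓ' i ≫ q), ?_, ?_, ?_⟩
    · intro i
      refine Fin.cases ?_ (fun i => ?_) i
      · rfl
      · change (ℓ' i ≫ R'o.ι ≫ pullback.snd t t) ≫ t = g' ≫ t
        rw [← h1 i]
        simp only [t', Category.assoc, pullback.condition]
    · rw [Fin.cons_injective_iff]
      have hι : ∀ i, (ℓ' i ≫ R'o.ι) ≫ pullback.fst t t = g' := fun i => by
        rw [Category.assoc]; exact h1 i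
      refine ⟨?_, ?_⟩
      · rintro ⟨i, hi⟩
        have hi' : (ℓ' i ≫ R'o.ι) ≫ pullback.snd t t = g' := by rw [Category.assoc]; exact hi
        have heq : ℓ' i ≫ R'o.ι = g' ≫ pullback.diagonal t := by
          apply pullback.hom_ext
          · rw [hι i, Category.assoc, pullback.diagonal_fst, Category.comp_id]
          · rw [hi', Category.assoc, pullback.diagonal_snd, Category.comp_id]
        obtain ⟨y⟩ : Nonempty (Spec (.of K)) := inferInstance
        have hy1 : (ℓ' i ≫ R'o.ι) y ∈ Set.range R'o.ι := ⟨ℓ' i y, rfl⟩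
        rw [Scheme.Opens.range_ι] at hy1
        apply hy1
        rw [heq]
        exact ⟨g' y, rfl⟩
      · intro i j hij
        apply hinj
        rw [← cancel_mono R'o.ι]
        apply pullback.hom_ext
        · rw [hι i, hι j]
        · simpa only [Category.assoc] using hij
    · rintro _ ⟨y, rfl⟩
      exact (hrange ⟨y, rfl⟩).1

/-- **The image of a nowhere dense closed set under a finite étale morphism is nowhere dense.** -/
theorem interior_image_eq_empty {R U : Scheme.{u}} (t : R ⟶ U) [IsFinite t] [Etale t]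
    (T : Set R) (hT : IsClosed T) (hT' : interior T = ∅) : interior (t '' T) = ∅ := by
  rw [Set.eq_empty_iff_forall_notMem]
  intro u hu
  obtain ⟨_, ⟨O, hO, rfl⟩, huO, hOsub⟩ :=
    U.isBasis_affineOpens.exists_subset_of_mem_open hu isOpen_interior
  obtain ⟨d, hd⟩ := exists_bound_lifts t O hO
  obtain ⟨K, hK, g, ℓ, h1, hinj, hrange⟩ := exists_many_lifts (d + 1) t T hT hT' O ⟨u, huO⟩
    (hOsub.trans interior_subset)
  exact hd K g ℓ hrange h1 hinj

end Groth.Agent.H1.FinEtNowhere
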