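import Mathlib

set_option autoImplicit false
universe u
open CategoryTheory CategoryTheory.Limits AlgebraicGeometry Topology TopologicalSpace

namespace Groth.Agent.H1.SpecBaire

section Baire

open PrimeSpectrum in
/-- A Baire type property of prime spectra: if countably many open sets have no common point in a
nonempty open `O`, one of them misses a nonempty open subset of `O`. -/
theorem primeSpectrum_baire {A : Type*} [CommRing A] (W : ℕ → Set (PrimeSpectrum A))
    (hW : ∀ n, IsOpen (W n)) (O : Set (PrimeSpectrum A)) (hO : IsOpen O) (hne : O.Nonempty)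
    (h : ∀ x ∈ O, ∃ n, x ∉ W n) :
    ∃ O' : Set (PrimeSpectrum A), O' ⊆ O ∧ IsOpen O' ∧ O'.Nonempty ∧ ∃ n, Disjoint O' (W n) := by
  by_contra hcon
  push Not at hcon
  have hstep : ∀ (n : ℕ) (f : A), (basicOpen f : Set (PrimeSpectrum A)).Nonempty →
      (basicOpen f : Set (PrimeSpectrum A)) ⊆ O →
      ∃ f' : A, (basicOpen f' : Set (PrimeSpectrum A)).Nonempty ∧
        (basicOpen f' : Set (PrimeSpectrum A)) ⊆ (basicOpen f : Set (PrimeSpectrum A)) ∩ W n := by
    intro n f hfne hfO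
    have h1 := hcon _ hfO (basicOpen f).isOpen hfne n
    rw [Set.not_disjoint_iff] at h1
    obtain ⟨x, hx1, hx2⟩ := h1
    obtain ⟨_, ⟨f', rfl⟩, hxf', hsub⟩ := isTopologicalBasis_basic_opens.exists_subset_of_mem_open
      (show x ∈ (basicOpen f : Set (PrimeSpectrum A)) ∩ W n from ⟨hx1, hx2⟩)
      ((basicOpen f).isOpen.inter (hW n))
    exact ⟨f', ⟨x, hxf'⟩, hsub⟩
  obtain ⟨x₀, hx₀⟩ := hne
  obtain ⟨_, ⟨f₀, rfl⟩, hx₀f, hsub₀⟩ :=
    isTopologicalBasis_basic_opens.exists_subset_of_mem_open hx₀ hO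
  choose! nxt hnxt1 hnxt2 using hstep
  let F : ℕ → A := fun n => Nat.rec f₀ (fun n f => nxt n f) n
  have hF0 : F 0 = f₀ := rfl
  have hFs : ∀ n, F (n + 1) = nxt n (F n) := fun n => rfl
  have hF : ∀ n, (basicOpen (F n) : Set (PrimeSpectrum A)).Nonempty ∧
      (basicOpen (F n) : Set (PrimeSpectrum A)) ⊆ O := by
    intro n
    induction n with
    | zero => exact ⟨⟨x₀, hx₀f⟩, hsub₀⟩
    | succ n ih =>
      rw [hFs]
      exact ⟨hnxt1 n (F n) ih.1 ih.2,
        (hnxt2 n (F n) ih.1 ih.2).trans (Set.inter_subset_left.trans ih.2)⟩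
  have hFW : ∀ n, (basicOpen (F (n + 1)) : Set (PrimeSpectrum A)) ⊆ W n := fun n => by
    rw [hFs]
    exact (hnxt2 n (F n) (hF n).1 (hF n).2).trans Set.inter_subset_right
  have hFanti : ∀ n, (basicOpen (F (n + 1)) : Set (PrimeSpectrum A)) ⊆ basicOpen (F n) := fun n => by
    rw [hFs]
    exact (hnxt2 n (F n) (hF n).1 (hF n).2).trans Set.inter_subset_left
  have hFanti' : ∀ m n, m ≤ n →
      (basicOpen (F n) : Set (PrimeSpectrum A)) ⊆ basicOpen (F m) := by
    intro m n hmn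
    induction hmn with
    | refl => exact subset_rfl
    | step _ ih => exact (hFanti _).trans ih
  let M : Submonoid A :=
    { carrier := {a | ∃ n, (basicOpen (F n) : Set (PrimeSpectrum A)) ⊆ basicOpen a}
      one_mem' := ⟨0, by simp⟩
      mul_mem' := by
        rintro a b ⟨n, hn⟩ ⟨m, hm⟩
        refine ⟨max n m, ?_⟩
        rw [basicOpen_mul]
        exact Set.subset_inter ((hFanti' n _ (le_max_left n m)).trans hn)
          ((hFanti' m _ (le_max_right n m)).trans hm) }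
  have hdisj : Disjoint (((⊥ : Ideal A) : Ideal A) : Set A) (M : Set A) := by
    rw [Set.disjoint_left]
    rintro a ha ⟨n, hn⟩
    have ha0 : a = 0 := ha
    subst ha0
    obtain ⟨x, hx⟩ := (hF n).1
    have := hn hx
    simp at this
  obtain ⟨p, hp, -, hpM⟩ := Ideal.exists_le_prime_disjoint ⊥ M hdisj
  let x : PrimeSpectrum A := ⟨p, hp⟩
  have hx : ∀ n, x ∈ (basicOpen (F n) : Set (PrimeSpectrum A)) := by
    intro n
    rw [SetLike.mem_coe, mem_basicOpen]
    intro hmem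
    exact Set.disjoint_left.1 hpM hmem ⟨n, subset_rfl⟩
  obtain ⟨n, hn⟩ := h x ((hF 0).2 (hx 0))
  exact hn (hFW n (hx (n + 1)))

/-- The same for affine schemes. -/
theorem affine_baire (Y : Scheme.{u}) [IsAffine Y] (W : ℕ → Set Y)
    (hW : ∀ n, IsOpen (W n)) (O : Set Y) (hO : IsOpen O) (hne : O.Nonempty)
    (h : ∀ x ∈ O, ∃ n, x ∉ W n) :
    ∃ O' : Set Y, O' ⊆ O ∧ IsOpen O' ∧ O'.Nonempty ∧ ∃ n, Disjoint O' (W n) := by
  let φ : Y ≃ₜ PrimeSpectrum Γ(Y, ⊤) := Scheme.homeoOfIso Y.isoSpec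
  obtain ⟨O', hO'O, hO'o, hO'ne, n, hn⟩ := primeSpectrum_baire (fun n => φ '' W n)
    (fun n => φ.isOpenMap _ (hW n)) (φ '' O) (φ.isOpenMap _ hO) (hne.image φ) (by
      rintro _ ⟨x, hx, rfl⟩
      obtain ⟨n, hn⟩ := h x hx
      refine ⟨n, ?_⟩
      rintro ⟨x', hx', hxx'⟩
      rw [φ.injective hxx'] at hx'
      exact hn hx')
  refine ⟨φ ⁻¹' O', ?_, hO'o.preimage φ.continuous, ?_, n, ?_⟩
  · intro x hx
    obtain ⟨x', hx', hxx'⟩ := hO'O hx
    rw [← φ.injective hxx']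
    exact hx'
  · obtain ⟨y, hy⟩ := hO'ne
    exact ⟨φ.symm y, by simpa using hy⟩
  · rw [Set.disjoint_left]
    intro x hx hxW
    exact Set.disjoint_left.1 hn hx ⟨x, hxW, rfl⟩

end Baire

end Groth.Agent.H1.SpecBaire
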