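import Groth.Agent.Lib.Helper1.FibDeg
import Groth.Agent.Lib.Helper1.FinEtNowhere
import Groth.Agent.Lib.Helper1.SpecBaire
import Groth.Agent.Lib.Helper1.CodimZeroSch
import Groth.Agent.S10343

/-!
# Decent algebraic spaces contain dense open subschemes (helper1)
-/

set_option autoImplicit false
universe u
open CategoryTheory CategoryTheory.Limits AlgebraicGeometry Topology TopologicalSpace Opposite
open AlgSp

namespace Groth.Agent.H1.DecentOpen

open Groth.Agent.H1.FibDeg Groth.Agent.H1.QuotFin Groth.Agent.Lib.helper5.FppfBoot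
  Groth.Agent.Lib.helper5 Groth.Agent.Lib.helper11 Groth.Agent.Lib.helper15.AlgSpDiag

variable {S : Scheme.{u}}

section Fib

variable {X : Sp S}

/-- Lifts of a `T`-valued point in `Over S`. -/
def LiftsO {V R : Over S} (s : R ⟶ V) {T : Over S} (g : T ⟶ V) : Set (T ⟶ R) := {ℓ | ℓ ≫ s = g}

/-- `T`-valued points of `U` over a given `T`-valued point of `X`. -/
def Fib {U : Over S} (a : (yon S).obj U ⟶ X) {T : Over S} (φ : (yon S).obj T ⟶ X) : Set (T ⟶ U) :=
  {h | (yon S).map h ≫ a = φ}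

theorem encard_liftsO_eq {V U R : Over S} {b : (yon S).obj V ⟶ X} {a : (yon S).obj U ⟶ X}
    {s : R ⟶ V} {t : R ⟶ U} (sq : IsPullback ((yon S).map s) ((yon S).map t) b a) {T : Over S}
    (g : T ⟶ V) : (LiftsO s g).encard = (Fib a ((yon S).map g ≫ b)).encard := by
  have hinj : Set.InjOn (fun ℓ : T ⟶ R => ℓ ≫ t) (LiftsO s g) := by
    intro ℓ₁ h₁ ℓ₂ h₂ h
    have e₁ : ℓ₁ ≫ s = g := h₁
    have e₂ : ℓ₂ ≫ s = g := h₂
    have h' : ℓ₁ ≫ t = ℓ₂ ≫ t := h
    apply (yon S).map_injective
    apply sq.hom_ext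
    · rw [← Functor.map_comp, ← Functor.map_comp, e₁, e₂]
    · rw [← Functor.map_comp, ← Functor.map_comp, h']
  rw [← hinj.encard_image]
  congr 1
  ext h
  constructor
  · rintro ⟨ℓ, hℓ, rfl⟩
    have hℓ' : ℓ ≫ s = g := hℓ
    change (yon S).map (ℓ ≫ t) ≫ a = (yon S).map g ≫ b
    rw [Functor.map_comp, Category.assoc, ← sq.w, ← Category.assoc, ← Functor.map_comp, hℓ']
  · intro hh
    have hh' : (yon S).map h ≫ a = (yon S).map g ≫ b := hh
    obtain ⟨ℓ, hℓ⟩ := (yon S).map_surjective (sq.lift ((yon S).map g) ((yon S).map h) hh'.symm)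
    refine ⟨ℓ, ?_, ?_⟩
    · apply (yon S).map_injective
      rw [Functor.map_comp, hℓ, sq.lift_fst]
    · apply (yon S).map_injective
      rw [Functor.map_comp, hℓ, sq.lift_snd]

theorem encard_lifts_eq_liftsO {V R : Over S} (s : R ⟶ V) {K : Type u} [Field K]
    {str : Spec (.of K) ⟶ S} (g : Over.mk str ⟶ V) :
    (Lifts s.left (g.left : Spec (.of K) ⟶ V.left)).encard = (LiftsO s g).encard := by
  have hinj : Set.InjOn (fun ℓ : Over.mk str ⟶ R => (ℓ.left : Spec (.of K) ⟶ R.left))
      (LiftsO s g) := fun ℓ₁ _ ℓ₂ _ h => Over.OverMorphism.ext h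
  rw [← hinj.encard_image]
  congr 1
  ext ℓ
  constructor
  · intro hℓ
    have hℓ' : ℓ ≫ s.left = g.left := hℓ
    have hw : ℓ ≫ R.hom = str := by
      rw [← Over.w s, ← Category.assoc, hℓ']
      exact Over.w g
    refine ⟨Over.homMk ℓ hw, ?_, rfl⟩
    apply Over.OverMorphism.ext
    exact hℓ'
  · rintro ⟨ℓ', hℓ', rfl⟩
    have : ℓ' ≫ s = g := hℓ'
    change ℓ'.left ≫ s.left = g.left
    rw [← Over.comp_left, this]


/-- The geometric degree of the fibres of `s` is constant on equivalence classes. -/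
theorem degGE_of_ofPt_eq {U R : Over S} {a : (yon S).obj U ⟶ X} {s t : R ⟶ U}
    (sq : IsPullback ((yon S).map s) ((yon S).map t) a a) {u u' : ↥U.left}
    (h : Points.ofPt a u = Points.ofPt a u') {n : ℕ} (hn : DegGE s.left n u) :
    DegGE s.left n u' := by
  obtain ⟨r, hr1, hr2⟩ := exists_of_isPullback_schemes sq u u' h
  obtain ⟨K, hK, g, hg, hle⟩ := hn
  obtain ⟨Ω, hΩ, e, ρ, hρ, hρe⟩ := exists_ext s.left g r (fun y => by rw [hg y, hr1])
  let T : Over S := Over.mk (ρ ≫ R.hom)
  let ρ' : T ⟶ R := Over.homMk ρ rfl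
  have e1 : ((ρ' ≫ s).left : Spec (.of Ω) ⟶ U.left) = e ≫ g := by
    rw [Over.comp_left]; exact hρe
  refine ⟨Ω, hΩ, ((ρ' ≫ t).left : Spec (.of Ω) ⟶ U.left), ?_, ?_⟩
  · intro y
    rw [Over.comp_left]
    change t.left (ρ y) = u'
    rw [hρ y, hr2]
  · calc (n : ℕ∞) ≤ (Lifts s.left g).encard := hle
      _ ≤ (Lifts s.left (e ≫ g)).encard := encard_lifts_le_of_ext _ _ _
      _ = (Lifts s.left ((ρ' ≫ s).left : Spec (.of Ω) ⟶ U.left)).encard := by rw [e1]
      _ = (LiftsO s (ρ' ≫ s)).encard := encard_lifts_eq_liftsO s _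
      _ = (Fib a ((yon S).map (ρ' ≫ s) ≫ a)).encard := encard_liftsO_eq sq _
      _ = (Fib a ((yon S).map (ρ' ≫ t) ≫ a)).encard := by
        rw [Functor.map_comp, Functor.map_comp, Category.assoc, Category.assoc, sq.w]
      _ = (LiftsO s (ρ' ≫ t)).encard := (encard_liftsO_eq sq _).symm
      _ = (Lifts s.left ((ρ' ≫ t).left : Spec (.of Ω) ⟶ U.left)).encard :=
        (encard_lifts_eq_liftsO s _).symm

end Fib


section Bound

theorem encard_le_of_forall_not_injective {α : Type*} (A : Set α) (d : ℕ)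
    (h : ∀ ℓ : Fin (d + 1) → α, (∀ j, ℓ j ∈ A) → ¬ Function.Injective ℓ) : A.encard ≤ d := by
  by_contra hlt
  push Not at hlt
  have h1 : ((d + 1 : ℕ) : ℕ∞) ≤ A.encard := by
    push_cast
    exact (ENat.add_one_le_iff (ENat.natCast_ne_top d)).2 hlt
  obtain ⟨B, hBA, hB⟩ := Set.exists_subset_encard_eq h1
  have hfin : B.Finite := Set.finite_of_encard_eq_coe hB
  have hcard : hfin.toFinset.card = d + 1 := by
    have := hfin.encard_eq_coe_toFinset_card
    rw [hB] at this
    exact_mod_cast this.symm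
  let e := hfin.toFinset.equivFinOfCardEq hcard
  refine h (fun j => (e.symm j : α)) (fun j => hBA ?_) ?_
  · have := (e.symm j).2
    exact (hfin.mem_toFinset).1 this
  · intro j j' hjj'
    exact e.symm.injective (Subtype.ext hjj')

variable {X : Sp S}

/-- Two field valued points with the same class agree over a common field extension, as morphisms. -/
theorem exists_common_ext {F : Sp S} (q p : FieldPt F) (h : Points.mk q = Points.mk p) :
    ∃ (Ω : Type u) (_ : Field Ω) (w : Spec (CommRingCat.of Ω) ⟶ S) (α : Over.mk w ⟶ q.pt)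
      (β : Over.mk w ⟶ p.pt), (yon S).map α ≫ q.toHom = (yon S).map β ≫ p.toHom := by
  obtain ⟨Ω, hΩ, w, α, β, hαβ⟩ := Points.mk_eq_mk_iff.mp h
  refine ⟨Ω, hΩ, w, α, β, ?_⟩
  apply (J S).uliftYonedaEquiv.injective
  rw [← GrothendieckTopology.uliftYonedaEquiv_naturality,
    ← GrothendieckTopology.uliftYonedaEquiv_naturality, FieldPt.uliftYonedaEquiv_toHom,
    FieldPt.uliftYonedaEquiv_toHom]
  exact hαβ

theorem toHom_mk_up {T : Over S} {K : Type u} [Field K] (str : Spec (.of K) ⟶ S)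
    (g : Over.mk str ⟶ T) :
    (⟨K, str, ULift.up g⟩ : FieldPt ((yon S).obj T)).toHom = (yon S).map g := by
  unfold FieldPt.toHom
  rw [Equiv.symm_apply_eq, GrothendieckTopology.uliftYonedaEquiv_uliftYoneda_map]


/-- **Finite degree at decent points**: over a point represented by a quasi-compact field valued
point, the fibres of `s` have bounded geometric degree. -/
theorem exists_bound_of_qc_point {U R : Over S} [CompactSpace ↥U.left] {a : (yon S).obj U ⟶ X}
    (hae : RepWith @Etale a) {s t : R ⟶ U}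
    (sq : IsPullback ((yon S).map s) ((yon S).map t) a a) (u : ↥U.left) (p : FieldPt X)
    (hp : Points.mk p = Points.ofPt a u) (hq : RepWith @QuasiCompact p.toHom) :
    ∃ d : ℕ, ¬ DegGE s.left (d + 1) u := by
  obtain ⟨W, snd, fst, sqW⟩ := hq.1 a
  have hqc : QuasiCompact snd.left := hq.2 _ _ _ sqW
  obtain ⟨t', rfl⟩ := (yon S).map_surjective fst
  have het : Etale t'.left := hae.2 _ _ _ sqW.flip
  have hcW : CompactSpace ↥W.left := QuasiCompact.compactSpace_of_compactSpace snd.left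
  have hlqf : LocallyQuasiFinite t'.left := Groth.Agent.S10265.lqf_of_etale t'.left
  haveI hpa : IsAffine p.pt.left := by
    change IsAffine (Spec (CommRingCat.of p.K)); infer_instance
  have hqct : QuasiCompact t'.left := HasAffineProperty.iff_of_isAffine.mpr hcW
  haveI : IsLocallyArtinian p.pt.left := by
    change IsLocallyArtinian (Spec (CommRingCat.of p.K))
    rw [Scheme.isLocallyArtinianScheme_Spec]; infer_instance
  haveI hfin : IsFinite t'.left := IsFinite.of_locallyQuasiFinite t'.left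
  haveI : IsAffine W.left := isAffine_of_isAffineHom t'.left
  obtain ⟨d, hd⟩ := FinEtNowhere.exists_bound_lifts_affine t'.left
  refine ⟨d, ?_⟩
  rintro ⟨K, hK, g, hg, hn⟩
  let str : Spec (.of K) ⟶ S := g ≫ U.hom
  let g' : Over.mk str ⟶ U := Over.homMk g rfl
  let q : FieldPt ((yon S).obj U) := ⟨K, str, ULift.up g'⟩
  have hq1 : Points.ofScheme U u = Points.mk q := by
    have := Points.ofScheme_apply_eq_mk U g (rfl : g ≫ U.hom = str)
    rwa [hg] at this
  have hq2 : Points.mk (q.map a) = Points.mk p := by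
    rw [← Points.map_mk, ← hq1, ← Points.ofPt_eq_map_ofScheme, hp]
  obtain ⟨Ω, hΩ, w, α, β, hαβ⟩ := exists_common_ext (q.map a) p hq2
  have hq3 : q.toHom = (yon S).map g' := toHom_mk_up str g'
  rw [FieldPt.toHom_map, hq3] at hαβ
  obtain ⟨α', rfl⟩ : ∃ α' : Over.mk w ⟶ Over.mk str, α' = α := ⟨α, rfl⟩
  have hepi : Epi α' := by
    haveI : Epi α'.left := epi_of_field (K := K) (Ω := Ω) α'.left
    exact (Over.forget S).epi_of_epi_map (by assumption)
  have h1 : (Lifts s.left g).encard ≤ d :=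
    calc (Lifts s.left g).encard = (LiftsO s g').encard := encard_lifts_eq_liftsO s g'
      _ = (Fib a ((yon S).map g' ≫ a)).encard := encard_liftsO_eq sq g'
      _ ≤ (Fib a ((yon S).map β ≫ p.toHom)).encard := by
          refine Set.encard_le_encard_of_injOn (f := fun h => α' ≫ h) ?_ ?_
          · intro h hh
            have hh' : (yon S).map h ≫ a = (yon S).map g' ≫ a := hh
            change (yon S).map (α' ≫ h) ≫ a = _
            rw [Functor.map_comp, Category.assoc, hh']
            exact hαβ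
          · intro h _ h' _ e
            exact (cancel_epi α').1 e
      _ = (LiftsO t' β).encard := (encard_liftsO_eq sqW β).symm
      _ = (Lifts t'.left (β.left : Spec (.of Ω) ⟶ p.pt.left)).encard :=
          (encard_lifts_eq_liftsO t' β).symm
      _ ≤ d := encard_le_of_forall_not_injective _ d (fun ℓ hℓ => hd Ω β.left ℓ hℓ)
  have h2 := hn.trans h1
  have h3 : d + 1 ≤ d := by exact_mod_cast h2
  omega

end Bound


section Main

theorem isSeparated_left_of_affine {X : Sp S} {U R : Over S} [IsAffine U.left]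
    {a : (yon S).obj U ⟶ X} {s t : R ⟶ U}
    (sq : IsPullback ((yon S).map s) ((yon S).map t) a a) : IsSeparated s.left := by
  have hm : Mono (prod.lift t s) := by
    constructor
    intro Z h1 h2 h12
    apply (yon S).map_injective
    apply sq.hom_ext
    · rw [← Functor.map_comp, ← Functor.map_comp]
      have := congrArg (fun k => k ≫ prod.snd) h12
      simp only [Category.assoc, prod.lift_snd] at this
      rw [this]
    · rw [← Functor.map_comp, ← Functor.map_comp]
      have := congrArg (fun k => k ≫ prod.fst) h12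
      simp only [Category.assoc, prod.lift_fst] at this
      rw [this]
  have hm' : Mono (prod.lift t s).left := inferInstance
  have hsep : IsSeparated (prod.snd : U ⨯ U ⟶ U).left :=
    MorphismProperty.of_isPullback (P := @IsSeparated) (isPullback_prod_left U U) inferInstance
  have hg : s.left = (prod.lift t s).left ≫ (prod.snd : U ⨯ U ⟶ U).left := by
    rw [← Over.comp_left, prod.lift_snd]
  rw [hg]
  infer_instance

/-- **Bounded degree gives an open subscheme**: if the geometric degree of the fibres of the étale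
equivalence relation of an affine chart is bounded on a nonempty open of the chart, the image of
that open contains a nonempty open subspace which is a scheme. -/
theorem exists_open_subscheme_of_bounded (X : Space S) {U R : Over S} [IsAffine U.left]
    {a : (yon S).obj U ⟶ X.obj} (hae : RepWith @Etale a) {s t : R ⟶ U}
    (sq : IsPullback ((yon S).map s) ((yon S).map t) a a)
    (O : Set ↥U.left) (hO : IsOpen O) (hne : O.Nonempty) (d : ℕ)
    (hd : ∀ u ∈ O, ¬ DegGE s.left (d + 1) u) :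
    ∃ (X' : Space S) (j : X' ⟶ X), RepWith @IsOpenImmersion j.hom ∧ X'.obj.obj.IsRepresentable ∧
      (Set.range (Points.map j.hom)).Nonempty ∧
      Set.range (Points.map j.hom) ⊆ Points.ofPt a '' O := by
  haveI hsep : IsSeparated s.left := isSeparated_left_of_affine sq
  haveI hets : Etale s.left := hae.2 _ _ _ sq.flip
  have hex : ∃ q, ∀ u ∈ O, ¬ DegGE s.left q u := ⟨d + 1, hd⟩
  classical
  have hq : ∀ u ∈ O, ¬ DegGE s.left (Nat.find hex) u := Nat.find_spec hex
  have hq0 : Nat.find hex ≠ 0 := by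
    intro h0
    obtain ⟨u, hu⟩ := hne
    apply hq u hu
    rw [h0]
    exact degGE_zero _ _
  obtain ⟨p, hp⟩ : ∃ p, Nat.find hex = p + 1 := Nat.exists_eq_succ_of_ne_zero hq0
  have hpmin : ¬ ∀ u ∈ O, ¬ DegGE s.left p u := Nat.find_min hex (by omega)
  push Not at hpmin
  obtain ⟨u₀, hu₀O, hu₀p⟩ := hpmin
  rw [hp] at hq
  have hOp : IsOpen (O ∩ {v | DegGE s.left p v}) := hO.inter (isOpen_degGE p s.left)
  have hΩ : IsOpen (Points.ofPt a '' (O ∩ {v | DegGE s.left p v})) :=
    isOpenMap_ofPt a hae _ hOp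
  have hD1 : ∀ v ∈ OpenSub.preim hΩ a, DegGE s.left p v := by
    rintro v ⟨u, ⟨_, hup⟩, huv⟩
    exact degGE_of_ofPt_eq sq huv hup
  have hD2 : ∀ v ∈ OpenSub.preim hΩ a, ¬ DegGE s.left (p + 1) v := by
    rintro v ⟨u, ⟨huO, _⟩, huv⟩ hv
    exact hq u huO (degGE_of_ofPt_eq sq huv.symm hv)
  haveI hfinD : IsFinite (s.left ∣_ OpenSub.preim hΩ a) :=
    isFinite_restrict_of_degEq s.left p _ hD1 hD2
  obtain ⟨a'', sq''⟩ := OpenSub.isPullback_preim hΩ a
  have het'' : RepWith @Etale a'' :=
    (repWith_isStableUnderBaseChange (S := S) @Etale).of_isPullback sq''.flip hae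
  have hinj : Function.Injective (Points.map (OpenSub.ι X.obj
      (Points.ofPt a '' (O ∩ {v | DegGE s.left p v})))) :=
    Groth.Agent.Lib.helper5.FpqcIso.injective_map_of_mono _
  have hsurj'' : RepWith @Surjective a'' := by
    refine repWith_surjective_of_surjective a'' het''.rep ?_
    intro y
    have hy : Points.map (OpenSub.ι X.obj _) y ∈
        Points.ofPt a '' (O ∩ {v | DegGE s.left p v}) := by
      have := Set.mem_range_self (f := Points.map (OpenSub.ι X.obj
        (Points.ofPt a '' (O ∩ {v | DegGE s.left p v})))) y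
      rw [OpenSub.range_map_ι] at this
      exact this
    obtain ⟨u, huOp, hu⟩ := hy
    have huD : u ∈ OpenSub.preim hΩ a := ⟨u, huOp, rfl⟩
    refine ⟨⟨u, huD⟩, ?_⟩
    apply hinj
    rw [Points.map_ofPt, sq''.w, ofPt_yon_map_comp, ← hu]
    rfl
  -- the fibre square of `a''`
  have hwg : (s.left ∣_ OpenSub.preim hΩ a) ≫ (OpenSub.subOver U (OpenSub.preim hΩ a)).hom =
      (OpenSub.subOver R (s.left ⁻¹ᵁ OpenSub.preim hΩ a)).hom := by
    change (s.left ∣_ OpenSub.preim hΩ a) ≫ (OpenSub.preim hΩ a).ι ≫ U.hom =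
      (s.left ⁻¹ᵁ OpenSub.preim hΩ a).ι ≫ R.hom
    rw [← Category.assoc, morphismRestrict_ι, Category.assoc, Over.w s]
  let gV : OpenSub.subOver R (s.left ⁻¹ᵁ OpenSub.preim hΩ a) ⟶
      OpenSub.subOver U (OpenSub.preim hΩ a) := Over.homMk (s.left ∣_ OpenSub.preim hΩ a) hwg
  have hrange : Set.range ((s.left ⁻¹ᵁ OpenSub.preim hΩ a).ι ≫ t.left) ⊆
      Set.range (OpenSub.preim hΩ a).ι := by
    rw [Scheme.Opens.range_ι]
    rintro _ ⟨r, rfl⟩
    change Points.ofPt a (t.left ((s.left ⁻¹ᵁ OpenSub.preim hΩ a).ι r)) ∈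
      Points.ofPt a '' (O ∩ {v | DegGE s.left p v})
    rw [← ofPt_comm sq.w]
    exact r.2
  have hwf : IsOpenImmersion.lift (OpenSub.preim hΩ a).ι
      ((s.left ⁻¹ᵁ OpenSub.preim hΩ a).ι ≫ t.left) hrange ≫
        (OpenSub.subOver U (OpenSub.preim hΩ a)).hom =
      (OpenSub.subOver R (s.left ⁻¹ᵁ OpenSub.preim hΩ a)).hom := by
    change _ ≫ (OpenSub.preim hΩ a).ι ≫ U.hom = (s.left ⁻¹ᵁ OpenSub.preim hΩ a).ι ≫ R.hom
    rw [IsOpenImmersion.lift_fac_assoc, Category.assoc, Over.w t]
  let fV : OpenSub.subOver R (s.left ⁻¹ᵁ OpenSub.preim hΩ a) ⟶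
      OpenSub.subOver U (OpenSub.preim hΩ a) := Over.homMk _ hwf
  have hfV : fV ≫ OpenSub.subOverι U (OpenSub.preim hΩ a) =
      OpenSub.subOverι R (s.left ⁻¹ᵁ OpenSub.preim hΩ a) ≫ t := by
    apply Over.OverMorphism.ext
    exact IsOpenImmersion.lift_fac _ _ _
  have hgV : gV ≫ OpenSub.subOverι U (OpenSub.preim hΩ a) =
      OpenSub.subOverι R (s.left ⁻¹ᵁ OpenSub.preim hΩ a) ≫ s := by
    apply Over.OverMorphism.ext
    exact morphismRestrict_ι _ _
  have sqA : IsPullback (OpenSub.subOverι R (s.left ⁻¹ᵁ OpenSub.preim hΩ a)) gV s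
      (OpenSub.subOverι U (OpenSub.preim hΩ a)) :=
    IsPullback.of_map (Over.forget S) hgV.symm
      (isPullback_morphismRestrict s.left (OpenSub.preim hΩ a)).flip
  have outer := (sqA.map (yon S)).paste_horiz sq.flip
  rw [← Functor.map_comp, ← hfV, Functor.map_comp, ← sq''.w] at outer
  have hcomm : (yon S).map fV ≫ a'' = (yon S).map gV ≫ a'' := by
    rw [← cancel_mono (OpenSub.ι X.obj _), Category.assoc, Category.assoc, sq''.w,
      ← Category.assoc, ← Category.assoc, ← Functor.map_comp, ← Functor.map_comp, hfV, hgV,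
      Functor.map_comp, Functor.map_comp, Category.assoc, Category.assoc, sq.w]
  have sqV : IsPullback ((yon S).map fV) ((yon S).map gV) a'' a'' :=
    IsPullback.of_right outer hcomm sq''.flip
  have hfin'' : RepWith @IsFinite a'' :=
    repWith_of_chart a'' het''.rep a'' het'' hsurj'' ((yon S).map fV) gV sqV @IsFinite hfinD
  have hfl'' : RepWith finLocFree a'' := ⟨hfin''.rep, fun _ _ g fst snd h => by
    have h1 : IsFinite snd.left := hfin''.property g fst snd h
    have h2 : Etale snd.left := het''.property g fst snd h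
    exact ⟨h1, (inferInstance : Flat snd.left),
      (inferInstance : LocallyOfFinitePresentation snd.left)⟩⟩
  obtain ⟨M, ⟨e⟩⟩ := isRepresentable_of_finLocFree_cover_of_openImmersion_affine a'' hfl'' hsurj''
    (A := U.left) (OpenSub.preim hΩ a).ι
  refine ⟨⟨OpenSub.sub X.obj _, OpenSub.isAlgSpace_sub X.property hΩ⟩,
    ObjectProperty.homMk (OpenSub.ι X.obj _), OpenSub.repWith_ι X.obj hΩ,
    (representableByOfIso e).isRepresentable, ?_, ?_⟩
  · change (Set.range (Points.map (OpenSub.ι X.obj _))).Nonempty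
    rw [OpenSub.range_map_ι]
    exact ⟨_, u₀, ⟨hu₀O, hu₀p⟩, rfl⟩
  · change Set.range (Points.map (OpenSub.ι X.obj _)) ⊆ _
    rw [OpenSub.range_map_ι]
    exact Set.image_mono Set.inter_subset_left


/-- Every nonempty open set of points of a decent algebraic space contains the points of a nonempty
open subspace which is a scheme. -/
theorem exists_open_subscheme (X : Space S) (hX : IsDecent X.obj) (Ω₀ : Set (Points X.obj))
    (hΩ₀ : IsOpen Ω₀) (hne : Ω₀.Nonempty) :
    ∃ (X' : Space S) (j : X' ⟶ X), RepWith @IsOpenImmersion j.hom ∧ X'.obj.obj.IsRepresentable ∧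
      (Set.range (Points.map j.hom)).Nonempty ∧ Set.range (Points.map j.hom) ⊆ Ω₀ := by
  obtain ⟨x, hx⟩ := hne
  obtain ⟨U₁, a₁, u₁, ha₁, -, hpt⟩ := exists_chart_ofPt X x
  obtain ⟨_, ⟨O₁, hO₁, rfl⟩, hu₁, -⟩ := U₁.left.isBasis_affineOpens.exists_subset_of_mem_open
    (Set.mem_univ u₁) isOpen_univ
  let U : Over S := OpenSub.subOver U₁ O₁
  haveI : IsAffine U.left := hO₁
  let a : (yon S).obj U ⟶ X.obj := (yon S).map (OpenSub.subOverι U₁ O₁) ≫ a₁
  have hae : RepWith @Etale a :=
    (RepWith (S := S) @Etale).comp_mem _ _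
      ((repWith_yon_map_iff @Etale _).2 (inferInstanceAs (Etale (Scheme.Opens.ι O₁)))) ha₁
  let u₀ : U.left := ⟨u₁, hu₁⟩
  have hu₀ : Points.ofPt a u₀ = x := by
    show Points.ofPt ((yon S).map (OpenSub.subOverι U₁ O₁) ≫ a₁) u₀ = _
    rw [ofPt_yon_map_comp, ← hpt]
    rfl
  obtain ⟨R, t, fst, sq⟩ := X.property.representable_from_yon a a
  obtain ⟨s, rfl⟩ := (yon S).map_surjective fst
  haveI hsep : IsSeparated s.left := isSeparated_left_of_affine sq
  haveI hets : Etale s.left := hae.2 _ _ _ sq.flip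
  have hO : IsOpen (Points.ofPt a ⁻¹' Ω₀) := hΩ₀.preimage (Points.continuous_ofPt a)
  have hOne : (Points.ofPt a ⁻¹' Ω₀).Nonempty := ⟨u₀, by
    change Points.ofPt a u₀ ∈ Ω₀
    rw [hu₀]; exact hx⟩
  have hbound : ∀ u ∈ Points.ofPt a ⁻¹' Ω₀, ∃ n, u ∉ {v | DegGE s.left (n + 1) v} := by
    intro u _
    obtain ⟨p, hp1, -, hp3⟩ := hX (Points.ofPt a u)
    exact exists_bound_of_qc_point hae sq u p hp1 hp3
  obtain ⟨O', hO'O, hO'o, hO'ne, n, hn⟩ := SpecBaire.affine_baire U.left
    (fun n => {v | DegGE s.left (n + 1) v}) (fun n => isOpen_degGE (n + 1) s.left) _ hO hOne hbound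
  obtain ⟨X', j, hj, hrep, hjne, hjsub⟩ := exists_open_subscheme_of_bounded X hae sq O' hO'o hO'ne n
    (fun u hu hdeg => Set.disjoint_left.1 hn hu hdeg)
  refine ⟨X', j, hj, hrep, hjne, hjsub.trans ?_⟩
  rintro _ ⟨u, hu, rfl⟩
  exact hO'O hu

/-- **A decent algebraic space has a dense open subspace which is a scheme.** -/
theorem main (X : Space S) (hX : IsDecent X.obj) :
    ∃ (X' : Space S) (j : X' ⟶ X), RepWith @IsOpenImmersion j.hom ∧ X'.obj.obj.IsRepresentable ∧
      Dense (Set.range (Points.map j.hom)) := by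
  obtain ⟨X', j, hj, hrep, hmax⟩ := Groth.Agent.S10204.exists_schematicLocus' X
  refine ⟨X', j, hj, hrep, ?_⟩
  rw [dense_iff_inter_open]
  intro Ω₀ hΩ₀ hne
  obtain ⟨X'', j'', hj'', hrep'', hne'', hsub''⟩ := exists_open_subscheme X hX Ω₀ hΩ₀ hne
  obtain ⟨y, hy⟩ := hne''
  exact ⟨y, hsub'' hy, hmax X'' j'' hj'' hrep'' hy⟩

end Main

end Groth.Agent.H1.DecentOpen
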