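import Groth.Agent.S10338
import Groth.Agent.S10339
import Groth.Agent.S10340
import Groth.Agent.S10343

set_option autoImplicit false
universe u
open CategoryTheory CategoryTheory.Limits AlgebraicGeometry Topology TopologicalSpace
open AlgSp

namespace Groth.Agent.H1.DecentDim

open Order

section Top

variable {A B : Type*} [TopologicalSpace A] [TopologicalSpace B]

/-- The two conditions on a continuous map `f : A → B` we work with:
(A) no specializations inside fibres, (B) generizations lift. -/
structure GenLift (f : A → B) : Prop where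
  cont : Continuous f
  inj : ∀ a a' : A, a' ⤳ a → f a = f a' → a = a'
  lift : ∀ (a : A) (b : B), b ⤳ f a → ∃ a', a' ⤳ a ∧ f a' = b

theorem GenLift.coheight_eq [T0Space B] {f : A → B} (h : GenLift f) (a : A) :
    @coheight A (specializationPreorder A) a = @coheight B (specializationPreorder B) (f a) := by
  letI := specializationPreorder A
  letI := specializationPreorder B
  refine coheight_eq_of_strictMono f ?_ ?_ a
  · intro a a' haa'
    have h1 : a' ⤳ a := haa'.1
    have h2 : ¬ a ⤳ a' := haa'.2
    refine ⟨h1.map h.cont, fun h3 => h2 ?_⟩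
    have : f a = f a' := ((h3.antisymm (h1.map h.cont))).eq
    rw [← h.inj a a' h1 this]
  · intro a b hab
    have h1 : b ⤳ f a := hab.1
    have h2 : ¬ f a ⤳ b := hab.2
    obtain ⟨a', ha', rfl⟩ := h.lift a b h1
    exact ⟨a', ⟨ha', fun h3 => h2 (h3.map h.cont)⟩, rfl⟩

theorem topologicalKrullDim_eq_iSup_coheight (A : Type*) [TopologicalSpace A] [QuasiSober A]
    [T0Space A] :
    topologicalKrullDim A = ⨆ a : A, ((@coheight A (specializationPreorder A) a : ℕ∞) : WithBot ℕ∞) := by
  unfold topologicalKrullDim
  letI := specializationOrder A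
  rw [Order.krullDim_eq_of_orderIso (irreducibleSetEquivPoints (α := A)), krullDim_eq_iSup_coheight]

theorem GenLift.topologicalKrullDim_le [QuasiSober A] [T0Space A] [QuasiSober B] [T0Space B]
    {f : A → B} (h : GenLift f) : topologicalKrullDim A ≤ topologicalKrullDim B := by
  rw [topologicalKrullDim_eq_iSup_coheight, topologicalKrullDim_eq_iSup_coheight]
  refine iSup_le fun a => ?_
  rw [h.coheight_eq a]
  exact le_iSup (fun b : B => ((@coheight B (specializationPreorder B) b : ℕ∞) : WithBot ℕ∞)) (f a)

theorem GenLift.topologicalKrullDim_eq [QuasiSober A] [T0Space A] [QuasiSober B] [T0Space B]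
    {f : A → B} (h : GenLift f) (hs : Function.Surjective f) :
    topologicalKrullDim A = topologicalKrullDim B := by
  refine le_antisymm h.topologicalKrullDim_le ?_
  rw [topologicalKrullDim_eq_iSup_coheight, topologicalKrullDim_eq_iSup_coheight]
  refine iSup_le fun b => ?_
  obtain ⟨a, rfl⟩ := hs b
  rw [← h.coheight_eq a]
  exact le_iSup (fun b : A => ((@coheight A (specializationPreorder A) b : ℕ∞) : WithBot ℕ∞)) a

theorem GenLift.restrict {f : A → B} (h : GenLift f) {V : Set A} (hV : IsOpen V) {W : Set B}
    (hVW : Set.MapsTo f V W) : GenLift (hVW.restrict f V W) where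
  cont := h.cont.restrict hVW
  inj := by
    intro a a' hs he
    apply Subtype.ext
    refine h.inj a.1 a'.1 ((subtype_specializes_iff _ _).1 hs) ?_
    exact congrArg Subtype.val he
  lift := by
    intro a b hb
    have h1 : b.1 ⤳ f a.1 := (subtype_specializes_iff _ _).1 hb
    obtain ⟨a', ha', he⟩ := h.lift a.1 b.1 h1
    have hmem : a' ∈ V := ha'.mem_open hV a.2
    exact ⟨⟨a', hmem⟩, (subtype_specializes_iff _ _).2 ha', Subtype.ext he⟩

theorem GenLift.topologicalKrullDim_restrict_le [QuasiSober A] [T0Space A] [QuasiSober B]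
    [T0Space B] {f : A → B} (h : GenLift f) {V : Set A} (hV : IsOpen V) {W : Set B}
    (hW : IsOpen W) (hVW : Set.MapsTo f V W) :
    topologicalKrullDim V ≤ topologicalKrullDim W := by
  haveI : QuasiSober V := hV.isOpenEmbedding_subtypeVal.quasiSober
  haveI : QuasiSober W := hW.isOpenEmbedding_subtypeVal.quasiSober
  exact (h.restrict hV hVW).topologicalKrullDim_le

theorem GenLift.topologicalKrullDim_restrict_eq [QuasiSober A] [T0Space A] [QuasiSober B]
    [T0Space B] {f : A → B} (h : GenLift f) {V : Set A} (hV : IsOpen V) {W : Set B}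
    (hW : IsOpen W) (hVW : Set.MapsTo f V W) (hs : Set.SurjOn f V W) :
    topologicalKrullDim V = topologicalKrullDim W := by
  haveI : QuasiSober V := hV.isOpenEmbedding_subtypeVal.quasiSober
  haveI : QuasiSober W := hW.isOpenEmbedding_subtypeVal.quasiSober
  refine (h.restrict hV hVW).topologicalKrullDim_eq ?_
  rintro ⟨w, hw⟩
  obtain ⟨v, hv, rfl⟩ := hs hw
  exact ⟨⟨v, hv⟩, rfl⟩

end Top

variable {S : Scheme.{u}}

theorem genLift_ofPt (X : AlgSp.Space S) (hX : AlgSp.IsDecent X.obj) {U : Over S}
    (a : (AlgSp.yon S).obj U ⟶ X.obj) (ha : AlgSp.RepWith @Etale a) :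
    GenLift (AlgSp.Points.ofPt a) where
  cont := Points.continuous_ofPt a
  inj := fun u u' hs he => Groth.Agent.S10340.main X hX a ha u u' he hs
  lift := fun u x h => by
    obtain ⟨p, hp, -, hpq⟩ := hX x
    exact Groth.Agent.S10343.main X (Points.ofPt a u) x h ⟨p, hp, hpq⟩ a ha u rfl

end Groth.Agent.H1.DecentDim
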