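import Groth.Agent.Lib.Helper1.FibDeg

/-!
# Fibre degrees and numbers of points in fibres (helper1)
-/

set_option autoImplicit false
universe u
open CategoryTheory CategoryTheory.Limits AlgebraicGeometry

namespace Groth.Agent.H1.FibDeg

/-- A fibre with at least `n` points has geometric degree at least `n`. -/
theorem degGE_of_le_encard_fibre (n : ℕ) : ∀ {R U : Scheme.{u}} (s : R ⟶ U) [IsSeparated s] [Etale s]
    (v : U), (n : ℕ∞) ≤ (s ⁻¹' {v}).encard → DegGE s n v := by
  induction n with
  | zero =>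
    intro R U s _ _ v _
    exact degGE_zero s v
  | succ n ih =>
    intro R U s _ _ v h
    have hne : (s ⁻¹' {v}).Nonempty := by
      rw [← Set.encard_pos]
      exact lt_of_lt_of_le (by simp) h
    obtain ⟨r₀, hr₀⟩ := hne
    have hr₀' : s r₀ = v := hr₀
    rw [degGE_succ_iff]
    refine ⟨r₀, hr₀', ih (sp s) r₀ ?_⟩
    have h1 : (s ⁻¹' {v} \ {r₀}).encard + 1 = (s ⁻¹' {v}).encard :=
      Set.encard_sdiff_singleton_add_one hr₀
    have h2 : (n : ℕ∞) ≤ (s ⁻¹' {v} \ {r₀}).encard := by
      rw [← h1] at h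
      push_cast at h
      exact (WithTop.add_le_add_iff_right ENat.one_ne_top).1 h
    refine h2.trans ?_
    have hsub : s ⁻¹' {v} \ {r₀} ⊆
        ((offDiag s).ι ≫ pullback.snd s s) '' (sp s ⁻¹' {r₀}) := by
      rintro r ⟨hr, hne⟩
      have hr' : s r = v := hr
      obtain ⟨z, hz1, hz2⟩ := Scheme.Pullback.exists_preimage_pullback (f := s) (g := s) r₀ r
        (hr₀'.trans hr'.symm)
      have hz : z ∉ Set.range (pullback.diagonal s) := by
        rintro ⟨r', rfl⟩
        rw [← Scheme.Hom.comp_apply, pullback.diagonal_fst] at hz1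
        rw [← Scheme.Hom.comp_apply, pullback.diagonal_snd] at hz2
        exact hne (hz2.symm.trans hz1)
      exact ⟨⟨z, hz⟩, hz1, hz2⟩
    exact (Set.encard_le_encard hsub).trans (Set.encard_image_le _ _)

/-- If the geometric degree of the fibre over `v` is bounded, the fibre is finite. -/
theorem finite_fibre_of_not_degGE {R U : Scheme.{u}} (s : R ⟶ U) [IsSeparated s] [Etale s] (v : U)
    (d : ℕ) (hd : ¬ DegGE s (d + 1) v) : (s ⁻¹' {v}).Finite := by
  by_contra hinf
  apply hd
  apply degGE_of_le_encard_fibre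
  rw [Set.Infinite.encard_eq hinf]
  exact le_top

end Groth.Agent.H1.FibDeg
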