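import Groth.Agent.Lib.Helper1.DecentOpen
import Groth.Agent.Lib.Helper1.FibDegB
import Groth.Agent.S10360

/-!
# An algebraic space étale over a decent algebraic space is decent (helper1)
-/

set_option autoImplicit false
universe u
open CategoryTheory CategoryTheory.Limits AlgebraicGeometry Topology TopologicalSpace Opposite
open AlgSp

namespace Groth.Agent.H1.DecentOpen

open Groth.Agent.H1.FibDeg Groth.Agent.Lib.helper11

variable {S : Scheme.{u}}

/-- The fibres of the first projection of the relation of an affine étale chart of an algebraic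
space étale over a decent space are finite. -/
theorem finite_fibre_of_etale_over_decent {X : Space S} {Y : Sp S} (f : Y ⟶ X.obj)
    (hf : IsEtaleMor f) (hX : IsDecent X.obj) {U R : Over S} [IsAffine U.left]
    {φ : (yon S).obj U ⟶ Y} (hφ : RepWith @Etale φ) {s t : R ⟶ U}
    (sq : IsPullback ((yon S).map s) ((yon S).map t) φ φ) (u : ↥U.left) :
    (s.left ⁻¹' {u}).Finite := by
  have hae : RepWith @Etale (φ ≫ f) := hf φ hφ
  obtain ⟨R', t', fst', sq'⟩ := X.property.representable_from_yon (φ ≫ f) (φ ≫ f)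
  obtain ⟨s', rfl⟩ := (yon S).map_surjective fst'
  obtain ⟨p, hp1, -, hp3⟩ := hX (Points.ofPt (φ ≫ f) u)
  obtain ⟨d, hd⟩ := exists_bound_of_qc_point hae sq' u p hp1 hp3
  haveI : IsSeparated s.left := isSeparated_left_of_affine sq
  haveI : Etale s.left := hφ.2 _ _ _ sq.flip
  refine finite_fibre_of_not_degGE s.left u d (fun hdeg => hd ?_)
  obtain ⟨K, hK, g, hg, hn⟩ := hdeg
  refine ⟨K, hK, g, hg, hn.trans ?_⟩
  let str : Spec (.of K) ⟶ S := g ≫ U.hom
  let g' : Over.mk str ⟶ U := Over.homMk g rfl
  calc (Lifts s.left g).encard = (LiftsO s g').encard := encard_lifts_eq_liftsO s g'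
    _ = (Fib φ ((yon S).map g' ≫ φ)).encard := encard_liftsO_eq sq g'
    _ ≤ (Fib (φ ≫ f) ((yon S).map g' ≫ φ ≫ f)).encard := by
        refine Set.encard_le_encard (fun h hh => ?_)
        have hh' : (yon S).map h ≫ φ = (yon S).map g' ≫ φ := hh
        change (yon S).map h ≫ φ ≫ f = (yon S).map g' ≫ φ ≫ f
        rw [← Category.assoc, hh', Category.assoc]
    _ = (LiftsO s' g').encard := (encard_liftsO_eq sq' g').symm
    _ = (Lifts s'.left g).encard := (encard_lifts_eq_liftsO s' g').symm

/-- **An algebraic space étale over a decent algebraic space is decent.** -/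
theorem isDecent_of_isEtaleMor {X Y : Space S} (f : Y ⟶ X) (hf : IsEtaleMor f.hom)
    (hX : IsDecent X.obj) : IsDecent Y.obj := by
  intro y
  refine (Groth.Agent.S10360.result Y y).1 ?_
  intro U φ hU hφ R s t sq
  haveI := hU
  have hF : (Points.ofPt φ ⁻¹' {y}).Finite := by
    obtain ⟨p', hp'1, -, hp'3⟩ := hX (Points.map f.hom y)
    refine (Groth.Agent.S10343.finite_fibre_of_qc_point p' hp'3 (φ ≫ f.hom) (hf φ hφ)).subset ?_
    intro u hu
    have hu' : Points.ofPt φ u = y := hu
    change Points.ofPt (φ ≫ f.hom) u = Points.mk p'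
    rw [← Points.map_ofPt, hu', hp'1]
  refine ⟨hF, ?_⟩
  have hfib : ∀ u, (t.left ⁻¹' {u}).Finite := fun u =>
    finite_fibre_of_etale_over_decent f.hom hf hX hφ sq u
  refine (hF.biUnion (fun u _ => hfib u)).subset ?_
  intro r hr
  have hr' : Points.ofPt ((yon S).map t ≫ φ) r = y := hr
  rw [ofPt_yon_map_comp] at hr'
  simp only [Set.mem_iUnion]
  exact ⟨t.left r, hr', rfl⟩

end Groth.Agent.H1.DecentOpen
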