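import Groth.Agent.Lib.Helper1.FibDeg
import Groth.Agent.Lib.Helper5.AlgSpUnivInj
import Groth.Agent.Lib.Helper5.AlgSpDiagUnram
import Groth.Agent.Lib.Helper11.AlgSpBasic
import Groth.Agent.S10118

set_option autoImplicit false
universe u
open CategoryTheory CategoryTheory.Limits AlgebraicGeometry Topology TopologicalSpace
open AlgSp

namespace Groth.Agent.H1.ElemNbhd

variable {S : Scheme.{u}}

/-- The spectrum of the residue field of a point, as a scheme over `S`. -/
noncomputable abbrev resPt (U : Over S) (u : ↥U.left) : Over S := Over.mk (U.left.fromSpecResidueField u ≫ U.hom)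

/-- The canonical morphism `Spec κ(u) ⟶ U` over `S`. -/
noncomputable abbrev resι (U : Over S) (u : ↥U.left) : resPt U u ⟶ U :=
  Over.homMk (U.left.fromSpecResidueField u) rfl

set_option backward.isDefEq.respectTransparency.types false in
theorem exists_factor_aux {K : Type u} [Field K] {str : Spec (CommRingCat.of K) ⟶ S} {U : Over S}
    (m : Spec (CommRingCat.of K) ⟶ U.left) (hm : m ≫ U.hom = str) :
    ∃ ρ : Over.mk str ⟶ resPt U (m (IsLocalRing.closedPoint K)),
      ρ ≫ resι U (m (IsLocalRing.closedPoint K)) = Over.homMk m hm := by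
  have key := Scheme.descResidueField_stalkClosedPointTo_fromSpecResidueField K U.left m
  refine ⟨Over.homMk (Spec.map (U.left.descResidueField (K := K) (Scheme.stalkClosedPointTo m))) ?_, ?_⟩
  · exact ((Category.assoc _ _ _).symm.trans (congrArg (· ≫ U.hom) key)).trans hm
  · apply Over.OverMorphism.ext
    exact key

/-- A morphism from the spectrum of a field hitting `u` factors through `Spec κ(u)`. -/
theorem exists_factor {K : Type u} [Field K] {str : Spec (CommRingCat.of K) ⟶ S} {U : Over S}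
    (m : Over.mk str ⟶ U) (u : ↥U.left) (hu : m.left (IsLocalRing.closedPoint K) = u) :
    ∃ ρ : Over.mk str ⟶ resPt U u, ρ ≫ resι U u = m := by
  subst hu
  exact exists_factor_aux m.left (Over.w m)

/-- Two morphisms from the spectrum of a field to `U`, both hitting a point `u` whose field point is a
monomorphism into `X`, and agreeing in `X`, are equal. -/
theorem eq_of_mono_pt {X : Sp S} {U : Over S} (a : (yon S).obj U ⟶ X) (u : ↥U.left)
    (hm : Mono (FieldPt.ofPt a u).toHom) {K : Type u} [Field K] {str : Spec (CommRingCat.of K) ⟶ S}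
    (α β : Over.mk str ⟶ U) (hα : α.left (IsLocalRing.closedPoint K) = u)
    (hβ : β.left (IsLocalRing.closedPoint K) = u) (h : (yon S).map α ≫ a = (yon S).map β ≫ a) :
    α = β := by
  obtain ⟨ρα, rfl⟩ := exists_factor α u hα
  obtain ⟨ρβ, rfl⟩ := exists_factor β u hβ
  rw [FieldPt.toHom_ofPt] at hm
  have hm' : Mono ((yon S).map (resι U u) ≫ a) := hm
  have h' : (yon S).map ρα ≫ ((yon S).map (resι U u) ≫ a) =
      (yon S).map ρβ ≫ ((yon S).map (resι U u) ≫ a) := by
    simpa only [Functor.map_comp, Category.assoc] using h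
  have h2 : (yon S).map ρα = (yon S).map ρβ := (cancel_mono _).1 h'
  rw [(yon S).map_injective h2]

/-- The field point of `v` for `h_j ≫ a` is the field point of `j v` for `a`, for an open immersion `j`. -/
theorem mono_ofPt_comp {X : Sp S} {E U : Over S} (j : E ⟶ U) [IsOpenImmersion j.left]
    (a : (yon S).obj U ⟶ X) (v : ↥E.left) (hm : Mono (FieldPt.ofPt a (j.left v)).toHom) :
    Mono (FieldPt.ofPt ((yon S).map j ≫ a) v).toHom := by
  rw [FieldPt.toHom_ofPt] at hm
  have hm' : Mono ((yon S).map (resι U (j.left v)) ≫ a) := hm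
  rw [FieldPt.toHom_ofPt ((yon S).map j ≫ a) v]
  change Mono ((yon S).map (resι E v) ≫ (yon S).map j ≫ a)
  have hw : Spec.map (j.left.residueFieldMap v) ≫ (U.left.fromSpecResidueField (j.left v) ≫ U.hom) =
      E.left.fromSpecResidueField v ≫ E.hom := by
    rw [← Category.assoc, Scheme.Hom.SpecMap_residueFieldMap_fromSpecResidueField, Category.assoc,
      Over.w j]
  let e : resPt E v ⟶ resPt U (j.left v) := Over.homMk (Spec.map (j.left.residueFieldMap v)) hw
  have he : IsIso e := by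
    have : IsIso ((Over.forget S).map e) := by
      change IsIso (Spec.map (j.left.residueFieldMap v)); infer_instance
    exact isIso_of_reflects_iso e (Over.forget S)
  have hfac : resι E v ≫ j = e ≫ resι U (j.left v) := by
    apply Over.OverMorphism.ext
    exact (Scheme.Hom.SpecMap_residueFieldMap_fromSpecResidueField j.left v).symm
  have : (yon S).map (resι E v) ≫ (yon S).map j ≫ a =
      (yon S).map e ≫ ((yon S).map (resι U (j.left v)) ≫ a) := by
    rw [← Category.assoc, ← Functor.map_comp, hfac, Functor.map_comp, Category.assoc]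
  rw [this]
  infer_instance

/-- A monomorphism from a nonempty scheme to the spectrum of a field is an isomorphism. -/
theorem isIso_of_mono_of_nonempty {G : Scheme.{u}} {K : Type u} [Field K]
    (g : G ⟶ Spec (CommRingCat.of K)) [Mono g] [Nonempty ↥G] : IsIso g := by
  have hsub : Subsingleton ↥(Spec (CommRingCat.of K)) := inferInstanceAs (Subsingleton (PrimeSpectrum K))
  have hfl : Flat g := inferInstance
  have hsurj : Surjective g := by
    constructor
    intro y
    obtain ⟨x⟩ : Nonempty ↥G := inferInstance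
    exact ⟨x, Subsingleton.elim _ _⟩
  have hGsub : Subsingleton ↥G := ⟨fun x y => g.injective (Subsingleton.elim _ _)⟩
  have hqc : QuasiCompact g := by
    rw [HasAffineProperty.iff_of_isAffine (P := @QuasiCompact)]
    exact Finite.compactSpace
  exact Flat.isIso_of_surjective_of_mono g


theorem eq_of_mono_pt_res {X : Sp S} {U V : Over S} (a : (yon S).obj U ⟶ X) (u : ↥U.left)
    (hm : Mono (FieldPt.ofPt a u).toHom) (v : ↥V.left) (α β : resPt V v ⟶ U)
    (hα : α.left (IsLocalRing.closedPoint ↥(V.left.residueField v)) = u)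
    (hβ : β.left (IsLocalRing.closedPoint ↥(V.left.residueField v)) = u)
    (h : (yon S).map α ≫ a = (yon S).map β ≫ a) : α = β :=
  eq_of_mono_pt (K := ↥(V.left.residueField v)) (str := V.left.fromSpecResidueField v ≫ V.hom)
    a u hm α β hα hβ h

theorem resι_left_apply (U : Over S) (u : ↥U.left) (y : ↥(resPt U u).left) :
    (resι U u).left y = u := Scheme.fromSpecResidueField_apply _ _

open Groth.Agent.Lib.helper11 Groth.Agent.Lib.helper5.DiagUnram in
/-- Two parallel morphisms of elementary etale neighbourhoods are equalized on an elementary etale neighbourhood. -/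
theorem equalize (X : AlgSp.Space S) (x : Points X.obj) {U₁ U₂ : Over S}
    (a₁ : (yon S).obj U₁ ⟶ X.obj) (a₂ : (yon S).obj U₂ ⟶ X.obj) (u₁ : ↥U₁.left) (u₂ : ↥U₂.left)
    (b c : U₁ ⟶ U₂) (h₁ : IsElemEtaleNbhd a₁ u₁ x) (h₂ : IsElemEtaleNbhd a₂ u₂ x)
    (hb : (yon S).map b ≫ a₂ = a₁) (hc : (yon S).map c ≫ a₂ = a₁) (hbu : b.left u₁ = u₂)
    (hcu : c.left u₁ = u₂) :
    ∃ (U : Over S) (a : (yon S).obj U ⟶ X.obj) (v : ↥U.left) (h : U ⟶ U₁),
      IsElemEtaleNbhd a v x ∧ (yon S).map h ≫ a₁ = a ∧ h.left v = u₁ ∧ h ≫ b = h ≫ c := by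
  have hΔ : RepWith @IsOpenImmersion (pullback.diagonal a₂) :=
    repWith_oi_diagonal_of_unramified (IsAlgSpace.yon_obj U₂) X.property a₂
      (Groth.Agent.S10118.locP_of_repWith_etale
        (fun g hg => by have : Etale g := hg; exact ⟨inferInstance, inferInstance⟩) a₂ h₂.etale)
  have hbc : (yon S).map b ≫ a₂ = (yon S).map c ≫ a₂ := hb.trans hc.symm
  obtain ⟨E, j, fst, sqE⟩ := hΔ.rep (pullback.lift ((yon S).map b) ((yon S).map c) hbc)
  have hj : IsOpenImmersion j.left := hΔ.2 _ _ _ sqE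
  have e1 : fst = (yon S).map j ≫ (yon S).map b := by
    have := congrArg (· ≫ pullback.fst a₂ a₂) sqE.w
    simp only [Category.assoc, pullback.diagonal_fst, Category.comp_id] at this
    rw [this, pullback.lift_fst]
  have e2 : fst = (yon S).map j ≫ (yon S).map c := by
    have := congrArg (· ≫ pullback.snd a₂ a₂) sqE.w
    simp only [Category.assoc, pullback.diagonal_snd, Category.comp_id] at this
    rw [this, pullback.lift_snd]
  have hjbc : j ≫ b = j ≫ c :=
    (yon S).map_injective (by rw [Functor.map_comp, Functor.map_comp, ← e1, ← e2])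
  have hι : resι U₁ u₁ ≫ b = resι U₁ u₁ ≫ c := by
    refine eq_of_mono_pt_res a₂ u₂ h₂.mono u₁ _ _ ?_ ?_ ?_
    · rw [Over.comp_left, Scheme.Hom.comp_apply, resι_left_apply, hbu]
    · rw [Over.comp_left, Scheme.Hom.comp_apply, resι_left_apply, hcu]
    · rw [Functor.map_comp, Functor.map_comp, Category.assoc, Category.assoc, hb, hc]
  have hw : (yon S).map (resι U₁ u₁ ≫ b) ≫ pullback.diagonal a₂ =
      (yon S).map (resι U₁ u₁) ≫ pullback.lift ((yon S).map b) ((yon S).map c) hbc := by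
    apply pullback.hom_ext
    · simp only [Category.assoc, pullback.diagonal_fst, Category.comp_id]
      rw [pullback.lift_fst, Functor.map_comp]
    · simp only [Category.assoc, pullback.diagonal_snd, Category.comp_id]
      rw [pullback.lift_snd, hι, Functor.map_comp]
  obtain ⟨ε', -, hε2⟩ := sqE.exists_lift _ _ hw
  obtain ⟨ε, rfl⟩ := (yon S).map_surjective ε'
  have hεj : ε ≫ j = resι U₁ u₁ := (yon S).map_injective (by rw [Functor.map_comp]; exact hε2)
  have hv : j.left (ε.left (IsLocalRing.closedPoint ↥(U₁.left.residueField u₁))) = u₁ := by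
    rw [← Scheme.Hom.comp_apply, ← Over.comp_left, hεj, resι_left_apply]
  refine ⟨E, (yon S).map j ≫ a₁, ε.left (IsLocalRing.closedPoint ↥(U₁.left.residueField u₁)), j,
    ⟨?_, ?_, ?_⟩, rfl, hv, hjbc⟩
  · refine (repWith_isMultiplicative (S := S) @Etale).comp_mem _ _ ?_ h₁.etale
    rw [repWith_yon_map_iff]
    exact (inferInstance : Etale j.left)
  · rw [ofPt_yon_map_comp, hv]
    exact h₁.ofPt_eq
  · apply mono_ofPt_comp
    rw [hv]
    exact h₁.mono


open Groth.Agent.Lib.helper11 Groth.Agent.Lib.helper5.UnivInj Groth.Agent.H1.FibDeg in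
/-- Two elementary etale neighbourhoods are dominated by a third. -/
theorem dominate (X : AlgSp.Space S) (x : Points X.obj) {U₁ U₂ : Over S}
    (a₁ : (yon S).obj U₁ ⟶ X.obj) (a₂ : (yon S).obj U₂ ⟶ X.obj) (u₁ : ↥U₁.left) (u₂ : ↥U₂.left)
    (h₁ : IsElemEtaleNbhd a₁ u₁ x) (h₂ : IsElemEtaleNbhd a₂ u₂ x) :
    ∃ (U : Over S) (a : (yon S).obj U ⟶ X.obj) (v : ↥U.left) (k₁ : U ⟶ U₁) (k₂ : U ⟶ U₂),
      IsElemEtaleNbhd a v x ∧ (yon S).map k₁ ≫ a₁ = a ∧ (yon S).map k₂ ≫ a₂ = a ∧
        k₁.left v = u₁ ∧ k₂.left v = u₂ := by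
  obtain ⟨P, k₂, fst', sq⟩ := h₁.etale.rep a₂
  obtain ⟨k₁, rfl⟩ := (yon S).map_surjective fst'
  have hk₁ : Etale k₁.left := h₂.etale.2 a₁ _ k₁ sq.flip
  -- the two residue points are isomorphic over `X`
  have hm₁ : Mono (FieldPt.ofPt a₁ u₁).toHom := h₁.mono
  have hm₂ : Mono (FieldPt.ofPt a₂ u₂).toHom := h₂.mono
  have hp : Points.mk (FieldPt.ofPt a₁ u₁) = Points.mk (FieldPt.ofPt a₂ u₂) :=
    h₁.ofPt_eq.trans h₂.ofPt_eq.symm
  obtain ⟨Ω, hΩ, w, α₀, β₀, hαβ₀⟩ := hom_eq_of_rel (Points.mk_eq_mk_iff.1 hp)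
  rw [FieldPt.toHom_ofPt] at hm₁ hm₂
  rw [FieldPt.toHom_ofPt, FieldPt.toHom_ofPt] at hαβ₀
  have hm₁' : Mono ((yon S).map (resι U₁ u₁) ≫ a₁) := hm₁
  have hm₂' : Mono ((yon S).map (resι U₂ u₂) ≫ a₂) := hm₂
  obtain ⟨α, hα⟩ : ∃ α : Over.mk w ⟶ resPt U₁ u₁, α = α₀ := ⟨α₀, rfl⟩
  obtain ⟨β, hβ⟩ : ∃ β : Over.mk w ⟶ resPt U₂ u₂, β = β₀ := ⟨β₀, rfl⟩
  have hαβ : (yon S).map α ≫ ((yon S).map (resι U₁ u₁) ≫ a₁) =
      (yon S).map β ≫ ((yon S).map (resι U₂ u₂) ≫ a₂) := by
    rw [hα, hβ]; exact hαβ₀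
  obtain ⟨G, g₂, g₁', sqG⟩ :=
    (X.property.representable_from_yon ((yon S).map (resι U₁ u₁) ≫ a₁))
      ((yon S).map (resι U₂ u₂) ≫ a₂)
  obtain ⟨g₁, rfl⟩ := (yon S).map_surjective g₁'
  have hmg₁ : Mono ((yon S).map g₁) := sqG.mono_fst_of_mono
  have hmg₂ : Mono ((yon S).map g₂) := sqG.mono_snd_of_mono
  have hg₁ : Mono g₁ := (yon S).mono_of_mono_map hmg₁
  have hg₂ : Mono g₂ := (yon S).mono_of_mono_map hmg₂
  have hg₁l : Mono g₁.left := inferInstance
  have hg₂l : Mono g₂.left := inferInstance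
  obtain ⟨γ', -, -⟩ := sqG.exists_lift _ _ hαβ
  obtain ⟨γ, rfl⟩ := (yon S).map_surjective γ'
  have hne : Nonempty ↥G.left := ⟨γ.left (IsLocalRing.closedPoint Ω)⟩
  have hi₁l : IsIso g₁.left :=
    @isIso_of_mono_of_nonempty G.left ↥(U₁.left.residueField u₁) _ g₁.left hg₁l hne
  have hi₁ : IsIso g₁ := by
    have : IsIso ((Over.forget S).map g₁) := hi₁l
    exact isIso_of_reflects_iso g₁ (Over.forget S)
  have hθ : (yon S).map (inv g₁ ≫ g₂) ≫ ((yon S).map (resι U₂ u₂) ≫ a₂) =
      (yon S).map (resι U₁ u₁) ≫ a₁ := by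
    rw [Functor.map_comp, Category.assoc, ← sqG.w, ← Category.assoc, ← Functor.map_comp,
      IsIso.inv_hom_id, CategoryTheory.Functor.map_id, Category.id_comp]
  have hw : (yon S).map (resι U₁ u₁) ≫ a₁ = (yon S).map ((inv g₁ ≫ g₂) ≫ resι U₂ u₂) ≫ a₂ := by
    rw [Functor.map_comp, Category.assoc]
    exact hθ.symm
  obtain ⟨σ', hσ1, hσ2⟩ := sq.exists_lift _ _ hw
  obtain ⟨σ, rfl⟩ := (yon S).map_surjective σ'
  have hσ1' : σ ≫ k₁ = resι U₁ u₁ := (yon S).map_injective (by rw [Functor.map_comp]; exact hσ1)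
  have hσ2' : σ ≫ k₂ = (inv g₁ ≫ g₂) ≫ resι U₂ u₂ :=
    (yon S).map_injective (by rw [Functor.map_comp]; exact hσ2)
  obtain ⟨v, hv⟩ : ∃ v : ↥P.left, v = σ.left (IsLocalRing.closedPoint ↥(U₁.left.residueField u₁)) :=
    ⟨_, rfl⟩
  have hv1 : k₁.left v = u₁ := by
    rw [hv, ← Scheme.Hom.comp_apply, ← Over.comp_left, hσ1', resι_left_apply]
  have hv2 : k₂.left v = u₂ := by
    rw [hv, ← Scheme.Hom.comp_apply, ← Over.comp_left, hσ2', Over.comp_left, Scheme.Hom.comp_apply,
      resι_left_apply]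
  -- the field point at `v` is a monomorphism
  obtain ⟨ε, hε⟩ := exists_factor (K := ↥(U₁.left.residueField u₁))
    (str := U₁.left.fromSpecResidueField u₁ ≫ U₁.hom) σ v hv.symm
  obtain ⟨ρ, hρ⟩ := exists_factor (K := ↥(P.left.residueField v))
    (str := P.left.fromSpecResidueField v ≫ P.hom) (resι P v ≫ k₁) u₁
    (by rw [Over.comp_left, Scheme.Hom.comp_apply, resι_left_apply, hv1])
  have h1 : ε ≫ ρ = 𝟙 _ := by
    rw [← cancel_mono (resι U₁ u₁), Category.assoc, hρ, ← Category.assoc, hε, hσ1', Category.id_comp]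
  have hεepi : Epi ε := by
    have : Epi ((Over.forget S).map ε) :=
      epi_of_field (K := ↥(P.left.residueField v)) (Ω := ↥(U₁.left.residueField u₁)) ε.left
    exact (Over.forget S).epi_of_epi_map this
  have h2 : ρ ≫ ε = 𝟙 _ := by
    rw [← cancel_epi ε, ← Category.assoc, h1, Category.id_comp, Category.comp_id]
  have hρiso : IsIso ρ := ⟨ε, h2, h1⟩
  have hmono : Mono (FieldPt.ofPt ((yon S).map k₁ ≫ a₁) v).toHom := by
    rw [FieldPt.toHom_ofPt]
    change Mono ((yon S).map (resι P v) ≫ (yon S).map k₁ ≫ a₁)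
    have : (yon S).map (resι P v) ≫ (yon S).map k₁ ≫ a₁ =
        (yon S).map ρ ≫ ((yon S).map (resι U₁ u₁) ≫ a₁) := by
      rw [← Category.assoc, ← Functor.map_comp, ← hρ, Functor.map_comp, Category.assoc]
    rw [this]
    infer_instance
  refine ⟨P, (yon S).map k₁ ≫ a₁, v, k₁, k₂, ⟨?_, ?_, hmono⟩, rfl, sq.w.symm, hv1, hv2⟩
  · refine (repWith_isMultiplicative (S := S) @Etale).comp_mem _ _ ?_ h₁.etale
    rw [repWith_yon_map_iff]
    exact hk₁
  · rw [ofPt_yon_map_comp, hv1]
    exact h₁.ofPt_eq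

end Groth.Agent.H1.ElemNbhd
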