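import Groth.Agent.Lib.Helper1.FibDeg

/-!
# Bounded fibre degree gives quasi-compactness (helper1)

* `quasiCompact_of_not_degGE`: a separated étale morphism to a locally Noetherian scheme whose fibres have bounded
  geometric degree is quasi-compact.
* `exists_bound_of_noetherianSpace`: over a Noetherian space a pointwise bound of the degree is uniform.
-/

set_option autoImplicit false
universe u
open CategoryTheory CategoryTheory.Limits AlgebraicGeometry TopologicalSpace

namespace Groth.Agent.H1.FibDeg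

variable {R U : Scheme.{u}}

theorem isEmpty_of_not_degGE_one (s : R ⟶ U) [IsSeparated s] [Etale s] (h : ∀ v, ¬ DegGE s 1 v) :
    IsEmpty R := by
  constructor
  intro r
  exact h (s r) ((degGE_succ_iff s 0 (s r)).2 ⟨r, rfl, degGE_zero _ _⟩)

theorem quasiCompact_fst_of_sp (s : R ⟶ U) [IsSeparated s] (h : QuasiCompact (sp s)) :
    QuasiCompact (pullback.fst s s) := by
  refine ⟨fun V hV hVc => ?_⟩
  have e : (pullback.fst s s) ⁻¹' V =
      (pullback.diagonal s) '' V ∪ (offDiag s).ι '' ((sp s) ⁻¹' V) := by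
    ext z
    constructor
    · intro hz
      by_cases hd : z ∈ Set.range (pullback.diagonal s)
      · obtain ⟨r, rfl⟩ := hd
        left
        refine ⟨r, ?_, rfl⟩
        have h1 : pullback.fst s s (pullback.diagonal s r) = r := by
          rw [← Scheme.Hom.comp_apply, pullback.diagonal_fst]; rfl
        rw [← h1]; exact hz
      · right
        have hz' : z ∈ offDiag s := hd
        refine ⟨⟨z, hz'⟩, ?_, rfl⟩
        change (sp s) ⟨z, hz'⟩ ∈ V
        unfold sp
        rw [Scheme.Hom.comp_apply]
        exact hz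
    · rintro (⟨r, hr, rfl⟩ | ⟨z', hz', rfl⟩)
      · have h1 : pullback.fst s s (pullback.diagonal s r) = r := by
          rw [← Scheme.Hom.comp_apply, pullback.diagonal_fst]; rfl
        change pullback.fst s s (pullback.diagonal s r) ∈ V
        rw [h1]; exact hr
      · have : (sp s) z' ∈ V := hz'
        unfold sp at this
        rw [Scheme.Hom.comp_apply] at this
        exact this
  rw [e]
  exact (hVc.image (pullback.diagonal s).continuous).union
    ((h.isCompact_preimage V hV hVc).image (offDiag s).ι.continuous)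

theorem quasiCompact_of_fst (s : R ⟶ U) [Etale s] [IsLocallyNoetherian U]
    (h : QuasiCompact (pullback.fst s s)) : QuasiCompact s := by
  rw [quasiCompact_iff_forall_isAffineOpen]
  intro V hV
  haveI : IsNoetherianRing Γ(U, V) := IsLocallyNoetherian.component_noetherian ⟨V, hV⟩
  haveI hVn : NoetherianSpace V := noetherianSpace_of_isAffineOpen V hV
  -- the image of `s` in `V`
  have hOc : IsCompact ((V : Set U) ∩ Set.range s) := by
    have := (noetherianSpace_set_iff (V : Set U)).mp hVn ((V : Set U) ∩ Set.range s)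
      Set.inter_subset_left
    exact this
  -- cover by images of affine opens of `R`
  have hcov : (V : Set U) ∩ Set.range s ⊆
      ⋃ A : {A : R.Opens // IsAffineOpen A ∧ (A : Set R) ⊆ s ⁻¹' V}, s '' (A.1 : Set R) := by
    rintro _ ⟨hv, r, rfl⟩
    have hr : r ∈ s ⁻¹ᵁ V := hv
    obtain ⟨A, hA, hrA, hAV⟩ := exists_isAffineOpen_mem_and_subset hr
    exact Set.mem_iUnion.2 ⟨⟨A, hA, hAV⟩, r, hrA, rfl⟩
  obtain ⟨F, hF⟩ := hOc.elim_finite_subcover _ (fun A => s.isOpenMap _ A.1.isOpen) hcov
  -- the compact open `K`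
  have hKc : IsCompact (⋃ A ∈ F, (A.1 : Set R)) :=
    F.isCompact_biUnion (fun A _ => A.2.1.isCompact)
  have hKo : IsOpen (⋃ A ∈ F, (A.1 : Set R)) :=
    isOpen_biUnion (fun A _ => A.1.isOpen)
  have hpre := h.isCompact_preimage _ hKo hKc
  have e : (s ⁻¹ᵁ V : Set R) =
      (pullback.snd s s) '' ((pullback.fst s s) ⁻¹' (⋃ A ∈ F, (A.1 : Set R))) := by
    ext r
    constructor
    · intro hr
      have hr' : s r ∈ (V : Set U) ∩ Set.range s := ⟨hr, r, rfl⟩
      obtain ⟨A, hAF, k, hk, hkr⟩ : ∃ A ∈ F, ∃ k ∈ (A.1 : Set R), s k = s r := by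
        have := hF hr'
        simp only [Set.mem_iUnion] at this
        obtain ⟨A, hAF, k, hk, hkr⟩ := this
        exact ⟨A, hAF, k, hk, hkr⟩
      obtain ⟨z, hz1, hz2⟩ := Scheme.Pullback.exists_preimage_pullback (f := s) (g := s) k r hkr
      refine ⟨z, ?_, hz2⟩
      simp only [Set.mem_preimage, Set.mem_iUnion]
      exact ⟨A, hAF, by rw [hz1]; exact hk⟩
    · rintro ⟨z, hz, rfl⟩
      simp only [Set.mem_preimage, Set.mem_iUnion] at hz
      obtain ⟨A, hAF, hzA⟩ := hz
      have h1 : s (pullback.snd s s z) = s (pullback.fst s s z) := by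
        rw [← Scheme.Hom.comp_apply, ← Scheme.Hom.comp_apply, pullback.condition]
      change s (pullback.snd s s z) ∈ V
      rw [h1]
      exact A.2.2 hzA
  rw [e]
  exact hpre.image (pullback.snd s s).continuous

/-- **Bounded degree ⇒ quasi-compact.** -/
theorem quasiCompact_of_not_degGE (N : ℕ) : ∀ {R U : Scheme.{u}} (s : R ⟶ U) [IsSeparated s] [Etale s]
    [IsLocallyNoetherian U], (∀ v, ¬ DegGE s (N + 1) v) → QuasiCompact s := by
  induction N with
  | zero =>
    intro R U s _ _ _ h
    haveI := isEmpty_of_not_degGE_one s h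
    refine ⟨fun V _ _ => ?_⟩
    rw [Set.eq_empty_of_isEmpty (s ⁻¹' V)]
    exact isCompact_empty
  | succ N ih =>
    intro R U s _ _ _ h
    haveI : IsLocallyNoetherian R := LocallyOfFiniteType.isLocallyNoetherian s
    have h' : ∀ r, ¬ DegGE (sp s) (N + 1) r := fun r hr =>
      h (s r) ((degGE_succ_iff s (N + 1) (s r)).2 ⟨r, rfl, hr⟩)
    have h1 : QuasiCompact (sp s) := ih (sp s) h'
    exact quasiCompact_of_fst s (quasiCompact_fst_of_sp s h1)

/-- **Uniform bound over a Noetherian base.** -/
theorem exists_bound_of_noetherianSpace (s : R ⟶ U) [IsSeparated s] [Etale s] [NoetherianSpace U]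
    (h : ∀ v, ∃ d : ℕ, ¬ DegGE s (d + 1) v) : ∃ N : ℕ, ∀ v, ¬ DegGE s (N + 1) v := by
  classical
  have hfin : (irreducibleComponents U).Finite := NoetherianSpace.finite_irreducibleComponents
  have hgen : ∀ Z : irreducibleComponents U, ∃ η : U, IsGenericPoint η (Z : Set U) := fun Z =>
    QuasiSober.sober Z.2.1 (isClosed_of_mem_irreducibleComponents _ Z.2)
  choose η hη using hgen
  choose d hd using h
  haveI : Fintype (irreducibleComponents U) := hfin.fintype
  refine ⟨Finset.univ.sup (fun Z => d (η Z)), fun v hv => ?_⟩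
  let Z : irreducibleComponents U := ⟨irreducibleComponent v, irreducibleComponent_mem_irreducibleComponents v⟩
  have hs : η Z ⤳ v := (hη Z).specializes mem_irreducibleComponent
  have h1 : DegGE s (Finset.univ.sup (fun Z => d (η Z)) + 1) (η Z) :=
    hs.mem_open (isOpen_degGE _ s) hv
  refine hd (η Z) (h1.mono ?_)
  have : d (η Z) ≤ Finset.univ.sup (fun Z => d (η Z)) :=
    Finset.le_sup (f := fun Z => d (η Z)) (Finset.mem_univ Z)
  omega

end Groth.Agent.H1.FibDeg
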