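import Groth.Agent.Lib.Helper1.DecentOpen
import Groth.Agent.Lib.Helper1.FibDegQC
import Groth.Agent.Lib.Helper1.ElemNbhd
import Groth.Agent.Lib.Helper5.QuotDiag2

/-!
# Locally Noetherian decent algebraic spaces are quasi-separated (helper1)
-/

set_option autoImplicit false
universe u
open CategoryTheory CategoryTheory.Limits AlgebraicGeometry Topology TopologicalSpace
open AlgSp

namespace Groth.Agent.H1.DecentQS

open Groth.Agent.H1.FibDeg Groth.Agent.H1.DecentOpen Groth.Agent.H1.ElemNbhd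
  Groth.Agent.Lib.helper5.FppfBoot Groth.Agent.Lib.helper5 Groth.Agent.Lib.helper11
  Groth.Agent.Lib.helper5.QuotDiag

variable {S : Scheme.{u}}

/-- General form of `DecentOpen.isSeparated_left_of_affine`. -/
theorem isSeparated_left_of_affine' {X : Sp S} {U V R : Over S} [IsAffine U.left]
    {b : (yon S).obj V ⟶ X} {a : (yon S).obj U ⟶ X} {s : R ⟶ V} {t : R ⟶ U}
    (sq : IsPullback ((yon S).map s) ((yon S).map t) b a) : IsSeparated s.left := by
  have hm : Mono (prod.lift t s) := by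
    constructor
    intro Z h1 h2 h12
    apply (yon S).map_injective
    apply sq.hom_ext
    · rw [← Functor.map_comp, ← Functor.map_comp]
      have := congrArg (fun k => k ≫ prod.snd) h12
      simp only [Category.assoc, prod.lift_snd] at this
      rw [this]
    · rw [← Functor.map_comp, ← Functor.map_comp]
      have := congrArg (fun k => k ≫ prod.fst) h12
      simp only [Category.assoc, prod.lift_fst] at this
      rw [this]
  have hm' : Mono (prod.lift t s).left := inferInstance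
  have hsep : IsSeparated (prod.snd : U ⨯ V ⟶ V).left :=
    MorphismProperty.of_isPullback (P := @IsSeparated) (isPullback_prod_left U V) inferInstance
  have hg : s.left = (prod.lift t s).left ≫ (prod.snd : U ⨯ V ⟶ V).left := by
    rw [← Over.comp_left, prod.lift_snd]
  rw [hg]
  infer_instance

/-- General form of `DecentOpen.exists_bound_of_qc_point`. -/
theorem exists_bound_of_qc_point' {X : Sp S} {U V R : Over S} [CompactSpace ↥U.left]
    {b : (yon S).obj V ⟶ X} {a : (yon S).obj U ⟶ X}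
    (hae : RepWith @Etale a) {s : R ⟶ V} {t : R ⟶ U}
    (sq : IsPullback ((yon S).map s) ((yon S).map t) b a) (v : ↥V.left) (p : FieldPt X)
    (hp : Points.mk p = Points.ofPt b v) (hq : RepWith @QuasiCompact p.toHom) :
    ∃ d : ℕ, ¬ DegGE s.left (d + 1) v := by
  obtain ⟨W, snd, fst, sqW⟩ := hq.1 a
  have hqc : QuasiCompact snd.left := hq.2 _ _ _ sqW
  obtain ⟨t', rfl⟩ := (yon S).map_surjective fst
  have het : Etale t'.left := hae.2 _ _ _ sqW.flip
  have hcW : CompactSpace ↥W.left := QuasiCompact.compactSpace_of_compactSpace snd.left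
  have hlqf : LocallyQuasiFinite t'.left := Groth.Agent.S10265.lqf_of_etale t'.left
  haveI hpa : IsAffine p.pt.left := by
    change IsAffine (Spec (CommRingCat.of p.K)); infer_instance
  have hqct : QuasiCompact t'.left := HasAffineProperty.iff_of_isAffine.mpr hcW
  haveI : IsLocallyArtinian p.pt.left := by
    change IsLocallyArtinian (Spec (CommRingCat.of p.K))
    rw [Scheme.isLocallyArtinianScheme_Spec]; infer_instance
  haveI hfin : IsFinite t'.left := IsFinite.of_locallyQuasiFinite t'.left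
  haveI : IsAffine W.left := isAffine_of_isAffineHom t'.left
  obtain ⟨d, hd⟩ := Groth.Agent.H1.FinEtNowhere.exists_bound_lifts_affine t'.left
  refine ⟨d, ?_⟩
  rintro ⟨K, hK, g, hg, hn⟩
  let str : Spec (.of K) ⟶ S := g ≫ V.hom
  let g' : Over.mk str ⟶ V := Over.homMk g rfl
  let q : FieldPt ((yon S).obj V) := ⟨K, str, ULift.up g'⟩
  have hq1 : Points.ofScheme V v = Points.mk q := by
    have := Points.ofScheme_apply_eq_mk V g (rfl : g ≫ V.hom = str)
    rwa [hg] at this
  have hq2 : Points.mk (q.map b) = Points.mk p := by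
    rw [← Points.map_mk, ← hq1, ← Points.ofPt_eq_map_ofScheme, hp]
  obtain ⟨Ω, hΩ, w, α, β, hαβ⟩ := exists_common_ext (q.map b) p hq2
  have hq3 : q.toHom = (yon S).map g' := toHom_mk_up str g'
  rw [FieldPt.toHom_map, hq3] at hαβ
  obtain ⟨α', rfl⟩ : ∃ α' : Over.mk w ⟶ Over.mk str, α' = α := ⟨α, rfl⟩
  have hepi : Epi α' := by
    haveI : Epi α'.left := epi_of_field (K := K) (Ω := Ω) α'.left
    exact (Over.forget S).epi_of_epi_map (by assumption)
  have h1 : (Lifts s.left g).encard ≤ d :=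
    calc (Lifts s.left g).encard = (LiftsO s g').encard := encard_lifts_eq_liftsO s g'
      _ = (Fib a ((yon S).map g' ≫ b)).encard := encard_liftsO_eq sq g'
      _ ≤ (Fib a ((yon S).map β ≫ p.toHom)).encard := by
          refine Set.encard_le_encard_of_injOn (f := fun h => α' ≫ h) ?_ ?_
          · intro h hh
            have hh' : (yon S).map h ≫ a = (yon S).map g' ≫ b := hh
            change (yon S).map (α' ≫ h) ≫ a = _
            rw [Functor.map_comp, Category.assoc, hh']
            exact hαβ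
          · intro h _ h' _ e
            exact (cancel_epi α').1 e
      _ = (LiftsO t' β).encard := (encard_liftsO_eq sqW β).symm
      _ = (Lifts t'.left (β.left : Spec (.of Ω) ⟶ p.pt.left)).encard :=
          (encard_lifts_eq_liftsO t' β).symm
      _ ≤ d := encard_le_of_forall_not_injective _ d (fun ℓ hℓ => hd Ω β.left ℓ hℓ)
  have h2 := hn.trans h1
  have h3 : d + 1 ≤ d := by exact_mod_cast h2
  omega

/-- The canonical map `U_A ×_X U_B ⟶ R = W ×_X W` hits every point lying over `A` and `B`. -/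
theorem mem_range_of_mem {X : Sp S} {W R P : Over S} (a : (yon S).obj W ⟶ X) (r₁ r₂ : R ⟶ W)
    (hk : IsPullback ((yon S).map r₁) ((yon S).map r₂) a a) (A B : W.left.Opens)
    (s : P ⟶ OpenSub.subOver W A) (t : P ⟶ OpenSub.subOver W B)
    (sq : IsPullback ((yon S).map s) ((yon S).map t) ((yon S).map (OpenSub.subOverι W A) ≫ a)
      ((yon S).map (OpenSub.subOverι W B) ≫ a))
    (θ : P ⟶ R) (h1 : θ ≫ r₁ = s ≫ OpenSub.subOverι W A) (h2 : θ ≫ r₂ = t ≫ OpenSub.subOverι W B)
    (r : ↥R.left) (hrA : r₁.left r ∈ A) (hrB : r₂.left r ∈ B) : r ∈ Set.range θ.left := by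
  have hrange₁ : Set.range (resι R r ≫ r₁).left ⊆ Set.range A.ι := by
    rw [Scheme.Opens.range_ι]
    rintro _ ⟨y, rfl⟩
    rw [Over.comp_left, Scheme.Hom.comp_apply, resι_left_apply]
    exact hrA
  have hrange₂ : Set.range (resι R r ≫ r₂).left ⊆ Set.range B.ι := by
    rw [Scheme.Opens.range_ι]
    rintro _ ⟨y, rfl⟩
    rw [Over.comp_left, Scheme.Hom.comp_apply, resι_left_apply]
    exact hrB
  have hw₁ : IsOpenImmersion.lift A.ι (resι R r ≫ r₁).left hrange₁ ≫ (OpenSub.subOver W A).hom =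
      (resPt R r).hom := by
    change _ ≫ A.ι ≫ W.hom = _
    rw [IsOpenImmersion.lift_fac_assoc]
    exact Over.w (resι R r ≫ r₁)
  have hw₂ : IsOpenImmersion.lift B.ι (resι R r ≫ r₂).left hrange₂ ≫ (OpenSub.subOver W B).hom =
      (resPt R r).hom := by
    change _ ≫ B.ι ≫ W.hom = _
    rw [IsOpenImmersion.lift_fac_assoc]
    exact Over.w (resι R r ≫ r₂)
  let ρ₁ : resPt R r ⟶ OpenSub.subOver W A := Over.homMk _ hw₁
  let ρ₂ : resPt R r ⟶ OpenSub.subOver W B := Over.homMk _ hw₂
  have hρ₁ : ρ₁ ≫ OpenSub.subOverι W A = resι R r ≫ r₁ := by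
    apply Over.OverMorphism.ext
    exact IsOpenImmersion.lift_fac _ _ _
  have hρ₂ : ρ₂ ≫ OpenSub.subOverι W B = resι R r ≫ r₂ := by
    apply Over.OverMorphism.ext
    exact IsOpenImmersion.lift_fac _ _ _
  have hw : (yon S).map ρ₁ ≫ ((yon S).map (OpenSub.subOverι W A) ≫ a) =
      (yon S).map ρ₂ ≫ ((yon S).map (OpenSub.subOverι W B) ≫ a) := by
    rw [← Category.assoc, ← Functor.map_comp, hρ₁, ← Category.assoc, ← Functor.map_comp, hρ₂,
      Functor.map_comp, Functor.map_comp, Category.assoc, Category.assoc, hk.w]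
  obtain ⟨φ, hφ⟩ := (yon S).map_surjective (sq.lift _ _ hw)
  have hφ₁ : φ ≫ s = ρ₁ := (yon S).map_injective (by rw [Functor.map_comp, hφ, sq.lift_fst])
  have hφ₂ : φ ≫ t = ρ₂ := (yon S).map_injective (by rw [Functor.map_comp, hφ, sq.lift_snd])
  have hφθ : φ ≫ θ = resι R r := by
    apply (yon S).map_injective
    apply hk.hom_ext
    · rw [← Functor.map_comp, ← Functor.map_comp, Category.assoc, h1, ← Category.assoc, hφ₁, hρ₁]
    · rw [← Functor.map_comp, ← Functor.map_comp, Category.assoc, h2, ← Category.assoc, hφ₂, hρ₂]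
  obtain ⟨y₀⟩ : Nonempty ↥(resPt R r).left :=
    (inferInstance : Nonempty ↥(Spec (R.left.residueField r)))
  refine ⟨φ.left y₀, ?_⟩
  rw [← Scheme.Hom.comp_apply, ← Over.comp_left, hφθ, resι_left_apply]

/-- Every subset of `r₁⁻¹ A ∩ r₂⁻¹ B` is compact, for affine opens `A`, `B` of the chart. -/
theorem isCompact_of_subset {X : Sp S} (hX : IsDecent X) {W R : Over S} [IsLocallyNoetherian W.left]
    (a : (yon S).obj W ⟶ X) (hae : RepWith @Etale a) (r₁ r₂ : R ⟶ W)
    (hk : IsPullback ((yon S).map r₁) ((yon S).map r₂) a a) (A B : W.left.Opens)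
    (hA : IsAffineOpen A) (hB : IsAffineOpen B) (T : Set ↥R.left)
    (hT : T ⊆ r₁.left ⁻¹' (A : Set ↥W.left) ∩ r₂.left ⁻¹' (B : Set ↥W.left)) : IsCompact T := by
  have hAe : RepWith @Etale ((yon S).map (OpenSub.subOverι W A) ≫ a) := (chart_comp a hae A.ι).1
  have hBe : RepWith @Etale ((yon S).map (OpenSub.subOverι W B) ≫ a) := (chart_comp a hae B.ι).1
  obtain ⟨P, t, s', sq'⟩ := hAe.rep ((yon S).map (OpenSub.subOverι W B) ≫ a)
  obtain ⟨s, rfl⟩ := (yon S).map_surjective s'
  haveI hAaff : IsAffine (OpenSub.subOver W A).left := hA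
  haveI hBaff : IsAffine (OpenSub.subOver W B).left := hB
  haveI hsep : IsSeparated s.left := isSeparated_left_of_affine' sq'
  haveI het : Etale s.left := hBe.2 _ _ _ sq'.flip
  haveI hAln : IsLocallyNoetherian (OpenSub.subOver W A).left :=
    (inferInstance : IsLocallyNoetherian A.toScheme)
  haveI hAn : IsNoetherian (OpenSub.subOver W A).left := {}
  haveI : NoetherianSpace ↥(OpenSub.subOver W A).left := inferInstance
  have hpt : ∀ v : ↥(OpenSub.subOver W A).left, ∃ d : ℕ, ¬ DegGE s.left (d + 1) v := by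
    intro v
    obtain ⟨p, hp, -, hq⟩ := hX (Points.ofPt ((yon S).map (OpenSub.subOverι W A) ≫ a) v)
    exact exists_bound_of_qc_point' hBe sq' v p hp hq
  obtain ⟨N, hN⟩ := exists_bound_of_noetherianSpace s.left hpt
  haveI hqc : QuasiCompact s.left := quasiCompact_of_not_degGE N s.left hN
  haveI hPc : CompactSpace ↥P.left := QuasiCompact.compactSpace_of_compactSpace s.left
  haveI hPln : IsLocallyNoetherian P.left := LocallyOfFiniteType.isLocallyNoetherian s.left
  haveI hPn : IsNoetherian P.left := {}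
  haveI : NoetherianSpace ↥P.left := inferInstance
  -- the canonical map to `R`
  have hw : (yon S).map (s ≫ OpenSub.subOverι W A) ≫ a = (yon S).map (t ≫ OpenSub.subOverι W B) ≫ a := by
    rw [Functor.map_comp, Functor.map_comp, Category.assoc, Category.assoc]
    exact sq'.w
  obtain ⟨θ, hθ⟩ := (yon S).map_surjective (hk.lift _ _ hw)
  have h1 : θ ≫ r₁ = s ≫ OpenSub.subOverι W A :=
    (yon S).map_injective (by rw [Functor.map_comp, hθ, hk.lift_fst])
  have h2 : θ ≫ r₂ = t ≫ OpenSub.subOverι W B :=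
    (yon S).map_injective (by rw [Functor.map_comp, hθ, hk.lift_snd])
  haveI hrn : NoetherianSpace ↥(Set.range θ.left) := NoetherianSpace.range θ.left θ.left.continuous
  refine (noetherianSpace_set_iff (Set.range θ.left)).mp hrn T ?_
  intro r hr
  exact mem_range_of_mem a r₁ r₂ hk A B s t sq' θ h1 h2 r (hT hr).1 (hT hr).2

theorem main (X : AlgSp.Space S)
    (hN : AlgSp.IsLocNoethSp X.obj) (hX : AlgSp.IsDecent X.obj) : AlgSp.IsQuasiSeparatedSp X.obj := by
  obtain ⟨W, a, hae, has, hW⟩ := hN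
  haveI : IsLocallyNoetherian W.left := hW
  obtain ⟨R, r₂, r₁', hk'⟩ := hae.rep a
  obtain ⟨r₁, rfl⟩ := (yon S).map_surjective r₁'
  refine repWith_diag_of_kernelPair (P := @QuasiCompact) X.property a hae has r₁ r₂ hk' ?_
  rw [quasiCompact_iff_forall_isAffineOpen]
  intro V hV
  have hp₁ : ∀ r : ↥R.left, (prod.fst : W ⨯ W ⟶ W).left ((prod.lift r₁ r₂).left r) = r₁.left r := by
    intro r
    rw [← Scheme.Hom.comp_apply, ← Over.comp_left, prod.lift_fst]
  have hp₂ : ∀ r : ↥R.left, (prod.snd : W ⨯ W ⟶ W).left ((prod.lift r₁ r₂).left r) = r₂.left r := by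
    intro r
    rw [← Scheme.Hom.comp_apply, ← Over.comp_left, prod.lift_snd]
  have hch : ∀ w : ↥W.left, ∃ A : W.left.Opens, IsAffineOpen A ∧ w ∈ A := by
    intro w
    obtain ⟨A, hA, hwA, -⟩ := exists_isAffineOpen_mem_and_subset (x := w) (U := ⊤) trivial
    exact ⟨A, hA, hwA⟩
  choose A hA hwA using hch
  let O : ↥(W ⨯ W).left → Set ↥(W ⨯ W).left := fun y =>
    (prod.fst : W ⨯ W ⟶ W).left ⁻¹' (A ((prod.fst : W ⨯ W ⟶ W).left y) : Set ↥W.left) ∩
      (prod.snd : W ⨯ W ⟶ W).left ⁻¹' (A ((prod.snd : W ⨯ W ⟶ W).left y) : Set ↥W.left)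
  have hOo : ∀ y, IsOpen (O y) := fun y =>
    ((A _).isOpen.preimage (prod.fst : W ⨯ W ⟶ W).left.continuous).inter
      ((A _).isOpen.preimage (prod.snd : W ⨯ W ⟶ W).left.continuous)
  have hcov : (V : Set ↥(W ⨯ W).left) ⊆ ⋃ y, O y := fun y _ =>
    Set.mem_iUnion.2 ⟨y, hwA _, hwA _⟩
  obtain ⟨F, hF⟩ := hV.isCompact.elim_finite_subcover O hOo hcov
  have e : ((prod.lift r₁ r₂).left ⁻¹ᵁ V : Set ↥R.left) =
      ⋃ y ∈ F, ((prod.lift r₁ r₂).left ⁻¹' (V : Set ↥(W ⨯ W).left) ∩
        (prod.lift r₁ r₂).left ⁻¹' (O y)) := by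
    ext r
    simp only [Set.mem_iUnion, Set.mem_inter_iff, Set.mem_preimage]
    constructor
    · intro hr
      have := hF hr
      simp only [Set.mem_iUnion] at this
      obtain ⟨y, hyF, hy⟩ := this
      exact ⟨y, hyF, hr, hy⟩
    · rintro ⟨y, _, hr, _⟩
      exact hr
  rw [e]
  refine F.isCompact_biUnion (fun y _ => ?_)
  refine isCompact_of_subset hX a hae r₁ r₂ hk' (A ((prod.fst : W ⨯ W ⟶ W).left y))
    (A ((prod.snd : W ⨯ W ⟶ W).left y)) (hA _) (hA _) _ ?_
  rintro r ⟨-, hr1, hr2⟩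
  refine ⟨?_, ?_⟩
  · rw [Set.mem_preimage, ← hp₁ r]; exact hr1
  · rw [Set.mem_preimage, ← hp₂ r]; exact hr2

end Groth.Agent.H1.DecentQS
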