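import Groth.Agent.Lib.Helper1.DimZeroAffine
import Groth.Agent.Lib.Helper1.GenFinF

/-!
# Quasi-separated schemes of dimension zero (helper1)

A quasi-separated scheme all of whose local rings are zero-dimensional is separated and all of its
quasi-compact opens are affine.
-/

set_option autoImplicit false
universe u
open CategoryTheory CategoryTheory.Limits AlgebraicGeometry TopologicalSpace Opposite

namespace Groth.Agent.H1.DimZeroSch

open Groth.Agent.H1.DimZeroAffine Groth.Agent.H1.GenFin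

variable {M : Scheme.{u}}

/-- A clopen part of an affine open is affine. -/
theorem isAffineOpen_of_clopen {A A' K : M.Opens} (hA : IsAffineOpen A) (h1 : A' ≤ A)
    (hcov : (A : Set M) ⊆ (A' : Set M) ∪ (K : Set M)) (hd : Disjoint (A' : Set M) (K : Set M)) :
    IsAffineOpen A' := by
  have hcl : IsClopen (hA.fromSpec ⁻¹' (A' : Set M)) := by
    refine ⟨?_, A'.isOpen.preimage hA.fromSpec.continuous⟩
    have hc : (hA.fromSpec ⁻¹' (A' : Set M))ᶜ = hA.fromSpec ⁻¹' (K : Set M) := by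
      ext p
      have hp : hA.fromSpec p ∈ (A : Set M) := by
        rw [← hA.range_fromSpec]; exact ⟨p, rfl⟩
      constructor
      · intro h
        rcases hcov hp with h' | h'
        · exact absurd h' h
        · exact h'
      · intro h h'
        exact Set.disjoint_left.1 hd h' h
    rw [← isOpen_compl_iff, hc]
    exact K.isOpen.preimage hA.fromSpec.continuous
  obtain ⟨e, -, hs⟩ := PrimeSpectrum.isClopen_iff.1 hcl
  have h2 : hA.fromSpec ⁻¹' (A' : Set M) = hA.fromSpec ⁻¹' (M.basicOpen e : Set M) := by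
    refine hs.trans ?_
    exact (congrArg (fun W : (Spec Γ(M, A)).Opens => (W : Set (Spec Γ(M, A))))
      (hA.fromSpec_preimage_basicOpen e)).symm
  have hAe : A' = M.basicOpen e := by
    ext1
    have h3 := congrArg (fun s => hA.fromSpec '' s) h2
    simp only [Set.image_preimage_eq_inter_range, hA.range_fromSpec] at h3
    rw [Set.inter_eq_left.2 h1, Set.inter_eq_left.2 (M.basicOpen_le e)] at h3
    exact h3
  rw [hAe]
  exact hA.basicOpen e

/-- In a quasi-separated scheme with zero-dimensional local rings, quasi-compact opens are affine. -/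
theorem isAffineOpen_of_isCompact [QuasiSeparatedSpace M]
    (h0 : ∀ x : M, ringKrullDim ↥(M.presheaf.stalk x) = 0) (V : M.Opens)
    (hV : IsCompact (V : Set M)) : IsAffineOpen V := by
  refine compact_open_induction_on (P := fun V => IsAffineOpen V) V hV (isAffineOpen_bot M) ?_
  intro V hVc A hVaff
  have hK : IsCompact ((V ⊓ A.1 : M.Opens) : Set M) :=
    QuasiSeparatedSpace.inter_isCompact _ _ V.2 hVc A.1.2 A.2.isCompact
  have hopen : IsOpen ((A.1 : Set M) \ (V : Set M)) := by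
    rw [isOpen_iff_forall_mem_open]
    rintro x ⟨hxA, hxV⟩
    obtain ⟨N, hxN, hNK⟩ := exists_open_disjoint_of_isCompact x (h0 x) A.2 hxA (V ⊓ A.1)
      inf_le_right hK (fun h => hxV h.1)
    refine ⟨((N ⊓ A.1 : M.Opens) : Set M), ?_, (N ⊓ A.1).isOpen, ⟨hxN, hxA⟩⟩
    rintro y ⟨hyN, hyA⟩
    exact ⟨hyA, fun hyV => Set.disjoint_left.1 hNK hyN ⟨hyV, hyA⟩⟩
  let A' : M.Opens := ⟨_, hopen⟩
  have hA' : IsAffineOpen A' := by
    refine isAffineOpen_of_clopen A.2 (A' := A') (K := V ⊓ A.1) (fun _ h => h.1) ?_ ?_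
    · intro y hy
      by_cases hyV : y ∈ V
      · exact Or.inr ⟨hyV, hy⟩
      · exact Or.inl ⟨hy, hyV⟩
    · rw [Set.disjoint_left]
      rintro y ⟨-, hyV⟩ ⟨hyV', -⟩
      exact hyV hyV'
  have hsup : V ⊔ A.1 = V ⊔ A' := by
    ext y
    simp only [Opens.coe_sup, Set.mem_union, SetLike.mem_coe]
    constructor
    · rintro (h | h)
      · exact Or.inl h
      · by_cases hyV : y ∈ V
        · exact Or.inl hyV
        · exact Or.inr ⟨h, hyV⟩
    · rintro (h | h)
      · exact Or.inl h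
      · exact Or.inr h.1
  rw [hsup]
  refine hVaff.sup_of_disjoint hA' ?_
  rw [← Opens.coe_disjoint, Set.disjoint_left]
  rintro y hyV ⟨-, hyV'⟩
  exact hyV' hyV


/-- A quasi-separated scheme without nontrivial specializations is separated. -/
theorem isSeparated_of_no_specialization [QuasiSeparatedSpace M]
    (h : ∀ x y : M, x ⤳ y → x = y) : M.IsSeparated := by
  haveI : QuasiSeparated (terminal.from M) := (quasiSeparatedSpace_iff_quasiSeparated M).1 inferInstance
  refine ⟨IsSeparated.of_valuativeCriterion _ ?_⟩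
  intro Sq
  constructor
  rintro ⟨l₁, hl₁, hl₁'⟩ ⟨l₂, hl₂, hl₂'⟩
  ext : 1
  dsimp only at *
  -- all points of `Spec R` go to the same point under `l₁` and `l₂`
  have hconst : ∀ (l : Spec (.of Sq.R) ⟶ M) (s : Spec (.of Sq.R)),
      l s = l (IsLocalRing.closedPoint Sq.R) := by
    intro l s
    exact h _ _ ((IsLocalRing.specializes_closedPoint s).map l.continuous)
  obtain ⟨k⟩ : Nonempty (Spec (.of Sq.K)) := inferInstance
  set ρ := Spec.map (CommRingCat.ofHom (algebraMap Sq.R Sq.K)) with hρ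
  have e1 : l₁ (ρ k) = Sq.i₁ k := by rw [← hl₁]; rfl
  have e2 : l₂ (ρ k) = Sq.i₁ k := by rw [← hl₂]; rfl
  obtain ⟨A, hA, hxA⟩ : ∃ A : M.Opens, IsAffineOpen A ∧ Sq.i₁ k ∈ A := by
    obtain ⟨_, ⟨A, hA, rfl⟩, hxA, -⟩ :=
      M.isBasis_affineOpens.exists_subset_of_mem_open (Set.mem_univ (Sq.i₁ k)) isOpen_univ
    exact ⟨A, hA, hxA⟩
  have hr₁ : Set.range l₁ ⊆ Set.range A.ι := by
    rw [Scheme.Opens.range_ι]
    rintro _ ⟨s, rfl⟩
    rw [hconst l₁ s, ← hconst l₁ (ρ k), e1]; exact hxA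
  have hr₂ : Set.range l₂ ⊆ Set.range A.ι := by
    rw [Scheme.Opens.range_ι]
    rintro _ ⟨s, rfl⟩
    rw [hconst l₂ s, ← hconst l₂ (ρ k), e2]; exact hxA
  let l₁' : Spec (.of Sq.R) ⟶ A.toScheme := IsOpenImmersion.lift A.ι l₁ hr₁
  let l₂' : Spec (.of Sq.R) ⟶ A.toScheme := IsOpenImmersion.lift A.ι l₂ hr₂
  have f₁ : l₁' ≫ A.ι = l₁ := IsOpenImmersion.lift_fac _ _ _
  have f₂ : l₂' ≫ A.ι = l₂ := IsOpenImmersion.lift_fac _ _ _
  haveI : IsAffine A.toScheme := hA
  have hc : CommSq (ρ ≫ l₁') ρ (terminal.from A.toScheme) (terminal.from _) :=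
    ⟨terminal.hom_ext _ _⟩
  let Sq' : ValuativeCommSq (terminal.from A.toScheme) := ⟨Sq.R, Sq.K, ρ ≫ l₁', terminal.from _, hc⟩
  have hsub : Subsingleton Sq'.commSq.LiftStruct :=
    IsSeparated.valuativeCriterion (terminal.from A.toScheme) Sq'
  let L₁ : Sq'.commSq.LiftStruct := ⟨l₁', rfl, terminal.hom_ext _ _⟩
  let L₂ : Sq'.commSq.LiftStruct := ⟨l₂', by
    change ρ ≫ l₂' = ρ ≫ l₁'
    rw [← cancel_mono A.ι, Category.assoc, Category.assoc, f₁, f₂, hl₁, hl₂], terminal.hom_ext _ _⟩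
  have h12 : L₁ = L₂ := Subsingleton.elim _ _
  have : l₁' = l₂' := congrArg CommSq.LiftStruct.l h12
  rw [← f₁, ← f₂, this]

/-- **Quasi-separated schemes of dimension zero** are separated with affine quasi-compact opens. -/
theorem isSeparated_and_isAffineOpen [QuasiSeparatedSpace M]
    (h0 : ∀ x : M, ringKrullDim ↥(M.presheaf.stalk x) = 0) :
    M.IsSeparated ∧ ∀ V : M.Opens, IsCompact (V : Set M) → IsAffineOpen V := by
  refine ⟨isSeparated_of_no_specialization ?_, isAffineOpen_of_isCompact h0⟩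
  intro x y hxy
  exact maximal_of_dim_zero y (h0 y) x hxy

end Groth.Agent.H1.DimZeroSch
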