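import Groth.Agent.Lib.Helper1.EtStalkPull

set_option autoImplicit false
universe u

namespace Groth.Agent.H1.ExtZeroStalk

open CategoryTheory CategoryTheory.Limits Opposite GrothendieckTopology AlgebraicGeometry
open Groth.Agent.H1.EtStalk Groth.Agent.H1.EtGerm Groth.Agent.H1.EtStalkPull

section Wrappers

variable {X : Scheme.{u}} {Ω : Type u} [Field Ω] [IsSepClosed Ω]
  (ξ : Spec (CommRingCat.of Ω) ⟶ X)

/-- the germ morphism `F(V) ⟶ F_ξ` at a lift of `ξ` -/
noncomputable def germHom (F : EtCoh.Ab X) (V : X.Etale) (y : Lift ξ V) :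
    F.obj.obj (op V) ⟶ (EtCoh.stalk ξ).obj F :=
  (Scheme.pointSmallEtale ξ).toPresheafFiber V y F.obj

variable {ξ}

theorem stalk_hom_ext {F : EtCoh.Ab X} {T : AddCommGrpCat.{u + 1}}
    {f g : (EtCoh.stalk ξ).obj F ⟶ T}
    (h : ∀ (V : X.Etale) (y : Lift ξ V), germHom ξ F V y ≫ f = germHom ξ F V y ≫ g) : f = g :=
  Point.presheafFiber_hom_ext _ h

theorem germHom_w (F : EtCoh.Ab X) {V V' : X.Etale} (k : V' ⟶ V) (y : Lift ξ V') :
    F.obj.map k.op ≫ germHom ξ F V' y = germHom ξ F V (Lift.map k y) :=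
  Point.toPresheafFiber_w _ k y F.obj

theorem germHom_naturality {F G : EtCoh.Ab X} (a : F ⟶ G) (V : X.Etale) (y : Lift ξ V) :
    germHom ξ F V y ≫ (EtCoh.stalk ξ).map a = a.hom.app (op V) ≫ germHom ξ G V y :=
  Point.toPresheafFiber_naturality _ a.hom V y

/-- maps out of a stalk -/
noncomputable def stalkDesc {F : EtCoh.Ab X} {T : AddCommGrpCat.{u + 1}}
    (φ : ∀ (V : X.Etale) (_ : Lift ξ V), F.obj.obj (op V) ⟶ T)
    (hφ : ∀ ⦃V' V : X.Etale⦄ (k : V' ⟶ V) (y : Lift ξ V'),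
      F.obj.map k.op ≫ φ V' y = φ V (Lift.map k y)) : (EtCoh.stalk ξ).obj F ⟶ T :=
  (Scheme.pointSmallEtale ξ).presheafFiberDesc φ hφ

theorem germHom_stalkDesc {F : EtCoh.Ab X} {T : AddCommGrpCat.{u + 1}}
    (φ : ∀ (V : X.Etale) (_ : Lift ξ V), F.obj.obj (op V) ⟶ T)
    (hφ : ∀ ⦃V' V : X.Etale⦄ (k : V' ⟶ V) (y : Lift ξ V'),
      F.obj.map k.op ≫ φ V' y = φ V (Lift.map k y)) (V : X.Etale) (y : Lift ξ V) :
    germHom ξ F V y ≫ stalkDesc φ hφ = φ V y :=
  Point.toPresheafFiber_presheafFiberDesc _ _ _ _ _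

end Wrappers

variable {U X : Scheme.{u}} (j : U ⟶ X) [AlgebraicGeometry.Etale j]
  {Ω : Type u} [Field Ω] [IsSepClosed Ω] (ξ : Spec (CommRingCat.of Ω) ⟶ X)

/-- the geometric points of `U` over `ξ` -/
abbrev Idx : Type u := {ζ : Spec (CommRingCat.of Ω) ⟶ U // ζ ≫ j = ξ}

variable {j ξ}

/-- the morphism to `V` underlying a lift of `ξ` to `V → U → X` -/
noncomputable def homU {V : U.Etale} (y : Lift ξ ((EtShriek.compEtale j).obj V)) :
    Spec (CommRingCat.of Ω) ⟶ V.left := (Lift.hom y :)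

theorem homU_comp {V : U.Etale} (y : Lift ξ ((EtShriek.compEtale j).obj V)) :
    homU y ≫ V.hom ≫ j = ξ := Lift.hom_comp y

/-- the geometric point of `U` below a lift of `ξ` to `V → U → X` -/
noncomputable def zOf {V : U.Etale} (y : Lift ξ ((EtShriek.compEtale j).obj V)) : Idx j ξ :=
  ⟨homU y ≫ V.hom, by rw [Category.assoc]; exact homU_comp y⟩

/-- a lift of `ξ` to `V → U → X` as a lift of the point of `U` below it -/
noncomputable def down {V : U.Etale} (y : Lift ξ ((EtShriek.compEtale j).obj V)) :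
    Lift (zOf y).1 V :=
  Lift.mk _ (homU y) rfl

/-- a lift of a point `ζ` of `U` over `ξ` to `V`, as a lift of `ξ` to `V → U → X` -/
noncomputable def up (ζ : Idx j ξ) {V : U.Etale} (y' : Lift ζ.1 V) :
    Lift ξ ((EtShriek.compEtale j).obj V) :=
  Lift.mk ξ (show Spec (CommRingCat.of Ω) ⟶ ((EtShriek.compEtale j).obj V).left from (Lift.hom y' :)) (by
    change Lift.hom y' ≫ V.hom ≫ j = ξ
    rw [← Category.assoc, Lift.hom_comp y', ζ.2])

theorem up_hom (ζ : Idx j ξ) {V : U.Etale} (y' : Lift ζ.1 V) :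
    homU (up ζ y') = Lift.hom y' := rfl

theorem down_hom {V : U.Etale} (y : Lift ξ ((EtShriek.compEtale j).obj V)) :
    Lift.hom (down y) = homU y := rfl

theorem up_down {V : U.Etale} (y : Lift ξ ((EtShriek.compEtale j).obj V)) :
    up (zOf y) (down y) = y := Lift.ext rfl

theorem zOf_up (ζ : Idx j ξ) {V : U.Etale} (y' : Lift ζ.1 V) : zOf (up ζ y') = ζ :=
  Subtype.ext (Lift.hom_comp y')

theorem zOf_map {V V' : U.Etale} (k : V' ⟶ V) (y : Lift ξ ((EtShriek.compEtale j).obj V')) :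
    zOf (Lift.map ((EtShriek.compEtale j).map k) y) = zOf y := by
  apply Subtype.ext
  change (homU y ≫ k.left) ≫ V.hom = homU y ≫ V'.hom
  rw [Category.assoc]
  exact congrArg (homU y ≫ ·) (MorphismProperty.Over.w k)

theorem up_map (ζ : Idx j ξ) {V V' : U.Etale} (k : V' ⟶ V) (y' : Lift ζ.1 V') :
    Lift.map ((EtShriek.compEtale j).map k) (up ζ y') = up ζ (Lift.map k y') := Lift.ext rfl

theorem down_map_hom {V V' : U.Etale} (k : V' ⟶ V) (y : Lift ξ ((EtShriek.compEtale j).obj V')) :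
    Lift.hom (down (Lift.map ((EtShriek.compEtale j).map k) y)) = Lift.hom (Lift.map k (down y)) := rfl


/-! ### Maps into the restricted skyscraper sheaf -/

variable [EtShriek.JCont j]

variable (j ξ) in
/-- the restriction to `U` of the skyscraper sheaf at `ξ` -/
noncomputable abbrev R1 (M : AddCommGrpCat.{u + 1}) : EtCoh.Ab U :=
  (EtShriek.restrAlong j).obj ((Scheme.pointSmallEtale ξ).skyscraperSheaf M)

/-- projections of the sections of `R1 M` -/
noncomputable def R1π (M : AddCommGrpCat.{u + 1}) (V : U.Etale)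
    (y : Lift ξ ((EtShriek.compEtale j).obj V)) : (R1 j ξ M).obj.obj (op V) ⟶ M :=
  Pi.π (fun _ : Lift ξ ((EtShriek.compEtale j).obj V) => M) y

theorem R1_hom_ext {M A : AddCommGrpCat.{u + 1}} {V : U.Etale}
    {f g : A ⟶ (R1 j ξ M).obj.obj (op V)} (h : ∀ y, f ≫ R1π M V y = g ≫ R1π M V y) : f = g :=
  Pi.hom_ext _ _ h

/-- maps into the sections of `R1 M` -/
noncomputable def R1lift {M A : AddCommGrpCat.{u + 1}} {V : U.Etale}
    (φ : Lift ξ ((EtShriek.compEtale j).obj V) → (A ⟶ M)) : A ⟶ (R1 j ξ M).obj.obj (op V) :=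
  Pi.lift φ

theorem R1lift_π {M A : AddCommGrpCat.{u + 1}} {V : U.Etale}
    (φ : Lift ξ ((EtShriek.compEtale j).obj V) → (A ⟶ M)) (y) :
    R1lift φ ≫ R1π M V y = φ y := Pi.lift_π _ _

theorem R1_map_π (M : AddCommGrpCat.{u + 1}) {V V' : U.Etale} (k : V' ⟶ V)
    (y : Lift ξ ((EtShriek.compEtale j).obj V')) :
    (R1 j ξ M).obj.map k.op ≫ R1π M V' y =
      R1π M V (Lift.map ((EtShriek.compEtale j).map k) y) :=
  (Pi.map'_comp_π _ _ y).trans (Category.comp_id _)

omit [Etale j] [EtShriek.JCont j] in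
theorem key {F : EtCoh.Ab U} {M : AddCommGrpCat.{u + 1}}
    (d : ∀ ζ : Idx j ξ, (EtCoh.stalk ζ.1).obj F ⟶ M) {V : U.Etale} {ζ₁ ζ₂ : Idx j ξ}
    (h : ζ₁ = ζ₂) (y₁ : Lift ζ₁.1 V) (y₂ : Lift ζ₂.1 V) (hy : Lift.hom y₁ = Lift.hom y₂) :
    germHom ζ₁.1 F V y₁ ≫ d ζ₁ = germHom ζ₂.1 F V y₂ ≫ d ζ₂ := by
  subst h
  rw [Lift.ext hy]

/-- components of `glue` -/
noncomputable def glueApp {F : EtCoh.Ab U} {M : AddCommGrpCat.{u + 1}}
    (d : ∀ ζ : Idx j ξ, (EtCoh.stalk ζ.1).obj F ⟶ M) (V : U.Etale) :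
    F.obj.obj (op V) ⟶ (R1 j ξ M).obj.obj (op V) :=
  R1lift (fun y => germHom (zOf y).1 F V (down y) ≫ d (zOf y))

theorem glueApp_π {F : EtCoh.Ab U} {M : AddCommGrpCat.{u + 1}}
    (d : ∀ ζ : Idx j ξ, (EtCoh.stalk ζ.1).obj F ⟶ M) (V : U.Etale) (y) :
    glueApp d V ≫ R1π M V y = germHom (zOf y).1 F V (down y) ≫ d (zOf y) :=
  R1lift_π _ y

theorem glueApp_naturality {F : EtCoh.Ab U} {M : AddCommGrpCat.{u + 1}}
    (d : ∀ ζ : Idx j ξ, (EtCoh.stalk ζ.1).obj F ⟶ M) {V V' : U.Etale} (k : V' ⟶ V) :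
    F.obj.map k.op ≫ glueApp d V' = glueApp d V ≫ (R1 j ξ M).obj.map k.op := by
  apply R1_hom_ext
  intro y
  rw [Category.assoc, Category.assoc, R1_map_π, glueApp_π, glueApp_π, ← Category.assoc,
    germHom_w]
  exact (key d (zOf_map k y) _ _ (down_map_hom k y)).symm

/-- gluing maps out of the stalks at the points over `ξ` -/
noncomputable def glue {F : EtCoh.Ab U} {M : AddCommGrpCat.{u + 1}}
    (d : ∀ ζ : Idx j ξ, (EtCoh.stalk ζ.1).obj F ⟶ M) : F ⟶ R1 j ξ M :=
  ⟨{ app := fun V => glueApp d V.unop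
     naturality := fun _ _ k => glueApp_naturality d k.unop }⟩

theorem glue_app {F : EtCoh.Ab U} {M : AddCommGrpCat.{u + 1}}
    (d : ∀ ζ : Idx j ξ, (EtCoh.stalk ζ.1).obj F ⟶ M) (V : U.Etale) :
    (glue d).hom.app (op V) = glueApp d V := rfl

/-- the map out of the stalk at a point over `ξ` given by a map to the restricted skyscraper -/
noncomputable def unglue {F : EtCoh.Ab U} {M : AddCommGrpCat.{u + 1}} (c : F ⟶ R1 j ξ M)
    (ζ : Idx j ξ) : (EtCoh.stalk ζ.1).obj F ⟶ M :=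
  stalkDesc (fun V y' => c.hom.app (op V) ≫ R1π M V (up ζ y'))
    (by
      intro V' V k y'
      have e : F.obj.map k.op ≫ c.hom.app (op V') =
        c.hom.app (op V) ≫ (R1 j ξ M).obj.map k.op := c.hom.naturality k.op
      rw [← Category.assoc, e, Category.assoc, R1_map_π, up_map])

theorem germHom_unglue {F : EtCoh.Ab U} {M : AddCommGrpCat.{u + 1}} (c : F ⟶ R1 j ξ M)
    (ζ : Idx j ξ) (V : U.Etale) (y' : Lift ζ.1 V) :
    germHom ζ.1 F V y' ≫ unglue c ζ = c.hom.app (op V) ≫ R1π M V (up ζ y') :=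
  germHom_stalkDesc _ _ _ _

theorem glue_unglue {F : EtCoh.Ab U} {M : AddCommGrpCat.{u + 1}} (c : F ⟶ R1 j ξ M) :
    glue (unglue c) = c := by
  apply Sheaf.hom_ext
  ext V : 2
  induction V using Opposite.rec with | _ V => ?_
  apply R1_hom_ext
  intro y
  rw [glue_app, glueApp_π, germHom_unglue, up_down]

theorem unglue_glue {F : EtCoh.Ab U} {M : AddCommGrpCat.{u + 1}}
    (d : ∀ ζ : Idx j ξ, (EtCoh.stalk ζ.1).obj F ⟶ M) : unglue (glue d) = d := by
  funext ζ
  apply stalk_hom_ext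
  intro V y'
  rw [germHom_unglue, glue_app, glueApp_π]
  exact key d (zOf_up ζ y') _ _ rfl

/-- maps to the restricted skyscraper sheaf are families of maps out of the stalks at the points
over `ξ` -/
noncomputable def Θ (F : EtCoh.Ab U) (M : AddCommGrpCat.{u + 1}) :
    (∀ ζ : Idx j ξ, (EtCoh.stalk ζ.1).obj F ⟶ M) ≃ (F ⟶ R1 j ξ M) where
  toFun := glue
  invFun := unglue
  left_inv := unglue_glue
  right_inv := glue_unglue

theorem comp_hom_app {F G H : EtCoh.Ab U} (a : F ⟶ G) (b : G ⟶ H) (V : U.Etale) :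
    (a ≫ b).hom.app (op V) = a.hom.app (op V) ≫ b.hom.app (op V) := rfl

theorem glue_naturality_left {F G : EtCoh.Ab U} {M : AddCommGrpCat.{u + 1}} (a : F ⟶ G)
    (d : ∀ ζ : Idx j ξ, (EtCoh.stalk ζ.1).obj G ⟶ M) :
    glue (fun ζ => (EtCoh.stalk ζ.1).map a ≫ d ζ) = a ≫ glue d := by
  apply Sheaf.hom_ext
  ext V : 2
  induction V using Opposite.rec with | _ V => ?_
  apply R1_hom_ext
  intro y
  rw [glue_app, glueApp_π, comp_hom_app, Category.assoc, glue_app, glueApp_π, ← Category.assoc,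
    ← Category.assoc, germHom_naturality]


/-! ### Injectivity of the restricted skyscraper and exactness of extension by zero -/

theorem injective_R1 (M : AddCommGrpCat.{u + 1}) [Injective M] : Injective (R1 j ξ M) := by
  constructor
  intro F G c a _
  have hm : ∀ ζ : Idx j ξ, Mono ((EtCoh.stalk ζ.1).map a) := fun ζ => inferInstance
  refine ⟨glue (fun ζ => Injective.factorThru (unglue c ζ) ((EtCoh.stalk ζ.1).map a)), ?_⟩
  rw [← glue_naturality_left]
  have : (fun ζ : Idx j ξ => (EtCoh.stalk ζ.1).map a ≫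
      Injective.factorThru (unglue c ζ) ((EtCoh.stalk ζ.1).map a)) = unglue c := by
    funext ζ
    exact Injective.comp_factorThru _ _
  rw [this, glue_unglue]

/-- a left adjoint whose right adjoint preserves injectives preserves monomorphisms, if the
target has enough injectives -/
theorem mono_map_of_adj {C D : Type*} [Category C] [Category D] [EnoughInjectives D]
    {L : C ⥤ D} {R : D ⥤ C} (adj : L ⊣ R) (hR : ∀ M : D, Injective M → Injective (R.obj M))
    {F G : C} (a : F ⟶ G) [Mono a] : Mono (L.map a) := by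
  have := hR _ (inferInstance : Injective (Injective.under (L.obj F)))
  let e : G ⟶ R.obj (Injective.under (L.obj F)) :=
    Injective.factorThru (adj.homEquiv _ _ (Injective.ι (L.obj F))) a
  have he : a ≫ e = adj.homEquiv _ _ (Injective.ι (L.obj F)) := Injective.comp_factorThru _ _
  have h2 : L.map a ≫ (adj.homEquiv _ _).symm e = Injective.ι (L.obj F) := by
    rw [← Adjunction.homEquiv_naturality_left_symm, he, Equiv.symm_apply_apply]
  have : Mono (L.map a ≫ (adj.homEquiv _ _).symm e) := by rw [h2]; infer_instance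
  exact mono_of_mono (L.map a) ((adj.homEquiv _ _).symm e)

variable (j ξ) in
/-- the adjunction between `stalk_ξ ∘ j_!` and the restricted skyscraper -/
noncomputable def adj1 : EtShriek.extZero j ⋙ EtCoh.stalk ξ ⊣
    (Scheme.pointSmallEtale ξ).skyscraperSheafFunctor ⋙ EtShriek.restrAlong j :=
  (EtShriek.extZeroAdj j).comp (Scheme.pointSmallEtale ξ).skyscraperSheafAdjunction

theorem mono_stalk_extZero {F G : EtCoh.Ab U} (a : F ⟶ G) [Mono a] :
    Mono ((EtCoh.stalk ξ).map ((EtShriek.extZero j).map a)) :=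
  mono_map_of_adj (adj1 j ξ) (fun M _ => injective_R1 M) a


theorem mono_extZero {F G : EtCoh.Ab U} (a : F ⟶ G) [Mono a] :
    Mono ((EtShriek.extZero j).map a) :=
  mono_of_stalk _ (fun s =>
    (AddCommGrpCat.mono_iff_injective _).1 (mono_stalk_extZero (ξ := geomPt X s) a))

instance additive_restrAlong : (EtShriek.restrAlong j).Additive where
  map_add := rfl

instance additive_extZero : (EtShriek.extZero j).Additive :=
  (EtShriek.extZeroAdj j).left_adjoint_additive

variable (j) in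
theorem preservesFiniteLimits_extZero : PreservesFiniteLimits (EtShriek.extZero j) := by
  rw [Functor.preservesFiniteLimits_iff_forall_exact_map_and_mono]
  intro S hS
  have : PreservesFiniteColimits (EtShriek.extZero j) := by
    have := (EtShriek.extZeroAdj j).leftAdjoint_preservesColimits
    infer_instance
  have h := (Functor.preservesFiniteColimits_iff_forall_exact_map_and_epi
    (EtShriek.extZero j)).1 this S hS
  have := hS.mono_f
  exact ⟨h.1, mono_extZero S.f⟩

end Groth.Agent.H1.ExtZeroStalk
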