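import Groth.Agent.Lib.Helper1.ExtZeroShriek
import Groth.Agent.Lib.Helper1.ExtZeroStalk
import Groth.Agent.Lib.Helper18.JCont
import Groth.Prelude.Def_EtCore

/-!
# Injective abelian étale sheaves are divisible (helper1)
-/

set_option autoImplicit false
universe u
open CategoryTheory CategoryTheory.Limits AlgebraicGeometry Opposite

namespace Groth.Agent.H1.DivInj

open Groth.Agent.H1.ExtZero Groth.Agent.H1.ExtZeroShriek Groth.Agent.Lib.Helper18.JCont

variable {X : Scheme.{u}}

theorem isExtZero_of_objIso {U U' : X.Etale} (e : U ≅ U') {A : AddCommGrpCat.{u + 1}}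
    {F : EtCoh.Ab X} {g : A ⟶ F.obj.obj (op U)} (h : IsExtZero U A F g) :
    IsExtZero U' A F (g ≫ F.obj.map e.inv.op) := by
  intro G
  have : (fun φ : F ⟶ G => (g ≫ F.obj.map e.inv.op) ≫ φ.hom.app (op U')) =
      (fun a : A ⟶ G.obj.obj (op U) => a ≫ G.obj.map e.inv.op) ∘
        (fun φ : F ⟶ G => g ≫ φ.hom.app (op U)) := by
    funext φ
    change (g ≫ F.obj.map e.inv.op) ≫ φ.hom.app (op U') =
      (g ≫ φ.hom.app (op U)) ≫ G.obj.map e.inv.op
    rw [Category.assoc, Category.assoc, φ.hom.naturality]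
  rw [this]
  refine Function.Bijective.comp ?_ (h G)
  rw [Function.bijective_iff_has_inverse]
  refine ⟨fun a' => a' ≫ G.obj.map e.hom.op, fun a => ?_, fun a' => ?_⟩
  · change (a ≫ G.obj.map e.inv.op) ≫ G.obj.map e.hom.op = a
    rw [Category.assoc, ← Functor.map_comp, ← op_comp, e.hom_inv_id, op_id, CategoryTheory.Functor.map_id,
      Category.comp_id]
  · change (a' ≫ G.obj.map e.hom.op) ≫ G.obj.map e.inv.op = a'
    rw [Category.assoc, ← Functor.map_comp, ← op_comp, e.inv_hom_id, op_id, CategoryTheory.Functor.map_id,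
      Category.comp_id]

/-- the constant sheaf is the extension by zero from the terminal object -/
theorem isExtZero_const (Y : Scheme.{u}) (A : AddCommGrpCat.{u + 1}) :
    IsExtZero (EtCoh.top Y) A ((constantSheaf Y.smallEtaleTopology AddCommGrpCat.{u + 1}).obj A)
      ((constantSheafAdj Y.smallEtaleTopology AddCommGrpCat.{u + 1}
        (EtCore.topIsTerminal Y)).unit.app A) := by
  intro G
  have : (fun φ : (constantSheaf Y.smallEtaleTopology AddCommGrpCat.{u + 1}).obj A ⟶ G =>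
        (constantSheafAdj Y.smallEtaleTopology AddCommGrpCat.{u + 1}
          (EtCore.topIsTerminal Y)).unit.app A ≫ φ.hom.app (op (EtCoh.top Y))) =
      (constantSheafAdj Y.smallEtaleTopology AddCommGrpCat.{u + 1}
        (EtCore.topIsTerminal Y)).homEquiv A G := by
    funext φ
    rw [Adjunction.homEquiv_unit]
    rfl
  rw [this]
  exact Equiv.bijective _

instance : PreservesFiniteLimits (constantSheaf X.smallEtaleTopology AddCommGrpCat.{u + 1}) := by
  unfold constantSheaf
  infer_instance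

instance : ((sheafSections X.smallEtaleTopology AddCommGrpCat.{u + 1}).obj
    (op (EtCoh.top X))).Additive where
  map_add := rfl

instance : (constantSheaf X.smallEtaleTopology AddCommGrpCat.{u + 1}).Additive :=
  (constantSheafAdj X.smallEtaleTopology AddCommGrpCat.{u + 1}
    (EtCore.topIsTerminal X)).left_adjoint_additive

theorem mono_nsmul_cof_int (N : ℕ) (hN : 0 < N) : Mono (N • 𝟙 (cof.{u} ℤ)) := by
  rw [AddCommGrpCat.mono_iff_injective, injective_iff_map_eq_zero]
  intro a ha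
  have h1 : (N • 𝟙 (cof.{u} ℤ)) a = N • a := rfl
  rw [h1] at ha
  apply ULift.ext
  have h2 : N • a.down = 0 := congrArg ULift.down ha
  rcases smul_eq_zero.1 h2 with h | h
  · exact absurd h hN.ne'
  · exact h

theorem mono_nsmul_const (Y : Scheme.{u}) (N : ℕ) (hN : 0 < N) :
    Mono (N • 𝟙 ((constantSheaf Y.smallEtaleTopology AddCommGrpCat.{u + 1}).obj (cof.{u} ℤ))) := by
  haveI := mono_nsmul_cof_int.{u} N hN
  have h : (constantSheaf Y.smallEtaleTopology AddCommGrpCat.{u + 1}).map (N • 𝟙 (cof.{u} ℤ)) =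
      N • 𝟙 _ := by
    rw [Functor.map_nsmul, CategoryTheory.Functor.map_id]
  rw [← h]
  infer_instance

/-- `j_! ℤ` is torsion free -/
theorem mono_nsmul_ez (U : X.Etale) (N : ℕ) (hN : 0 < N) : Mono (N • 𝟙 (ez U (cof.{u} ℤ))) := by
  haveI : Etale U.hom := U.prop
  have h0 := isExtZero_const U.left (cof.{u} ℤ)
  have h1 := isExtZero_shriek U.hom h0
  let e : (EtShriek.compEtale U.hom).obj (EtCoh.top U.left) ≅ U :=
    MorphismProperty.Over.isoMk (Iso.refl _) (by
      change 𝟙 U.left ≫ U.hom = 𝟙 U.left ≫ U.hom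
      rfl)
  have h2 := isExtZero_of_objIso e h1
  let i : ez U (cof.{u} ℤ) ≅ (EtShriek.extZero U.hom).obj
      ((constantSheaf U.left.smallEtaleTopology AddCommGrpCat.{u + 1}).obj (cof.{u} ℤ)) :=
    (isExtZero_ez U (cof.{u} ℤ)).iso h2
  haveI := mono_nsmul_const U.left N hN
  haveI : Mono ((EtShriek.extZero U.hom).map (N • 𝟙
      ((constantSheaf U.left.smallEtaleTopology AddCommGrpCat.{u + 1}).obj (cof.{u} ℤ)))) :=
    Groth.Agent.H1.ExtZeroStalk.mono_extZero _
  have h3 : N • 𝟙 (ez U (cof.{u} ℤ)) = i.hom ≫ (EtShriek.extZero U.hom).map (N • 𝟙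
      ((constantSheaf U.left.smallEtaleTopology AddCommGrpCat.{u + 1}).obj (cof.{u} ℤ))) ≫
      i.inv := by
    rw [Functor.map_nsmul, CategoryTheory.Functor.map_id, Preadditive.nsmul_comp, Preadditive.comp_nsmul,
      Category.id_comp, Iso.hom_inv_id]
  rw [h3]
  infer_instance

/-- the homomorphism `ℤ → F(U)` defined by a section -/
noncomputable def secHomZ {F : EtCoh.Ab X} {U : X.Etale} (s : F.obj.obj (op U)) :
    cof.{u} ℤ ⟶ F.obj.obj (op U) :=
  AddCommGrpCat.ofHom ((zmultiplesHom _ s).comp AddEquiv.ulift.toAddMonoidHom)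

theorem secHomZ_one {F : EtCoh.Ab X} {U : X.Etale} (s : F.obj.obj (op U)) :
    secHomZ s ⟨1⟩ = s := by
  change (1 : ℤ) • s = s
  rw [one_zsmul]

/-- **sections of an injective abelian sheaf are divisible** -/
theorem exists_nsmul_eq (I : EtCoh.Ab X) [Injective I] (N : ℕ) (hN : 0 < N) (U : X.Etale)
    (s : I.obj.obj (op U)) : ∃ s' : I.obj.obj (op U), N • s' = s := by
  haveI := mono_nsmul_ez U N hN
  have hE := isExtZero_ez U (cof.{u} ℤ)
  let σ : ez U (cof.{u} ℤ) ⟶ I := hE.desc (secHomZ s)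
  let σ' : ez U (cof.{u} ℤ) ⟶ I := Injective.factorThru σ (N • 𝟙 (ez U (cof.{u} ℤ)))
  have hσ' : (N • 𝟙 (ez U (cof.{u} ℤ))) ≫ σ' = σ := Injective.comp_factorThru _ _
  refine ⟨σ'.hom.app (op U) (gen U (cof.{u} ℤ) ⟨1⟩), ?_⟩
  have h1 : σ.hom.app (op U) (gen U (cof.{u} ℤ) ⟨1⟩) = s := by
    have := congrArg (fun m : cof.{u} ℤ ⟶ I.obj.obj (op U) => m ⟨1⟩) (hE.fac (secHomZ s))
    exact this.trans (secHomZ_one s)
  rw [← h1, ← hσ', Preadditive.nsmul_comp, Category.id_comp]
  rfl

end Groth.Agent.H1.DivInj
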