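import Mathlib
import Groth.Agent.S1179
import Groth.Agent.S1180
import Groth.Agent.Lib.Helper22.FlatSrc

/-!
Locally of finite presentation and etale descend along etale surjections on the source (helper1).

* `finitePresentation_of_etale_comp`: `R → A → B` with `A → B` etale and `Spec B → Spec A` surjective, `B` finitely
  presented over `R`; then `A` is finitely presented over `R`.
* `locallyOfFinitePresentation_of_etale_comp`, `etale_of_etale_comp`: scheme versions.
-/

set_option autoImplicit false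
universe u
open TensorProduct

namespace Groth.Agent.H1.ESDLfp

set_option maxHeartbeats 1000000
set_option synthInstance.maxHeartbeats 200000

/-- A faithfully flat etale model over a finite type `ℤ`-algebra, containing a prescribed finite set. -/
lemma exists_ff_model {A B : Type u} [CommRing A] [CommRing B] [Algebra A B] [Algebra.Etale A B]
    (hsurj : Function.Surjective (PrimeSpectrum.comap (algebraMap A B))) (s : Finset A) :
    ∃ (A₀ : Subalgebra ℤ A) (A₂ : Subalgebra A₀ A) (B₀ : Type u) (_ : CommRing B₀) (_ : Algebra A₀ B₀),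
      A₀.FG ∧ A₂.FG ∧ (↑s ⊆ (A₂ : Set A)) ∧ Algebra.Etale A₀ B₀ ∧
      Module.FaithfullyFlat A₂ (A₂ ⊗[A₀] B₀) ∧ Nonempty (B ≃ₐ[A] A ⊗[A₀] B₀) := by
  classical
  obtain ⟨A₀, B₀, _, _, hfg, hét, ⟨e⟩⟩ := Algebra.Etale.exists_subalgebra_fg ℤ A B
  have hsurj' : Function.Surjective (PrimeSpectrum.comap (algebraMap A (A ⊗[A₀] B₀))) := by
    intro p
    obtain ⟨q, hq⟩ := hsurj p
    refine ⟨PrimeSpectrum.comap (e.symm : A ⊗[A₀] B₀ →+* B) q, ?_⟩
    rw [← PrimeSpectrum.comap_comp_apply]
    have : (e.symm : A ⊗[A₀] B₀ →+* B).comp (algebraMap A (A ⊗[A₀] B₀)) = algebraMap A B := by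
      ext x
      exact e.symm.commutes x
    rw [this, hq]
  -- (i) the image of Spec B₀ → Spec A₀ is open
  have hopen : IsOpen (Set.range (PrimeSpectrum.comap (algebraMap A₀ B₀))) :=
    (PrimeSpectrum.isOpenMap_comap_of_hasGoingDown_of_finitePresentation).isOpen_range
  obtain ⟨I, hI⟩ : ∃ I : Ideal A₀, (Set.range (PrimeSpectrum.comap (algebraMap A₀ B₀)))ᶜ =
      PrimeSpectrum.zeroLocus I :=
    (PrimeSpectrum.isClosed_iff_zeroLocus_ideal _).mp hopen.isClosed_compl
  have hmem : ∀ {C : Type u} [CommRing C] [Algebra A₀ C] (q : PrimeSpectrum C),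
      ¬ I ≤ q.asIdeal.comap (algebraMap A₀ C) →
      q ∈ Set.range (PrimeSpectrum.comap (algebraMap C (C ⊗[A₀] B₀))) := by
    intro C _ _ q hq
    rw [Groth.Agent.S1179.range_comap_tensor]
    show PrimeSpectrum.comap (algebraMap A₀ C) q ∈
      Set.range (PrimeSpectrum.comap (algebraMap A₀ B₀))
    by_contra hcon
    have : PrimeSpectrum.comap (algebraMap A₀ C) q ∈ PrimeSpectrum.zeroLocus (I : Set A₀) := by
      rw [← hI]; exact hcon
    exact hq this
  -- (ii) I A = A
  have hmap : I.map (algebraMap A₀ A) = ⊤ := by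
    by_contra hne
    obtain ⟨M, hM, hle⟩ := Ideal.exists_le_maximal _ hne
    have hP : (⟨M, hM.isPrime⟩ : PrimeSpectrum A) ∈
        Set.range (PrimeSpectrum.comap (algebraMap A (A ⊗[A₀] B₀))) := hsurj' _
    rw [Groth.Agent.S1179.range_comap_tensor] at hP
    have h1 : PrimeSpectrum.comap (algebraMap A₀ A) ⟨M, hM.isPrime⟩ ∈
        PrimeSpectrum.zeroLocus (I : Set A₀) := by
      show (I : Set A₀) ⊆ _
      exact Ideal.map_le_iff_le_comap.mp hle
    rw [← hI] at h1
    exact h1 hP
  -- (iii) write 1 as a combination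
  have h1mem : (1 : A) ∈ Submodule.span A ((algebraMap A₀ A) '' (I : Set A₀)) := by
    have : (1 : A) ∈ I.map (algebraMap A₀ A) := hmap ▸ Submodule.mem_top
    exact this
  obtain ⟨t, htI, c, hc⟩ := (Submodule.mem_span_image_iff_exists_fun A).mp h1mem
  -- (v) the finitely generated subalgebra
  let S : Set A := Set.range c ∪ (s : Set A)
  have hSfin : S.Finite := (Set.finite_range c).union s.finite_toSet
  let A₂ : Subalgebra A₀ A := Algebra.adjoin A₀ S
  have hA₂fg : A₂.FG := Subalgebra.fg_def.mpr ⟨S, hSfin, rfl⟩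
  have hcmem : ∀ i, c i ∈ A₂ := fun i => Algebra.subset_adjoin (Or.inl ⟨i, rfl⟩)
  have hsmem : (↑s ⊆ (A₂ : Set A)) := fun x hx => Algebra.subset_adjoin (Or.inr hx)
  -- (vii) faithful flatness
  have hff : Module.FaithfullyFlat A₂ (A₂ ⊗[A₀] B₀) := by
    refine Module.FaithfullyFlat.of_comap_surjective (A := A₂) (B := A₂ ⊗[A₀] B₀) ?_
    intro q
    apply hmem q
    intro hle
    have h1 : (1 : A₂) ∈ q.asIdeal := by
      have : (1 : A₂) = ∑ i : t, (⟨c i, hcmem i⟩ : A₂) * algebraMap A₀ A₂ (i : A₀) := by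
        apply Subtype.ext
        simp only [Subalgebra.coe_one, AddSubmonoidClass.coe_finsetSum, Subalgebra.coe_mul,
          Subalgebra.coe_algebraMap]
        rw [← hc]
        simp [smul_eq_mul]
      rw [this]
      exact Ideal.sum_mem _ fun i _ => Ideal.mul_mem_left _ _ (hle (htI i.2))
    exact q.isPrime.ne_top ((Ideal.eq_top_iff_one _).mpr h1)
  exact ⟨A₀, A₂, B₀, inferInstance, inferInstance, hfg, hA₂fg, hsmem, hét, hff, ⟨e⟩⟩

/-- core step: a finitely presented model `A' → A` (surjective), with a faithfully flat etale `A₀`-algebra `B₀`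
such that `B = A ⊗[A₀] B₀`. -/
lemma finitePresentation_core {R A' A B A₀ B₀ : Type u} [CommRing R] [CommRing A'] [CommRing A] [CommRing B]
    [CommRing A₀] [CommRing B₀]
    [Algebra R A'] [Algebra R A] [Algebra A' A] [IsScalarTower R A' A]
    [Algebra A₀ A'] [Algebra A₀ A] [IsScalarTower A₀ A' A]
    [Algebra A B] [Algebra R B] [IsScalarTower R A B]
    [Algebra A₀ B₀] [Algebra.Etale A₀ B₀] [Module.FaithfullyFlat A₀ B₀]
    [Algebra.FinitePresentation R A']
    (hsurj : Function.Surjective (algebraMap A' A))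
    (e : B ≃ₐ[A] A ⊗[A₀] B₀)
    [Algebra.FinitePresentation R B] : Algebra.FinitePresentation R A := by
  -- B as an A'-algebra
  let _ : Algebra A' B := ((algebraMap A B).comp (algebraMap A' A)).toAlgebra
  have t3 : IsScalarTower A' A B := IsScalarTower.of_algebraMap_eq (R := A') (S := A) (A := B) (fun r => rfl)
  have t4 : IsScalarTower R A' B := IsScalarTower.of_algebraMap_eq (R := R) (S := A') (A := B) (fun r => by
    rw [IsScalarTower.algebraMap_apply A' A B, ← IsScalarTower.algebraMap_apply R A' A,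
      ← IsScalarTower.algebraMap_apply R A B])
  have hfpB : Algebra.FinitePresentation A' B :=
    Algebra.FinitePresentation.of_restrict_scalars_finitePresentation R A' B
  -- the map B' → A ⊗ B₀
  have hφsurj : Function.Surjective (Algebra.ofId A' A) := hsurj
  let ψ₁ : A' ⊗[A₀] B₀ →ₐ[A'] A ⊗[A₀] B₀ :=
    Algebra.TensorProduct.map (Algebra.ofId A' A) (AlgHom.id A₀ B₀)
  have hψ₁surj : Function.Surjective ψ₁ :=
    Algebra.TensorProduct.map_surjective (Algebra.ofId A' A) (AlgHom.id A₀ B₀) hφsurj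
      Function.surjective_id
  have hker : RingHom.ker ψ₁ = (RingHom.ker (Algebra.ofId A' A)).map
      (Algebra.TensorProduct.includeLeft : A' →ₐ[A₀] A' ⊗[A₀] B₀) :=
    Algebra.TensorProduct.rTensor_ker (Algebra.ofId A' A) hφsurj
  have hfpAB₀ : Algebra.FinitePresentation A' (A ⊗[A₀] B₀) :=
    Algebra.FinitePresentation.equiv (e.restrictScalars A')
  have hfpB' : Algebra.FinitePresentation A' (A' ⊗[A₀] B₀) := inferInstance
  have hkerfg : (RingHom.ker ψ₁.toRingHom).FG :=
    Algebra.FinitePresentation.ker_fG_of_surjective (R := A') (A := A' ⊗[A₀] B₀) (B := A ⊗[A₀] B₀) ψ₁ hψ₁surj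
  have hffB' : Module.FaithfullyFlat A' (A' ⊗[A₀] B₀) := inferInstance
  have hI : (RingHom.ker (algebraMap A' A)).FG := by
    refine Ideal.FG.of_FG_map_of_faithfullyFlat (R := A') (S := A' ⊗[A₀] B₀) ?_
    have h1 : (RingHom.ker (algebraMap A' A)).map (algebraMap A' (A' ⊗[A₀] B₀)) = RingHom.ker ψ₁.toRingHom := by
      have : RingHom.ker ψ₁.toRingHom = RingHom.ker ψ₁ := rfl
      rw [this, hker]
      rfl
    rw [h1]
    exact hkerfg
  have hfpA'A : Algebra.FinitePresentation A' A :=
    Algebra.FinitePresentation.of_surjective (f := Algebra.ofId A' A) hφsurj hI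
  exact Algebra.FinitePresentation.trans R A' A

/-- model over a finite type `ℤ`-algebra -/
lemma finitePresentation_of_model {R A B A₀ B₀ : Type u} [CommRing R] [CommRing A] [CommRing B]
    [CommRing A₀] [CommRing B₀]
    [Algebra R A] [Algebra A B] [Algebra R B] [IsScalarTower R A B]
    [Algebra A₀ A] [Algebra A₀ B₀] [Algebra.Etale A₀ B₀] [Module.FaithfullyFlat A₀ B₀]
    [Algebra.FiniteType ℤ A₀]
    (e : B ≃ₐ[A] A ⊗[A₀] B₀)
    (s : Finset A) (hs : Algebra.adjoin R (s : Set A) = ⊤)
    (hsA₀ : (s : Set A) ⊆ Set.range (algebraMap A₀ A))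
    [Algebra.FinitePresentation R B] : Algebra.FinitePresentation R A := by
  let _ : Algebra A₀ (R ⊗[ℤ] A₀) := Algebra.TensorProduct.rightAlgebra
  have hfpA₀ : Algebra.FinitePresentation ℤ A₀ := Algebra.FinitePresentation.of_finiteType.mp inferInstance
  have hfpA' : Algebra.FinitePresentation R (R ⊗[ℤ] A₀) := inferInstance
  have hcomm : ∀ (x y : A), Commute x y := fun x y => Commute.all x y
  let φ : (R ⊗[ℤ] A₀) →ₐ[R] A := Algebra.TensorProduct.lift (Algebra.ofId R A)
    ((Algebra.ofId A₀ A).restrictScalars ℤ) (fun _ _ => hcomm _ _)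
  have hφ1 : ∀ a : A₀, φ ((1 : R) ⊗ₜ[ℤ] a) = algebraMap A₀ A a := by
    intro a
    show (Algebra.TensorProduct.lift (Algebra.ofId R A)
      ((Algebra.ofId A₀ A).restrictScalars ℤ) (fun _ _ => hcomm _ _)) ((1 : R) ⊗ₜ[ℤ] a) = _
    rw [Algebra.TensorProduct.lift_tmul, map_one, one_mul]
    rfl
  have hφsurj : Function.Surjective φ := by
    rw [← AlgHom.range_eq_top, eq_top_iff, ← hs]
    apply Algebra.adjoin_le
    intro x hx
    obtain ⟨a, rfl⟩ := hsA₀ hx
    exact ⟨(1 : R) ⊗ₜ[ℤ] a, hφ1 a⟩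
  let _ : Algebra (R ⊗[ℤ] A₀) A := φ.toRingHom.toAlgebra
  have hA'A : ∀ x : (R ⊗[ℤ] A₀), algebraMap (R ⊗[ℤ] A₀) A x = φ x := fun x => rfl
  have t1 : IsScalarTower R (R ⊗[ℤ] A₀) A :=
    IsScalarTower.of_algebraMap_eq (R := R) (S := (R ⊗[ℤ] A₀)) (A := A) (fun r => by
      rw [hA'A, AlgHom.commutes])
  have t2 : IsScalarTower A₀ (R ⊗[ℤ] A₀) A :=
    IsScalarTower.of_algebraMap_eq (R := A₀) (S := (R ⊗[ℤ] A₀)) (A := A) (fun a => by
      rw [hA'A]
      have : algebraMap A₀ (R ⊗[ℤ] A₀) a = (1 : R) ⊗ₜ[ℤ] a := rfl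
      rw [this, hφ1])
  exact finitePresentation_core (R := R) (A' := R ⊗[ℤ] A₀) (A := A) (B := B) (A₀ := A₀) (B₀ := B₀)
    hφsurj e

/-- Finite presentation descends along a faithfully flat etale map on the source. -/
lemma finitePresentation_of_etale_comp {R A B : Type u} [CommRing R] [CommRing A] [CommRing B]
    [Algebra R A] [Algebra A B] [Algebra R B] [IsScalarTower R A B] [Algebra.Etale A B]
    (hsurj : Function.Surjective (PrimeSpectrum.comap (algebraMap A B)))
    [Algebra.FinitePresentation R B] : Algebra.FinitePresentation R A := by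
  have hft : Algebra.FiniteType R A := Groth.Agent.S1179.finiteType_of_etale_comp (R := R) (A := A) (B := B) hsurj
  obtain ⟨s, hs⟩ := hft.out
  obtain ⟨A₀, A₂, B₀, _, _, hfg0, hfg2, hsA₂, hét, hff, ⟨e⟩⟩ := exists_ff_model hsurj s
  have h0 : Algebra.FiniteType ℤ A₀ := (Subalgebra.fg_iff_finiteType A₀).mp hfg0
  have h2 : Algebra.FiniteType A₀ A₂ := (Subalgebra.fg_iff_finiteType A₂).mp hfg2
  have h02 : Algebra.FiniteType ℤ A₂ := Algebra.FiniteType.trans h0 h2
  let e' : B ≃ₐ[A] A ⊗[A₂] (A₂ ⊗[A₀] B₀) :=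
    e.trans (Algebra.TensorProduct.cancelBaseChange A₀ A₂ A A B₀).symm
  refine finitePresentation_of_model (R := R) (A := A) (B := B) (A₀ := A₂) (B₀ := A₂ ⊗[A₀] B₀) e' s hs ?_
  intro x hx
  exact ⟨⟨x, hsA₂ hx⟩, rfl⟩


lemma ringHom_finitePresentation_of_etale_comp {R A B : Type u} [CommRing R] [CommRing A] [CommRing B]
    (φ : R →+* A) (ψ : A →+* B) (hψ : ψ.Etale)
    (hs : Function.Surjective (PrimeSpectrum.comap ψ)) (h : (ψ.comp φ).FinitePresentation) :
    φ.FinitePresentation := by
  algebraize [φ, ψ, ψ.comp φ]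
  exact finitePresentation_of_etale_comp (R := R) (A := A) (B := B) hs

open CategoryTheory AlgebraicGeometry

/-- locally of finite presentation descends along an etale surjection on the source. -/
theorem locallyOfFinitePresentation_of_etale_comp {X' X Y : Scheme.{u}} (f : X' ⟶ X) (g : X ⟶ Y)
    [Etale f] [Surjective f] [LocallyOfFinitePresentation (f ≫ g)] : LocallyOfFinitePresentation g :=
  Groth.Agent.S1179.descend_source (P := @LocallyOfFinitePresentation)
    ringHom_finitePresentation_of_etale_comp f g inferInstance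

/-- etale descends along an etale surjection on the source. -/
theorem etale_of_etale_comp {X' X Y : Scheme.{u}} (f : X' ⟶ X) (g : X ⟶ Y)
    [Etale f] [Surjective f] [Etale (f ≫ g)] : Etale g := by
  rw [Etale.iff_flat_and_formallyUnramified]
  have h1 : Flat g := Groth.Agent.Lib.helper22.flat_of_flat_comp f g
  have h2 : FormallyUnramified g := (Groth.Agent.S1180.result f g).1
  have h3 : LocallyOfFinitePresentation g := locallyOfFinitePresentation_of_etale_comp f g
  exact ⟨h1, h2, h3⟩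

end Groth.Agent.H1.ESDLfp
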