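import Mathlib

/-!
# A functorial embedding into injectives in a Grothendieck abelian category (helper1)
-/

set_option autoImplicit false
universe w v u
open CategoryTheory CategoryTheory.Limits MorphismProperty ZeroObject

namespace Groth.Agent.H1.FunInj

variable (C : Type u) [Category.{v} C] [Abelian C] [IsGrothendieckAbelian.{w} C]

/-- `X ↦ (X ⟶ 0)` -/
noncomputable def arrowToZero : C ⥤ Arrow C where
  obj X := Arrow.mk (0 : X ⟶ 0)
  map f := Arrow.homMk f (𝟙 0) (by simp)

/-- a functor with values in injective objects -/
noncomputable def Iinj : C ⥤ C :=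
  arrowToZero C ⋙ (functorialFactorizationData (monomorphisms C) (monomorphisms C).rlp).Z

/-- the natural monomorphism `X ⟶ Iinj X` -/
noncomputable def η : 𝟭 C ⟶ Iinj C where
  app X := (functorialFactorizationData (monomorphisms C) (monomorphisms C).rlp).i.app
    (Arrow.mk (0 : X ⟶ 0))
  naturality X Y f :=
    (functorialFactorizationData (monomorphisms C) (monomorphisms C).rlp).i.naturality
      ((arrowToZero C).map f)

instance (X : C) : Mono ((η C).app X) :=
  inferInstanceAs (Mono (IsGrothendieckAbelian.monoMapFactorizationDataRlp (0 : X ⟶ 0)).i)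

instance (X : C) : Injective ((Iinj C).obj X) :=
  inferInstanceAs (Injective (IsGrothendieckAbelian.monoMapFactorizationDataRlp (0 : X ⟶ 0)).Z)

end Groth.Agent.H1.FunInj
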