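import Groth.Agent.Lib.Helper1.FiltExtStep
import Groth.Agent.Lib.Helper1.FunInj

/-!
# `Ext^n(Z, -)` and filtered colimits in a Grothendieck abelian category (helper1)

`main`: if `Ext^0(Z, -)` commutes with `J`-shaped filtered colimits (elementwise: `SurjAt`/`InjAt` in
degree `0`) and `J`-shaped colimits of injective objects are `Ext^{>0}(Z, -)`-acyclic, then
`Ext^n(Z, -)` commutes with `J`-shaped colimits for all `n` (elementwise).
-/

set_option autoImplicit false
universe w w' v₁ u₁ v₂ u₂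
open CategoryTheory CategoryTheory.Limits CategoryTheory.Abelian

namespace Groth.Agent.H1.FiltExt

variable {𝒜 : Type u₁} [Category.{v₁} 𝒜] [Abelian 𝒜] {J : Type u₂} [Category.{v₂} J]
  [HasColimitsOfShape J 𝒜]

/-- the coprojections, as a natural transformation from evaluation to `colim` -/
noncomputable def ιNat (j : J) : (evaluation J 𝒜).obj j ⟶ (colim : (J ⥤ 𝒜) ⥤ 𝒜) where
  app K := colimit.ι K j
  naturality K K' φ := (ι_colimMap φ j).symm

/-- the filtered system of short complexes attached to a short complex of diagrams -/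
noncomputable abbrev Tf (S : ShortComplex (J ⥤ 𝒜)) : J ⥤ ShortComplex 𝒜 :=
  (ShortComplex.functorEquivalence J 𝒜).functor.obj S

/-- its cocone, with point the short complex of colimits -/
noncomputable def cT (S : ShortComplex (J ⥤ 𝒜)) : Cocone (Tf S) where
  pt := S.map colim
  ι :=
    { app := fun j => S.mapNatTrans (ιNat j)
      naturality := fun j k f => by
        apply ShortComplex.hom_ext
        · exact (colimit.w S.X₁ f).trans (Category.comp_id _).symm
        · exact (colimit.w S.X₂ f).trans (Category.comp_id _).symm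
        · exact (colimit.w S.X₃ f).trans (Category.comp_id _).symm }

omit [HasColimitsOfShape J 𝒜] in
theorem shortExact_Tf (S : ShortComplex (J ⥤ 𝒜)) (hS : S.ShortExact) (j : J) :
    ((Tf S).obj j).ShortExact :=
  hS.map_of_exact ((evaluation J 𝒜).obj j)

theorem shortExact_cT [HasExactColimitsOfShape J 𝒜] (S : ShortComplex (J ⥤ 𝒜))
    (hS : S.ShortExact) : (cT S).pt.ShortExact :=
  hS.map_of_exact colim

variable [IsGrothendieckAbelian.{w} 𝒜]

/-- the functorial embedding of a diagram into a diagram of injectives -/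
noncomputable def emb (K : J ⥤ 𝒜) : K ⟶ K ⋙ FunInj.Iinj.{w} 𝒜 :=
  (Functor.rightUnitor K).inv ≫ Functor.whiskerLeft K (FunInj.η.{w} 𝒜)

instance mono_emb (K : J ⥤ 𝒜) : Mono (emb.{w} K) := by
  haveI : ∀ j, Mono ((emb.{w} K).app j) := fun j => by
    dsimp [emb]
    infer_instance
  exact NatTrans.mono_of_mono_app _

/-- `0 ⟶ K ⟶ K ⋙ I ⟶ coker ⟶ 0` -/
noncomputable def SJ (K : J ⥤ 𝒜) : ShortComplex (J ⥤ 𝒜) :=
  ShortComplex.mk (emb.{w} K) (cokernel.π (emb.{w} K)) (cokernel.condition _)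

omit [HasColimitsOfShape J 𝒜] in
theorem SJ_shortExact (K : J ⥤ 𝒜) : (SJ.{w} K).ShortExact :=
  { exact := ShortComplex.exact_cokernel _
    mono_f := inferInstanceAs (Mono (emb.{w} K))
    epi_g := inferInstanceAs (Epi (cokernel.π (emb.{w} K))) }

theorem main [IsFiltered J] [HasExactColimitsOfShape J 𝒜] [HasExt.{w'} 𝒜] (Z : 𝒜)
    (h0S : ∀ K : J ⥤ 𝒜, SurjAt Z 0 (pt := colimit K) K.obj (colimit.ι K))
    (h0I : ∀ K : J ⥤ 𝒜, InjAt Z 0 (pt := colimit K) K.obj (fun _ _ f => K.map f) (colimit.ι K))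
    (hac : ∀ (D : J ⥤ 𝒜), (∀ j, Injective (D.obj j)) →
      ∀ (n : ℕ) (x : Ext.{w'} Z (colimit D) (n + 1)), x = 0) :
    ∀ (n : ℕ) (K : J ⥤ 𝒜), SurjAt Z n (pt := colimit K) K.obj (colimit.ι K) ∧
      InjAt Z n (pt := colimit K) K.obj (fun _ _ f => K.map f) (colimit.ι K) := by
  intro n
  induction n with
  | zero => exact fun K => ⟨h0S K, h0I K⟩
  | succ n ih =>
    intro K
    have hS := SJ_shortExact.{w} K
    have hinj : ∀ j, Injective ((K ⋙ FunInj.Iinj.{w} 𝒜).obj j) := fun j =>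
      inferInstanceAs (Injective ((FunInj.Iinj.{w} 𝒜).obj (K.obj j)))
    exact step Z (Tf (SJ.{w} K)) (cT (SJ.{w} K)) (shortExact_Tf _ hS) (shortExact_cT _ hS) n
      (hac (K ⋙ FunInj.Iinj.{w} 𝒜) hinj n)
      (fun j x => by
        haveI : Injective ((Tf (SJ.{w} K)).obj j).X₂ := hinj j
        exact Ext.eq_zero_of_injective x)
      (ih (SJ.{w} K).X₃).1 (ih (SJ.{w} K).X₃).2 (ih (SJ.{w} K).X₂).1

end Groth.Agent.H1.FiltExt
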