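import Groth.Agent.Lib.Helper1.EtCartanC
import Groth.Agent.Lib.Helper1.FiltExtMain

/-!
# Étale cohomology of a qcqs scheme and filtered colimits, elementwise form (helper1)

For `X` quasi-compact quasi-separated, `J` filtered (any universe, with the evident instances), a
diagram `K : J ⥤ EtCoh.Ab X` and a colimit cocone `c`:
`surjAt_of_isColimit`: every class in `H^n(X, c.pt)` comes from some `H^n(X, K j)`;
`injAt_of_isColimit`: a class of `H^n(X, K j)` dying in `H^n(X, c.pt)` dies in some `H^n(X, K k)`.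
Also: `mulSeq F a : ℕ ⥤ EtCoh.Ab X`, the sequence `F ⟶ F ⟶ ⋯` with transition maps multiplication by
`a 0, a 1, …`, and `eq_zero_of_locally`, `isZero_of_sections`.
-/

set_option autoImplicit false
universe v₂ u₂ u
open CategoryTheory CategoryTheory.Limits AlgebraicGeometry Opposite

namespace Groth.Agent.H1.EtFiltH

open Groth.Agent.H1.EtCartan Groth.Agent.H1.FiltExt CategoryTheory.Abelian

variable {X : Scheme.{u}}

section Elementwise

variable [CompactSpace X] [QuasiSeparatedSpace X] {J : Type u₂} [Category.{v₂} J] [IsFiltered J]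
  [HasColimitsOfShape J AddCommGrpCat.{u + 1}]
  [PreservesColimitsOfShape J (forget AddCommGrpCat.{u + 1})]

theorem h0S (K : J ⥤ EtCoh.Ab X) (c : Cocone K) (hc : IsColimit c) :
    SurjAt (ZZ X) 0 (pt := c.pt) K.obj (fun j => c.ι.app j) := by
  intro x
  have hT := EtCore.topIsTerminal X
  obtain ⟨j, t, ht⟩ := sec_rep K c hc (EtCoh.top X) good_top (Sheaf.H.equiv₀ c.pt hT x)
  refine ⟨j, (Sheaf.H.equiv₀ (K.obj j) hT).symm t, ?_⟩
  apply (Sheaf.H.equiv₀ c.pt hT).injective
  have h1 := Sheaf.H.equiv₀_naturality (hT := hT) (c.ι.app j)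
    ((Sheaf.H.equiv₀ (K.obj j) hT).symm t)
  rw [AddEquiv.apply_symm_apply] at h1
  exact h1.symm.trans ht

theorem h0I (K : J ⥤ EtCoh.Ab X) (c : Cocone K) (hc : IsColimit c) :
    InjAt (ZZ X) 0 (pt := c.pt) K.obj (fun _ _ f => K.map f) (fun j => c.ι.app j) := by
  intro j y hy
  have hT := EtCore.topIsTerminal X
  have h1 := Sheaf.H.equiv₀_naturality (hT := hT) (c.ι.app j) y
  have hy' : Sheaf.H.map (c.ι.app j) 0 y = 0 := hy
  rw [hy', map_zero] at h1
  obtain ⟨k, f, hf⟩ := sec_eq K c hc (EtCoh.top X) good_top j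
    (Sheaf.H.equiv₀ (K.obj j) hT y) 0 (h1.trans (map_zero _).symm)
  refine ⟨k, f, ?_⟩
  apply (Sheaf.H.equiv₀ (K.obj k) hT).injective
  have h2 := Sheaf.H.equiv₀_naturality (hT := hT) (K.map f) y
  rw [map_zero] at hf ⊢
  exact h2.symm.trans hf

variable [HasExactColimitsOfShape J (EtCoh.Ab X)]

theorem elementwise (n : ℕ) (K : J ⥤ EtCoh.Ab X) :
    SurjAt (ZZ X) n (pt := colimit K) K.obj (colimit.ι K) ∧
      InjAt (ZZ X) n (pt := colimit K) K.obj (fun _ _ f => K.map f) (colimit.ι K) :=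
  Groth.Agent.H1.FiltExt.main.{u + 1} (ZZ X)
    (fun K => h0S K (colimit.cocone K) (colimit.isColimit K))
    (fun K => h0I K (colimit.cocone K) (colimit.isColimit K))
    (fun D hD m x => by
      have hsub : Subsingleton (EtCoh.H X (colimit.cocone D).pt (m + 1)) :=
        subsingleton_H_of_isColimit D (colimit.cocone D) (colimit.isColimit D)
          (fun j => by
            haveI := hD j
            exact cex_of_injective_sheaf (D.obj j)) m
      exact hsub.elim x 0) n K

theorem surjAt_of_isColimit (n : ℕ) (K : J ⥤ EtCoh.Ab X) (c : Cocone K) (hc : IsColimit c) :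
    SurjAt (ZZ X) n (pt := c.pt) K.obj (fun j => c.ι.app j) := by
  intro x
  let e := (colimit.isColimit K).coconePointUniqueUpToIso hc
  obtain ⟨j, y, hy⟩ := (elementwise n K).1 (push (ZZ X) e.inv n x)
  refine ⟨j, y, ?_⟩
  have h1 : c.ι.app j = colimit.ι K j ≫ e.hom :=
    ((colimit.isColimit K).comp_coconePointUniqueUpToIso_hom hc j).symm
  change push (ZZ X) (c.ι.app j) n y = x
  rw [h1, push_comp, hy, ← push_comp, e.inv_hom_id]
  change x.comp (Ext.mk₀ (𝟙 _)) (add_zero n) = x
  exact Ext.comp_mk₀_id x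

theorem injAt_of_isColimit (n : ℕ) (K : J ⥤ EtCoh.Ab X) (c : Cocone K) (hc : IsColimit c) :
    InjAt (ZZ X) n (pt := c.pt) K.obj (fun _ _ f => K.map f) (fun j => c.ι.app j) := by
  intro j y hy
  let e := (colimit.isColimit K).coconePointUniqueUpToIso hc
  have h1 : colimit.ι K j = c.ι.app j ≫ e.inv :=
    ((colimit.isColimit K).comp_coconePointUniqueUpToIso_inv hc j).symm
  apply (elementwise n K).2 j y
  rw [h1, push_comp]
  have hy' : push (ZZ X) (c.ι.app j) n y = 0 := hy
  rw [hy', map_zero]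

end Elementwise

/-- a section which vanishes étale locally around every point is zero -/
theorem eq_zero_of_locally (G : EtCoh.Ab X) (E : X.Etale) (s : G.obj.obj (op E))
    (h : ∀ e : E.left, ∃ (N : X.Etale) (n : N ⟶ E), e ∈ Set.range n.left.base ∧
      G.obj.map n.op s = 0) : s = 0 := by
  let S : Sieve E :=
    { arrows := fun N n => G.obj.map n.op s = 0
      downward_closed := by
        intro N N' n hn k
        rw [op_comp, Functor.map_comp]
        change G.obj.map k.op (G.obj.map n.op s) = 0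
        rw [hn, map_zero] }
  have hcov : S ∈ X.smallEtaleTopology E := by
    apply Groth.Agent.H1.ClosedDense.mem_smallEtaleTopology
    intro e
    obtain ⟨N, n, ⟨y, hy⟩, hn⟩ := h e
    exact ⟨N, n, y, hn, hy⟩
  refine Sheaf.isSeparated G E S hcov s 0 (fun N n hn => ?_)
  change G.obj.map n.op s = G.obj.map n.op 0
  rw [map_zero]
  exact hn

/-- a sheaf all of whose sections over affine objects vanish is zero -/
theorem isZero_of_sections (G : EtCoh.Ab X)
    (h : ∀ (U : X.Etale), IsAffine U.left → ∀ s : G.obj.obj (op U), s = 0) : IsZero G := by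
  have h' : ∀ (U : X.Etale) (s : G.obj.obj (op U)), s = 0 := by
    intro U s
    apply eq_zero_of_locally
    intro e
    obtain ⟨_, ⟨W, hW, rfl⟩, heW, -⟩ := U.left.isBasis_affineOpens.exists_subset_of_mem_open
      (Set.mem_univ e) isOpen_univ
    obtain ⟨W', rfl⟩ : ∃ W' : U.left.Opens, W' = W := ⟨W, rfl⟩
    refine ⟨Groth.Agent.H1.EtGerm.restrictOpen U W', Groth.Agent.H1.EtGerm.restrictOpenι U W',
      ⟨⟨e, heW⟩, rfl⟩, h (Groth.Agent.H1.EtGerm.restrictOpen U W') hW _⟩
  rw [IsZero.iff_id_eq_zero]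
  apply Sheaf.hom_ext
  ext U s
  exact h' U.unop _

section MulSeq

/-- the sequence `F ⟶ F ⟶ ⋯` with transition maps multiplication by `a 0, a 1, …` -/
noncomputable def mulSeq {𝒜 : Type*} [Category 𝒜] [Preadditive 𝒜] (F : 𝒜) (a : ℕ → ℤ) : ℕ ⥤ 𝒜 where
  obj _ := F
  map {k l} _ := (∏ i ∈ Finset.Ico k l, a i) • 𝟙 F
  map_id k := by simp
  map_comp {k l m} f g := by
    rw [Preadditive.zsmul_comp, Preadditive.comp_zsmul, Category.comp_id, smul_smul,
      Finset.prod_Ico_consecutive _ (leOfHom f) (leOfHom g)]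

theorem mulSeq_map {𝒜 : Type*} [Category 𝒜] [Preadditive 𝒜] (F : 𝒜) (a : ℕ → ℤ) {k l : ℕ}
    (f : k ⟶ l) : (mulSeq F a).map f = (∏ i ∈ Finset.Ico k l, a i) • 𝟙 F := rfl

section PushLinear

variable {𝒜 : Type*} [Category 𝒜] [Abelian 𝒜] [HasExt 𝒜] (Z : 𝒜) {A B : 𝒜}

theorem push_add (a b : A ⟶ B) (n : ℕ) (y : Ext Z A n) :
    push Z (a + b) n y = push Z a n y + push Z b n y := by
  rw [push_apply, push_apply, push_apply, Ext.mk₀_add, Ext.comp_add]

theorem push_zero_hom (n : ℕ) (y : Ext Z A n) : push Z (0 : A ⟶ B) n y = 0 := by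
  rw [push_apply, Ext.mk₀_zero, Ext.comp_zero]

/-- `push` as an additive map in the morphism -/
noncomputable def pushHom (n : ℕ) : (A ⟶ B) →+ (Ext Z A n →+ Ext Z B n) where
  toFun a := push Z a n
  map_zero' := by
    ext y
    exact push_zero_hom Z n y
  map_add' a b := by
    ext y
    exact push_add Z a b n y

theorem push_zsmul (N : ℤ) (a : A ⟶ B) (n : ℕ) (y : Ext Z A n) :
    push Z (N • a) n y = N • push Z a n y := by
  have h := map_zsmul (pushHom Z (A := A) (B := B) n) N a
  exact DFunLike.congr_fun h y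

theorem push_id (n : ℕ) (y : Ext Z A n) : push Z (𝟙 A) n y = y :=
  Ext.comp_mk₀_id y

theorem push_zsmul_id (N : ℤ) (n : ℕ) (y : Ext Z A n) : push Z (N • 𝟙 A) n y = N • y := by
  rw [push_zsmul, push_id]

end PushLinear

theorem zsmul_hom_app (F G : EtCoh.Ab X) (N : ℤ) (φ : F ⟶ G) (U : X.Etaleᵒᵖ) (y : F.obj.obj U) :
    (N • φ).hom.app U y = N • φ.hom.app U y := rfl

end MulSeq

end Groth.Agent.H1.EtFiltH
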