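import Groth.Agent.Lib.Helper1.CptA

/-!
# Torsion sheaves are filtered colimits of constructible sheaves (helper1)
-/

set_option autoImplicit false
universe u
open CategoryTheory CategoryTheory.Limits AlgebraicGeometry Opposite

namespace Groth.Agent.H1.TorsColim

open Groth.Agent.H1.ExtZero Groth.Agent.H1.ConstrGen Groth.Agent.H1.EtCartan Groth.Agent.H1.Cpt
  Groth.Agent.H1.EtFiltH Groth.Agent.Lib.helper21.Constr

variable {X : Scheme.{u}}

/-- a torsion section over a quasi-compact object is killed by a single integer -/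
theorem exists_nsmul_eq_zero (F : EtCoh.Ab X) (hF : EtCoh.IsTorsion F) (U : X.Etale)
    [CompactSpace U.left] (s : F.obj.obj (op U)) : ∃ N : ℕ, 0 < N ∧ N • s = 0 := by
  classical
  choose V g hv hfin using hF U s
  have hopen : ∀ x, IsOpen (Set.range (g x).left.base) := fun x => by
    haveI := Groth.Agent.H1.EtGerm.etale_left (g x)
    exact (g x).left.isOpenMap.isOpen_range
  obtain ⟨T, hT⟩ := CompactSpace.elim_nhds_subcover (fun x => Set.range (g x).left.base)
    (fun x => (hopen x).mem_nhds (hv x))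
  refine ⟨∏ x ∈ T, addOrderOf (F.obj.map (g x).op s),
    Finset.prod_pos (fun x _ => (hfin x).addOrderOf_pos), ?_⟩
  apply eq_zero_of_locally
  intro e
  have he : e ∈ ⋃ x ∈ T, Set.range (g x).left.base := by
    rw [hT]
    trivial
  obtain ⟨x, hxT, hx⟩ := Set.mem_iUnion₂.1 he
  refine ⟨V x, g x, hx, ?_⟩
  rw [map_nsmul]
  obtain ⟨m, hm⟩ := Finset.dvd_prod_of_mem (fun x => addOrderOf (F.obj.map (g x).op s)) hxT
  rw [hm, mul_nsmul, addOrderOf_nsmul_eq_zero, nsmul_zero]

/-- index data of presentations -/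
structure Idx (X : Scheme.{u}) : Type (u + 1) where
  n : ℕ
  a : ℕ
  b : ℕ
  V : Fin a → X.Etale
  U : Fin b → X.Etale
  φ : PP.{u} n V ⟶ PP.{u} n U

noncomputable def Idx.G (i : Idx X) : EtCoh.Ab X := cokernel i.φ

theorem exists_idx [CompactSpace X] [QuasiSeparatedSpace X] (G : EtCoh.Ab X)
    (hG : EtPBC.IsConstructible G) : ∃ i : Idx X, Nonempty (G ≅ i.G) := by
  obtain ⟨N, hN, hGN⟩ := exists_killedBy G hG
  obtain ⟨a, b, V, U, hV, hU, φ, ⟨e⟩⟩ := exists_presentation N hN G hG hGN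
  exact ⟨⟨N, a, b, V, U, φ⟩, ⟨e⟩⟩

/-- the small category of constructible sheaves over `F` -/
structure JObj (F : EtCoh.Ab X) : Type (u + 1) where
  i : Idx X
  hc : EtPBC.IsConstructible i.G
  m : i.G ⟶ F

variable {F : EtCoh.Ab X}

noncomputable instance : Category.{u + 1} (JObj F) where
  Hom j₁ j₂ := { a : j₁.i.G ⟶ j₂.i.G // a ≫ j₂.m = j₁.m }
  id j := ⟨𝟙 _, Category.id_comp _⟩
  comp a b := ⟨a.1 ≫ b.1, by rw [Category.assoc, b.2, a.2]⟩
  id_comp a := Subtype.ext (Category.id_comp _)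
  comp_id a := Subtype.ext (Category.comp_id _)
  assoc a b c := Subtype.ext (Category.assoc _ _ _)

theorem exists_model [CompactSpace X] [QuasiSeparatedSpace X] (G : EtCoh.Ab X)
    (hG : EtPBC.IsConstructible G) (m : G ⟶ F) :
    ∃ (j : JObj F) (e : G ≅ j.i.G), e.hom ≫ j.m = m := by
  obtain ⟨i, ⟨e⟩⟩ := exists_idx G hG
  exact ⟨⟨i, Groth.Agent.H1.ExtZero.isConstructible_of_iso e hG, e.inv ≫ m⟩, e,
    e.hom_inv_id_assoc m⟩

variable (F)

/-- the diagram -/
noncomputable def D : JObj F ⥤ EtCoh.Ab X where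
  obj j := j.i.G
  map a := a.1
  map_id _ := rfl
  map_comp _ _ := rfl

/-- the tautological cocone -/
noncomputable def coc : Cocone (D F) where
  pt := F
  ι := { app := fun j => j.m
         naturality := fun j₁ j₂ a => by
           change a.1 ≫ j₂.m = j₁.m ≫ 𝟙 F
           rw [a.2, Category.comp_id] }

theorem isConstructible_biprod {G₁ G₂ : EtCoh.Ab X} (h₁ : EtPBC.IsConstructible G₁)
    (h₂ : EtPBC.IsConstructible G₂) : EtPBC.IsConstructible (G₁ ⊞ G₂) :=
  constr_of_shortExact _ (ShortComplex.Splitting.ofHasBinaryBiproduct G₁ G₂).shortExact h₁ h₂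

instance [CompactSpace X] [QuasiSeparatedSpace X] : IsFiltered (JObj F) where
  cocone_objs j₁ j₂ := by
    obtain ⟨j, e, he⟩ := exists_model (j₁.i.G ⊞ j₂.i.G) (isConstructible_biprod j₁.hc j₂.hc)
      (biprod.desc j₁.m j₂.m)
    exact ⟨j, ⟨biprod.inl ≫ e.hom, by rw [Category.assoc, he, biprod.inl_desc]⟩,
      ⟨biprod.inr ≫ e.hom, by rw [Category.assoc, he, biprod.inr_desc]⟩, trivial⟩
  cocone_maps j₁ j₂ f g := by
    have h0 : (f.1 - g.1) ≫ j₂.m = 0 := by rw [Preadditive.sub_comp, f.2, g.2, sub_self]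
    obtain ⟨j, e, he⟩ := exists_model (cokernel (f.1 - g.1))
      (constr_kernel_cokernel _ j₁.hc j₂.hc).2 (cokernel.desc _ j₂.m h0)
    refine ⟨j, ⟨cokernel.π _ ≫ e.hom, by rw [Category.assoc, he, cokernel.π_desc]⟩, ?_⟩
    apply Subtype.ext
    change f.1 ≫ cokernel.π _ ≫ e.hom = g.1 ≫ cokernel.π _ ≫ e.hom
    rw [← sub_eq_zero, ← Preadditive.sub_comp, cokernel.condition_assoc, zero_comp]
  nonempty := by
    haveI : CompactSpace (EtCoh.top X).left := inferInstanceAs (CompactSpace X)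
    haveI : QuasiSeparatedSpace (EtCoh.top X).left := inferInstanceAs (QuasiSeparatedSpace X)
    obtain ⟨j, -, -⟩ := exists_model (F := F) (ez (EtCoh.top X) (cof.{u} (ZMod 1)))
      (isConstructible_ez (EtCoh.top X) (ZMod 1)) 0
    exact ⟨j⟩

/-- the comparison map -/
noncomputable def ρ : colimit (D F) ⟶ F := colimit.desc (D F) (coc F)

theorem ι_ρ (j : JObj F) : colimit.ι (D F) j ≫ ρ F = j.m := colimit.ι_desc _ _

theorem ρ_injective [CompactSpace X] [QuasiSeparatedSpace X] (U : X.Etale)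
    (hU : IsAffine U.left) : Function.Injective ((ρ F).hom.app (op U)) := by
  rw [injective_iff_map_eq_zero]
  intro t ht
  obtain ⟨j, tj, rfl⟩ := sec_rep (D F) (colimit.cocone (D F)) (colimit.isColimit (D F)) U
    (good_of_isAffine U hU) t
  have h1 : j.m.hom.app (op U) tj = 0 := by
    have := congrArg (fun m => m.hom.app (op U) tj) (ι_ρ F j)
    exact this.symm.trans ht
  obtain ⟨N, hN, hjN⟩ := exists_killedBy j.i.G j.hc
  haveI : NeZero N := ⟨hN.ne'⟩
  obtain ⟨σ, hσ⟩ : ∃ σ : ez U (Zn.{u} N) ⟶ j.i.G, σ = secMap N tj (hjN _ tj) := ⟨_, rfl⟩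
  have hσ1 : σ.hom.app (op U) (gen U (Zn.{u} N) ⟨1⟩) = tj := by
    rw [hσ]
    exact secMap_gen N tj (hjN _ tj)
  have hσm : σ ≫ j.m = 0 := by
    apply (isExtZero_ez U (Zn.{u} N)).hom_ext
    apply Zn_hom_ext
    change j.m.hom.app (op U) (σ.hom.app (op U) (gen U (Zn.{u} N) ⟨1⟩)) = 0
    rw [hσ1, h1]
  have hc' : EtPBC.IsConstructible (cokernel σ) :=
    (constr_kernel_cokernel σ (isConstructible_ez U (ZMod N)) j.hc).2
  obtain ⟨j', e, he⟩ := exists_model (cokernel σ) hc' (cokernel.desc σ j.m hσm)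
  let a : j ⟶ j' := ⟨cokernel.π σ ≫ e.hom, by rw [Category.assoc, he, cokernel.π_desc]⟩
  have hw : (D F).map a ≫ colimit.ι (D F) j' = colimit.ι (D F) j := colimit.w (D F) a
  have h2 : (cokernel.π σ).hom.app (op U) tj = 0 := by
    rw [← hσ1]
    have := congrArg (fun m => m.hom.app (op U) (gen U (Zn.{u} N) ⟨1⟩)) (cokernel.condition σ)
    exact this
  have h3 := congrArg (fun m => m.hom.app (op U) tj) hw
  refine h3.symm.trans ?_
  change (colimit.ι (D F) j').hom.app (op U) (e.hom.hom.app (op U)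
    ((cokernel.π σ).hom.app (op U) tj)) = 0
  rw [h2, map_zero]
  exact map_zero _

theorem ρ_surjective [CompactSpace X] [QuasiSeparatedSpace X] (hF : EtCoh.IsTorsion F)
    (U : X.Etale) (hU : IsAffine U.left) : Function.Surjective ((ρ F).hom.app (op U)) := by
  intro s
  obtain ⟨N, hN, hs⟩ := exists_nsmul_eq_zero F hF U s
  haveI : NeZero N := ⟨hN.ne'⟩
  obtain ⟨j, e, he⟩ := exists_model (ez U (Zn.{u} N)) (isConstructible_ez U (ZMod N))
    (secMap N s hs)
  refine ⟨(colimit.ι (D F) j).hom.app (op U)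
    (e.hom.hom.app (op U) (gen U (Zn.{u} N) ⟨1⟩)), ?_⟩
  have h1 := congrArg (fun m => m.hom.app (op U) (e.hom.hom.app (op U) (gen U (Zn.{u} N) ⟨1⟩)))
    (ι_ρ F j)
  refine h1.trans ?_
  have h2 := congrArg (fun m => m.hom.app (op U) (gen U (Zn.{u} N) ⟨1⟩)) he
  exact h2.trans (secMap_gen N s hs)

theorem isIso_ρ [CompactSpace X] [QuasiSeparatedSpace X] (hF : EtCoh.IsTorsion F) :
    IsIso (ρ F) :=
  isIso_of_bijective_affine (ρ F) (fun U hU => ⟨ρ_injective F U hU, ρ_surjective F hF U hU⟩)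

end Groth.Agent.H1.TorsColim
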