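import Groth.Agent.Lib.Helper1.CptB
import Groth.Agent.Lib.Helper1.DivInj
import Groth.Agent.Lib.Helper1.EtFiltH
import Groth.Agent.Lib.Helper1.TorsColim

/-!
# Effaceability of cohomology among constructible sheaves (helper1)
-/

set_option autoImplicit false
universe u
open CategoryTheory CategoryTheory.Limits AlgebraicGeometry Opposite

namespace Groth.Agent.H1.Efface

open Groth.Agent.H1.ExtZero Groth.Agent.H1.ConstrGen Groth.Agent.H1.EtCartan
  Groth.Agent.H1.TorsColim Groth.Agent.H1.DivInj Groth.Agent.H1.FiltExt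
  Groth.Agent.H1.EtFiltH CategoryTheory.Abelian

variable {X : Scheme.{u}}

theorem epi_nsmul (I : EtCoh.Ab X) [Injective I] (N : ℕ) (hN : 0 < N) : Epi (N • 𝟙 I) := by
  rw [← Sheaf.isLocallySurjective_iff_epi']
  constructor
  intro U t
  apply Groth.Agent.H1.ClosedDense.mem_smallEtaleTopology
  intro e
  obtain ⟨r, hr⟩ := exists_nsmul_eq I N hN U t
  refine ⟨U, 𝟙 U, e, ⟨r, ?_⟩, rfl⟩
  have h1 : (N • 𝟙 I).hom.app (op U) r = N • r := rfl
  refine h1.trans (hr.trans ?_)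
  have h2 : I.obj.map (𝟙 U).op = 𝟙 _ := by
    rw [op_id, CategoryTheory.Functor.map_id]
  rw [h2]
  rfl

/-- the short exact sequence `0 → I[N] → I → I → 0` -/
noncomputable def torsSeq (I : EtCoh.Ab X) (N : ℕ) : ShortComplex (EtCoh.Ab X) :=
  ShortComplex.mk (kernel.ι (N • 𝟙 I)) (N • 𝟙 I) (kernel.condition _)

theorem torsSeq_shortExact (I : EtCoh.Ab X) [Injective I] (N : ℕ) (hN : 0 < N) :
    (torsSeq I N).ShortExact :=
  { exact := ShortComplex.exact_kernel _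
    mono_f := inferInstanceAs (Mono (kernel.ι (N • 𝟙 I)))
    epi_g := epi_nsmul I N hN }

/-- a sheaf with a two-step injective resolution which is surjective on global sections is
acyclic -/
theorem H_eq_zero_of_shortExact (S : ShortComplex (EtCoh.Ab X)) (hS : S.ShortExact)
    [Injective S.X₂] [Injective S.X₃]
    (hsurj : Function.Surjective (S.g.hom.app (op (EtCoh.top X)))) (q : ℕ)
    (x : EtCoh.H X S.X₁ (q + 1)) : x = 0 := by
  have hx : x.comp (Ext.mk₀ S.f) (add_zero (q + 1)) = 0 := Ext.eq_zero_of_injective _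
  obtain ⟨y, hy⟩ := Ext.covariant_sequence_exact₁ _ hS x hx (rfl : q + 1 = q + 1)
  rw [← hy]
  cases q with
  | zero =>
    obtain ⟨φ, rfl⟩ := Ext.addEquiv₀.symm.surjective y
    change (Ext.mk₀ φ).comp hS.extClass _ = 0
    obtain ⟨φ', hφ'⟩ := exists_lift_ZZ S.g hsurj φ
    have h1 : Ext.mk₀ φ = (Ext.mk₀ φ').comp (Ext.mk₀ S.g) (add_zero 0) := by
      rw [Ext.mk₀_comp_mk₀]
      exact congrArg Ext.mk₀ hφ'.symm
    rw [h1, Ext.comp_assoc_of_second_deg_zero, hS.comp_extClass, Ext.comp_zero]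
  | succ q =>
    have hy0 : y = 0 := Ext.eq_zero_of_injective y
    rw [hy0]
    exact Ext.zero_comp _ _ _ _ rfl

/-- the `N`-torsion of an injective sheaf is acyclic -/
theorem H_tors_eq_zero (I : EtCoh.Ab X) [Injective I] (N : ℕ) (hN : 0 < N) (q : ℕ)
    (x : EtCoh.H X (kernel (N • 𝟙 I)) (q + 1)) : x = 0 := by
  haveI : Injective (torsSeq I N).X₂ := inferInstanceAs (Injective I)
  haveI : Injective (torsSeq I N).X₃ := inferInstanceAs (Injective I)
  refine H_eq_zero_of_shortExact (torsSeq I N) (torsSeq_shortExact I N hN) ?_ q x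
  intro t
  obtain ⟨r, hr⟩ := exists_nsmul_eq I N hN (EtCoh.top X) t
  exact ⟨r, hr⟩

theorem smul_id_of_killedBy {F : EtCoh.Ab X} (N : ℕ) (h : EtCoh.KilledBy N F) : N • 𝟙 F = 0 := by
  apply Sheaf.hom_ext
  ext U s
  exact h U.unop s

theorem isTorsion_of_killedBy {T : EtCoh.Ab X} (N : ℕ) (hN : 0 < N) (h : EtCoh.KilledBy N T) :
    EtCoh.IsTorsion T := by
  intro U s x
  exact ⟨U, 𝟙 U, ⟨x, rfl⟩, isOfFinAddOrder_iff_nsmul_eq_zero.2 ⟨N, hN, h _ _⟩⟩

/-- **effaceability of `H^q` among constructible sheaves** on a qcqs scheme -/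
theorem exists_efface [CompactSpace X] [QuasiSeparatedSpace X] (F : EtCoh.Ab X)
    (hF : EtPBC.IsConstructible F) (q : ℕ) (hq : 0 < q) (α : EtCoh.H X F q) :
    ∃ (G : EtCoh.Ab X) (u : F ⟶ G), EtPBC.IsConstructible G ∧ Mono u ∧
      (EtCoh.HF X q).map u α = 0 := by
  obtain ⟨q, rfl⟩ : ∃ q', q = q' + 1 := ⟨q - 1, by omega⟩
  obtain ⟨N, hN, hFN⟩ := exists_killedBy F hF
  obtain ⟨I, hI⟩ : ∃ I : EtCoh.Ab X, I = Injective.under F := ⟨_, rfl⟩
  haveI : Injective I := hI ▸ inferInstance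
  obtain ⟨ι, hιm⟩ : ∃ ι : F ⟶ I, Mono ι := by
    subst hI
    exact ⟨Injective.ι F, inferInstance⟩
  have hι : ι ≫ (N • 𝟙 I) = 0 := by
    rw [Preadditive.comp_nsmul, Category.comp_id, ← Category.id_comp ι, ← Preadditive.nsmul_comp,
      smul_id_of_killedBy N hFN, zero_comp]
  obtain ⟨T, hT⟩ : ∃ T : EtCoh.Ab X, T = kernel (N • 𝟙 I) := ⟨_, rfl⟩
  obtain ⟨u₀, hu₀⟩ : ∃ u₀ : F ⟶ kernel (N • 𝟙 I), u₀ ≫ kernel.ι (N • 𝟙 I) = ι :=
    ⟨kernel.lift _ ι hι, kernel.lift_ι _ ι hι⟩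
  haveI : Mono (u₀ ≫ kernel.ι (N • 𝟙 I)) := hu₀ ▸ hιm
  haveI : Mono u₀ := mono_of_mono u₀ (kernel.ι (N • 𝟙 I))
  have hTN : EtCoh.KilledBy N (kernel (N • 𝟙 I)) := by
    apply killedBy_of_smul_id
    rw [← cancel_mono (kernel.ι (N • 𝟙 I)), Preadditive.nsmul_comp, Category.id_comp, zero_comp]
    have := kernel.condition (N • 𝟙 I)
    rw [Preadditive.comp_nsmul, Category.comp_id] at this
    exact this
  have hTt : EtCoh.IsTorsion (kernel (N • 𝟙 I)) := isTorsion_of_killedBy N hN hTN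
  haveI := isIso_ρ (kernel (N • 𝟙 I)) hTt
  have hcpt := Groth.Agent.H1.CptG.isCptG_of_isConstructible.{u + 1, u + 1} F hF
  obtain ⟨j0, v, hv⟩ := hcpt.surj (D (kernel (N • 𝟙 I))) (colimit.cocone _) (colimit.isColimit _)
    (u₀ ≫ inv (ρ (kernel (N • 𝟙 I))))
  have hv1 : v ≫ colimit.ι (D (kernel (N • 𝟙 I))) j0 = u₀ ≫ inv (ρ (kernel (N • 𝟙 I))) := hv
  have hv' : v ≫ j0.m = u₀ := by
    rw [← ι_ρ (kernel (N • 𝟙 I)) j0, ← Category.assoc, hv1, Category.assoc, IsIso.inv_hom_id,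
      Category.comp_id]
  have hβ : push (ZZ X) (colimit.ι (D (kernel (N • 𝟙 I))) j0) (q + 1)
      (push (ZZ X) v (q + 1) α) = 0 := by
    rw [← push_comp, hv1, push_comp, H_tors_eq_zero I N hN q (push (ZZ X) u₀ (q + 1) α), map_zero]
  haveI : HasExactColimitsOfShape (JObj (kernel (N • 𝟙 I))) (EtCoh.Ab X) := inferInstance
  obtain ⟨k, f, hf⟩ := injAt_of_isColimit (q + 1) (D (kernel (N • 𝟙 I))) (colimit.cocone _)
    (colimit.isColimit _) j0 (push (ZZ X) v (q + 1) α) hβ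
  refine ⟨k.i.G, v ≫ f.1, k.hc, ?_, ?_⟩
  · have h1 : (v ≫ f.1) ≫ k.m = u₀ :=
      (Category.assoc _ _ _).trans ((congrArg (fun m => v ≫ m) f.2).trans hv')
    haveI : Mono ((v ≫ f.1) ≫ k.m) := h1 ▸ inferInstance
    exact mono_of_mono (v ≫ f.1) k.m
  · change push (ZZ X) (v ≫ f.1) (q + 1) α = 0
    rw [push_comp]
    exact hf

end Groth.Agent.H1.Efface
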