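import Mathlib
import Groth.Prelude.Def_ModSite
import Groth.Agent.Lib.Helper21.ModFree
import Groth.Agent.Lib.Helper21.InjAcyc2

/-!
Helper library (helper1): the modules `freeOn O X` on a ringed site are "locally projective":
maps out of them lift locally along epimorphisms (`exists_local_lift`), are determined locally
(`hom_ext_of_cover`); `fmap g : freeOn Y ⟶ freeOn X`; section-wise criteria for zero objects,
monos, epis and isos of modules.
-/

set_option autoImplicit false
universe u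
open CategoryTheory CategoryTheory.Limits Opposite

namespace Groth.Agent.H1.FreeOnLoc

open Groth.Agent.Lib.Helper21.ModFree

variable {C : Type u} [SmallCategory C] {J : GrothendieckTopology C} (O : Sheaf J CommRingCat.{u})

/-- the canonical generator of `freeOn O X` -/
noncomputable def gen (X : C) : (ModSite.freeOn O X).val.obj (op X) :=
  freeOnHomEquiv O X _ (𝟙 _)

/-- the map `freeOn Y ⟶ freeOn X` induced by `g : Y ⟶ X` -/
noncomputable def fmap {X Y : C} (g : Y ⟶ X) : ModSite.freeOn O Y ⟶ ModSite.freeOn O X :=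
  (freeOnHomEquiv O Y _).symm ((ModSite.freeOn O X).val.map g.op (gen O X))

lemma freeOnHomEquiv_eq {X : C} {M : ModSite.Mod O} (s : ModSite.freeOn O X ⟶ M) :
    freeOnHomEquiv O X M s = s.val.app (op X) (gen O X) := by
  have := freeOnHomEquiv_comp O X (𝟙 (ModSite.freeOn O X)) s
  rw [Category.id_comp] at this
  exact this

lemma freeOnHomEquiv_fmap_comp {X Y : C} (g : Y ⟶ X) {M : ModSite.Mod O}
    (s : ModSite.freeOn O X ⟶ M) :
    freeOnHomEquiv O Y M (fmap O g ≫ s) = M.val.map g.op (freeOnHomEquiv O X M s) := by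
  rw [freeOnHomEquiv_comp]
  unfold fmap
  rw [Equiv.apply_symm_apply, freeOnHomEquiv_eq]
  exact PresheafOfModules.naturality_apply s.val g.op (gen O X)

/-- maps out of `freeOn O X` lift locally along epimorphisms -/
lemma exists_local_lift {G' G'' : ModSite.Mod O} (π : G' ⟶ G'') [Epi π] {X : C}
    (s : ModSite.freeOn O X ⟶ G'') :
    ∃ T ∈ J X, ∀ ⦃Y : C⦄ (g : Y ⟶ X), T g →
      ∃ s' : ModSite.freeOn O Y ⟶ G', s' ≫ π = fmap O g ≫ s := by
  have h : Sheaf.IsLocallySurjective ((SheafOfModules.toSheaf (ModSite.ringSh O)).map π) := by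
    rw [Sheaf.isLocallySurjective_iff_epi']
    infer_instance
  let x : G''.val.obj (op X) := freeOnHomEquiv O X G'' s
  refine ⟨Presheaf.imageSieve ((SheafOfModules.toSheaf (ModSite.ringSh O)).map π).hom x,
    h.imageSieve_mem x, ?_⟩
  intro Y g hg
  obtain ⟨t, ht⟩ := hg
  refine ⟨(freeOnHomEquiv O Y G').symm t, ?_⟩
  apply (freeOnHomEquiv O Y G'').injective
  rw [freeOnHomEquiv_comp, Equiv.apply_symm_apply, freeOnHomEquiv_fmap_comp]
  exact ht

/-- maps out of `freeOn O X` are determined locally -/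
lemma hom_ext_of_cover {M : ModSite.Mod O} {X : C} (s s' : ModSite.freeOn O X ⟶ M)
    (T : Sieve X) (hT : T ∈ J X)
    (h : ∀ ⦃Y : C⦄ (g : Y ⟶ X), T g → fmap O g ≫ s = fmap O g ≫ s') : s = s' := by
  apply (freeOnHomEquiv O X M).injective
  have hM : Presheaf.IsSheaf J M.val.presheaf := M.isSheaf
  refine hM.isSeparated X T hT _ _ ?_
  intro Y g hg
  have := congrArg (freeOnHomEquiv O Y M) (h g hg)
  rw [freeOnHomEquiv_fmap_comp, freeOnHomEquiv_fmap_comp] at this
  exact this


lemma fmap_comp {X Y Z : C} (g : Z ⟶ Y) (h : Y ⟶ X) :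
    fmap O (g ≫ h) = fmap O g ≫ fmap O h := by
  apply (freeOnHomEquiv O Z _).injective
  rw [freeOnHomEquiv_fmap_comp]
  unfold fmap
  rw [Equiv.apply_symm_apply, Equiv.apply_symm_apply, map_map_apply]

lemma fmap_id (X : C) : fmap O (𝟙 X) = 𝟙 _ := by
  apply (freeOnHomEquiv O X _).injective
  unfold fmap
  rw [Equiv.apply_symm_apply, map_id_apply]
  rfl

/-- morphisms of modules are determined on sections -/
lemma hom_ext_sections {G G' : ModSite.Mod O} (f f' : G ⟶ G')
    (h : ∀ (X : C) (s : ModSite.freeOn O X ⟶ G), s ≫ f = s ≫ f') : f = f' := by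
  apply SheafOfModules.hom_ext
  apply PresheafOfModules.hom_ext
  intro U
  obtain ⟨X⟩ := U
  ext x
  have := congrArg (freeOnHomEquiv O X G') (h X ((freeOnHomEquiv O X G).symm x))
  rw [freeOnHomEquiv_comp, freeOnHomEquiv_comp, Equiv.apply_symm_apply] at this
  exact this

lemma isZero_of_sections {G : ModSite.Mod O}
    (h : ∀ (X : C) (s : ModSite.freeOn O X ⟶ G), s = 0) : IsZero G := by
  rw [IsZero.iff_id_eq_zero]
  apply hom_ext_sections
  intro X s
  rw [h X s, zero_comp, zero_comp]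

lemma mono_of_sections {G G' : ModSite.Mod O} (φ : G ⟶ G')
    (h : ∀ (X : C) (s : ModSite.freeOn O X ⟶ G), s ≫ φ = 0 → s = 0) : Mono φ := by
  apply Preadditive.mono_of_cancel_zero
  intro Z g hg
  apply hom_ext_sections
  intro X s
  rw [comp_zero]
  apply h
  rw [Category.assoc, hg, comp_zero]

lemma epi_of_local_sections {G G' : ModSite.Mod O} (φ : G ⟶ G')
    (h : ∀ (X : C) (s : ModSite.freeOn O X ⟶ G'), ∃ T ∈ J X, ∀ ⦃Y : C⦄ (g : Y ⟶ X), T g →
      ∃ s' : ModSite.freeOn O Y ⟶ G, s' ≫ φ = fmap O g ≫ s) : Epi φ := by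
  apply Preadditive.epi_of_cancel_zero
  intro Z g hg
  apply hom_ext_sections
  intro X s
  rw [comp_zero]
  obtain ⟨T, hT, hl⟩ := h X s
  apply hom_ext_of_cover O _ _ T hT
  intro Y g' hg'
  obtain ⟨s', hs'⟩ := hl g' hg'
  rw [comp_zero, ← Category.assoc, ← hs', Category.assoc, hg, comp_zero]

lemma isIso_of_sections {G G' : ModSite.Mod O} (φ : G ⟶ G')
    (h₁ : ∀ (X : C) (s : ModSite.freeOn O X ⟶ G), s ≫ φ = 0 → s = 0)
    (h₂ : ∀ (X : C) (s : ModSite.freeOn O X ⟶ G'), ∃ T ∈ J X, ∀ ⦃Y : C⦄ (g : Y ⟶ X), T g →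
      ∃ s' : ModSite.freeOn O Y ⟶ G, s' ≫ φ = fmap O g ≫ s) : IsIso φ := by
  have := mono_of_sections O φ h₁
  have := epi_of_local_sections O φ h₂
  exact isIso_of_mono_of_epi φ

end Groth.Agent.H1.FreeOnLoc
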