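import Mathlib
import Groth.Prelude.Def_SiteCmp
import Groth.Agent.Lib.Helper1.FreeOnLoc

set_option autoImplicit false
universe u
open CategoryTheory CategoryTheory.Limits Opposite

namespace Groth.Agent.H1.EpsFF

/-- pushforward of presheaves of modules along the identity functor and an identity ring map
is fully faithful -/
noncomputable def ffPresheaf {C : Type u} [SmallCategory C] (R : Cᵒᵖ ⥤ RingCat.{u})
    (ψ : R ⟶ (𝟭 C).op ⋙ R) (hψ : ψ = 𝟙 R) :
    (PresheafOfModules.pushforward.{u} ψ).FullyFaithful := by
  subst hψ
  exact Functor.FullyFaithful.ofIso (Functor.FullyFaithful.id _)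
    (PresheafOfModules.pushforwardId R).symm

variable {C : Type u} [SmallCategory C] {J J' : GrothendieckTopology C} (h : J' ≤ J)
  (O : Sheaf J CommRingCat.{u})

lemma sharp_hom_eq : (SiteCmp.eps h O).sharpR.hom = 𝟙 (ModSite.ringSh O).obj := by
  rfl

/-- `ε_*` is fully faithful on modules -/
noncomputable def pushFF : (SiteCmp.eps h O).push.FullyFaithful := by
  have h1 : ((SiteCmp.eps h O).push ⋙ SheafOfModules.forget _).FullyFaithful :=
    (SheafOfModules.fullyFaithfulForget (ModSite.ringSh O)).comp
      (ffPresheaf (ModSite.ringSh O).obj (SiteCmp.eps h O).sharpR.hom (sharp_hom_eq h O))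
  exact h1.ofCompFaithful

instance : (SiteCmp.eps h O).push.Full := (pushFF h O).full
instance : (SiteCmp.eps h O).push.Faithful := (pushFF h O).faithful

instance : IsIso (SiteCmp.eps h O).adj.counit := inferInstance

end Groth.Agent.H1.EpsFF
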