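import Mathlib
import Groth.Prelude.Def_ModSite
import Groth.Agent.Lib.Helper21.ModFree
import Groth.Agent.Lib.Helper21.InjAcyc4
import Groth.Agent.Lib.Helper21.ModGroth

/-!
Helper library (helper1): `Ext^k_{Mod O}(freeOn O W, F) ≃ H^k(W, F)` (`ModSite.HU`).
-/

set_option autoImplicit false
universe u
open CategoryTheory CategoryTheory.Limits Opposite CategoryTheory.Abelian

namespace Groth.Agent.H1.ExtFreeOn

open Groth.Agent.Lib.Helper21.ModFree Groth.Agent.Lib.helper21.InjAcyc

variable {C : Type u} [SmallCategory C] {J : GrothendieckTopology C} (O : Sheaf J CommRingCat.{u})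

/-- `Hom(freeOn W, M) ≃ Hom(ℤ[W], M_ab)` -/
noncomputable def homEquiv (W : C) (M : ModSite.Mod O) :
    (ModSite.freeOn O W ⟶ M) ≃
      ((freeF J).obj (yoneda.obj W) ⟶ (SheafOfModules.toSheaf (ModSite.ringSh O)).obj M) :=
  ((freeOnHomEquiv O W M).trans
    (yonedaEquiv (F := (forgetF J).obj ((SheafOfModules.toSheaf (ModSite.ringSh O)).obj M))).symm).trans
    ((freeAdj J).homEquiv (yoneda.obj W) ((SheafOfModules.toSheaf (ModSite.ringSh O)).obj M)).symm

lemma homEquiv_naturality (W : C) {M M' : ModSite.Mod O} (p : M ⟶ M')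
    (f : ModSite.freeOn O W ⟶ M) :
    homEquiv O W M' (f ≫ p) =
      homEquiv O W M f ≫ (SheafOfModules.toSheaf (ModSite.ringSh O)).map p := by
  apply ((freeAdj J).homEquiv (yoneda.obj W)
    ((SheafOfModules.toSheaf (ModSite.ringSh O)).obj M')).injective
  rw [Adjunction.homEquiv_naturality_right]
  dsimp only [homEquiv, Equiv.trans_apply]
  rw [Equiv.apply_symm_apply, Equiv.apply_symm_apply]
  apply yonedaEquiv.injective
  rw [yonedaEquiv_comp]
  erw [Equiv.apply_symm_apply, Equiv.apply_symm_apply]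
  rw [freeOnHomEquiv_comp]
  rfl

/-- `Hom(freeOn W, -) ≅ Hom(ℤ[W], (-)_ab)` -/
noncomputable def coyIso (W : C) :
    preadditiveCoyoneda.obj (op (ModSite.freeOn O W)) ≅
      SheafOfModules.toSheaf (ModSite.ringSh O) ⋙
        preadditiveCoyoneda.obj (op ((freeF J).obj (yoneda.obj W))) :=
  natIsoOfEquiv _ _ (fun M => homEquiv O W M) (fun p f => homEquiv_naturality O W p f)

theorem ext_freeOn_equiv_HU [HasExt.{u} (ModSite.Mod O)] (W : C) (F : ModSite.Mod O) (k : ℕ) :
    Nonempty (Ext.{u} (ModSite.freeOn O W) F k ≃+ ModSite.HU O F k W) :=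
  ext_comparison (ModSite.ringSh O) (ModSite.freeOn O W) ((freeF J).obj (yoneda.obj W))
    (tf_free (yoneda.obj W)) (coyIso O W) F k

end Groth.Agent.H1.ExtFreeOn
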