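import Mathlib
import Groth.Prelude.Def_SiteCmp
import Groth.Agent.Lib.Helper1.FreeOnLoc
import Groth.Agent.Lib.Helper1.ExtFreeOn
import Groth.Agent.Lib.Helper21.ModGroth
import Groth.Agent.Lib.Helper1.EpsFF

set_option autoImplicit false
universe u
open CategoryTheory CategoryTheory.Limits Opposite

namespace Groth.Agent.H1.EpsExact

open Groth.Agent.H1.FreeOnLoc Groth.Agent.Lib.Helper21.ModFree

variable {C : Type u} [SmallCategory C] {J : GrothendieckTopology C} (O : Sheaf J CommRingCat.{u})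

/-- sections over `Y` lift along `S.g` if `H^1(Y, S.X₁) = 0` -/
lemma exists_lift_of_HU {S : ShortComplex (ModSite.Mod O)} (hS : S.ShortExact) (Y : C)
    (hY : Subsingleton (ModSite.HU O S.X₁ 1 Y)) (t : ModSite.freeOn O Y ⟶ S.X₃) :
    ∃ t' : ModSite.freeOn O Y ⟶ S.X₂, t' ≫ S.g = t := by
  have := Groth.Agent.Lib.Helper21.ModGroth.isGrothendieckAbelian_mod (ModSite.ringSh O)
  obtain ⟨e⟩ := Groth.Agent.H1.ExtFreeOn.ext_freeOn_equiv_HU O Y S.X₁ 1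
  have hs : Subsingleton (Abelian.Ext.{u} (ModSite.freeOn O Y) S.X₁ 1) :=
    e.toEquiv.subsingleton
  obtain ⟨x₂, hx₂⟩ := Abelian.Ext.covariant_sequence_exact₃ (ModSite.freeOn O Y) hS
    (Abelian.Ext.mk₀ t) (n₁ := 1) rfl (Subsingleton.elim _ _)
  obtain ⟨t', rfl⟩ := (Abelian.Ext.mk₀_bijective.{u} (ModSite.freeOn O Y) S.X₂).2 x₂
  refine ⟨t', ?_⟩
  rw [Abelian.Ext.mk₀_comp_mk₀] at hx₂
  exact (Abelian.Ext.mk₀_bijective.{u} (ModSite.freeOn O Y) S.X₃).1 hx₂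

variable {O} {J' : GrothendieckTopology C} (h : J' ≤ J)

/-- `ε_*` preserves the epimorphism of a short exact sequence whose kernel has vanishing `H^1`
on a `J'`-basis `B` -/
lemma epi_push_g {S : ShortComplex (ModSite.Mod O)} (hS : S.ShortExact) (B : Set C)
    (h3 : ∀ U : C, ∃ (ι : Type u) (Y : ι → C) (g : ∀ i, Y i ⟶ U),
      Sieve.ofArrows Y g ∈ J' U ∧ ∀ i, Y i ∈ B)
    (hB : ∀ Y ∈ B, Subsingleton (ModSite.HU O S.X₁ 1 Y)) :
    Epi ((SiteCmp.eps h O).push.map S.g) := by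
  apply epi_of_local_sections (SiteCmp.epsRing h O)
  intro X s
  obtain ⟨ι, Y, g, hcov, hYB⟩ := h3 X
  refine ⟨Sieve.ofArrows Y g, hcov, ?_⟩
  intro Z f hf
  obtain ⟨i, u, rfl⟩ := (Sieve.mem_ofArrows_iff Y g f).1 hf
  let x : S.X₃.val.obj (op X) := freeOnHomEquiv (SiteCmp.epsRing h O) X _ s
  let t : ModSite.freeOn O (Y i) ⟶ S.X₃ :=
    (freeOnHomEquiv O (Y i) S.X₃).symm (S.X₃.val.map (g i).op x)
  obtain ⟨t', ht'⟩ := exists_lift_of_HU O hS (Y i) (hB _ (hYB i)) t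
  let y : S.X₂.val.obj (op (Y i)) := freeOnHomEquiv O (Y i) S.X₂ t'
  let s'' : ModSite.freeOn (SiteCmp.epsRing h O) (Y i) ⟶ (SiteCmp.eps h O).push.obj S.X₂ :=
    (freeOnHomEquiv (SiteCmp.epsRing h O) (Y i) _).symm y
  refine ⟨fmap (SiteCmp.epsRing h O) u ≫ s'', ?_⟩
  rw [fmap_comp, Category.assoc, Category.assoc]
  congr 1
  apply (freeOnHomEquiv (SiteCmp.epsRing h O) (Y i) _).injective
  rw [freeOnHomEquiv_comp, freeOnHomEquiv_fmap_comp, Equiv.apply_symm_apply]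
  have h1 := congrArg (freeOnHomEquiv O (Y i) S.X₃) ht'
  rw [freeOnHomEquiv_comp, Equiv.apply_symm_apply] at h1
  exact h1

end Groth.Agent.H1.EpsExact
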