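import Mathlib
import Groth.Agent.Lib.Helper18.EssEtale
import Groth.Agent.Lib.Helper24.HenselEss
import Groth.Prelude.Def_Hensel

/-!
# Stalk maps of étale morphisms are essentially étale; henselizations along strictly essentially
étale extensions (helper1)
-/

set_option autoImplicit false
universe u

open AlgebraicGeometry CategoryTheory IsLocalRing TensorProduct Algebra

namespace Groth.Agent.H1.EssEtStalk

/-- The localization of an étale algebra at a prime is essentially étale over the localization of the
base at the prime below. -/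
theorem isEssentiallyEtale_localization (A B : Type u) [CommRing A] [CommRing B]
    [Algebra A B] [Algebra.Etale A B]
    (p : Ideal A) [p.IsPrime] (q : Ideal B) [q.IsPrime] [q.LiesOver p]
    [Algebra (Localization.AtPrime p) (Localization.AtPrime q)]
    [Localization.AtPrime.IsLiesOverAlgebra p q] :
    EGA4loc.IsEssentiallyEtale (Localization.AtPrime p) (Localization.AtPrime q) := by
  let Rp := Localization.AtPrime p
  let Sp := Localization (algebraMapSubmonoid B p.primeCompl)
  let Sq := Localization.AtPrime q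
  let f : Sp →ₐ[B] Sq := IsLocalization.liftAlgHom (M := algebraMapSubmonoid B p.primeCompl)
        (f := Algebra.ofId _ _) (by
      rintro ⟨_, x, hx, rfl⟩
      simpa using! IsLocalization.map_units (M := q.primeCompl) Sq ⟨algebraMap _ _ x,
        by simp_all [q.over_def p]⟩)
  algebraize [f.toRingHom]
  have : IsScalarTower A Sp Sq := .to₁₃₄ _ B _ _
  have : IsScalarTower Rp Sp Sq := .of_algebraMap_eq' <| by
    apply IsLocalization.ringHom_ext p.primeCompl
    simp only [RingHom.comp_assoc, ← IsScalarTower.algebraMap_eq]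
  have hloc : IsLocalization (algebraMapSubmonoid Sp q.primeCompl) Sq :=
    .isLocalization_of_submonoid_le _ _ (algebraMapSubmonoid B p.primeCompl) _
    (by rintro _ ⟨x, hx, rfl⟩; simp_all [q.over_def p])
  have : FinitePresentation Rp Sp := by
    have : Algebra.IsPushout A Rp B Sp :=
      .symm <| Algebra.isPushout_of_isLocalization p.primeCompl _ _ _
    exact .equiv (Algebra.IsPushout.equiv A Rp B Sp)
  have h1 : FormallyEtale B Sq := FormallyEtale.of_isLocalization q.primeCompl
  have h2 : FormallyEtale A Sq := FormallyEtale.comp A B Sq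
  have h3 : FormallyEtale Rp Sq := FormallyEtale.localization_base (R := A) p.primeCompl
  have hlocal : IsLocalHom (algebraMap Rp Sq) := by
    rw [Localization.AtPrime.IsLiesOverAlgebra.algebraMap_eq (p := p) (P := q)]
    infer_instance
  have hm : (maximalIdeal Sq).comap (algebraMap Rp Sq) = maximalIdeal Rp :=
    ((IsLocalRing.local_hom_TFAE (algebraMap Rp Sq)).out 0 4).mp hlocal
  exact Groth.Agent.Lib.Helper18.EssEtale.isEssentiallyEtale_of_isLocalization Rp Sp Sq
    (algebraMapSubmonoid Sp q.primeCompl) hm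


/-- Transport of `IsEssentiallyEtale` along compatible ring isomorphisms. -/
theorem isEssentiallyEtale_of_ringEquiv {A A' A₁ A'₁ : Type u} [CommRing A] [CommRing A']
    [CommRing A₁] [CommRing A'₁] [IsLocalRing A] [IsLocalRing A₁]
    (φ : A →+* A') (φ₁ : A₁ →+* A'₁) (e : A ≃+* A₁) (e' : A' ≃+* A'₁)
    (hcomm : ∀ a, e' (φ a) = φ₁ (e a))
    (h : letI := φ₁.toAlgebra; EGA4loc.IsEssentiallyEtale A₁ A'₁) :
    letI := φ.toAlgebra; EGA4loc.IsEssentiallyEtale A A' := by
  letI := φ.toAlgebra
  letI := φ₁.toAlgebra
  obtain ⟨C, _, _, q, _, hC, hq, ⟨ε⟩⟩ := h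
  letI : Algebra A A₁ := e.toRingHom.toAlgebra
  letI : Algebra A C := ((algebraMap A₁ C).comp e.toRingHom).toAlgebra
  haveI : IsScalarTower A A₁ C := IsScalarTower.of_algebraMap_eq fun a => rfl
  let eA : A ≃ₐ[A] A₁ := { e with commutes' := fun a => rfl }
  haveI : Algebra.Etale A A₁ := by
    haveI : Algebra.FormallyEtale A A₁ := Algebra.FormallyEtale.of_equiv eA
    haveI : Algebra.FinitePresentation A A₁ := Algebra.FinitePresentation.equiv eA
    exact {}
  haveI : Algebra.Etale A₁ C := hC
  haveI : Algebra.Etale A C := Algebra.Etale.comp A A₁ C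
  refine ⟨C, inferInstance, inferInstance, q, inferInstance, inferInstance, ?_, ⟨?_⟩⟩
  · have h2 := Groth.Agent.Lib.Helper18.EssEtale.comap_maximalIdeal_of_ringEquiv e
    rw [← h2, ← hq, Ideal.comap_comap]
    rfl
  · refine { (e'.trans ε.toRingEquiv) with commutes' := fun a => ?_ }
    show ε (e' (φ a)) = algebraMap A (Localization.AtPrime q) a
    rw [hcomm]
    have h3 : φ₁ (e a) = algebraMap A₁ A'₁ (e a) := rfl
    rw [h3, ε.commutes]
    rfl

/-- The stalk map of an étale morphism of schemes is essentially étale. -/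
theorem isEssentiallyEtale_stalkMap {X Y : Scheme.{u}} (f : X ⟶ Y) [Etale f] (x : X) :
    letI := (f.stalkMap x).hom.toAlgebra
    EGA4loc.IsEssentiallyEtale (Y.presheaf.stalk (f x)) (X.presheaf.stalk x) := by
  obtain ⟨U, hU, hfxU, -⟩ := exists_isAffineOpen_mem_and_subset (x := f x) (U := ⊤) trivial
  have hx' : x ∈ f ⁻¹ᵁ U := hfxU
  obtain ⟨V, hV, hxV, hVU'⟩ := exists_isAffineOpen_mem_and_subset hx'
  have hVU : V ≤ f ⁻¹ᵁ U := hVU'
  have het : (f.appLE U V hVU).hom.Etale :=
    HasRingHomProperty.appLE (P := @Etale) f inferInstance ⟨U, hU⟩ ⟨V, hV⟩ hVU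
  algebraize [(f.appLE U V hVU).hom]
  let p := (hU.primeIdealOf ⟨f x, hVU hxV⟩).asIdeal
  let q := (hV.primeIdealOf ⟨x, hxV⟩).asIdeal
  haveI : q.LiesOver p :=
    ⟨congr($(IsAffineOpen.comap_primeIdealOf_appLE U hU V hV hVU hxV).1).symm⟩
  letI := Localization.AtPrime.algebraOfLiesOver p q
  have key := isEssentiallyEtale_localization Γ(Y, U) Γ(X, V) p q
  let I := IsAffineOpen.arrowStalkMapIso f U hU V hV hVU hxV
  let e : Y.presheaf.stalk (f x) ≃+* Localization.AtPrime p :=
    (Arrow.leftFunc.mapIso I).commRingCatIsoToRingEquiv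
  let e' : X.presheaf.stalk x ≃+* Localization.AtPrime q :=
    (Arrow.rightFunc.mapIso I).commRingCatIsoToRingEquiv
  refine isEssentiallyEtale_of_ringEquiv (f.stalkMap x).hom
    (algebraMap (Localization.AtPrime p) (Localization.AtPrime q)) e e' ?_ ?_
  · intro a
    have hw := I.hom.w
    have := congrArg (fun m => m.hom a) hw
    exact this.symm
  · convert key

open Hensel in
/-- A henselization of a strictly essentially étale local algebra `A'` of `A` is a henselization of
`A`. -/
theorem isHenselization_of_strictEssEtale (A A' R : Type u) [CommRing A] [IsLocalRing A]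
    [CommRing A'] [IsLocalRing A'] [Algebra A A'] [IsLocalHom (algebraMap A A')]
    (hA' : EGA4loc.IsStrictlyEssentiallyEtale A A')
    [CommRing R] [IsLocalRing R] [Algebra A' R] [IsLocalHom (algebraMap A' R)]
    [IsHenselization A' R] :
    letI : Algebra A R := ((algebraMap A' R).comp (algebraMap A A')).toAlgebra
    ∃ (_ : IsLocalHom (algebraMap A R)), IsHenselization A R := by
  letI : Algebra A R := ((algebraMap A' R).comp (algebraMap A A')).toAlgebra
  have hloc : IsLocalHom (algebraMap A R) := by
    show IsLocalHom ((algebraMap A' R).comp (algebraMap A A'))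
    infer_instance
  refine ⟨hloc, ⟨IsHenselization.henselian (R := A') (S := R), ?_⟩⟩
  intro T _ _ f hf
  haveI : IsLocalHom f := hf
  obtain ⟨ψ', ⟨hψ'loc, hψ'⟩, hψ'uniq⟩ :=
    Groth.Agent.Lib.helper24.HenselEss.existsUnique_lift_strictEssEtale A A' hA' T f
  obtain ⟨g, hg, hguniq⟩ := IsHenselization.universal (R := A') (S := R) T ψ' hψ'loc
  refine ⟨g, ?_, ?_⟩
  · show g.comp ((algebraMap A' R).comp (algebraMap A A')) = f
    rw [← RingHom.comp_assoc, hg, hψ']
  · intro g₂ hg₂
    have hg₂' : (g₂.comp (algebraMap A' R)).comp (algebraMap A A') = f := by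
      rw [RingHom.comp_assoc]; exact hg₂
    -- `g₂ ∘ algebraMap A' R` is local
    have hloc₂ : IsLocalHom (g₂.comp (algebraMap A' R)) := by
      have hmap := Groth.Agent.Lib.helper24.HenselEss.map_maximalIdeal_of_essEtale A A' hA'.1
      have hle : maximalIdeal A' ≤ (maximalIdeal T).comap (g₂.comp (algebraMap A' R)) := by
        rw [← hmap, Ideal.map_le_iff_le_comap]
        intro a ha
        rw [Ideal.mem_comap, Ideal.mem_comap]
        have : (g₂.comp (algebraMap A' R)) (algebraMap A A' a) = f a := by
          rw [← hg₂']; rfl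
        rw [this, mem_maximalIdeal, mem_nonunits_iff]
        intro hu
        exact ((mem_maximalIdeal _).1 ha) (isUnit_of_map_unit f a hu)
      constructor
      intro a ha
      by_contra hna
      have : a ∈ maximalIdeal A' := (mem_maximalIdeal _).2 hna
      have h2 := hle this
      rw [Ideal.mem_comap, mem_maximalIdeal, mem_nonunits_iff] at h2
      exact h2 ha
    have h3 : g₂.comp (algebraMap A' R) = ψ' := hψ'uniq _ ⟨hloc₂, hg₂'⟩
    exact hguniq g₂ h3

end Groth.Agent.H1.EssEtStalk
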