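import Groth.Agent.S17614
import Groth.Agent.Lib.Helper27.AcyclicClass2

/-!
# Sheaves acyclic on all affine étale schemes and the restriction to the Zariski site (helper1)

`Acyc G` (from `S17614`): `H^i(T, G|_T) = 0` for all affine étale `T → X`, `i ≥ 1`.
* `acyc_of_injective`, `acyc_of_shortExact`;
* `isZero_rightDerived_resZar` : `R^{q+1} π_* G = 0` for `Acyc G`.
-/

set_option autoImplicit false
open CategoryTheory CategoryTheory.Limits AlgebraicGeometry Opposite
universe u

namespace Groth.Agent.H1.EtZarAcyc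

open Groth.Agent.S17614 Abelian

variable {X : Scheme.{u}}

theorem acyc_of_injective (I : EtCoh.Ab X) [Injective I] : Acyc I := by
  intro T hT i hi
  have hE : Etale (T.hom : T.left ⟶ X) := T.prop
  have hinj : Injective ((EtCoh.pull (Y := X) T.hom).obj I) :=
    Groth.Agent.S0623.injective_pull_of_etale (Y := X) T.hom I
  obtain ⟨n, rfl⟩ : ∃ n, i = n + 1 := ⟨i - 1, by omega⟩
  have key : ∀ x : Ext (EtCoh.const T.left ℤ) ((EtCoh.pull (Y := X) T.hom).obj I) (n + 1), x = 0 :=
    fun x => @Ext.eq_zero_of_injective _ _ _ _ _ _ _ hinj x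
  exact ⟨fun a b => (key a).trans (key b).symm⟩

theorem acyc_of_shortExact {Sc : ShortComplex (EtCoh.Ab X)} (hSc : Sc.ShortExact)
    (h1 : Acyc Sc.X₁) (h2 : Acyc Sc.X₂) : Acyc Sc.X₃ := by
  intro T hT i hi
  have hS := pull_shortExact T hSc
  refine ⟨fun a b => ?_⟩
  have key : ∀ x₃ : Ext (EtCoh.const T.left ℤ) (Sc.map (EtCoh.pull T.hom)).X₃ i, x₃ = 0 := by
    intro x₃
    have h1' : Subsingleton (Ext (EtCoh.const T.left ℤ) (Sc.map (EtCoh.pull T.hom)).X₁ (i + 1)) :=
      h1 T hT (i + 1) (by omega)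
    have h2' : Subsingleton (Ext (EtCoh.const T.left ℤ) (Sc.map (EtCoh.pull T.hom)).X₂ i) :=
      h2 T hT i hi
    obtain ⟨x₂, hx₂⟩ := Ext.covariant_sequence_exact₃ (EtCoh.const T.left ℤ) hS x₃ rfl
      (Subsingleton.elim _ _)
    rw [← hx₂, Subsingleton.elim x₂ 0, Ext.zero_comp]
  exact (key a).trans (key b).symm

instance (X : Scheme.{u}) [EtZar.ZarCont X] : (EtZar.resZar X).Additive where

theorem isZero_rightDerived_resZar [EtZar.ZarCont X] (G : EtCoh.Ab X) (hG : Acyc G) (q : ℕ) :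
    IsZero (((EtZar.resZar X).rightDerived (q + 1)).obj G) := by
  refine Groth.Agent.Lib.helper27.Horseshoe.isZero_rightDerived_succ_of_class (EtZar.resZar X)
    (fun G => Acyc G) ?_ ?_ q G hG
  · intro G
    exact ⟨Injective.under G, Injective.ι G, acyc_of_injective _, inferInstance⟩
  · intro Sc hSc h1 h2
    exact ⟨acyc_of_shortExact hSc h1 h2, resZar_shortExact hSc h1⟩

end Groth.Agent.H1.EtZarAcyc
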