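import Groth.Agent.Lib.Helper1.EtCartanB
import Groth.Agent.Lib.Helper1.EtZarAcyc

/-!
# Cartan's criterion on the small étale site for affine objects (helper1)

`goodA U`: `U.left` is affine.  `GCA π`: a surjective morphism between affine objects.  If the abelian
étale sheaf `G` on an arbitrary scheme `X` is Čech exact for all such covers (`CEx GCA G.obj`) then
`Acyc G`: `H^i(T, G|_T) = 0` for every affine étale `T → X` and `i ≥ 1` (`acyc_of_cex`).
-/

set_option autoImplicit false
universe u
open CategoryTheory CategoryTheory.Limits AlgebraicGeometry Opposite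

namespace Groth.Agent.H1.EtCartanAff

open Groth.Agent.H1.CechK Groth.Agent.H1.GCech Groth.Agent.H1.FiltSecEt Groth.Agent.H1.EtGerm
  Groth.Agent.H1.EtCartan Groth.Agent.H1.ExtCompare Abelian

variable {X : Scheme.{u}}

/-- affine objects -/
def goodA (U : X.Etale) : Prop := IsAffine U.left

/-- affine covers: surjective morphisms between affine objects -/
def GCA ⦃V T : X.Etale⦄ (π : V ⟶ T) : Prop := IsAffine V.left ∧ IsAffine T.left ∧ Surjective π.left

theorem goodA_of_iso {U V : X.Etale} (e : U ≅ V) (hV : goodA V) : goodA U := by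
  haveI := isIso_left e
  haveI : IsAffine V.left := hV
  exact IsAffine.of_isIso e.hom.left

theorem goodA_pullback {U V₁ V₂ : X.Etale} (f₁ : V₁ ⟶ U) (f₂ : V₂ ⟶ U) (h1 : goodA V₁)
    (h2 : goodA V₂) (hU : goodA U) : goodA (pullback f₁ f₂) := by
  obtain ⟨e, -, -⟩ := exists_iso_fp f₁ f₂
  refine goodA_of_iso e ?_
  haveI : IsAffine V₁.left := h1
  haveI : IsAffine V₂.left := h2
  haveI : IsAffine U.left := hU
  exact inferInstanceAs (IsAffine (pullback f₁.left f₂.left))

theorem goodA_Eobj {V T : X.Etale} (π : V ⟶ T) (hπ : GCA π) : ∀ n, goodA (Eobj π (𝟙 T) n)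
  | 0 => hπ.2.1
  | n + 1 => goodA_pullback _ _ (goodA_Eobj π hπ n) hπ.1 hπ.2.1

theorem gc_of_gca {V T : X.Etale} (π : V ⟶ T) (hπ : GCA π) : GC π := by
  haveI := hπ.1
  haveI := hπ.2.1
  exact ⟨⟨inferInstance, inferInstance⟩, ⟨inferInstance, inferInstance⟩, hπ.2.2⟩

theorem axA : Ax (goodA (X := X)) (GCA (X := X)) where
  eto _ _ π hπ n := ⟨goodA_Eobj π hπ n, hπ.2.1, surjective_Eto π (gc_of_gca π hπ) n⟩
  src _ _ _ hπ := hπ.1

/-- over an affine object, sections of the target of an epimorphism lift along a single affine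
cover -/
theorem exists_affine_cover_lift {F G : EtCoh.Ab X} (q : F ⟶ G) [Epi q] (T : X.Etale)
    (hT : goodA T) (s : G.obj.obj (op T)) :
    ∃ (V : X.Etale) (π : V ⟶ T) (r : F.obj.obj (op V)), GCA π ∧
      q.hom.app (op V) r = G.obj.map π.op s := by
  have h : Sheaf.IsLocallySurjective q := by
    rw [Sheaf.isLocallySurjective_iff_epi']
    infer_instance
  have hmem := h.imageSieve_mem s
  haveI : IsAffine T.left := hT
  obtain ⟨n, W, f, h1, h2, h3⟩ := exists_finite_affine _ hmem
  choose r hr using h1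
  obtain ⟨V, inc, π, hπ, hoi, hdisj, hcov, haff⟩ := exists_coprod_affine T
    (fun i : ULift.{u} (Fin n) => W i.down) (fun i => f i.down) (fun i => h3 i.down)
  obtain ⟨ρ, hρ, -⟩ := Groth.Agent.H1.FinStalk.existsUnique_glue F V _ inc hoi hdisj hcov
    (fun i => r i.down)
  refine ⟨V, π, ρ, ⟨haff, hT, ⟨?_⟩⟩, ?_⟩
  · intro t
    obtain ⟨W', g, y, hg, hy⟩ := exists_of_mem _ h2 t
    obtain ⟨Y, a, g', hg', hag⟩ := hg
    obtain ⟨k⟩ := hg'
    refine ⟨(inc ⟨k⟩).left.base (a.left.base y), ?_⟩
    have e1 : (inc ⟨k⟩).left ≫ π.left = (f k).left := congrArg (fun m => m.left) (hπ ⟨k⟩)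
    have e2 : a.left ≫ (f k).left = g.left := congrArg (fun m => m.left) hag
    rw [← hy, ← e2, ← e1]
    rfl
  · rw [← sub_eq_zero]
    apply Groth.Agent.H1.FinStalk.eq_zero_of_cover G V _ inc hoi hdisj hcov
    intro i
    rw [map_sub, ← map_app_apply', hρ, hr, sub_eq_zero, ← hπ i, op_comp, Functor.map_comp]
    rfl

/-- the elementwise data of a short exact sequence of abelian étale sheaves -/
theorem gdataA_of_shortExact (Sx : ShortComplex (EtCoh.Ab X)) (hS : Sx.ShortExact) :
    GData (goodA (X := X)) (GCA (X := X)) (A := Sx.X₁.obj) (I := Sx.X₂.obj) (Q := Sx.X₃.obj)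
      Sx.f.hom Sx.g.hom where
  inj W := by
    haveI := hS.mono_f
    exact Groth.Agent.H1.SheafExactLoc.injective_app_of_mono Sx.f W
  exact W x hx := by
    haveI := hS.mono_f
    exact Groth.Agent.H1.SheafExactLoc.exact_app Sx hS.exact W x hx
  zero := by
    have : (sheafToPresheaf _ AddCommGrpCat.{u + 1}).map Sx.f ≫
        (sheafToPresheaf _ AddCommGrpCat.{u + 1}).map Sx.g = 0 := by
      rw [← Functor.map_comp, Sx.zero, Functor.map_zero]
    exact this
  glueI _ _ p hp x hx := by
    have h := isSheafFor_singleton Sx.X₂ p hp.2.2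
    rw [Presieve.isSheafFor_singleton] at h
    obtain ⟨y, hy, -⟩ := h x (fun p₁ p₂ h12 => hx p₁ p₂ h12)
    exact ⟨y, hy⟩
  sepQ _ _ p hp y y' hyy := by
    have h := (isSheafFor_singleton Sx.X₃ p hp.2.2).isSeparatedFor
    rw [Presieve.isSeparatedFor_singleton] at h
    exact h hyy
  loc T hT s := by
    haveI := hS.epi_g
    exact exists_affine_cover_lift Sx.g T hT s

open Groth.Agent.S17614

theorem θ_injective (T : X.Etale) (F : EtCoh.Ab X) : Function.Injective (θ T F) := by
  intro x y hxy
  unfold θ at hxy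
  have h1 : Function.Injective (F.obj.map (topIso T).inv.op) := by
    intro a b hab
    have := congrArg (F.obj.map (topIso T).hom.op) hab
    rw [Groth.Agent.S0728.map_map, Groth.Agent.S0728.map_map, Iso.hom_inv_id] at this
    simpa using this
  have h2 := h1 hxy
  have h3 : Function.Injective
      (((Groth.Agent.H1.EtStalkPull.restrIsoPull T.hom).inv.app F).hom.app
        (op (EtCoh.top T.left))) := by
    intro a b hab
    have := congrArg (((Groth.Agent.H1.EtStalkPull.restrIsoPull T.hom).hom.app F).hom.app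
      (op (EtCoh.top T.left))) hab
    have k := fun z => congrArg (fun m => m.hom.app (op (EtCoh.top T.left)) z)
      ((Groth.Agent.H1.EtStalkPull.restrIsoPull T.hom).inv_hom_id_app F)
    exact ((k a).symm.trans this).trans (k b)
  exact (Groth.Agent.H1.MVDeg0.ev T.left _).injective (h3 h2)

/-- **Cartan's criterion for affine objects** -/
theorem acyc_of_cex (n : ℕ) : ∀ (G : EtCoh.Ab X), CEx (GCA (X := X)) G.obj →
    ∀ (T : X.Etale), IsAffine T.left →
      Subsingleton (EtCoh.H T.left ((EtCoh.pull T.hom).obj G) (n + 1)) := by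
  induction n with
  | zero =>
    intro G hG T hT
    have hS := injSeq_shortExact G
    haveI : Injective (injSeq G).X₂ := inferInstanceAs (Injective (Injective.under G))
    have D := gdataA_of_shortExact (injSeq G) hS
    have hE : Etale (T.hom : T.left ⟶ X) := T.prop
    have hinj : Injective ((injSeq G).map (EtCoh.pull (Y := X) T.hom)).X₂ :=
      Groth.Agent.S0623.injective_pull_of_etale (Y := X) T.hom (injSeq G).X₂
    refine subsingleton_ext_one_of_lift (pull_shortExact T hS) (EtCoh.const T.left ℤ) (fun φ => ?_)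
    obtain ⟨j, hj⟩ := surj_of_cex axA D hG T hT (θ T (injSeq G).X₃ φ)
    obtain ⟨ψ, hψ⟩ := θ_surjective T (injSeq G).X₂ j
    refine ⟨ψ, ?_⟩
    apply θ_injective T (injSeq G).X₃
    have := θ_naturality T (injSeq G).g ψ
    rw [hψ] at this
    exact this.trans hj
  | succ n ih =>
    intro G hG T hT
    have hS := injSeq_shortExact G
    haveI : Injective (injSeq G).X₂ := inferInstanceAs (Injective (Injective.under G))
    have D := gdataA_of_shortExact (injSeq G) hS
    have hQ : CEx (GCA (X := X)) (injSeq G).X₃.obj :=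
      cex_of_step axA D hG (by
        haveI := injective_presheaf (injSeq G).X₂
        exact cex_of_injective (injSeq G).X₂.obj)
    have hE : Etale (T.hom : T.left ⟶ X) := T.prop
    have hinj : Injective ((injSeq G).map (EtCoh.pull (Y := X) T.hom)).X₂ :=
      Groth.Agent.S0623.injective_pull_of_etale (Y := X) T.hom (injSeq G).X₂
    exact subsingleton_ext_succ_of_injective (pull_shortExact T hS) (EtCoh.const T.left ℤ) (n + 1)
      (ih (injSeq G).X₃ hQ T hT)

theorem acyc_of_cex' (G : EtCoh.Ab X) (hG : CEx (GCA (X := X)) G.obj) : Acyc G := by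
  intro T hT i hi
  obtain ⟨n, rfl⟩ : ∃ n, i = n + 1 := ⟨i - 1, by omega⟩
  exact acyc_of_cex n G hG T hT

end Groth.Agent.H1.EtCartanAff
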