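import Groth.Agent.Lib.Helper1.GCechFace

/-!
# The degeneracy of the Čech nerve, with indices in successor normal form (helper1)

Same as `GCechFace.dup`, but all indices are written `n + 1 + 1` so that statements about the
terms of the nerve are syntactically uniform.
-/

set_option autoImplicit false
set_option linter.unusedVariables false
set_option linter.unusedSectionVars false

namespace Groth.Agent.H1.GCechFace

open CategoryTheory CategoryTheory.Limits Opposite Groth.Agent.H1.CechK Groth.Agent.H1.GCech

universe v₁ u₁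

variable {C : Type u₁} [Category.{v₁} C] [HasPullbacks C] {V T T₁ : C} {π : V ⟶ T} {e : T₁ ⟶ T}

/-- the degeneracy duplicating the zeroth section -/
noncomputable def dupS (n : ℕ) : Eobj π e (n + 1) ⟶ Eobj π e (n + 1 + 1) :=
  liftE (n + 1 + 1)
    (Tup.cons ((univ π e (n + 1)).sec 0) (univ π e (n + 1)) ((univ π e (n + 1)).comm 0))

theorem dupS_face_one (n : ℕ) :
    dupS (π := π) (e := e) n ≫ face π e (n + 1) (0 : Fin (n + 1)).succ = 𝟙 _ := by
  rw [dupS, liftE_face, Tup.reindex_succ_cons, cons_sec_zero_reindex, liftE_univ]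

theorem dupS_face_succ (n : ℕ) (k : Fin (n + 1)) :
    dupS (π := π) (e := e) (n + 1) ≫ face π e (n + 1 + 1) k.succ.succ =
      face π e (n + 1) k.succ ≫ dupS n := by
  rw [dupS, liftE_face, Tup.reindex_succ_cons, dupS, ← liftE_map, map_cons]
  congr 1
  apply cons_congr'
  · exact ((face_sec (n + 1) k.succ 0).trans (by rw [Fin.succ_succAbove_zero])).symm
  · rw [face, map_liftE]

/-- the projection of a term of the nerve to the zeroth factor -/
noncomputable def sndE (n : ℕ) : Eobj π e (n + 1) ⟶ V := pullback.snd (Eto π e n ≫ e) π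

/-- the projection forgetting the zeroth factor -/
noncomputable def fstE (n : ℕ) : Eobj π e (n + 1) ⟶ Eobj π e n := pullback.fst (Eto π e n ≫ e) π

theorem face_zero' (n : ℕ) : face π e n 0 = fstE n := face_zero n

theorem face_succ_sndE (n : ℕ) (i : Fin (n + 1)) :
    face π e (n + 1) i.succ ≫ sndE n = sndE (n + 1) := face_succ_sec_zero n i

theorem sndE_comp (n : ℕ) : sndE (π := π) (e := e) n ≫ π = Eto π e (n + 1) ≫ e :=
  (pullback.condition (f := Eto π e n ≫ e) (g := π)).symm.trans (Category.assoc _ _ _).symm

theorem isPullback_E (n : ℕ) : IsPullback (fstE (π := π) (e := e) n) (sndE n) (Eto π e n ≫ e) π :=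
  IsPullback.of_hasPullback _ _

end Groth.Agent.H1.GCechFace
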