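import Groth.Agent.Lib.Helper1.EtAssocBC
import Groth.Agent.Lib.Helper1.GCechFace2
import Groth.Agent.Lib.Helper1.EtCartanAff
import Groth.Agent.Lib.Helper1.AmitsurAbstract

/-!
# Čech exactness of the étale sheaf associated to a quasi-coherent module, for affine covers (helper1)
-/

set_option autoImplicit false
universe u
open CategoryTheory CategoryTheory.Limits AlgebraicGeometry Opposite

namespace Groth.Agent.H1.EtAssocAmitsur

open Groth.Agent.H1.CechK Groth.Agent.H1.GCech Groth.Agent.H1.GCechFace Groth.Agent.H1.EtAssocBC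
  Groth.Agent.H1.EtCartan Groth.Agent.H1.EtCartanAff Groth.Agent.H1.FiltSecEt
  Groth.Agent.Lib.helper8.PullbackUnit

variable {X : Scheme.{u}}

theorem sharp_comp {U U' U'' : X.Etale} (a : U'' ⟶ U') (b : U' ⟶ U) :
    sharp (a ≫ b) = (sharp a).comp (sharp b) := by
  change (a.left ≫ b.left).appTop.hom = _
  rw [Scheme.Hom.comp_appTop]
  rfl

theorem sharp_comp_apply {U U' U'' : X.Etale} (a : U'' ⟶ U') (b : U' ⟶ U) (m : Γ(U.left, ⊤)) :
    sharp (a ≫ b) m = sharp a (sharp b m) := by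
  rw [sharp_comp]
  rfl

theorem sharp_comp_eq {U U' U'' : X.Etale} (a : U'' ⟶ U') (b : U' ⟶ U) (c : U'' ⟶ U)
    (h : a ≫ b = c) (m : Γ(U.left, ⊤)) : sharp a (sharp b m) = sharp c m := by
  subst h
  exact (sharp_comp_apply a b m).symm

theorem sharp_id (U : X.Etale) (m : Γ(U.left, ⊤)) : sharp (𝟙 U) m = m := by
  change (𝟙 U.left : U.left ⟶ U.left).appTop.hom m = m
  rw [Scheme.Hom.id_appTop]
  rfl

/-- the `.left` of a pullback square in the small étale site is a pullback square -/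
theorem isPullback_left {U V₁ V₂ : X.Etale} (f₁ : V₁ ⟶ U) (f₂ : V₂ ⟶ U) :
    IsPullback (pullback.fst f₁ f₂).left (pullback.snd f₁ f₂).left f₁.left f₂.left := by
  obtain ⟨e, he1, he2⟩ := exists_iso_fp f₁ f₂
  haveI := isIso_left e
  refine IsPullback.of_iso (IsPullback.of_hasPullback f₁.left f₂.left) (asIso e.hom.left).symm
    (Iso.refl _) (Iso.refl _) (Iso.refl _) ?_ ?_ ?_ ?_
  · change pullback.fst f₁.left f₂.left ≫ 𝟙 _ = inv e.hom.left ≫ (pullback.fst f₁ f₂).left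
    have h : e.hom.left ≫ pullback.fst f₁.left f₂.left = (pullback.fst f₁ f₂).left := by
      rw [← he1]
      rfl
    rw [← h, IsIso.inv_hom_id_assoc, Category.comp_id]
  · change pullback.snd f₁.left f₂.left ≫ 𝟙 _ = inv e.hom.left ≫ (pullback.snd f₁ f₂).left
    have h : e.hom.left ≫ pullback.snd f₁.left f₂.left = (pullback.snd f₁ f₂).left := by
      rw [← he2]
      rfl
    rw [← h, IsIso.inv_hom_id_assoc, Category.comp_id]
  · simp
  · simp

theorem isPullback_left' {P U V₁ V₂ : X.Etale} {fst : P ⟶ V₁} {snd : P ⟶ V₂} {f₁ : V₁ ⟶ U}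
    {f₂ : V₂ ⟶ U} (h : IsPullback fst snd f₁ f₂) :
    IsPullback fst.left snd.left f₁.left f₂.left := by
  haveI := isIso_left h.isoPullback
  refine IsPullback.of_iso (isPullback_left f₁ f₂) (asIso h.isoPullback.hom.left).symm
    (Iso.refl _) (Iso.refl _) (Iso.refl _) ?_ ?_ ?_ ?_
  · change (pullback.fst f₁ f₂).left ≫ 𝟙 _ = inv h.isoPullback.hom.left ≫ fst.left
    have h1 : h.isoPullback.hom.left ≫ (pullback.fst f₁ f₂).left = fst.left :=
      congrArg (fun k => k.left) h.isoPullback_hom_fst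
    rw [← h1, IsIso.inv_hom_id_assoc, Category.comp_id]
  · change (pullback.snd f₁ f₂).left ≫ 𝟙 _ = inv h.isoPullback.hom.left ≫ snd.left
    have h1 : h.isoPullback.hom.left ≫ (pullback.snd f₁ f₂).left = snd.left :=
      congrArg (fun k => k.left) h.isoPullback_hom_snd
    rw [← h1, IsIso.inv_hom_id_assoc, Category.comp_id]
  · simp
  · simp

/-- functoriality of the restriction maps -/
structure Fun (F : X.Modules) : Prop where
  comp : ∀ {U U' U'' : X.Etale} (a : U'' ⟶ U') (b : U' ⟶ U) (x : N F U),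
    ρ F (a ≫ b) x = ρ F a (ρ F b x)
  id : ∀ (U : X.Etale) (x : N F U), ρ F (𝟙 U) x = x

theorem Fun.comp_eq {F : X.Modules} (hF : Fun F) {U U' U'' : X.Etale} (a : U'' ⟶ U') (b : U' ⟶ U)
    (c : U'' ⟶ U) (h : a ≫ b = c) (x : N F U) : ρ F a (ρ F b x) = ρ F c x := by
  subst h
  exact (hF.comp a b x).symm

theorem Fun.comp_eq_id {F : X.Modules} (hF : Fun F) {U U' : X.Etale} (a : U ⟶ U') (b : U' ⟶ U)
    (h : a ≫ b = 𝟙 U) (x : N F U) : ρ F a (ρ F b x) = x :=
  (hF.comp_eq a b _ h x).trans (hF.id U x)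

theorem Fun.comp_comm {F : X.Modules} (hF : Fun F) {U U₁ U₂ U'' : X.Etale} (a : U'' ⟶ U₁)
    (b : U₁ ⟶ U) (a' : U'' ⟶ U₂) (b' : U₂ ⟶ U) (h : a ≫ b = a' ≫ b') (x : N F U) :
    ρ F a (ρ F b x) = ρ F a' (ρ F b' x) :=
  (hF.comp_eq a b _ h x).trans (hF.comp a' b' x)

section Core

variable (F : X.Modules) {V T : X.Etale} (π : V ⟶ T)

/-- the rings of functions on the terms of the Čech nerve -/
def M (n : ℕ) : Type u := Γ((Eobj π (𝟙 T) n).left, ⊤)

noncomputable instance (n : ℕ) : CommRing (M π n) :=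
  inferInstanceAs (CommRing Γ((Eobj π (𝟙 T) n).left, ⊤))

/-- the modules of sections on the terms of the Čech nerve -/
def NN (n : ℕ) : Type u := N F (Eobj π (𝟙 T) n)

noncomputable instance (n : ℕ) : AddCommGroup (NN F π n) :=
  inferInstanceAs (AddCommGroup (N F (Eobj π (𝟙 T) n)))

noncomputable instance (n : ℕ) : Module (M π n) (NN F π n) :=
  inferInstanceAs (Module Γ((Eobj π (𝟙 T) n).left, ⊤) (N F (Eobj π (𝟙 T) n)))

/-- the coface maps on functions -/
noncomputable def fr (n : ℕ) (i : Fin (n + 1)) : M π n →+* M π (n + 1) := sharp (face π (𝟙 T) n i)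

/-- the coface maps on sections -/
noncomputable def fN (n : ℕ) (i : Fin (n + 1)) : NN F π n →+ NN F π (n + 1) :=
  ρ F (face π (𝟙 T) n i)

/-- the contraction -/
noncomputable def hr (n : ℕ) : NN F π (n + 1 + 1) →+ NN F π (n + 1) :=
  ρ F (dupS (π := π) (e := 𝟙 T) n)

variable {F}

theorem fN_apply (n : ℕ) (i : Fin (n + 1)) (m : NN F π n) :
    fN F π n i m = ρ F (face π (𝟙 T) n i) m := rfl

theorem hr_apply (n : ℕ) (m : NN F π (n + 1 + 1)) :
    hr F π n m = ρ F (dupS (π := π) (e := 𝟙 T) n) m := rfl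

theorem fN_fN (hF : Fun F) (n : ℕ) (i : Fin (n + 1)) (m : NN F π n) :
    fN F π (n + 1) i.succ (fN F π n 0 m) = fN F π (n + 1) 0 (fN F π n i m) := by
  rw [fN_apply, fN_apply, fN_apply, fN_apply]
  exact hF.comp_comm (face π (𝟙 T) (n + 1) i.succ) (face π (𝟙 T) n 0) (face π (𝟙 T) (n + 1) 0)
    (face π (𝟙 T) n i) (face_face n i) m

theorem hr_fN_one (hF : Fun F) (n : ℕ) (m : NN F π (n + 1 + 1)) :
    hr F π (n + 1) (fN F π (n + 1 + 1) (0 : Fin (n + 1 + 1)).succ m) = m := by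
  rw [fN_apply, hr_apply]
  exact hF.comp_eq_id (dupS (π := π) (e := 𝟙 T) (n + 1))
    (face π (𝟙 T) (n + 1 + 1) (0 : Fin (n + 1 + 1)).succ) (dupS_face_one (n + 1)) m

theorem hr_fN_succ (hF : Fun F) (n : ℕ) (k : Fin (n + 1)) (m : NN F π (n + 1 + 1)) :
    hr F π (n + 1) (fN F π (n + 1 + 1) k.succ.succ m) = fN F π (n + 1) k.succ (hr F π n m) := by
  rw [fN_apply, hr_apply, hr_apply, fN_apply]
  exact hF.comp_comm (dupS (π := π) (e := 𝟙 T) (n + 1)) (face π (𝟙 T) (n + 1 + 1) k.succ.succ)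
    (face π (𝟙 T) (n + 1) k.succ) (dupS (π := π) (e := 𝟙 T) n) (dupS_face_succ n k) m

/-- the structure maps from the base -/
noncomputable def bR (n : ℕ) : Γ(T.left, ⊤) →+* M π n := sharp (Eto π (𝟙 T) n ≫ 𝟙 T)

/-- the structure maps from the zeroth factor -/
noncomputable def sA (n : ℕ) : Γ(V.left, ⊤) →+* M π (n + 1) :=
  sharp (sndE (π := π) (e := 𝟙 T) n)

theorem fr_bR (n : ℕ) (i : Fin (n + 1)) (r : Γ(T.left, ⊤)) :
    fr π n i (bR π n r) = bR π (n + 1) r :=
  sharp_comp_eq (face π (𝟙 T) n i) (Eto π (𝟙 T) n ≫ 𝟙 T) _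
    ((Category.assoc _ _ _).symm.trans (congrArg (fun k => k ≫ 𝟙 T) (face_Eto n i))) r

theorem sA_sharp (n : ℕ) (r : Γ(T.left, ⊤)) : sA π n (sharp π r) = bR π (n + 1) r :=
  sharp_comp_eq (sndE (π := π) (e := 𝟙 T) n) π _ (sndE_comp n) r

theorem fr_sA (n : ℕ) (i : Fin (n + 1)) (a : Γ(V.left, ⊤)) :
    fr π (n + 1) i.succ (sA π n a) = sA π (n + 1) a :=
  sharp_comp_eq (face π (𝟙 T) (n + 1) i.succ) (sndE (π := π) (e := 𝟙 T) n) _
    (face_succ_sndE n i) a

theorem fr_zero_eq (n : ℕ) : fr π n 0 = sharp (fstE (π := π) (e := 𝟙 T) n) :=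
  congrArg sharp (face_zero' (π := π) (e := 𝟙 T) n)

theorem isPushout_core (hπ : GCA π) (n : ℕ) :
    IsPushout (CommRingCat.ofHom (sharp π)) (CommRingCat.ofHom (bR π n))
      (CommRingCat.ofHom (sA π n)) (CommRingCat.ofHom (fr π n 0)) := by
  haveI : IsAffine V.left := hπ.1
  haveI : IsAffine T.left := hπ.2.1
  haveI : IsAffine (Eobj π (𝟙 T) n).left := goodA_Eobj π hπ n
  have h := (isPullback_left' (isPullback_E (π := π) (e := 𝟙 T) n)).flip
  have := isPushout_appTop_of_isPullback h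
  rw [fr_zero_eq]
  exact this

theorem fN_smul [F.IsQuasicoherent] (hπ : GCA π) (n : ℕ) (i : Fin (n + 1)) (r : M π n)
    (x : NN F π n) : fN F π n i (r • x) = fr π n i r • fN F π n i x :=
  (isBC_ρ F (face π (𝟙 T) n i) (goodA_Eobj π hπ n) (goodA_Eobj π hπ (n + 1))).map_smul r x

theorem faithfullyFlat (hπ : GCA π) : (sharp π).FaithfullyFlat := by
  haveI : IsAffine V.left := hπ.1
  haveI : IsAffine T.left := hπ.2.1
  haveI : Surjective π.left := hπ.2.2
  haveI : Etale π.left := Groth.Agent.H1.EtGerm.etale_left π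
  exact (Flat.flat_and_surjective_iff_faithfullyFlat_of_isAffine (f := π.left)).mp
    ⟨inferInstance, inferInstance⟩

/-- **Exactness of the Amitsur complex** of the sections of the pullbacks of a quasi-coherent
module, for a surjective morphism of affine étale schemes. -/
theorem exact_δ [F.IsQuasicoherent] (hF : Fun F) (hπ : GCA π) (n : ℕ)
    (hδδ : ∀ x : NN F π n, AmitsurAbstract.δ (fN F π) (n + 1) (AmitsurAbstract.δ (fN F π) n x) = 0)
    (m : NN F π (n + 1)) (hm : AmitsurAbstract.δ (fN F π) (n + 1) m = 0) :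
    ∃ m', AmitsurAbstract.δ (fN F π) n m' = m :=
  AmitsurAbstract.exact_δ (sharp π) (fr π) (bR π) (sA π) (fN F π) (hr F π) (fN_fN π hF)
    (hr_fN_one π hF) (hr_fN_succ π hF) (fr_bR π) (sA_sharp π) (fr_sA π) (fN_smul π hπ)
    (faithfullyFlat π hπ) (isPushout_core π hπ)
    (fun k => isBC_ρ F (face π (𝟙 T) k 0) (goodA_Eobj π hπ k) (goodA_Eobj π hπ (k + 1)))
    n hδδ m hm

end Core

end Groth.Agent.H1.EtAssocAmitsur
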