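import Groth.Prelude.Def_EtAssoc2
import Groth.Agent.Lib.Helper8.PullbackUnit

/-!
# The restriction maps of the étale presheaf `U ↦ Γ(U, u^* F)` are base changes (helper1)
-/

set_option autoImplicit false
universe u
open CategoryTheory CategoryTheory.Limits AlgebraicGeometry TopologicalSpace Opposite

namespace Groth.Agent.H1.EtAssocBC

open Groth.Agent.Lib.helper8.PullbackUnit

variable {S : Scheme.{u}} (F : S.Modules)

/-- sections of the pullback -/
abbrev N (U : S.Etale) : Type u := Γ((Scheme.Modules.pullback U.hom).obj F, ⊤)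

/-- the restriction maps as additive maps -/
noncomputable def ρ {U U' : S.Etale} (g : U' ⟶ U) : N F U →+ N F U' := (EtAssoc.resMap F g).hom

/-- pullback of functions -/
noncomputable def sharp {U U' : S.Etale} (g : U' ⟶ U) : Γ(U.left, ⊤) →+* Γ(U'.left, ⊤) :=
  g.left.appTop.hom

theorem appLE_top {X Y : Scheme.{u}} (g : Y ⟶ X) (e : (⊤ : Y.Opens) ≤ g ⁻¹ᵁ ⊤) :
    g.appLE ⊤ ⊤ e = g.appTop := by
  rw [Scheme.Hom.appLE]
  exact (congrArg (fun k => g.app ⊤ ≫ k) (Y.presheaf.map_id _)).trans (Category.comp_id _)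

theorem step1_apply {U U' : S.Etale} (g : U' ⟶ U) (x : N F U) :
    (EtAssoc.step1 F g).hom x =
      Groth.Agent.Lib.helper8.PullbackUnit.ρ g.left (U := ⊤) (V := ⊤) le_top
        ((Scheme.Modules.pullback U.hom).obj F) x := rfl

instance isIso_step2a {U U' : S.Etale} (g : U' ⟶ U) : IsIso (EtAssoc.step2a F g) := by
  unfold EtAssoc.step2a
  infer_instance

theorem step2_eq {U U' : S.Etale} (g : U' ⟶ U) :
    EtAssoc.step2 F g = (EtAssoc.step2a F g).app ⊤ := rfl

/-- step 2 as a linear equivalence -/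
noncomputable def step2Equiv {U U' : S.Etale} (g : U' ⟶ U) :
    Γ((Scheme.Modules.pullback g.left).obj ((Scheme.Modules.pullback U.hom).obj F), ⊤)
      ≃ₗ[Γ(U'.left, ⊤)] N F U' :=
  LinearEquiv.ofBijective
    { toFun := fun y => ((EtAssoc.step2a F g).app ⊤).hom y
      map_add' := fun a b => map_add _ a b
      map_smul' := fun r y => Scheme.Modules.Hom.app_smul (EtAssoc.step2a F g) r y }
    (by
      have h : IsIso ((EtAssoc.step2a F g).app ⊤) := inferInstance
      exact (ConcreteCategory.bijective_of_isIso ((EtAssoc.step2a F g).app ⊤)))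

theorem ρ_apply {U U' : S.Etale} (g : U' ⟶ U) (x : N F U) :
    ρ F g x = step2Equiv F g (Groth.Agent.Lib.helper8.PullbackUnit.ρ g.left (U := ⊤) (V := ⊤) le_top
        ((Scheme.Modules.pullback U.hom).obj F) x) := rfl

/-- **The restriction maps between affine objects are base changes.** -/
theorem isBC_ρ [F.IsQuasicoherent] {U U' : S.Etale} (g : U' ⟶ U) (hU : IsAffine U.left)
    (hU' : IsAffine U'.left) : IsBC (sharp g) (ρ F g) := by
  haveI : ((Scheme.Modules.pullback U.hom).obj F).IsQuasicoherent :=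
    Groth.Agent.Lib.helper16.QCohPullback.isQuasicoherent_pullback U.hom F
  have h1 := Groth.Agent.Lib.helper8.PullbackUnit.isBC_ρ g.left (isAffineOpen_top U.left)
    (isAffineOpen_top U'.left) le_top ((Scheme.Modules.pullback U.hom).obj F)
  have h2 : (g.left.appLE ⊤ ⊤ le_top).hom = sharp g :=
    congrArg CommRingCat.Hom.hom (appLE_top g.left le_top)
  rw [h2] at h1
  exact h1.of_equiv (LinearEquiv.refl _ _) (step2Equiv F g).symm (ρ F g) (fun n => by
    rw [ρ_apply, LinearEquiv.symm_apply_apply]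
    rfl)

end Groth.Agent.H1.EtAssocBC
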