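import Groth.Agent.Lib.Helper1.EtAssocAmitsur

/-!
# The étale sheaf associated to a quasi-coherent module is Čech exact for affine covers, hence
acyclic on affine étale schemes (helper1)
-/

set_option autoImplicit false
universe u
open CategoryTheory CategoryTheory.Limits AlgebraicGeometry Opposite

namespace Groth.Agent.H1.EtAssocCex

open Groth.Agent.H1.CechK Groth.Agent.H1.GCech Groth.Agent.H1.GCechFace Groth.Agent.H1.EtAssocBC
  Groth.Agent.H1.EtCartan Groth.Agent.H1.EtCartanAff Groth.Agent.H1.EtAssocAmitsur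

variable {X : Scheme.{u}} (F : X.Modules) (G : EtCoh.Ab X)
  (e : ∀ U : X.Etale, (G.obj.obj (op U) : Type (u + 1)) ≃+ ULift.{u + 1} (EtAssoc.obj F U))

/-- sections of `G` as sections of the pullback of `F` -/
noncomputable def dn (U : X.Etale) : G.obj.obj (op U) ≃+ N F U := (e U).trans AddEquiv.ulift

variable (he : ∀ (U U' : X.Etale) (g : U' ⟶ U) (s : G.obj.obj (op U)),
  (e U' (G.obj.map g.op s)).down = EtAssoc.resMap F g (e U s).down)

include he in
theorem dn_map {U U' : X.Etale} (g : U' ⟶ U) (s : G.obj.obj (op U)) :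
    dn F G e U' (G.obj.map g.op s) = ρ F g (dn F G e U s) := he U U' g s

include he in
theorem fun_of_assoc : Fun F where
  comp a b x := by
    obtain ⟨s, rfl⟩ := (dn F G e _).surjective x
    rw [← dn_map F G e he, ← dn_map F G e he, ← dn_map F G e he]
    congr 1
    rw [op_comp, CategoryTheory.Functor.map_comp]
    rfl
  id U x := by
    obtain ⟨s, rfl⟩ := (dn F G e _).surjective x
    rw [← dn_map F G e he]
    congr 1
    rw [op_id, CategoryTheory.Functor.map_id]
    rfl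

section Core

variable {V T : X.Etale} (π : V ⟶ T)

/-- the identification on the terms of the nerve -/
noncomputable def dnE (n : ℕ) : G.obj.obj (op (Eobj π (𝟙 T) n)) ≃+ NN F π n :=
  dn F G e (Eobj π (𝟙 T) n)

include he in
theorem D_dn (n : ℕ) (s : G.obj.obj (op (Eobj π (𝟙 T) n))) :
    dnE F G e π (n + 1)
        (∑ i : Fin (n + 1), (-1 : ℤ) ^ (i : ℕ) • G.obj.map (face π (𝟙 T) n i).op s) =
      AmitsurAbstract.δ (fN F π) n (dnE F G e π n s) := by
  rw [AmitsurAbstract.δ, map_sum]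
  refine Finset.sum_congr rfl (fun i _ => ?_)
  rw [map_zsmul]
  congr 1
  exact dn_map F G e he (face π (𝟙 T) n i) s

theorem d_comp_d' (n : ℕ) : d (π := π) (e := 𝟙 T) (n + 1 + 1) ≫ d (n + 1) = 0 := d_comp_d n

theorem toSec_zero (n : ℕ) : toSec G.obj (0 : K π (𝟙 T) n ⟶ G.obj) = 0 := rfl

include he in
theorem δ_δ (n : ℕ) (x : NN F π (n + 1)) :
    AmitsurAbstract.δ (fN F π) (n + 1 + 1) (AmitsurAbstract.δ (fN F π) (n + 1) x) = 0 := by
  obtain ⟨s, rfl⟩ := (dnE F G e π (n + 1)).surjective x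
  rw [← D_dn F G e he π, ← D_dn F G e he π]
  have h1 : toSec G.obj (d (n + 1) ≫ ofSec π (𝟙 T) (n + 1) s) =
      ∑ i : Fin (n + 1 + 1), (-1 : ℤ) ^ (i : ℕ) • G.obj.map (face π (𝟙 T) (n + 1) i).op s := by
    rw [toSec_d, toSec_ofSec]
  have h2 := toSec_d G.obj (n + 1 + 1) (d (n + 1) ≫ ofSec π (𝟙 T) (n + 1) s)
  rw [h1] at h2
  rw [← h2, ← Category.assoc, d_comp_d' π n, zero_comp, toSec_zero, map_zero]

include he in
theorem cexS [F.IsQuasicoherent] (hπ : GCA π) (p : ℕ) (c : K π (𝟙 T) (p + 1 + 1) ⟶ G.obj)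
    (hc : d (p + 1 + 1) ≫ c = 0) : ∃ b : K π (𝟙 T) (p + 1) ⟶ G.obj, d (p + 1) ≫ b = c := by
  have hF := fun_of_assoc F G e he
  have hm0 : AmitsurAbstract.δ (fN F π) (p + 1 + 1) (dnE F G e π (p + 1 + 1) (toSec G.obj c)) = 0 := by
    rw [← D_dn F G e he π, ← toSec_d, hc, toSec_zero, map_zero]
  obtain ⟨m', hm'⟩ := exact_δ π hF hπ (p + 1) (δ_δ F G e he π p) _ hm0
  refine ⟨ofSec π (𝟙 T) (p + 1) ((dnE F G e π (p + 1)).symm m'), ?_⟩
  rw [← ofSec_toSec π (𝟙 T) (p + 1 + 1) c,
    ← ofSec_toSec π (𝟙 T) (p + 1 + 1) (d (p + 1) ≫ ofSec π (𝟙 T) (p + 1) _)]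
  congr 1
  rw [toSec_d, toSec_ofSec]
  apply (dnE F G e π (p + 1 + 1)).injective
  rw [D_dn F G e he π, AddEquiv.apply_symm_apply, hm']

end Core

include he in
/-- **The associated étale sheaf of a quasi-coherent module is Čech exact for affine covers.** -/
theorem cex [F.IsQuasicoherent] : CEx (GCA (X := X)) G.obj :=
  fun _ _ π hπ p c hc => cexS F G e he π hπ p c hc

/-- **The associated étale sheaf of a quasi-coherent module is acyclic on affine étale schemes.** -/
theorem acyc [F.IsQuasicoherent] (hG : EtAssoc.IsAssoc F G) : Groth.Agent.S17614.Acyc G := by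
  obtain ⟨e, he⟩ := hG
  exact acyc_of_cex' G (cex F G e he)

end Groth.Agent.H1.EtAssocCex
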