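import Groth.Agent.Lib.Helper8.PullbackUnit

/-!
# The unit of the pullback–pushforward adjunction for a composite, on sections (helper1)
-/

set_option autoImplicit false
universe u
open CategoryTheory AlgebraicGeometry TopologicalSpace Opposite

namespace Groth.Agent.H1.PullUnitComp

open Scheme.Modules Groth.Agent.Lib.helper8.PullbackUnit

variable {X Y Z : Scheme.{u}} (f : Z ⟶ Y) (g : Y ⟶ X) (A : X.Modules)

/-- the unit on sections -/
noncomputable def η {Y X : Scheme.{u}} (g : Y ⟶ X) (A : X.Modules) (U : X.Opens) :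
    Γ(A, U) →+ Γ((pullback g).obj A, g ⁻¹ᵁ U) :=
  (((pullbackPushforwardAdjunction g).unit.app A).app U).hom

theorem unit_comp (U : X.Opens) (s : Γ(A, U)) :
    (((pullbackComp f g).hom.app A).app ((f ≫ g) ⁻¹ᵁ U)).hom
      (η f ((pullback g).obj A) (g ⁻¹ᵁ U) (η g A U s)) = η (f ≫ g) A U s := by
  have h := unit_conjugateEquiv ((pullbackPushforwardAdjunction g).comp
    (pullbackPushforwardAdjunction f)) (pullbackPushforwardAdjunction (f ≫ g))
    (pullbackComp f g).inv A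
  rw [conjugateEquiv_pullbackComp_inv, Adjunction.comp_unit_app] at h
  have h2 := congr($(congrArg (fun k => Scheme.Modules.Hom.app k U) h).hom s)
  have h3 : η f ((pullback g).obj A) (g ⁻¹ᵁ U) (η g A U s) =
      (((pullbackComp f g).inv.app A).app ((f ≫ g) ⁻¹ᵁ U)).hom (η (f ≫ g) A U s) := h2
  rw [h3]
  have h4 : ((pullbackComp f g).inv.app A).app ((f ≫ g) ⁻¹ᵁ U) ≫
      ((pullbackComp f g).hom.app A).app ((f ≫ g) ⁻¹ᵁ U) = 𝟙 _ := by
    rw [← Scheme.Modules.Hom.comp_app, Iso.inv_hom_id_app]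
    rfl
  exact congr($(h4).hom (η (f ≫ g) A U s))

theorem ρ_eq {Y X : Scheme.{u}} (g : Y ⟶ X) (A : X.Modules) {U : X.Opens} {V : Y.Opens}
    (e : V ≤ g ⁻¹ᵁ U) (s : Γ(A, U)) :
    ρ g e A s = ((pullback g).obj A).presheaf.map (homOfLE e).op (η g A U s) := rfl

/-- the unit commutes with restrictions -/
theorem η_res {Y X : Scheme.{u}} (g : Y ⟶ X) (A : X.Modules) {U U' : X.Opens} (h : U' ≤ U)
    (s : Γ(A, U)) :
    η g A U' (A.presheaf.map (homOfLE h).op s) =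
      ((pullback g).obj A).presheaf.map
        (homOfLE (show g ⁻¹ᵁ U' ≤ g ⁻¹ᵁ U from fun _ hx => h hx)).op (η g A U s) :=
  Groth.Agent.Lib.helper16.QCohEpi.app_map ((pullbackPushforwardAdjunction g).unit.app A) h s

theorem res_res {Z : Scheme.{u}} (M : Z.Modules) {W W' W'' : Z.Opens} (h : W ≤ W') (h' : W' ≤ W'')
    (x : Γ(M, W'')) :
    M.presheaf.map (homOfLE h).op (M.presheaf.map (homOfLE h').op x) =
      M.presheaf.map (homOfLE (h.trans h')).op x := by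
  rw [← ConcreteCategory.comp_apply, ← Functor.map_comp]
  rfl

/-- `ρ` commutes with restrictions -/
theorem ρ_res {Y X : Scheme.{u}} (g : Y ⟶ X) (A : X.Modules) {U U' : X.Opens} {V : Y.Opens}
    (h : U' ≤ U) (e' : V ≤ g ⁻¹ᵁ U') (e : V ≤ g ⁻¹ᵁ U) (s : Γ(A, U)) :
    ρ g e' A (A.presheaf.map (homOfLE h).op s) = ρ g e A s := by
  rw [ρ_eq, ρ_eq, η_res, res_res]

theorem ρ_comp {U : X.Opens} {V : Y.Opens} {W : Z.Opens} (eV : V ≤ g ⁻¹ᵁ U) (eW : W ≤ f ⁻¹ᵁ V)
    (e' : W ≤ (f ≫ g) ⁻¹ᵁ U) (s : Γ(A, U)) :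
    (((pullbackComp f g).hom.app A).app W).hom (ρ f eW ((pullback g).obj A) (ρ g eV A s)) =
      ρ (f ≫ g) e' A s := by
  rw [ρ_eq g, ρ_eq f, η_res f ((pullback g).obj A) eV, res_res, ρ_eq (f ≫ g)]
  have h1 := Groth.Agent.Lib.helper16.QCohEpi.app_map ((pullbackComp f g).hom.app A) e'
    (η f ((pullback g).obj A) (g ⁻¹ᵁ U) (η g A U s))
  exact h1.trans (congrArg _ (unit_comp f g A U s))

end Groth.Agent.H1.PullUnitComp
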