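import Groth.Agent.Lib.Helper1.EtAssocBC
import Groth.Agent.Lib.Helper1.PullUnitComp
import Groth.Prelude.Def_EtZar

/-!
# Compatibility of the restriction maps of `U ↦ Γ(U, u^* F)` with the unit maps, and the Zariski
restriction of the associated étale sheaf (helper1)
-/

set_option autoImplicit false
universe u
open CategoryTheory CategoryTheory.Limits AlgebraicGeometry TopologicalSpace Opposite

namespace Groth.Agent.H1.EtAssocZar

open Groth.Agent.H1.EtAssocBC Groth.Agent.H1.PullUnitComp Scheme.Modules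

theorem ρ_congr {Y X : Scheme.{u}} {h h' : Y ⟶ X} (hh : h = h') (A : X.Modules) {U : X.Opens}
    {V : Y.Opens} (e : V ≤ h ⁻¹ᵁ U) (e' : V ≤ h' ⁻¹ᵁ U) (s : Γ(A, U)) :
    ((eqToHom (congrArg (fun k => (pullback k).obj A) hh)).app V).hom
      (Groth.Agent.Lib.helper8.PullbackUnit.ρ h e A s) =
        Groth.Agent.Lib.helper8.PullbackUnit.ρ h' e' A s := by
  subst hh
  rfl

/-- restriction between equal opens is bijective -/
theorem res_bijective {Z : Scheme.{u}} (M : Z.Modules) {W W' : Z.Opens} (h : W ≤ W') (h' : W' ≤ W) :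
    Function.Bijective (M.presheaf.map (homOfLE h).op) := by
  have hid : ∀ (W₀ : Z.Opens) (x : Γ(M, W₀)), M.presheaf.map (homOfLE (le_refl W₀)).op x = x := by
    intro W₀ x
    have : (homOfLE (le_refl W₀)).op = 𝟙 (op W₀) := rfl
    rw [this, M.presheaf.map_id]
    rfl
  refine Function.bijective_iff_has_inverse.2 ⟨M.presheaf.map (homOfLE h').op, ?_, ?_⟩
  · intro x
    rw [res_res, hid]
  · intro x
    rw [res_res, hid]

/-- for an open immersion, the unit of the pullback adjunction is bijective on sections over opens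
contained in the image -/
theorem η_bijective {Y X : Scheme.{u}} (f : Y ⟶ X) [IsOpenImmersion f] (M : X.Modules)
    (U : X.Opens) (hU : U ≤ f ''ᵁ f ⁻¹ᵁ U) : Function.Bijective (η f M U) := by
  have h1 := Adjunction.unit_leftAdjointUniq_hom_app (restrictAdjunction f)
    (pullbackPushforwardAdjunction f) M
  have h2 : ∀ s, η f M U s = (((restrictFunctorIsoPullback f).hom.app M).app (f ⁻¹ᵁ U)).hom
      (M.presheaf.map (homOfLE (f.image_preimage_le U)).op s) := by
    intro s
    exact (congr($(congrArg (fun k => Scheme.Modules.Hom.app k U) h1).hom s)).symm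
  have h3 : Function.Bijective (fun s => (((restrictFunctorIsoPullback f).hom.app M).app (f ⁻¹ᵁ U)).hom
      (M.presheaf.map (homOfLE (f.image_preimage_le U)).op s)) := by
    refine Function.Bijective.comp ?_ (res_bijective M (f.image_preimage_le U) hU)
    exact ConcreteCategory.bijective_of_isIso
      (((restrictFunctorIsoPullback f).hom.app M).app (f ⁻¹ᵁ U))
  have h4 : ⇑(η f M U) = (fun s =>
      (((restrictFunctorIsoPullback f).hom.app M).app (f ⁻¹ᵁ U)).hom
        (M.presheaf.map (homOfLE (f.image_preimage_le U)).op s)) := funext h2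
  rw [h4]
  exact h3

variable {S : Scheme.{u}} (F : S.Modules)

/-- the unit map from sections of `F` over an open containing the image of `U` -/
noncomputable def β (U : S.Etale) (W₀ : S.Opens) (e : (⊤ : U.left.Opens) ≤ U.hom ⁻¹ᵁ W₀) :
    Γ(F, W₀) →+ N F U :=
  Groth.Agent.Lib.helper8.PullbackUnit.ρ U.hom e F

theorem ρ_β {U U' : S.Etale} (g : U' ⟶ U) (W₀ : S.Opens) (e : (⊤ : U.left.Opens) ≤ U.hom ⁻¹ᵁ W₀)
    (e' : (⊤ : U'.left.Opens) ≤ U'.hom ⁻¹ᵁ W₀) (s : Γ(F, W₀)) :
    ρ F g (β F U W₀ e s) = β F U' W₀ e' s := by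
  rw [EtAssocBC.ρ_apply]
  have hw : g.left ≫ U.hom = U'.hom := Over.w g.hom
  have e'' : (⊤ : U'.left.Opens) ≤ (g.left ≫ U.hom) ⁻¹ᵁ W₀ := by
    rw [hw]
    exact e'
  have h1 := ρ_comp g.left U.hom F e (le_top : (⊤ : U'.left.Opens) ≤ g.left ⁻¹ᵁ ⊤) e'' s
  have h2 := ρ_congr hw F e'' e' s
  rw [← h1] at h2
  exact h2

theorem β_res (U : S.Etale) {W₀ W₁ : S.Opens} (h : W₁ ≤ W₀)
    (e₁ : (⊤ : U.left.Opens) ≤ U.hom ⁻¹ᵁ W₁) (e₀ : (⊤ : U.left.Opens) ≤ U.hom ⁻¹ᵁ W₀)
    (s : Γ(F, W₀)) : β F U W₁ e₁ (F.presheaf.map (homOfLE h).op s) = β F U W₀ e₀ s :=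
  ρ_res U.hom F h e₁ e₀ s

section Zar

/-- the Zariski-open objects of the small étale site -/
noncomputable abbrev zo (U : S.Opens) : S.Etale := (EtZar.zarToEt S).obj U

theorem zo_le (U : S.Opens) : (⊤ : (zo U).left.Opens) ≤ (zo U).hom ⁻¹ᵁ U := by
  intro x _
  exact x.2

/-- sections over an open and sections of the pullback to the open subscheme -/
noncomputable def b (U : S.Opens) : Γ(F, U) →+ N F (zo U) := β F (zo U) U (zo_le U)

theorem b_bijective (U : S.Opens) : Function.Bijective (b F U) := by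
  have h1 : Function.Bijective (η U.ι F U) := by
    apply η_bijective
    intro x hx
    exact ⟨⟨x, hx⟩, hx, rfl⟩
  have h2 := res_bijective ((Scheme.Modules.pullback U.ι).obj F) (zo_le U) (le_top)
  exact h2.comp h1

/-- the resulting additive equivalence -/
noncomputable def bEquiv (U : S.Opens) : Γ(F, U) ≃+ N F (zo U) :=
  AddEquiv.ofBijective (b F U) (b_bijective F U)

theorem ρ_b {U V : S.Opens} (i : V ⟶ U) (s : Γ(F, U)) :
    ρ F ((EtZar.zarToEt S).map i) (b F U s) = b F V (F.presheaf.map i.op s) := by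
  have e' : (⊤ : (zo V).left.Opens) ≤ (zo V).hom ⁻¹ᵁ U := (zo_le V).trans (fun _ hx => i.le hx)
  rw [b, ρ_β F ((EtZar.zarToEt S).map i) U (zo_le U) e' s]
  exact (β_res F (zo V) i.le (zo_le V) e' s).symm

end Zar

end Groth.Agent.H1.EtAssocZar
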