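import Groth.Agent.Lib.Helper1.FiltSecC
import Groth.Agent.Lib.Helper1.EtGerm
import Groth.Agent.Lib.Helper1.ClosedDense

/-!
# qcqs objects of the small étale site (helper1)
-/

set_option autoImplicit false
universe u

namespace Groth.Agent.H1.FiltSecEt

open CategoryTheory CategoryTheory.Limits Opposite AlgebraicGeometry
open Groth.Agent.H1.FiltSec Groth.Agent.H1.EtGerm

variable {X : Scheme.{u}}

/-- converse of the covering criterion -/
theorem exists_of_mem {U : X.Etale} (R : Sieve U) (hR : R ∈ X.smallEtaleTopology U) (x : U.left) :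
    ∃ (W : X.Etale) (f : W ⟶ U) (y : W.left), R f ∧ f.left.base y = x := by
  have eY : X.smallEtaleTopology =
      (X.smallPretopology (P := EtCoh.etaleMP) (Q := EtCoh.etaleMP)).toGrothendieck :=
    Scheme.smallGrothendieckTopology_eq_toGrothendieck_smallPretopology X le_rfl
  rw [eY] at hR
  obtain ⟨W, f, y, hf, -, hy⟩ := (Scheme.mem_toGrothendieck_smallPretopology U R).1 hR x
  exact ⟨W, f, y, hf, hy⟩

/-- affine refinement -/
theorem exists_affine_of_mem {U : X.Etale} (R : Sieve U) (hR : R ∈ X.smallEtaleTopology U)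
    (x : U.left) :
    ∃ (W : X.Etale) (f : W ⟶ U) (y : W.left), R f ∧ f.left.base y = x ∧ IsAffine W.left := by
  obtain ⟨W, f, y, hf, hy⟩ := exists_of_mem R hR x
  obtain ⟨_, ⟨W', hW', rfl⟩, hyW, -⟩ := W.left.isBasis_affineOpens.exists_subset_of_mem_open
    (Set.mem_univ y) isOpen_univ
  obtain ⟨W'', rfl⟩ : ∃ W'' : W.left.Opens, W'' = W' := ⟨W', rfl⟩
  refine ⟨restrictOpen W W'', restrictOpenι W W'' ≫ f, ⟨y, hyW⟩, R.downward_closed hf _, ?_, hW'⟩
  rw [← hy]
  rfl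

/-- quasi-compact objects of the small étale site have the finite covering property, with affine
members -/
theorem exists_finite_affine {U : X.Etale} [CompactSpace U.left] (R : Sieve U)
    (hR : R ∈ X.smallEtaleTopology U) :
    ∃ (n : ℕ) (V : Fin n → X.Etale) (f : ∀ k, V k ⟶ U), (∀ k, R (f k)) ∧
      Sieve.ofArrows V f ∈ X.smallEtaleTopology U ∧ ∀ k, IsAffine (V k).left := by
  classical
  choose W f y hf hy hW using exists_affine_of_mem R hR
  have hopen : ∀ x, IsOpen (Set.range (f x).left.base) := by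
    intro x
    haveI := etale_left (f x)
    exact (f x).left.isOpenMap.isOpen_range
  obtain ⟨F₀, hF₀⟩ := CompactSpace.elim_nhds_subcover (fun x => Set.range (f x).left.base)
    (fun x => (hopen x).mem_nhds ⟨y x, hy x⟩)
  let e := F₀.equivFin
  refine ⟨F₀.card, fun k => W (e.symm k).1, fun k => f (e.symm k).1, fun k => hf _, ?_,
    fun k => hW _⟩
  apply Groth.Agent.H1.ClosedDense.mem_smallEtaleTopology
  intro x
  have hx : x ∈ ⋃ t ∈ F₀, Set.range (f t).left.base := hF₀ ▸ Set.mem_univ x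
  simp only [Set.mem_iUnion] at hx
  obtain ⟨t, ht, z, hz⟩ := hx
  refine ⟨W t, f t, z, ?_, hz⟩
  have : Sieve.ofArrows (fun k => W (e.symm k).1) (fun k => f (e.symm k).1) (f (e.symm (e ⟨t, ht⟩)).1) :=
    Sieve.ofArrows_mk _ _ (e ⟨t, ht⟩)
  rw [Equiv.symm_apply_apply] at this
  exact this

theorem finCov_of_compact (U : X.Etale) [CompactSpace U.left] :
    FinCov X.smallEtaleTopology U := by
  intro R hR
  obtain ⟨n, V, f, h1, h2, -⟩ := exists_finite_affine R hR
  exact ⟨n, V, f, h1, h2⟩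

/-- fibre product of two objects over a third in the small étale site -/
noncomputable def fp {U V₁ V₂ : X.Etale} (f₁ : V₁ ⟶ U) (f₂ : V₂ ⟶ U) : X.Etale :=
  haveI : Etale V₁.hom := V₁.prop
  haveI := etale_left f₂
  Scheme.Etale.mk (pullback.fst f₁.left f₂.left ≫ V₁.hom)

theorem fp_left {U V₁ V₂ : X.Etale} (f₁ : V₁ ⟶ U) (f₂ : V₂ ⟶ U) :
    (fp f₁ f₂).left = pullback f₁.left f₂.left := rfl

/-- first projection -/
noncomputable def fp₁ {U V₁ V₂ : X.Etale} (f₁ : V₁ ⟶ U) (f₂ : V₂ ⟶ U) : fp f₁ f₂ ⟶ V₁ :=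
  MorphismProperty.Over.homMk (pullback.fst f₁.left f₂.left) rfl trivial

theorem fp_w {U V₁ V₂ : X.Etale} (f₁ : V₁ ⟶ U) (f₂ : V₂ ⟶ U) :
    pullback.snd f₁.left f₂.left ≫ V₂.hom = pullback.fst f₁.left f₂.left ≫ V₁.hom := by
  have e1 : f₁.left ≫ U.hom = V₁.hom := MorphismProperty.Over.w f₁
  have e2 : f₂.left ≫ U.hom = V₂.hom := MorphismProperty.Over.w f₂
  rw [← e1, ← e2, ← Category.assoc, ← Category.assoc, pullback.condition]

/-- second projection -/
noncomputable def fp₂ {U V₁ V₂ : X.Etale} (f₁ : V₁ ⟶ U) (f₂ : V₂ ⟶ U) : fp f₁ f₂ ⟶ V₂ :=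
  MorphismProperty.Over.homMk (pullback.snd f₁.left f₂.left) (fp_w f₁ f₂) trivial

theorem hom_ext_left {U V : X.Etale} {a b : V ⟶ U} (h : a.left = b.left) : a = b :=
  MorphismProperty.Over.Hom.ext h

theorem fp_condition {U V₁ V₂ : X.Etale} (f₁ : V₁ ⟶ U) (f₂ : V₂ ⟶ U) :
    fp₁ f₁ f₂ ≫ f₁ = fp₂ f₁ f₂ ≫ f₂ := by
  apply hom_ext_left
  exact pullback.condition

theorem fp_lift {U V₁ V₂ : X.Etale} (f₁ : V₁ ⟶ U) (f₂ : V₂ ⟶ U) (Z : X.Etale)
    (g₁ : Z ⟶ V₁) (g₂ : Z ⟶ V₂) (h : g₁ ≫ f₁ = g₂ ≫ f₂) :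
    ∃ m : Z ⟶ fp f₁ f₂, m ≫ fp₁ f₁ f₂ = g₁ ∧ m ≫ fp₂ f₁ f₂ = g₂ := by
  have h' : g₁.left ≫ f₁.left = g₂.left ≫ f₂.left := congrArg (fun k => k.left) h
  have hw : pullback.lift g₁.left g₂.left h' ≫ (fp f₁ f₂).hom = Z.hom := by
    change pullback.lift g₁.left g₂.left h' ≫ pullback.fst f₁.left f₂.left ≫ V₁.hom = Z.hom
    rw [pullback.lift_fst_assoc]
    exact MorphismProperty.Over.w g₁
  refine ⟨MorphismProperty.Over.homMk (pullback.lift g₁.left g₂.left h') hw trivial, ?_, ?_⟩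
  · apply hom_ext_left
    exact pullback.lift_fst _ _ _
  · apply hom_ext_left
    exact pullback.lift_snd _ _ _

instance compactSpace_fp {U V₁ V₂ : X.Etale} (f₁ : V₁ ⟶ U) (f₂ : V₂ ⟶ U)
    [QuasiSeparatedSpace U.left] [CompactSpace V₁.left] [CompactSpace V₂.left] :
    CompactSpace (fp f₁ f₂).left :=
  inferInstanceAs (CompactSpace ↑(pullback f₁.left f₂.left))

/-- quasi-compact quasi-separated objects of the small étale site -/
theorem qcqs_of_compact_quasiSeparated (U : X.Etale) [CompactSpace U.left]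
    [QuasiSeparatedSpace U.left] : QCQS X.smallEtaleTopology U := by
  intro R hR
  obtain ⟨n, V, f, h1, h2, h3⟩ := exists_finite_affine R hR
  refine ⟨n, V, f, h1, h2, fun k l => ?_⟩
  haveI := h3 k
  haveI := h3 l
  exact ⟨fp (f k) (f l), fp₁ (f k) (f l), fp₂ (f k) (f l), fp_condition _ _,
    finCov_of_compact _, fp_lift (f k) (f l)⟩

end Groth.Agent.H1.FiltSecEt
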