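import Groth.Agent.Lib.Helper1.GCechA
import Groth.Agent.Lib.Helper1.FiltSecEt
import Groth.Agent.Lib.Helper1.FinStalk
import Groth.Agent.Lib.Helper1.SheafExactLoc
import Groth.Prelude.Def_EtCore

/-!
# Cartan's criterion on the small étale site for qcqs objects, part A (helper1)

`good U`: `U.left` is quasi-compact and quasi-separated.  `GC π`: a surjective morphism between good
objects.  These satisfy the axioms `GCech.Ax`; short exact sequences of abelian étale sheaves give
`GCech.GData`.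
-/

set_option autoImplicit false
universe u
open CategoryTheory CategoryTheory.Limits AlgebraicGeometry Opposite

namespace Groth.Agent.H1.EtCartan

open Groth.Agent.H1.CechK Groth.Agent.H1.GCech Groth.Agent.H1.FiltSecEt Groth.Agent.H1.EtGerm

variable {X : Scheme.{u}}

/-- quasi-compact quasi-separated objects -/
def good (U : X.Etale) : Prop := CompactSpace U.left ∧ QuasiSeparatedSpace U.left

/-- good covers: surjective morphisms between good objects -/
def GC ⦃V T : X.Etale⦄ (π : V ⟶ T) : Prop := good V ∧ good T ∧ Surjective π.left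

theorem fp_hom_ext {U V₁ V₂ Z : X.Etale} (f₁ : V₁ ⟶ U) (f₂ : V₂ ⟶ U) (m m' : Z ⟶ fp f₁ f₂)
    (h1 : m ≫ fp₁ f₁ f₂ = m' ≫ fp₁ f₁ f₂) (h2 : m ≫ fp₂ f₁ f₂ = m' ≫ fp₂ f₁ f₂) : m = m' := by
  apply hom_ext_left
  apply pullback.hom_ext (f := f₁.left) (g := f₂.left)
  · exact congrArg (fun k => k.left) h1
  · exact congrArg (fun k => k.left) h2

theorem exists_iso_fp {U V₁ V₂ : X.Etale} (f₁ : V₁ ⟶ U) (f₂ : V₂ ⟶ U) :
    ∃ e : pullback f₁ f₂ ≅ fp f₁ f₂, e.hom ≫ fp₁ f₁ f₂ = pullback.fst f₁ f₂ ∧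
      e.hom ≫ fp₂ f₁ f₂ = pullback.snd f₁ f₂ := by
  obtain ⟨m, hm1, hm2⟩ := fp_lift f₁ f₂ (pullback f₁ f₂) (pullback.fst f₁ f₂) (pullback.snd f₁ f₂)
    pullback.condition
  refine ⟨⟨m, pullback.lift (fp₁ f₁ f₂) (fp₂ f₁ f₂) (fp_condition f₁ f₂), ?_, ?_⟩, hm1, hm2⟩
  · apply pullback.hom_ext
    · rw [Category.assoc, pullback.lift_fst, hm1, Category.id_comp]
    · rw [Category.assoc, pullback.lift_snd, hm2, Category.id_comp]
  · apply fp_hom_ext
    · rw [Category.assoc, hm1, pullback.lift_fst, Category.id_comp]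
    · rw [Category.assoc, hm2, pullback.lift_snd, Category.id_comp]

theorem isIso_left {U V : X.Etale} (e : U ≅ V) : IsIso e.hom.left :=
  ⟨e.inv.left, congrArg (fun k => k.left) e.hom_inv_id, congrArg (fun k => k.left) e.inv_hom_id⟩

theorem good_of_iso {U V : X.Etale} (e : U ≅ V) (hV : good V) : good U := by
  haveI := isIso_left e
  haveI := hV.1
  haveI := hV.2
  exact ⟨QuasiCompact.compactSpace_of_compactSpace e.hom.left,
    quasiSeparatedSpace_of_quasiSeparated e.hom.left⟩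

theorem good_fp {U V₁ V₂ : X.Etale} (f₁ : V₁ ⟶ U) (f₂ : V₂ ⟶ U) (h1 : good V₁) (h2 : good V₂)
    (hU : good U) : good (fp f₁ f₂) := by
  haveI := h1.1
  haveI := h1.2
  haveI := h2.1
  haveI := h2.2
  haveI := hU.2
  refine ⟨inferInstance, ?_⟩
  change QuasiSeparatedSpace ↑(pullback f₁.left f₂.left)
  exact quasiSeparatedSpace_of_quasiSeparated (pullback.fst f₁.left f₂.left)

theorem good_pullback {U V₁ V₂ : X.Etale} (f₁ : V₁ ⟶ U) (f₂ : V₂ ⟶ U) (h1 : good V₁)
    (h2 : good V₂) (hU : good U) : good (pullback f₁ f₂) := by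
  obtain ⟨e, -, -⟩ := exists_iso_fp f₁ f₂
  exact good_of_iso e (good_fp f₁ f₂ h1 h2 hU)

theorem surjective_fst {U V₁ V₂ : X.Etale} (f₁ : V₁ ⟶ U) (f₂ : V₂ ⟶ U)
    (h : Surjective f₂.left) : Surjective (pullback.fst f₁ f₂).left := by
  obtain ⟨e, he, -⟩ := exists_iso_fp f₁ f₂
  haveI := isIso_left e
  have h1 : (pullback.fst f₁ f₂).left = e.hom.left ≫ pullback.fst f₁.left f₂.left := by
    rw [← he]
    rfl
  rw [h1]
  have h2 : Surjective (pullback.fst f₁.left f₂.left) :=
    MorphismProperty.pullback_fst (P := @Surjective) _ _ h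
  have h3 : Surjective e.hom.left := ⟨(Scheme.homeoOfIso (asIso e.hom.left)).surjective⟩
  exact MorphismProperty.comp_mem (W := @Surjective) _ _ h3 h2

theorem good_Eobj {V T : X.Etale} (π : V ⟶ T) (hπ : GC π) : ∀ n, good (Eobj π (𝟙 T) n)
  | 0 => hπ.2.1
  | n + 1 => good_pullback _ _ (good_Eobj π hπ n) hπ.1 hπ.2.1

theorem surjective_Eto {V T : X.Etale} (π : V ⟶ T) (hπ : GC π) :
    ∀ n, Surjective (Eto π (𝟙 T) n).left
  | 0 => by
    change Surjective (𝟙 T.left)
    infer_instance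
  | n + 1 => by
    haveI := surjective_Eto π hπ n
    haveI := surjective_fst (Eto π (𝟙 T) n ≫ 𝟙 T) π hπ.2.2
    change Surjective ((pullback.fst (Eto π (𝟙 T) n ≫ 𝟙 T) π).left ≫ (Eto π (𝟙 T) n).left)
    infer_instance

theorem ax : Ax (good (X := X)) (GC (X := X)) where
  eto _ _ π hπ n := ⟨good_Eobj π hπ n, hπ.2.1, surjective_Eto π hπ n⟩
  src _ _ _ hπ := hπ.1

theorem singleton_mem {V T : X.Etale} (π : V ⟶ T) (h : Surjective π.left) :
    Sieve.generate (Presieve.singleton π) ∈ X.smallEtaleTopology T := by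
  apply Groth.Agent.H1.ClosedDense.mem_smallEtaleTopology
  intro x
  obtain ⟨y, hy⟩ := h.surj x
  exact ⟨V, π, y, ⟨_, 𝟙 _, π, Presieve.singleton.mk, Category.id_comp _⟩, hy⟩

theorem isSheafFor_singleton (F : EtCoh.Ab X) {V T : X.Etale} (π : V ⟶ T)
    (h : Surjective π.left) :
    Presieve.IsSheafFor (F.obj ⋙ forget AddCommGrpCat) (Presieve.singleton π) := by
  rw [Presieve.isSheafFor_iff_generate]
  exact ((isSheaf_iff_isSheaf_of_type _ _).1
    ((Presheaf.isSheaf_iff_isSheaf_forget _ F.obj (forget _)).1 F.property)) _ (singleton_mem π h)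

/-- finite coproducts of affine objects -/
theorem exists_coprod_affine {ι : Type u} [Finite ι] (T : X.Etale) (U : ι → X.Etale)
    (a : ∀ i, U i ⟶ T) (haff : ∀ i, IsAffine (U i).left) :
    ∃ (S : X.Etale) (inc : ∀ i, U i ⟶ S) (b : S ⟶ T), (∀ i, inc i ≫ b = a i) ∧
      (∀ i, IsOpenImmersion (inc i).left) ∧
      (∀ i k, i ≠ k → Disjoint (Set.range (inc i).left.base) (Set.range (inc k).left.base)) ∧
      (∀ x : S.left, ∃ i, x ∈ Set.range (inc i).left.base) ∧ IsAffine S.left := by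
  let g : ι → Scheme.{u} := fun i => (U i).left
  let d : ∀ i, g i ⟶ X := fun i => (U i).hom
  have hd : ∀ i, AlgebraicGeometry.Etale (d i) := fun i => (U i).prop
  have : AlgebraicGeometry.Etale (Sigma.desc d) :=
    IsZariskiLocalAtSource.sigmaDesc (P := @AlgebraicGeometry.Etale) hd
  let S : X.Etale := Scheme.Etale.mk (Sigma.desc d)
  let inc : ∀ i, U i ⟶ S := fun i =>
    MorphismProperty.Over.homMk (Sigma.ι g i) (Sigma.ι_desc d i) trivial
  have hb : Sigma.desc (fun i => (a i).left) ≫ T.hom = Sigma.desc d := by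
    apply Sigma.hom_ext
    intro i
    rw [Sigma.ι_desc_assoc, Sigma.ι_desc]
    exact MorphismProperty.Over.w (a i)
  let b : S ⟶ T := MorphismProperty.Over.homMk (Sigma.desc (fun i => (a i).left)) hb trivial
  haveI : ∀ i, IsAffine (g i) := haff
  refine ⟨S, inc, b, ?_, ?_, ?_, ?_, inferInstanceAs (IsAffine (∐ g))⟩
  · intro i
    apply MorphismProperty.Over.Hom.ext
    exact Sigma.ι_desc _ i
  · intro i
    exact inferInstanceAs (IsOpenImmersion (Sigma.ι g i))
  · intro i k hik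
    have h := disjoint_opensRange_sigmaι g i k hik
    rw [Set.disjoint_left]
    rintro x ⟨y, rfl⟩ ⟨y', hy'⟩
    exact (disjoint_iff.mp h).le ⟨⟨y, rfl⟩, ⟨y', hy'⟩⟩
  · intro x
    obtain ⟨⟨i, y⟩, hy⟩ := (sigmaMk g).surjective x
    rw [sigmaMk_mk] at hy
    exact ⟨i, y, hy⟩

theorem map_app_apply' {F G : EtCoh.Ab X} (q : F ⟶ G) {W W' : X.Etale} (g : W' ⟶ W)
    (x : F.obj.obj (op W)) :
    q.hom.app (op W') (F.obj.map g.op x) = G.obj.map g.op (q.hom.app (op W) x) :=
  ConcreteCategory.congr_hom (q.hom.naturality g.op) x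

/-- over a good object, sections of the target of an epimorphism lift along a single good cover -/
theorem exists_cover_lift {F G : EtCoh.Ab X} (q : F ⟶ G) [Epi q] (T : X.Etale) (hT : good T)
    (s : G.obj.obj (op T)) :
    ∃ (V : X.Etale) (π : V ⟶ T) (r : F.obj.obj (op V)), GC π ∧
      q.hom.app (op V) r = G.obj.map π.op s := by
  have h : Sheaf.IsLocallySurjective q := by
    rw [Sheaf.isLocallySurjective_iff_epi']
    infer_instance
  have hmem := h.imageSieve_mem s
  haveI := hT.1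
  obtain ⟨n, W, f, h1, h2, h3⟩ := exists_finite_affine _ hmem
  choose r hr using h1
  obtain ⟨V, inc, π, hπ, hoi, hdisj, hcov, haff⟩ := exists_coprod_affine T
    (fun i : ULift.{u} (Fin n) => W i.down) (fun i => f i.down) (fun i => h3 i.down)
  obtain ⟨ρ, hρ, -⟩ := Groth.Agent.H1.FinStalk.existsUnique_glue F V _ inc hoi hdisj hcov
    (fun i => r i.down)
  haveI := haff
  refine ⟨V, π, ρ, ⟨⟨inferInstance, inferInstance⟩, hT, ⟨?_⟩⟩, ?_⟩
  · intro t
    obtain ⟨W', g, y, hg, hy⟩ := exists_of_mem _ h2 t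
    obtain ⟨Y, a, g', hg', hag⟩ := hg
    obtain ⟨k⟩ := hg'
    refine ⟨(inc ⟨k⟩).left.base (a.left.base y), ?_⟩
    have e1 : (inc ⟨k⟩).left ≫ π.left = (f k).left := congrArg (fun m => m.left) (hπ ⟨k⟩)
    have e2 : a.left ≫ (f k).left = g.left := congrArg (fun m => m.left) hag
    rw [← hy, ← e2, ← e1]
    rfl
  · rw [← sub_eq_zero]
    apply Groth.Agent.H1.FinStalk.eq_zero_of_cover G V _ inc hoi hdisj hcov
    intro i
    rw [map_sub, ← map_app_apply', hρ, hr, sub_eq_zero, ← hπ i, op_comp, Functor.map_comp]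
    rfl

/-- the elementwise data of a short exact sequence of abelian étale sheaves -/
theorem gdata_of_shortExact (Sx : ShortComplex (EtCoh.Ab X)) (hS : Sx.ShortExact) :
    GData (good (X := X)) (GC (X := X)) (A := Sx.X₁.obj) (I := Sx.X₂.obj) (Q := Sx.X₃.obj)
      Sx.f.hom Sx.g.hom where
  inj W := by
    haveI := hS.mono_f
    exact Groth.Agent.H1.SheafExactLoc.injective_app_of_mono Sx.f W
  exact W x hx := by
    haveI := hS.mono_f
    exact Groth.Agent.H1.SheafExactLoc.exact_app Sx hS.exact W x hx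
  zero := by
    have : (sheafToPresheaf _ AddCommGrpCat.{u + 1}).map Sx.f ≫
        (sheafToPresheaf _ AddCommGrpCat.{u + 1}).map Sx.g = 0 := by
      rw [← Functor.map_comp, Sx.zero, Functor.map_zero]
    exact this
  glueI _ _ p hp x hx := by
    have h := isSheafFor_singleton Sx.X₂ p hp.2.2
    rw [Presieve.isSheafFor_singleton] at h
    obtain ⟨y, hy, -⟩ := h x (fun p₁ p₂ h12 => hx p₁ p₂ h12)
    exact ⟨y, hy⟩
  sepQ _ _ p hp y y' hyy := by
    have h := (isSheafFor_singleton Sx.X₃ p hp.2.2).isSeparatedFor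
    rw [Presieve.isSeparatedFor_singleton] at h
    exact h hyy
  loc T hT s := by
    haveI := hS.epi_g
    exact exists_cover_lift Sx.g T hT s

end Groth.Agent.H1.EtCartan
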