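import Groth.Agent.Lib.Helper1.EtCartanA
import Groth.Agent.Lib.Helper1.ExtCompare

/-!
# Cartan's criterion on the small étale site for qcqs objects, part B (helper1)

If `X` is quasi-compact and quasi-separated and the abelian étale sheaf `G` is globally Čech exact
for surjective morphisms of qcqs étale `X`-schemes (`CEx GC G.obj`), then `H^{n+1}(X, G) = 0`.
-/

set_option autoImplicit false
universe u
open CategoryTheory CategoryTheory.Limits AlgebraicGeometry Opposite

namespace Groth.Agent.H1.EtCartan

open Groth.Agent.H1.CechK Groth.Agent.H1.GCech Groth.Agent.H1.ExtCompare Abelian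

variable {X : Scheme.{u}}

theorem projective_ulift_int : Projective (AddCommGrpCat.of (ULift.{u + 1} ℤ)) where
  factors {E X} f e _ := by
    have hs : Function.Surjective e.hom := (AddCommGrpCat.epi_iff_surjective e).1 inferInstance
    obtain ⟨x, hx⟩ := hs (f.hom ⟨1⟩)
    let d : ULift.{u + 1} ℤ →+ ℤ := AddEquiv.ulift.toAddMonoidHom
    refine ⟨AddCommGrpCat.ofHom ((zmultiplesHom E x).comp d), ?_⟩
    ext ⟨n⟩
    change e.hom (n • x) = f.hom ⟨n⟩
    rw [map_zsmul, hx, ← map_zsmul]
    congr 1
    ext
    simp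

theorem injective_presheaf (I : EtCoh.Ab X) [Injective I] : Injective I.obj :=
  Injective.injective_of_adjoint
    (sheafificationAdjunction X.smallEtaleTopology AddCommGrpCat.{u + 1}) I

/-- the constant sheaf `ℤ` -/
noncomputable abbrev ZZ (X : Scheme.{u}) : EtCoh.Ab X :=
  (constantSheaf X.smallEtaleTopology AddCommGrpCat.{u + 1}).obj (AddCommGrpCat.of (ULift ℤ))

/-- morphisms from the constant sheaf `ℤ` lift along a morphism which is surjective on global
sections -/
theorem exists_lift_ZZ {I Q : EtCoh.Ab X} (g : I ⟶ Q)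
    (hg : Function.Surjective (g.hom.app (op (EtCoh.top X)))) (φ : ZZ X ⟶ Q) :
    ∃ ψ : ZZ X ⟶ I, ψ ≫ g = φ := by
  haveI := projective_ulift_int.{u}
  haveI : Epi ((EtCore.gsec X).map g) := (AddCommGrpCat.epi_iff_surjective _).2 hg
  let φ' := (EtCore.constAdj X).homEquiv _ _ φ
  refine ⟨((EtCore.constAdj X).homEquiv _ _).symm
    (Projective.factorThru φ' ((EtCore.gsec X).map g)), ?_⟩
  apply ((EtCore.constAdj X).homEquiv _ _).injective
  rw [Adjunction.homEquiv_naturality_right, Equiv.apply_symm_apply, Projective.factorThru_comp]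

theorem good_top [CompactSpace X] [QuasiSeparatedSpace X] : good (EtCoh.top X) :=
  ⟨inferInstanceAs (CompactSpace X), inferInstanceAs (QuasiSeparatedSpace X)⟩

theorem cex_of_injective_sheaf (I : EtCoh.Ab X) [Injective I] : CEx (GC (X := X)) I.obj := by
  haveI := injective_presheaf I
  exact cex_of_injective I.obj

/-- **Cartan's criterion**: Čech-exact sheaves on a qcqs scheme are acyclic. -/
theorem subsingleton_H_of_cex [CompactSpace X] [QuasiSeparatedSpace X] (n : ℕ) :
    ∀ (G : EtCoh.Ab X), CEx (GC (X := X)) G.obj → Subsingleton (EtCoh.H X G (n + 1)) := by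
  induction n with
  | zero =>
    intro G hG
    have hS := injSeq_shortExact G
    haveI : Injective (injSeq G).X₂ := inferInstanceAs (Injective (Injective.under G))
    have D := gdata_of_shortExact (injSeq G) hS
    have hsurj : Function.Surjective ((injSeq G).g.hom.app (op (EtCoh.top X))) :=
      fun s => surj_of_cex ax D hG (EtCoh.top X) good_top s
    refine ⟨fun a b => ?_⟩
    suffices h : ∀ x : Ext (ZZ X) G 1, x = 0 by rw [h a, h b]
    intro x
    change Ext (ZZ X) (injSeq G).X₁ 1 at x
    obtain ⟨y, rfl⟩ := Ext.covariant_sequence_exact₁ (ZZ X) hS x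
      (Ext.eq_zero_of_injective _) (rfl : 0 + 1 = 1)
    obtain ⟨φ, rfl⟩ := (Ext.mk₀_bijective _ _).2 y
    obtain ⟨ψ, rfl⟩ := exists_lift_ZZ (injSeq G).g hsurj φ
    rw [← Ext.mk₀_comp_mk₀, Ext.comp_assoc_of_second_deg_zero, hS.comp_extClass, Ext.comp_zero]
    rfl
  | succ n ih =>
    intro G hG
    have hS := injSeq_shortExact G
    haveI : Injective (injSeq G).X₂ := inferInstanceAs (Injective (Injective.under G))
    have D := gdata_of_shortExact (injSeq G) hS
    have hQ : CEx (GC (X := X)) (injSeq G).X₃.obj :=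
      cex_of_step ax D hG (cex_of_injective_sheaf _)
    haveI := ih (injSeq G).X₃ hQ
    refine ⟨fun a b => ?_⟩
    suffices h : ∀ x : Ext (ZZ X) G (n + 1 + 1), x = 0 by rw [h a, h b]
    intro x
    change Ext (ZZ X) (injSeq G).X₁ (n + 1 + 1) at x
    obtain ⟨y, rfl⟩ := Ext.covariant_sequence_exact₁ (ZZ X) hS x
      (Ext.eq_zero_of_injective _) (rfl : n + 1 + 1 = n + 1 + 1)
    have hy : y = 0 := Subsingleton.elim (α := EtCoh.H X (injSeq G).X₃ (n + 1)) _ _
    rw [hy, Ext.zero_comp]
    rfl

end Groth.Agent.H1.EtCartan
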