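import Groth.Agent.Lib.Helper1.BootF
import Groth.Agent.Lib.Helper14.AlgSpQuot1
import Groth.Prelude.Def_AlgSpRep
import Groth.Prelude.Def_BigSite
import Mathlib.CategoryTheory.Sites.RegularEpi

/-!
# Étale sheaves with an étale presentation are algebraic spaces (helper1)

A presheaf `F` which is a sheaf for the big étale topology, with a map `a : h_W ⟶ F` which has
étale local sections and whose kernel pair is a scheme `R` with étale projections, is an fppf sheaf
and an algebraic space: it is isomorphic to the fppf quotient `W/R`.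
-/

set_option autoImplicit false
universe u
open CategoryTheory CategoryTheory.Limits AlgebraicGeometry Opposite

namespace Groth.Agent.H1.EtFppf

open AlgSp Groth.Agent.Lib.Helper14.AlgSpQuot Groth.Agent.Lib.Helper14.RepSh Groth.Agent.H1.Boot

variable {S : Scheme.{u}}

/-- The big étale topology on schemes over `S`. -/
abbrev Jet (S : Scheme.{u}) : GrothendieckTopology (Over S) := QuotSh.J Scheme.etalePrecoverage S

/-- Étale sheaves of sets on schemes over `S`. -/
abbrev Et (S : Scheme.{u}) : Type (u + 2) := Sheaf (Jet S) (Type (u + 1))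

theorem jet_le (S : Scheme.{u}) : Jet S ≤ AlgSp.J S :=
  BigSite.J_mono BigSite.etalePrecoverage_le_fppfPrecoverage S

theorem isSheaf_et_of_fppf {G : PSp S} (h : Presheaf.IsSheaf (AlgSp.J S) G) :
    Presheaf.IsSheaf (Jet S) G :=
  (isSheaf_iff_isSheaf_of_type _ _).2
    (Presieve.isSheaf_of_le _ (jet_le S) ((isSheaf_iff_isSheaf_of_type _ _).1 h))

/-- A morphism of étale sheaves with étale local sections is an epimorphism. -/
theorem epi_of_etale_local {A B : Et S} (f : A ⟶ B)
    (h : ∀ (T : Over S) (s : B.obj.obj (op T)), ∃ (I : Over S) (i : I ⟶ T) (x : A.obj.obj (op I)),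
      Etale i.left ∧ Surjective i.left ∧ f.hom.app _ x = B.obj.map i.op s) : Epi f := by
  have h1 : Sheaf.IsLocallySurjective f := by
    refine ⟨fun {T} s => ?_⟩
    obtain ⟨I, i, x, hi1, hi2, hx⟩ := h T s
    refine (Jet S).superset_covering ?_ (factSieve_mem_etale i)
    rintro Z g ⟨k, rfl⟩
    refine ⟨A.obj.map k.op x, ?_⟩
    have h2 := NatTrans.naturality_apply f.hom k.op x
    rw [h2, hx, op_comp, Functor.map_comp]
    rfl
  exact (Sheaf.isLocallySurjective_iff_epi f).1 h1

/-- Sections and maps from representables. -/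
theorem app_up_eq_of_comm {F : PSp S} {T I W : Over S} (a : (pyon S).obj W ⟶ F)
    (ξ : (pyon S).obj T ⟶ F) (i : I ⟶ T) (l : I ⟶ W)
    (h : (pyon S).map i ≫ ξ = (pyon S).map l ≫ a) :
    a.app (op I) (ULift.up l) = F.map i.op (uliftYonedaEquiv.{u + 1} ξ) := by
  have h1 := congrArg uliftYonedaEquiv.{u + 1} h
  have h2 := uliftYonedaEquiv_naturality.{u + 1} (X := op T) (Y := op I) ξ i.op
  rw [Quiver.Hom.unop_op] at h2
  rw [← h2, uliftYonedaEquiv_comp, uliftYonedaEquiv_uliftYoneda_map] at h1
  exact h1.symm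

theorem isAlgSpaceP_of_etale_presentation (F : PSp S) (h1 : Presheaf.IsSheaf (Jet S) F)
    {W R : Over S} (a : (pyon S).obj W ⟶ F) (s t : R ⟶ W)
    (hk : IsPullback ((pyon S).map t) ((pyon S).map s) a a)
    (hs : Etale s.left) (ht : Etale t.left)
    (hloc : ∀ {T : Over S} (ξ : (pyon S).obj T ⟶ F), ∃ (I : Over S) (i : I ⟶ T) (l : I ⟶ W),
      Etale i.left ∧ Surjective i.left ∧ (pyon S).map i ≫ ξ = (pyon S).map l ≫ a) :
    IsAlgSpaceP F := by
  -- the equivalence relation
  have hrel : ∀ {T : Over S} (x y : T ⟶ W), (∃ r : T ⟶ R, r ≫ t = x ∧ r ≫ s = y) ↔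
      (pyon S).map x ≫ a = (pyon S).map y ≫ a := by
    intro T x y
    constructor
    · rintro ⟨r, rfl, rfl⟩
      rw [Functor.map_comp, Functor.map_comp, Category.assoc, Category.assoc, hk.w]
    · intro h
      obtain ⟨r, hr⟩ := (pyon S).map_surjective (hk.lift _ _ h)
      refine ⟨r, (pyon S).map_injective ?_, (pyon S).map_injective ?_⟩
      · rw [Functor.map_comp, hr, hk.lift_fst]
      · rw [Functor.map_comp, hr, hk.lift_snd]
  have heq : IsEtaleEqvRel s t :=
    { injective := by
        intro T r r' h1 h2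
        apply (pyon S).map_injective
        apply hk.hom_ext
        · rw [← Functor.map_comp, ← Functor.map_comp, h1]
        · rw [← Functor.map_comp, ← Functor.map_comp, h2]
      equivalence := by
        intro T
        refine ⟨fun x => (hrel x x).2 rfl, fun {x y} h => (hrel y x).2 ((hrel x y).1 h).symm,
          fun {x y z} h h' => (hrel x z).2 (((hrel x y).1 h).trans ((hrel y z).1 h'))⟩
      etale_left := hs
      etale_right := ht }
  have hsurj : Surjective t.left := by
    obtain ⟨r, hr1, hr2⟩ := (heq.equivalence W).refl (𝟙 W)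
    have e : r.left ≫ t.left = 𝟙 _ := by rw [← Over.comp_left, hr1, Over.id_left]
    refine ⟨fun x => ⟨r.left x, ?_⟩⟩
    rw [← Scheme.Hom.comp_apply, e]
    rfl
  have hkπ := isPullback_quotMap heq.toIsEqvRel
  haveI : Etale t.left := ht
  haveI : LocallyOfFiniteType t.left := inferInstance
  have hdiag := representable_diag_of_kernelPair (quotMap s t) t s hkπ
  have hrep : Representable (quotMap s t) := representable_of_kernelPair (quotMap s t) t s hkπ _
  have hπe : RepWith @Etale (quotMap s t) := repWith_of_kernelPair @Etale s t _ hrep hkπ ht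
  have hπs : RepWith @Surjective (quotMap s t) :=
    repWith_of_kernelPair @Surjective s t _ hrep hkπ hsurj
  have hF' : IsAlgSpace (QuotSh.quot Scheme.fppfPrecoverage s t) := ⟨hdiag, W, _, hπe, hπs⟩
  -- étale sheaves
  let F' : Sp S := QuotSh.quot Scheme.fppfPrecoverage s t
  let Wet : Et S := ⟨(pyon S).obj W, isSheaf_et_of_fppf ((yon S).obj W).property⟩
  let Ret : Et S := ⟨(pyon S).obj R, isSheaf_et_of_fppf ((yon S).obj R).property⟩
  let Fet : Et S := ⟨F, h1⟩
  let F'et : Et S := ⟨F'.obj, isSheaf_et_of_fppf F'.property⟩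
  let a' : Wet ⟶ Fet := ObjectProperty.homMk a
  let π' : Wet ⟶ F'et := ObjectProperty.homMk (quotMap s t).hom
  let t' : Ret ⟶ Wet := ObjectProperty.homMk ((pyon S).map t)
  let s' : Ret ⟶ Wet := ObjectProperty.homMk ((pyon S).map s)
  have hk1 : IsKernelPair a' t' s' :=
    IsPullback.of_map_of_faithful (sheafToPresheaf (Jet S) (Type (u + 1))) hk
  have hk2 : IsKernelPair π' t' s' :=
    IsPullback.of_map_of_faithful (sheafToPresheaf (Jet S) (Type (u + 1)))
      (hkπ.map (sheafToPresheaf (AlgSp.J S) (Type (u + 1))))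
  haveI : Epi a' := by
    refine epi_of_etale_local a' (fun T σ => ?_)
    obtain ⟨I, i, l, hi1, hi2, hil⟩ := hloc (uliftYonedaEquiv.{u + 1}.symm σ)
    refine ⟨I, i, ULift.up l, hi1, hi2, ?_⟩
    have h2 := app_up_eq_of_comm a _ i l hil
    rw [Equiv.apply_symm_apply] at h2
    exact h2
  haveI : Epi π' := by
    refine epi_of_etale_local π' (fun T σ => ?_)
    let ξ : (yon S).obj T ⟶ F' := ObjectProperty.homMk (uliftYonedaEquiv.{u + 1}.symm σ)
    obtain ⟨I, i, fst, sq⟩ := hrep ξ
    obtain ⟨l, rfl⟩ := (yon S).map_surjective fst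
    have hi1 : Etale i.left := hπe.2 ξ _ i sq
    have hi2 : Surjective i.left := hπs.2 ξ _ i sq
    refine ⟨I, i, ULift.up l, hi1, hi2, ?_⟩
    have hw : (pyon S).map i ≫ ξ.hom = (pyon S).map l ≫ (quotMap s t).hom :=
      (congrArg (fun φ => φ.hom) sq.w).symm
    have h2 := app_up_eq_of_comm (quotMap s t).hom ξ.hom i l hw
    change _ = F'.obj.map i.op (uliftYonedaEquiv.{u + 1} (uliftYonedaEquiv.{u + 1}.symm σ)) at h2
    rw [Equiv.apply_symm_apply] at h2
    exact h2
  haveI : IsRegularEpi a' := IsRegularEpiCategory.regularEpiOfEpi a'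
  haveI : IsRegularEpi π' := IsRegularEpiCategory.regularEpiOfEpi π'
  have c1 := hk1.toCoequalizer'
  have c2 := hk2.toCoequalizer'
  let e : Fet ≅ F'et := c1.coconePointUniqueUpToIso c2
  have e' : F ≅ F'.obj := (sheafToPresheaf (Jet S) (Type (u + 1))).mapIso e
  exact ((isAlgSpaceP_obj_iff F').2 hF').of_iso e'.symm

end Groth.Agent.H1.EtFppf
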