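import Groth.Prelude.Def_AlgSpCov
import Groth.Agent.Lib.Helper11.AlgSpBasic

/-!
`AlgSp.LocP P` is etale local on the source for every property `P` of morphisms of schemes which is Zariski
local at the source and descends along etale surjections on the source (helper1).
-/

set_option autoImplicit false
universe u
open CategoryTheory CategoryTheory.Limits AlgebraicGeometry
open AlgSp

namespace Groth.Agent.H1.EtLocalSource

variable {S : Scheme.{u}}

/-- Descent along an etale (not necessarily surjective) morphism: the property holds on the open image. -/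
theorem of_etale_comp_image {P : MorphismProperty Scheme.{u}}
    (hESD : ∀ {X' X Y : Scheme.{u}} (f : X' ⟶ X) (g : X ⟶ Y), Etale f → Surjective f →
      P (f ≫ g) → P g)
    {B U V : Scheme.{u}} (β : B ⟶ U) [Etale β] (h : U ⟶ V) (hP : P (β ≫ h))
    (O : U.Opens) (hO : (O : Set U) = Set.range β) :
    P (O.ι ≫ h) := by
  let β' : B ⟶ O := IsOpenImmersion.lift O.ι β (by
    rw [Scheme.Opens.range_ι, hO])
  have hβ' : β' ≫ O.ι = β := IsOpenImmersion.lift_fac _ _ _
  have het : Etale β' := by
    apply MorphismProperty.of_postcomp (W := @Etale) (W' := @IsOpenImmersion) β' O.ι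
      inferInstance
    rw [hβ']
    infer_instance
  have hsurj : Surjective β' := by
    constructor
    intro u
    have hu : O.ι u ∈ Set.range β := by rw [← hO]; exact u.2
    obtain ⟨b, hb⟩ := hu
    refine ⟨b, ?_⟩
    apply O.ι.isOpenEmbedding.injective
    rw [← Scheme.Hom.comp_apply, hβ']
    exact hb
  refine hESD β' (O.ι ≫ h) het hsurj ?_
  rw [reassoc_of% hβ']
  exact hP

open Groth.Agent.Lib.helper11 in
theorem isLocalOnSource_etale {P : MorphismProperty Scheme.{u}} [IsZariskiLocalAtSource P]
    (hESD : ∀ {X' X Y : Scheme.{u}} (f : X' ⟶ X) (g : X ⟶ Y), Etale f → Surjective f →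
      P (f ≫ g) → P g) :
    AlgSp.IsLocalOnSource (AlgSp.IsEtCover (S := S)) (AlgSp.LocP P) := by
  intro ι X Xi g hX hXi hcov Y f hY
  constructor
  · intro hf i U V a b h ha hb hsq
    exact hf (a ≫ g i) b h (hcov.1 i a ha) hb (by rw [Category.assoc]; exact hsq)
  · intro H U V a b h ha hb hsq
    -- for each point of `U` an open neighbourhood on which `h` has `P`
    have key : ∀ u : ↥U.left, ∃ O : U.left.Opens, u ∈ O ∧ P (O.ι ≫ h.left) := by
      intro u
      obtain ⟨i, ξ, hξ⟩ := hcov.2 (Points.ofPt a u)
      obtain ⟨A0, α, a0, hαe, -, hα0⟩ := exists_chart_ofPt (⟨Xi i, hXi i⟩ : Space S) ξ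
      have hαg : RepWith @Etale (α ≫ g i) := hcov.1 i α hαe
      obtain ⟨B, r, β', sqB⟩ := ha.1 (α ≫ g i)
      have hr : Etale r.left := ha.2 _ _ _ sqB
      obtain ⟨β, rfl⟩ := (yon S).map_surjective β'
      have hβ : Etale β.left := hαg.2 _ _ _ sqB.flip
      have hchart : RepWith @Etale ((yon S).map r ≫ α) :=
        (RepWith (S := S) @Etale).comp_mem _ _ ((repWith_yon_map_iff @Etale r).2 hr) hαe
      have hβh : P (β ≫ h).left := by
        refine (H i) ((yon S).map r ≫ α) b (β ≫ h) hchart hb ?_
        rw [Functor.map_comp, Category.assoc ((yon S).map β), ← hsq,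
          ← Category.assoc ((yon S).map β), sqB.w]
        simp only [Category.assoc]
      have hut : Points.ofPt a u = Points.ofPt (α ≫ g i) a0 := by
        rw [← hξ, ← hα0]; rfl
      obtain ⟨b0, hb1, -⟩ := exists_of_isPullback_schemes sqB u a0 hut
      refine ⟨⟨Set.range β.left, β.left.isOpenMap.isOpen_range⟩, ⟨b0, hb1⟩, ?_⟩
      exact of_etale_comp_image hESD β.left h.left (by rw [← Over.comp_left]; exact hβh) _ rfl
    choose O hO hPO using key
    refine IsZariskiLocalAtSource.of_iSup_eq_top O ?_ hPO
    rw [eq_top_iff]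
    intro u _
    exact TopologicalSpace.Opens.mem_iSup.2 ⟨u, hO u⟩

end Groth.Agent.H1.EtLocalSource
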