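import Groth.Agent.Lib.Helper27.Horseshoe5
import Groth.Agent.Lib.Helper1.FiltExtMain

/-!
# Right derived functors and filtered colimits (helper1)

`G : 𝒜 ⥤ ℬ` additive, `𝒜` Grothendieck abelian, `J` filtered with exact `J`-colimits in `𝒜`.  If
`R⁰G` commutes with `J`-colimits and `J`-colimits of injectives are `G`-acyclic, then every `RⁿG`
commutes with `J`-colimits (`main`: the comparison `colimit.post K (RⁿG)` is an isomorphism).
-/

set_option autoImplicit false
universe w v₁ u₁ v₂ u₂ v₃ u₃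
open CategoryTheory CategoryTheory.Limits

namespace Groth.Agent.H1.RDerColim

open Groth.Agent.H1.FiltExt Groth.Agent.Lib.helper27

section Abstract

variable {ℬ : Type u₂} [Category.{v₂} ℬ] [Abelian ℬ]

/-- comparison of cokernel rows -/
theorem isIso_of_rows {A B C A' B' C' : ℬ} (a : A ⟶ B) (b : B ⟶ C) (a' : A' ⟶ B') (b' : B' ⟶ C')
    (w : a ≫ b = 0) (w' : a' ≫ b' = 0) (h : (ShortComplex.mk a b w).Exact)
    (h' : (ShortComplex.mk a' b' w').Exact) (hb : Epi b) (hb' : Epi b') (α : A ⟶ A')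
    (β : B ⟶ B') (γ : C ⟶ C') (hα : Epi α) (hβ : IsIso β) (c1 : a ≫ β = α ≫ a')
    (c2 : b ≫ γ = β ≫ b') : IsIso γ := by
  have hz : a' ≫ inv β ≫ b = 0 := by
    rw [← cancel_epi α, ← Category.assoc, ← c1, Category.assoc, IsIso.hom_inv_id_assoc, w,
      comp_zero]
  haveI : Epi (ShortComplex.mk a' b' w').g := hb'
  haveI : Epi (ShortComplex.mk a b w).g := hb
  haveI := hb
  haveI := hb'
  haveI := hα
  haveI := hβ
  let ψ : C' ⟶ C := h'.desc (inv β ≫ b) hz
  have hψ : b' ≫ ψ = inv β ≫ b := h'.g_desc (inv β ≫ b) hz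
  refine ⟨ψ, ?_, ?_⟩
  · rw [← cancel_epi b, ← Category.assoc, c2, Category.assoc, hψ, IsIso.hom_inv_id_assoc,
      Category.comp_id]
  · rw [← cancel_epi b', ← Category.assoc, hψ, Category.assoc, c2, IsIso.inv_hom_id_assoc,
      Category.comp_id]

/-- objectwise exactness implies exactness in a functor category -/
lemma exact_of_evaluation {J : Type*} [Category J] (S : ShortComplex (J ⥤ ℬ))
    (h : ∀ W : J, (S.map ((evaluation J ℬ).obj W)).Exact) : S.Exact := by
  rw [ShortComplex.exact_iff_isZero_homology, Functor.isZero_iff]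
  intro W
  have := h W
  rw [ShortComplex.exact_iff_isZero_homology] at this
  exact this.of_iso (S.mapHomologyIso ((evaluation J ℬ).obj W)).symm

end Abstract

variable {𝒜 : Type u₁} [Category.{v₁} 𝒜] [Abelian 𝒜] [HasInjectiveResolutions 𝒜]
  {ℬ : Type u₂} [Category.{v₂} ℬ] [Abelian ℬ] (G : 𝒜 ⥤ ℬ) [G.Additive]
  {J : Type u₃} [Category.{v₃} J] [HasColimitsOfShape J 𝒜] [HasColimitsOfShape J ℬ]

/-- naturality of `colimit.post` in the diagram -/
theorem post_naturality (H : 𝒜 ⥤ ℬ) {K K' : J ⥤ 𝒜} (α : K ⟶ K') :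
    colimMap (Functor.whiskerRight α H) ≫ colimit.post K' H =
      colimit.post K H ≫ H.map (colimMap α) := by
  apply colimit.hom_ext
  intro j
  rw [ι_colimMap_assoc, colimit.ι_post, colimit.ι_post_assoc, ← H.map_comp, ι_colimMap,
    Functor.whiskerRight_app, H.map_comp]

variable (S : ShortComplex (J ⥤ 𝒜)) (hS : S.ShortExact)

/-- the connecting morphisms of the pointwise sequences, as a natural transformation -/
noncomputable def δNat (n : ℕ) :
    S.X₃ ⋙ G.rightDerived n ⟶ S.X₁ ⋙ G.rightDerived (n + 1) where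
  app j := (Horseshoe.derivedLES G).δ ((Tf S).obj j) (shortExact_Tf S hS j) n (n + 1) rfl
  naturality j k f :=
    (Horseshoe.derivedLES G).δ_natural (shortExact_Tf S hS j) (shortExact_Tf S hS k)
      ((Tf S).map f) n (n + 1) rfl

theorem g_δNat (n : ℕ) : Functor.whiskerRight S.g (G.rightDerived n) ≫ δNat G S hS n = 0 := by
  ext j
  exact (Horseshoe.derivedLES G).comp_δ ((Tf S).obj j) (shortExact_Tf S hS j) n (n + 1) rfl

theorem exact_row (n : ℕ) :
    (ShortComplex.mk (Functor.whiskerRight S.g (G.rightDerived n)) (δNat G S hS n)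
      (g_δNat G S hS n)).Exact := by
  apply exact_of_evaluation
  intro j
  exact (Horseshoe.derivedLES G).exact₃ ((Tf S).obj j) (shortExact_Tf S hS j) n (n + 1) rfl

theorem epi_δNat (n : ℕ) (hvj : ∀ j, IsZero ((G.rightDerived (n + 1)).obj (S.X₂.obj j))) :
    Epi (δNat G S hS n) := by
  haveI : ∀ j, Epi ((δNat G S hS n).app j) := fun j =>
    ((Horseshoe.derivedLES G).exact₁ ((Tf S).obj j) (shortExact_Tf S hS j) n (n + 1) rfl).epi_f
      ((hvj j).eq_of_tgt _ _)
  exact NatTrans.epi_of_epi_app _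

variable [HasExactColimitsOfShape J 𝒜]

include hS in
theorem step (n : ℕ) (hv : IsZero ((G.rightDerived (n + 1)).obj (colimit S.X₂)))
    (hvj : ∀ j, IsZero ((G.rightDerived (n + 1)).obj (S.X₂.obj j)))
    (h2 : IsIso (colimit.post S.X₂ (G.rightDerived n)))
    (h3 : IsIso (colimit.post S.X₃ (G.rightDerived n))) :
    IsIso (colimit.post S.X₁ (G.rightDerived (n + 1))) := by
  have hS' := shortExact_cT S hS
  have e1 := epi_δNat G S hS n hvj
  have e2 : Epi (colimMap (δNat G S hS n)) :=
    inferInstanceAs (Epi ((colim : (J ⥤ ℬ) ⥤ ℬ).map (δNat G S hS n)))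
  have hrow := (exact_row G S hS n).map_of_epi_of_preservesCokernel (colim : (J ⥤ ℬ) ⥤ ℬ)
    (epi_δNat G S hS n hvj) inferInstance
  -- the connecting morphism of the colimit sequence, with clean types
  obtain ⟨δ', hδ'⟩ : ∃ δ' : (G.rightDerived n).obj (colimit S.X₃) ⟶
      (G.rightDerived (n + 1)).obj (colimit S.X₁),
      δ' = (Horseshoe.derivedLES G).δ (cT S).pt hS' n (n + 1) rfl := ⟨_, rfl⟩
  have e3 : Epi δ' := by
    rw [hδ']
    exact ((Horseshoe.derivedLES G).exact₁ (cT S).pt hS' n (n + 1) rfl).epi_f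
      (hv.eq_of_tgt _ _)
  have w' : (G.rightDerived n).map (colimMap S.g) ≫ δ' = 0 := by
    rw [hδ']
    exact (Horseshoe.derivedLES G).comp_δ (cT S).pt hS' n (n + 1) rfl
  have h' : (ShortComplex.mk _ _ w').Exact := by
    subst hδ'
    exact (Horseshoe.derivedLES G).exact₃ (cT S).pt hS' n (n + 1) rfl
  have hN : ∀ j, (G.rightDerived n).map (colimit.ι S.X₃ j) ≫ δ' =
      (δNat G S hS n).app j ≫ (G.rightDerived (n + 1)).map (colimit.ι S.X₁ j) := by
    intro j
    rw [hδ']
    exact (Horseshoe.derivedLES G).δ_natural (shortExact_Tf S hS j) hS' ((cT S).ι.app j) n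
      (n + 1) rfl
  refine isIso_of_rows (colimMap (Functor.whiskerRight S.g (G.rightDerived n)))
    (colimMap (δNat G S hS n)) ((G.rightDerived n).map (colimMap S.g)) δ'
    ((ShortComplex.mk _ _ (g_δNat G S hS n)).map (colim : (J ⥤ ℬ) ⥤ ℬ)).zero
    w' hrow h' e2 e3
    (colimit.post S.X₂ (G.rightDerived n)) (colimit.post S.X₃ (G.rightDerived n))
    (colimit.post S.X₁ (G.rightDerived (n + 1))) inferInstance h3
    (post_naturality (G.rightDerived n) S.g) ?_
  apply colimit.hom_ext
  intro j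
  rw [ι_colimMap_assoc, colimit.ι_post, colimit.ι_post_assoc, hN]

omit hS in
/-- **Right derived functors commute with filtered colimits**, given the degree zero statement and
acyclicity of filtered colimits of injectives. -/
theorem main [IsGrothendieckAbelian.{w} 𝒜]
    (h0 : ∀ K : J ⥤ 𝒜, IsIso (colimit.post K (G.rightDerived 0)))
    (hac : ∀ (D : J ⥤ 𝒜), (∀ j, Injective (D.obj j)) →
      ∀ n, IsZero ((G.rightDerived (n + 1)).obj (colimit D))) :
    ∀ (n : ℕ) (K : J ⥤ 𝒜), IsIso (colimit.post K (G.rightDerived n)) := by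
  intro n
  induction n with
  | zero => exact h0
  | succ n ih =>
    intro K
    have hS := SJ_shortExact.{w} K
    have hinj : ∀ j, Injective ((K ⋙ FunInj.Iinj.{w} 𝒜).obj j) := fun j =>
      inferInstanceAs (Injective ((FunInj.Iinj.{w} 𝒜).obj (K.obj j)))
    exact step G (SJ.{w} K) hS n (hac _ hinj n)
      (fun j => by
        haveI : Injective ((SJ.{w} K).X₂.obj j) := hinj j
        exact G.isZero_rightDerived_obj_injective_succ n _) (ih _) (ih _)

end Groth.Agent.H1.RDerColim
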