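import Groth.Agent.Lib.Helper1.EtLocTors
import Groth.Agent.Lib.Helper1.RDerColim
import Groth.Agent.Lib.Helper27.AcyclicClass2

/-!
# Higher direct images along a qcqs morphism and filtered colimits, on small étale sites (helper1)

For `f : X ⟶ Y` quasi-compact and quasi-separated:
* `isIso_post_push`: `f_*` commutes with filtered colimits of abelian étale sheaves;
* `isZero_Rpush_of_cex`: globally Čech-exact sheaves (in particular filtered colimits of injectives)
  are `f_*`-acyclic;
* `isIso_post_Rpush`, `preservesColimit_Rpush`: `R^n f_*` commutes with filtered colimits.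
-/

set_option autoImplicit false
universe v₂ u₂ u
open CategoryTheory CategoryTheory.Limits AlgebraicGeometry Opposite

namespace Groth.Agent.H1.EtPushColim

open Groth.Agent.H1.EtCartan Groth.Agent.H1.EtFiltH Groth.Agent.H1.GCech Groth.Agent.H1.CechK
open Groth.Agent.Lib.helper27

variable {X Y : Scheme.{u}} (f : X ⟶ Y) [QuasiCompact f] [QuasiSeparated f]

theorem good_bc (V : Y.Etale) (hV : IsAffine V.left) : good ((EtCoh.bc f).obj V) := by
  let p : ((EtCoh.bc f).obj V).left ⟶ V.left := pullback.fst V.hom f
  haveI : QuasiCompact p := inferInstanceAs (QuasiCompact (pullback.fst V.hom f))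
  haveI : QuasiSeparated p := inferInstanceAs (QuasiSeparated (pullback.fst V.hom f))
  exact ⟨QuasiCompact.compactSpace_of_compactSpace p, quasiSeparatedSpace_of_quasiSeparated p⟩

section Colim

variable {J : Type u₂} [Category.{v₂} J] [IsFiltered J]
  [HasColimitsOfShape J AddCommGrpCat.{u + 1}]
  [PreservesColimitsOfShape J (forget AddCommGrpCat.{u + 1})]

/-- `f_*` commutes with filtered colimits -/
theorem isIso_post_push (K : J ⥤ EtCoh.Ab X) : IsIso (colimit.post K (EtCoh.push f)) := by
  apply isIso_of_bijective_affine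
  intro V hV
  have hgV : good V := good_of_isAffine V hV
  have hgB : good ((EtCoh.bc f).obj V) := good_bc f V hV
  have key : ∀ (j : J) (s : (K.obj j).obj.obj (op ((EtCoh.bc f).obj V))),
      (colimit.post K (EtCoh.push f)).hom.app (op V)
        ((colimit.ι (K ⋙ EtCoh.push f) j).hom.app (op V) s) =
      (colimit.ι K j).hom.app (op ((EtCoh.bc f).obj V)) s := by
    intro j s
    have h := colimit.ι_post K (EtCoh.push f) j
    exact congrArg (fun φ => φ.hom.app (op V) s) h
  constructor
  · rw [injective_iff_map_eq_zero]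
    intro x hx
    obtain ⟨j, s, rfl⟩ := sec_rep (K ⋙ EtCoh.push f) (colimit.cocone _) (colimit.isColimit _) V
      hgV x
    have hx' : (colimit.ι K j).hom.app (op ((EtCoh.bc f).obj V)) s = 0 := (key j s).symm.trans hx
    obtain ⟨k, g, hg⟩ := sec_eq K (colimit.cocone K) (colimit.isColimit K) _ hgB j s 0
      (hx'.trans (map_zero _).symm)
    rw [map_zero] at hg
    have hw := colimit.w (K ⋙ EtCoh.push f) g
    have h1 : (colimit.ι (K ⋙ EtCoh.push f) j).hom.app (op V) s =
        (colimit.ι (K ⋙ EtCoh.push f) k).hom.app (op V)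
          (((K ⋙ EtCoh.push f).map g).hom.app (op V) s) := by
      rw [← hw]
      rfl
    have h2 : ((K ⋙ EtCoh.push f).map g).hom.app (op V) s = 0 := hg
    exact h1.trans ((congrArg _ h2).trans (map_zero _))
  · intro t
    obtain ⟨j, s, hs⟩ := sec_rep K (colimit.cocone K) (colimit.isColimit K) _ hgB t
    exact ⟨(colimit.ι (K ⋙ EtCoh.push f) j).hom.app (op V) s, (key j s).trans hs⟩

end Colim

/-- sections of the quotient lift over the base change of an affine, for Čech-exact kernels -/
theorem epi_push_of_cex (S : ShortComplex (EtCoh.Ab X)) (hS : S.ShortExact)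
    (h1 : CEx (GC (X := X)) S.X₁.obj) : Epi ((EtCoh.push f).map S.g) := by
  rw [← Sheaf.isLocallySurjective_iff_epi']
  constructor
  intro V t
  apply Groth.Agent.H1.ClosedDense.mem_smallEtaleTopology
  intro e
  obtain ⟨W, g, ⟨y, hy⟩, hW⟩ := restrict_affine V e
  obtain ⟨σ, hσ⟩ := surj_of_cex ax (gdata_of_shortExact S hS) h1 ((EtCoh.bc f).obj W)
    (good_bc f W hW) (((EtCoh.push f).obj S.X₃).obj.map g.op t)
  exact ⟨W, g, y, ⟨σ, hσ⟩, hy⟩

/-- **relative Cartan**: globally Čech-exact sheaves are acyclic for `f_*`, `f` qcqs -/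
theorem isZero_Rpush_of_cex (n : ℕ) (G : EtCoh.Ab X) (hG : CEx (GC (X := X)) G.obj) :
    IsZero ((EtCoh.Rpush f (n + 1)).obj G) := by
  refine Horseshoe.isZero_rightDerived_succ_of_class (EtCoh.push f)
    (fun G : EtCoh.Ab X => CEx (GC (X := X)) G.obj) ?_ ?_ n G hG
  · intro A
    exact ⟨Injective.under A, Injective.ι A, cex_of_injective_sheaf _, inferInstance⟩
  · intro S hS h1 h2
    refine ⟨cex_of_step ax (gdata_of_shortExact S hS) h1 h2, ?_⟩
    haveI : PreservesLimitsOfSize.{0, 0} (EtCoh.push f) :=
      (EtCoh.pullPushAdj f).rightAdjoint_preservesLimits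
    haveI := hS.mono_f
    exact
      { exact := hS.exact.map_of_mono_of_preservesKernel (EtCoh.push f) hS.mono_f inferInstance
        mono_f := inferInstanceAs (Mono ((EtCoh.push f).map S.f))
        epi_g := epi_push_of_cex f S hS h1 }

section Main

variable {J : Type u₂} [Category.{v₂} J] [IsFiltered J]
  [HasColimitsOfShape J AddCommGrpCat.{u + 1}]
  [PreservesColimitsOfShape J (forget AddCommGrpCat.{u + 1})]
  [HasExactColimitsOfShape J (EtCoh.Ab X)]

/-- `R^n f_*` commutes with filtered colimits, `f` qcqs -/
theorem isIso_post_Rpush (n : ℕ) (K : J ⥤ EtCoh.Ab X) :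
    IsIso (colimit.post K (EtCoh.Rpush f n)) := by
  haveI : PreservesLimitsOfSize.{0, 0} (EtCoh.push f) :=
    (EtCoh.pullPushAdj f).rightAdjoint_preservesLimits
  haveI : PreservesFiniteLimits (EtCoh.push f) := PreservesLimitsOfSize.preservesFiniteLimits _
  refine Groth.Agent.H1.RDerColim.main.{u + 1} (EtCoh.push f) ?_ ?_ n K
  · intro K
    haveI := isIso_post_push f K
    haveI : PreservesColimit K (EtCoh.push f) := preservesColimit_of_isIso_post _ _
    haveI : PreservesColimit K ((EtCoh.push f).rightDerived 0) :=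
      preservesColimit_of_natIso K (Functor.rightDerivedZeroIsoSelf (EtCoh.push f)).symm
    infer_instance
  · intro D hD m
    exact isZero_Rpush_of_cex f m (colimit D)
      (cex_of_isColimit D (colimit.cocone D) (colimit.isColimit D)
        (fun j => by
          haveI := hD j
          exact cex_of_injective_sheaf (D.obj j)))

theorem preservesColimit_Rpush (n : ℕ) (K : J ⥤ EtCoh.Ab X) :
    PreservesColimit K (EtCoh.Rpush f n) := by
  haveI := isIso_post_Rpush f n K
  exact preservesColimit_of_isIso_post _ _

end Main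

end Groth.Agent.H1.EtPushColim
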