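import Mathlib.RingTheory.Etale.QuasiFinite
import Mathlib.RingTheory.Etale.StandardEtale
import Mathlib.FieldTheory.PurelyInseparable.Basic
import Mathlib.FieldTheory.PrimitiveElement
import Mathlib.RingTheory.Polynomial.ScaleRoots

/-!
# Étale neighbourhoods realizing the separable part of a residue field extension (helper1)
-/

set_option autoImplicit false
universe u
open Polynomial TensorProduct IntermediateField

namespace Groth.Agent.H1.EtRad

section Field

variable (F : Type u) [Field F] (Ls : Type u) [Field Ls] [Algebra F Ls] [FiniteDimensional F Ls]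
  [Algebra.IsSeparable F Ls]

/-- A finite separable extension is generated by a root `β` of a monic polynomial with coefficients
in a given subring with fraction field `F`, with `β` a simple root. -/
theorem exists_scaled_primitive {R : Type u} [CommRing R] [Algebra R F]
    (hfrac : ∀ x : F, ∃ (r s : R), algebraMap R F s ≠ 0 ∧ x * algebraMap R F s = algebraMap R F r) :
    ∃ (β : Ls) (G : R[X]), G.Monic ∧ aeval β (G.map (algebraMap R F)) = 0 ∧
      aeval β (derivative (G.map (algebraMap R F))) ≠ 0 ∧ Algebra.adjoin F {β} = ⊤ := by
  obtain ⟨α, hα⟩ := Field.exists_primitive_element F Ls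
  have hint : IsIntegral F α := Algebra.IsIntegral.isIntegral α
  set m := minpoly F α with hm
  have hmon : m.Monic := minpoly.monic hint
  -- common denominator
  obtain ⟨c, hc0, hc⟩ : ∃ c : R, algebraMap R F c ≠ 0 ∧
      ∀ i, ∃ r : R, algebraMap R F r = algebraMap R F c * m.coeff i := by
    classical
    have key : ∀ s : Finset ℕ, ∃ c : R, algebraMap R F c ≠ 0 ∧
        ∀ i ∈ s, ∃ r : R, algebraMap R F r = algebraMap R F c * m.coeff i := by
      intro s
      induction s using Finset.induction_on with
      | empty => exact ⟨1, by simp, by simp⟩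
      | insert j s hj ih =>
        obtain ⟨c, hc0, hc⟩ := ih
        obtain ⟨r, t, ht0, hrt⟩ := hfrac (m.coeff j)
        refine ⟨c * t, by rw [map_mul]; exact mul_ne_zero hc0 ht0, ?_⟩
        intro i hi
        rw [Finset.mem_insert] at hi
        rcases hi with rfl | hi
        · refine ⟨c * r, ?_⟩
          rw [map_mul, map_mul, ← hrt]
          ring
        · obtain ⟨r', hr'⟩ := hc i hi
          refine ⟨r' * t, ?_⟩
          rw [map_mul, map_mul, hr']
          ring
    obtain ⟨c, hc0, hc⟩ := key m.support
    refine ⟨c, hc0, fun i => ?_⟩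
    by_cases hi : i ∈ m.support
    · exact hc i hi
    · refine ⟨0, ?_⟩
      rw [Polynomial.notMem_support_iff.1 hi]
      simp
  set cF := algebraMap R F c with hcF
  let Gt : F[X] := scaleRoots m cF
  have hGtmon : Gt.Monic := (monic_scaleRoots_iff cF).2 hmon
  have hGtlift : Gt ∈ lifts (algebraMap R F) := by
    rw [lifts_iff_coeff_lifts]
    intro i
    rw [coeff_scaleRoots]
    by_cases hi : i < m.natDegree
    · obtain ⟨r, hr⟩ := hc i
      refine ⟨r * c ^ (m.natDegree - i - 1), ?_⟩
      have e : cF ^ (m.natDegree - i) = cF ^ (m.natDegree - i - 1) * cF := by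
        rw [← pow_succ]
        congr 1
        omega
      rw [map_mul, map_pow, hr, ← hcF, e]
      ring
    · rcases Nat.lt_or_ge m.natDegree i with h | h
      · refine ⟨0, ?_⟩
        rw [coeff_eq_zero_of_natDegree_lt h]
        simp
      · have : i = m.natDegree := le_antisymm h (not_lt.1 hi)
        subst this
        refine ⟨1, ?_⟩
        rw [hmon.coeff_natDegree]
        simp
  obtain ⟨G, hG1, hG2, hG3⟩ := lifts_and_natDegree_eq_and_monic hGtlift hGtmon
  let β : Ls := algebraMap F Ls cF * α
  have hβroot : aeval β Gt = 0 := scaleRoots_aeval_eq_zero (minpoly.aeval F α)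
  have hadj : Algebra.adjoin F {β} = ⊤ := by
    have h1 : Algebra.adjoin F {α} = ⊤ :=
      (IntermediateField.adjoin_simple_eq_top_iff_of_isAlgebraic hint.isAlgebraic).1 hα
    rw [eq_top_iff, ← h1]
    apply Algebra.adjoin_le
    refine Set.singleton_subset_iff.2 ?_
    have hβmem : β ∈ Algebra.adjoin F {β} := Algebra.subset_adjoin rfl
    have : α = algebraMap F Ls cF⁻¹ * β := by
      change α = algebraMap F Ls cF⁻¹ * (algebraMap F Ls cF * α)
      rw [← mul_assoc, ← map_mul, inv_mul_cancel₀ hc0, map_one, one_mul]
    rw [this]
    exact Subalgebra.mul_mem _ (Subalgebra.algebraMap_mem _ _) hβmem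
  have hβint : IsIntegral F β := Algebra.IsIntegral.isIntegral β
  have hdeg : (minpoly F β).natDegree = Gt.natDegree := by
    rw [natDegree_scaleRoots]
    have e1 : (minpoly F β).natDegree = Module.finrank F Ls := by
      rw [← IntermediateField.adjoin.finrank hβint]
      have h2 : F⟮β⟯ = ⊤ :=
        (IntermediateField.adjoin_simple_eq_top_iff_of_isAlgebraic hβint.isAlgebraic).2 hadj
      rw [h2, IntermediateField.finrank_top']
    have e2 : m.natDegree = Module.finrank F Ls := by
      rw [hm, ← IntermediateField.adjoin.finrank hint, hα, IntermediateField.finrank_top']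
    rw [e1, e2]
  have hGt : Gt = minpoly F β :=
    eq_of_monic_of_dvd_of_natDegree_le (minpoly.monic hβint) hGtmon
      (minpoly.dvd F β hβroot) (le_of_eq hdeg.symm)
  have hsep : Gt.Separable := by
    rw [hGt]
    exact Algebra.IsSeparable.isSeparable F β
  refine ⟨β, G, hG3, ?_, ?_, hadj⟩
  · rw [hG1]
    exact hβroot
  · rw [hG1]
    exact hsep.aeval_derivative_ne_zero hβroot

end Field

section FT

variable {F E K : Type u} [Field F] [Field E] [Field K] [Algebra F E] [Algebra.IsAlgebraic F E]

/-- A ring homomorphism from `E` to a field is determined by its restriction to `F` and its value at a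
generator of the separable closure of `F` in `E`. -/
theorem ringHom_ext_of_sep (β : separableClosure F E) (hβ : Algebra.adjoin F {β} = ⊤)
    (σ σ' : E →+* K) (h1 : σ.comp (algebraMap F E) = σ'.comp (algebraMap F E))
    (h2 : σ β = σ' β) : σ = σ' := by
  letI : Algebra F K := (σ.comp (algebraMap F E)).toAlgebra
  let τ : separableClosure F E →ₐ[F] K :=
    { σ.comp (algebraMap (separableClosure F E) E) with
      commutes' := fun x => rfl }
  let τ' : separableClosure F E →ₐ[F] K :=
    { σ'.comp (algebraMap (separableClosure F E) E) with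
      commutes' := fun x => by
        change σ' (algebraMap F E x) = σ (algebraMap F E x)
        exact (congrArg (fun f => f x) h1).symm }
  have hτ : τ = τ' := by
    refine AlgHom.ext_of_adjoin_eq_top hβ (fun x hx => ?_)
    rw [Set.mem_singleton_iff] at hx
    subst hx
    exact h2
  apply IsPurelyInseparable.injective_comp_algebraMap (separableClosure F E) E K
  ext x
  exact congrArg (fun f => f x) hτ

end FT

end Groth.Agent.H1.EtRad
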