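import Groth.Agent.Lib.Helper1.EtRadA

/-!
# Étale neighbourhoods making a residue field extension purely inseparable (helper1)
-/

set_option autoImplicit false
universe u
open Polynomial TensorProduct IntermediateField

namespace Groth.Agent.H1.EtRad

attribute [local instance] Localization.AtPrime.algebraOfLiesOver

section

variable {R A : Type u} [CommRing R] [CommRing A] [Algebra R A]
  (p : Ideal R) [p.IsPrime] (q : Ideal A) [q.IsPrime] [q.LiesOver p]

theorem hfrac_residueField (x : p.ResidueField) :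
    ∃ (r s : R), algebraMap R p.ResidueField s ≠ 0 ∧
      x * algebraMap R p.ResidueField s = algebraMap R p.ResidueField r := by
  obtain ⟨⟨a, b⟩, hab⟩ := IsLocalization.surj (nonZeroDivisors (R ⧸ p)) x
  obtain ⟨r, hr⟩ := Ideal.Quotient.mk_surjective a
  obtain ⟨s, hs⟩ := Ideal.Quotient.mk_surjective (b : R ⧸ p)
  refine ⟨r, s, ?_, ?_⟩
  · rw [← Ideal.algebraMap_quotient_residueField_mk, hs]
    exact IsFractionRing.to_map_ne_zero_of_mem_nonZeroDivisors b.2
  · rw [← Ideal.algebraMap_quotient_residueField_mk, ← Ideal.algebraMap_quotient_residueField_mk,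
      hs, hr]
    exact hab

/-- Ring homomorphisms to a field with the same kernel `q` are related through the residue field. -/
theorem exists_sigma (K : Type u) [Field K] (ψ : A →+* K) (hψ : RingHom.ker ψ = q) :
    ∃ σ : q.ResidueField →+* K, ∀ a, σ (algebraMap A q.ResidueField a) = ψ a := by
  refine ⟨Ideal.ResidueField.lift q ψ (le_of_eq hψ.symm) ?_, fun a => ?_⟩
  · intro x hx
    change IsUnit (ψ x)
    rw [isUnit_iff_ne_zero]
    intro h0
    exact hx (hψ ▸ (RingHom.mem_ker.2 h0))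
  · exact Ideal.ResidueField.lift_algebraMap q ψ _ _ a

variable [Algebra.QuasiFiniteAt R q]

/-- **Étale neighbourhood with purely inseparable residue field extension.**  There is an étale `R`-algebra
`R₁` and a prime `q₁` of `R₁ ⊗ A` over `q` such that ring homomorphisms from `R₁ ⊗ A` to a field with kernel
`q₁` are determined by their restriction to `R₁`. -/
theorem exists_etale_radicial :
    ∃ (R₁ : Type u) (_ : CommRing R₁) (_ : Algebra R R₁) (_ : Algebra.Etale R R₁)
      (q₁ : Ideal (R₁ ⊗[R] A)) (_ : q₁.IsPrime),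
      q₁.comap Algebra.TensorProduct.includeRight.toRingHom = q ∧
      ∀ (K : Type u) [Field K] (φ φ' : R₁ ⊗[R] A →+* K), RingHom.ker φ = q₁ → RingHom.ker φ' = q₁ →
        φ.comp (algebraMap R₁ (R₁ ⊗[R] A)) = φ'.comp (algebraMap R₁ (R₁ ⊗[R] A)) → φ = φ' := by
  let p : Ideal R := q.under R
  haveI : p.IsPrime := inferInstanceAs (q.under R).IsPrime
  haveI : q.LiesOver p := inferInstanceAs (q.LiesOver (q.under R))
  let F := p.ResidueField
  let E := q.ResidueField
  haveI : Algebra.IsAlgebraic F E := Algebra.IsAlgebraic.of_finite F E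
  obtain ⟨β, G, hGmon, hroot, hder, hadj⟩ :=
    exists_scaled_primitive F (separableClosure F E) (hfrac_residueField p)
  -- the standard étale algebra
  let Pr : StandardEtalePair R :=
    { f := G, monic_f := hGmon, g := derivative G, cond := ⟨1, 0, 1, by ring⟩ }
  have hrootE : aeval (β : E) G = 0 := by
    have h1 : aeval (β : E) (G.map (algebraMap R F)) = 0 := by
      rw [IntermediateField.aeval_coe, hroot]
      rfl
    rwa [aeval_map_algebraMap] at h1
  have hderE : aeval (β : E) (derivative G) ≠ 0 := by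
    intro h0
    apply hder
    have h1 : aeval (β : E) ((derivative G).map (algebraMap R F)) = 0 := by
      rwa [aeval_map_algebraMap]
    rw [← derivative_map] at h1
    apply Subtype.ext
    rw [← IntermediateField.aeval_coe]
    exact h1
  have hmap : Pr.HasMap (β : E) := ⟨hrootE, isUnit_iff_ne_zero.2 hderE⟩
  let Ψ : Pr.Ring ⊗[R] A →ₐ[R] E :=
    Algebra.TensorProduct.productMap (Pr.lift (β : E) hmap) (IsScalarTower.toAlgHom R A E)
  have hΨ : ∀ (x : Pr.Ring) (a : A), Ψ (x ⊗ₜ a) = Pr.lift (β : E) hmap x * algebraMap A E a :=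
    fun x a => Algebra.TensorProduct.productMap_apply_tmul _ _ x a
  have hprime : (RingHom.ker Ψ.toRingHom).IsPrime := RingHom.ker_isPrime _
  refine ⟨Pr.Ring, inferInstance, inferInstance, inferInstance, RingHom.ker Ψ.toRingHom, hprime, ?_,
    ?_⟩
  · ext a
    rw [Ideal.mem_comap, RingHom.mem_ker]
    change Ψ ((1 : Pr.Ring) ⊗ₜ a) = 0 ↔ _
    rw [hΨ, map_one, one_mul, Ideal.algebraMap_residueField_eq_zero]
  · intro K _ φ φ' hk hk' hR₁
    have hcomap : ∀ φ₀ : Pr.Ring ⊗[R] A →+* K, RingHom.ker φ₀ = RingHom.ker Ψ.toRingHom →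
        RingHom.ker (φ₀.comp Algebra.TensorProduct.includeRight.toRingHom) = q := by
      intro φ₀ h0
      ext a
      rw [RingHom.mem_ker, RingHom.comp_apply, ← RingHom.mem_ker, h0, RingHom.mem_ker]
      change Ψ ((1 : Pr.Ring) ⊗ₜ a) = 0 ↔ _
      rw [hΨ, map_one, one_mul, Ideal.algebraMap_residueField_eq_zero]
    obtain ⟨σ, hσ⟩ := exists_sigma q K _ (hcomap φ hk)
    obtain ⟨σ', hσ'⟩ := exists_sigma q K _ (hcomap φ' hk')
    -- `σ ∘ Ψ = φ`
    have key : ∀ (φ₀ : Pr.Ring ⊗[R] A →+* K) (σ₀ : E →+* K),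
        RingHom.ker φ₀ = RingHom.ker Ψ.toRingHom →
        (∀ a, σ₀ (algebraMap A E a) = φ₀ ((1 : Pr.Ring) ⊗ₜ a)) → ∀ w, σ₀ (Ψ w) = φ₀ w := by
      intro φ₀ σ₀ h0 hσ₀ w
      obtain ⟨⟨a₁, a₂⟩, h12⟩ := IsLocalization.surj (nonZeroDivisors (A ⧸ q)) (Ψ w)
      obtain ⟨b₁, hb₁⟩ := Ideal.Quotient.mk_surjective a₁
      obtain ⟨b₂, hb₂⟩ := Ideal.Quotient.mk_surjective (a₂ : A ⧸ q)
      have hb₂0 : algebraMap A E b₂ ≠ 0 := by
        rw [← Ideal.algebraMap_quotient_residueField_mk, hb₂]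
        exact IsFractionRing.to_map_ne_zero_of_mem_nonZeroDivisors a₂.2
      have h12' : Ψ w * algebraMap A E b₂ = algebraMap A E b₁ := by
        rw [← Ideal.algebraMap_quotient_residueField_mk, ← Ideal.algebraMap_quotient_residueField_mk,
          hb₁, hb₂]
        exact h12
      have hmem : w * ((1 : Pr.Ring) ⊗ₜ b₂) - (1 : Pr.Ring) ⊗ₜ b₁ ∈ RingHom.ker Ψ.toRingHom := by
        rw [RingHom.mem_ker]
        change Ψ (w * ((1 : Pr.Ring) ⊗ₜ b₂) - (1 : Pr.Ring) ⊗ₜ b₁) = 0
        rw [map_sub, map_mul, hΨ, hΨ, map_one, one_mul, one_mul, h12', sub_self]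
      rw [← h0, RingHom.mem_ker, map_sub, map_mul, sub_eq_zero, ← hσ₀, ← hσ₀] at hmem
      have h3 : σ₀ (Ψ w) * σ₀ (algebraMap A E b₂) = σ₀ (algebraMap A E b₁) := by
        rw [← map_mul, h12']
      have h4 : σ₀ (algebraMap A E b₂) ≠ 0 := by
        rw [Ne, map_eq_zero]
        exact hb₂0
      exact mul_right_cancel₀ h4 (h3.trans hmem.symm)
    have hσΨ := key φ σ hk hσ
    have hσΨ' := key φ' σ' hk' hσ'
    suffices hσσ' : σ = σ' by
      refine RingHom.ext fun w => ?_
      rw [← hσΨ w, ← hσΨ' w, hσσ']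
    refine ringHom_ext_of_sep β hadj σ σ' ?_ ?_
    · apply Ideal.ResidueField.ringHom_ext
      ext r
      have e1 : algebraMap F E (algebraMap R F r) = algebraMap A E (algebraMap R A r) := by
        rw [← IsScalarTower.algebraMap_apply R F E, ← IsScalarTower.algebraMap_apply R A E]
      have e2 : ∀ φ₀ : Pr.Ring ⊗[R] A →+* K, φ₀ ((1 : Pr.Ring) ⊗ₜ (algebraMap R A r)) =
          (φ₀.comp (algebraMap Pr.Ring (Pr.Ring ⊗[R] A))) (algebraMap R Pr.Ring r) := by
        intro φ₀
        rw [RingHom.comp_apply]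
        congr 1
        rw [Algebra.TensorProduct.algebraMap_apply, Algebra.algebraMap_self_apply,
          Algebra.algebraMap_eq_smul_one, Algebra.algebraMap_eq_smul_one (A := Pr.Ring),
          TensorProduct.tmul_smul, TensorProduct.smul_tmul']
      change σ (algebraMap F E (algebraMap R F r)) = σ' (algebraMap F E (algebraMap R F r))
      have e5 : φ ((1 : Pr.Ring) ⊗ₜ (algebraMap R A r)) =
          φ' ((1 : Pr.Ring) ⊗ₜ (algebraMap R A r)) := by
        rw [e2 φ, e2 φ', hR₁]
      rw [e1, hσ, hσ']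
      exact e5
    · have e3 : (β : E) = Ψ (Pr.X ⊗ₜ (1 : A)) := by
        rw [hΨ, map_one, mul_one, StandardEtalePair.lift_X]
      have e4 : ∀ φ₀ : Pr.Ring ⊗[R] A →+* K, φ₀ (Pr.X ⊗ₜ (1 : A)) =
          (φ₀.comp (algebraMap Pr.Ring (Pr.Ring ⊗[R] A))) Pr.X := fun φ₀ => rfl
      rw [e3, hσΨ, hσΨ', e4 φ, e4 φ', hR₁]

end

end Groth.Agent.H1.EtRad
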