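import Groth.Agent.Lib.Helper1.EtRadB

/-!
# The finite radicial part of a quasi-finite algebra, étale locally (helper1)
-/

set_option autoImplicit false
universe u
open Polynomial TensorProduct

namespace Groth.Agent.H1.EtRad

theorem ringHom_tensor_ext {R B A K : Type u} [CommRing R] [CommRing B] [CommRing A] [CommRing K]
    [Algebra R B] [Algebra R A] (φ φ' : B ⊗[R] A →+* K)
    (h1 : φ.comp (algebraMap B (B ⊗[R] A)) = φ'.comp (algebraMap B (B ⊗[R] A)))
    (h2 : φ.comp Algebra.TensorProduct.includeRight.toRingHom =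
      φ'.comp Algebra.TensorProduct.includeRight.toRingHom) : φ = φ' := by
  refine RingHom.ext fun w => ?_
  induction w using TensorProduct.induction_on with
  | zero => rw [map_zero, map_zero]
  | tmul x a =>
    have e : x ⊗ₜ[R] a = algebraMap B (B ⊗[R] A) x * Algebra.TensorProduct.includeRight a := by
      rw [Algebra.TensorProduct.algebraMap_apply, Algebra.algebraMap_self_apply,
        Algebra.TensorProduct.includeRight_apply, Algebra.TensorProduct.tmul_mul_tmul, mul_one, one_mul]
    rw [e, map_mul, map_mul]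
    congr 1
    · exact congrArg (fun f => f x) h1
    · exact congrArg (fun f => f a) h2
  | add x y hx hy => rw [map_add, map_add, hx, hy]

theorem exists_etale_finite_radicial {R A : Type u} [CommRing R] [CommRing A] [Algebra R A]
    [Algebra.FiniteType R A]
    (p : Ideal R) [p.IsPrime] (q : Ideal A) [q.IsPrime] [q.LiesOver p] [Algebra.QuasiFiniteAt R q]
    (PI : ∀ (K : Type u) [Field K] (φ φ' : A →+* K), RingHom.ker φ = q → RingHom.ker φ' = q →
      φ.comp (algebraMap R A) = φ'.comp (algebraMap R A) → φ = φ') :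
    ∃ (R' : Type u) (_ : CommRing R') (_ : Algebra R R') (_ : Algebra.Etale R R') (P : Ideal R')
      (_ : P.IsPrime) (_ : P.LiesOver p) (e : R' ⊗[R] A) (_ : IsIdempotentElem e)
      (Q : Ideal (R' ⊗[R] A)) (_ : Q.IsPrime) (_ : Q.LiesOver P),
      Q.comap Algebra.TensorProduct.includeRight.toRingHom = q ∧ e ∉ Q ∧
      Module.Finite R' (Localization.Away e) ∧
      ∀ (K : Type u) [Field K] (φ φ' : R' ⊗[R] A →+* K), φ e ≠ 0 → φ' e ≠ 0 →
        φ.comp (algebraMap R' (R' ⊗[R] A)) = φ'.comp (algebraMap R' (R' ⊗[R] A)) →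
        RingHom.ker (φ.comp (algebraMap R' (R' ⊗[R] A))) = P → φ = φ' := by
  obtain ⟨R', _, _, _, P, _, _, e, he, Q, _, _, hQq, heQ, -, hfin, huniq⟩ :=
    Algebra.exists_etale_isIdempotentElem_forall_liesOver_eq p q
  refine ⟨R', inferInstance, inferInstance, inferInstance, P, inferInstance, inferInstance, e, he, Q,
    inferInstance, inferInstance, hQq, heQ, hfin, ?_⟩
  intro K _ φ φ' hφe hφ'e hR' hker
  have hkerQ : ∀ φ₀ : R' ⊗[R] A →+* K, φ₀ e ≠ 0 →
      RingHom.ker (φ₀.comp (algebraMap R' (R' ⊗[R] A))) = P → RingHom.ker φ₀ = Q := by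
    intro φ₀ h0 hk
    haveI : (RingHom.ker φ₀).IsPrime := RingHom.ker_isPrime φ₀
    haveI : (RingHom.ker φ₀).LiesOver P := ⟨by
      rw [← hk]
      rfl⟩
    exact huniq _ inferInstance inferInstance (fun h => h0 (RingHom.mem_ker.1 h))
  have hkφ := hkerQ φ hφe hker
  have hkφ' := hkerQ φ' hφ'e (hR' ▸ hker)
  have hcomap : ∀ φ₀ : R' ⊗[R] A →+* K, RingHom.ker φ₀ = Q →
      RingHom.ker (φ₀.comp Algebra.TensorProduct.includeRight.toRingHom) = q := by
    intro φ₀ h0
    rw [← hQq, ← h0]
    rfl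
  have hR : ∀ φ₀ : R' ⊗[R] A →+* K,
      (φ₀.comp Algebra.TensorProduct.includeRight.toRingHom).comp (algebraMap R A) =
        (φ₀.comp (algebraMap R' (R' ⊗[R] A))).comp (algebraMap R R') := by
    intro φ₀
    ext r
    simp only [RingHom.comp_apply]
    congr 1
    change (1 : R') ⊗ₜ[R] (algebraMap R A r) = _
    rw [Algebra.TensorProduct.algebraMap_apply, Algebra.algebraMap_self_apply,
      Algebra.algebraMap_eq_smul_one, Algebra.algebraMap_eq_smul_one (A := R'),
      TensorProduct.tmul_smul, TensorProduct.smul_tmul']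
  have h2 := PI K _ _ (hcomap φ hkφ) (hcomap φ' hkφ') (by rw [hR φ, hR φ', hR'])
  exact ringHom_tensor_ext φ φ' hR' h2

end Groth.Agent.H1.EtRad
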