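import Groth.Agent.Lib.Helper1.EtRadC

/-!
# The finite radicial part of a quasi-finite algebra, étale locally: combined statement (helper1)
-/

set_option autoImplicit false
universe u
open Polynomial TensorProduct

namespace Groth.Agent.H1.EtRad

/-- **Étale local structure of quasi-finite algebras, radicial form.**  Let `A` be a finite type `R`-algebra
quasi-finite at the prime `q`.  There are an étale `R`-algebra `R'`, a prime `P` of `R'`, an idempotent `e` of
`R' ⊗ A` such that `(R' ⊗ A)_e` is finite over `R'`, a prime `Q ∌ e` over `P` and `q`, and such that two ring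
homomorphisms from `R' ⊗ A` to a field not killing `e`, agreeing on `R'` with kernel `P` there, are equal. -/
theorem exists_etale_finite_radicial' {R A : Type u} [CommRing R] [CommRing A] [Algebra R A]
    [Algebra.FiniteType R A] (q : Ideal A) [q.IsPrime] [Algebra.QuasiFiniteAt R q] :
    ∃ (R' : Type u) (_ : CommRing R') (_ : Algebra R R') (_ : Algebra.Etale R R') (P : Ideal R')
      (_ : P.IsPrime) (e : R' ⊗[R] A) (_ : IsIdempotentElem e)
      (Q : Ideal (R' ⊗[R] A)) (_ : Q.IsPrime),
      Q.comap (algebraMap R' (R' ⊗[R] A)) = P ∧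
      Q.comap Algebra.TensorProduct.includeRight.toRingHom = q ∧ e ∉ Q ∧
      Module.Finite R' (Localization.Away e) ∧
      ∀ (K : Type u) [Field K] (φ φ' : R' ⊗[R] A →+* K), φ e ≠ 0 → φ' e ≠ 0 →
        φ.comp (algebraMap R' (R' ⊗[R] A)) = φ'.comp (algebraMap R' (R' ⊗[R] A)) →
        RingHom.ker (φ.comp (algebraMap R' (R' ⊗[R] A))) = P → φ = φ' := by
  let p : Ideal R := q.under R
  haveI : p.IsPrime := inferInstanceAs (q.under R).IsPrime
  haveI : q.LiesOver p := inferInstanceAs (q.LiesOver (q.under R))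
  obtain ⟨R₁, _, _, _, q₁, _, hq₁, PI⟩ := exists_etale_radicial (R := R) q
  let p₁ : Ideal R₁ := q₁.under R₁
  haveI : p₁.IsPrime := inferInstanceAs (q₁.under R₁).IsPrime
  haveI : q₁.LiesOver p₁ := inferInstanceAs (q₁.LiesOver (q₁.under R₁))
  haveI : Algebra.QuasiFiniteAt R₁ q₁ := Algebra.QuasiFiniteAt.baseChange q q₁ hq₁.symm
  obtain ⟨R', _, _, _, P, _, _, e₁, he₁, Q₁, _, _, hQ₁q, heQ₁, hfin, RAD⟩ :=
    exists_etale_finite_radicial (R := R₁) (A := R₁ ⊗[R] A) p₁ q₁ PI
  letI : Algebra R R' := ((algebraMap R₁ R').comp (algebraMap R R₁)).toAlgebra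
  haveI : IsScalarTower R R₁ R' := IsScalarTower.of_algebraMap_eq (fun _ => rfl)
  haveI : Algebra.Etale R R' := Algebra.Etale.comp R R₁ R'
  let c : R' ⊗[R₁] (R₁ ⊗[R] A) ≃ₐ[R'] R' ⊗[R] A := Algebra.TensorProduct.cancelBaseChange R R₁ R' R' A
  have hcalg : ∀ r : R', c (algebraMap R' _ r) = algebraMap R' _ r := fun r => c.commutes r
  have hcsymm : ∀ a : A, c.symm ((1 : R') ⊗ₜ[R] a) = (1 : R') ⊗ₜ[R₁] ((1 : R₁) ⊗ₜ[R] a) :=
    fun a => Algebra.TensorProduct.cancelBaseChange_symm_tmul R R₁ R' R' A 1 a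
  haveI hQprime : (Q₁.comap c.symm.toRingEquiv.toRingHom).IsPrime := Ideal.comap_isPrime _ _
  refine ⟨R', inferInstance, inferInstance, inferInstance, P, inferInstance, c e₁, he₁.map c,
    Q₁.comap c.symm.toRingEquiv.toRingHom, hQprime, ?_, ?_, ?_, ?_, ?_⟩
  · rw [Q₁.over_def P]
    ext r
    simp only [Ideal.mem_comap, Ideal.under]
    change c.symm (algebraMap R' _ r) ∈ Q₁ ↔ _
    rw [c.symm.commutes]
  · rw [← hq₁, ← hQ₁q]
    ext a
    simp only [Ideal.mem_comap]
    change c.symm ((1 : R') ⊗ₜ[R] a) ∈ Q₁ ↔ _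
    rw [hcsymm]
    rfl
  · intro h
    apply heQ₁
    have : c.symm (c e₁) ∈ Q₁ := h
    rwa [AlgEquiv.symm_apply_apply] at this
  · -- transport of finiteness
    let ρ : Localization.Away e₁ ≃+* Localization.Away (c e₁) :=
      IsLocalization.ringEquivOfRingEquiv (M := Submonoid.powers e₁) (Localization.Away e₁)
        (T := Submonoid.powers (c e₁)) (Localization.Away (c e₁)) c.toRingEquiv
        (Submonoid.map_powers _ e₁)
    have hρ : ∀ r : R', ρ (algebraMap R' _ r) = algebraMap R' _ r := by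
      intro r
      rw [IsScalarTower.algebraMap_apply R' (R' ⊗[R₁] (R₁ ⊗[R] A)) (Localization.Away e₁),
        IsScalarTower.algebraMap_apply R' (R' ⊗[R] A) (Localization.Away (c e₁))]
      have h0 := IsLocalization.ringEquivOfRingEquiv_eq (M := Submonoid.powers e₁)
        (S := Localization.Away e₁) (T := Submonoid.powers (c e₁))
        (Q := Localization.Away (c e₁)) (j := c.toRingEquiv) (Submonoid.map_powers _ e₁)
        (algebraMap R' _ r)
      refine h0.trans ?_
      congr 1
      exact hcalg r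
    let ρ' : Localization.Away e₁ ≃ₐ[R'] Localization.Away (c e₁) := AlgEquiv.ofRingEquiv hρ
    exact Module.Finite.equiv ρ'.toLinearEquiv
  · intro K _ φ φ' hφe hφ'e hR' hker
    have hc : ∀ φ₀ : R' ⊗[R] A →+* K,
        (φ₀.comp c.toRingEquiv.toRingHom).comp (algebraMap R' (R' ⊗[R₁] (R₁ ⊗[R] A))) =
          φ₀.comp (algebraMap R' (R' ⊗[R] A)) := by
      intro φ₀
      ext r
      simp only [RingHom.comp_apply]
      congr 1
      exact hcalg r
    have h1 := RAD K (φ.comp c.toRingEquiv.toRingHom) (φ'.comp c.toRingEquiv.toRingHom) hφe hφ'e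
      (by rw [hc φ, hc φ', hR']) (by rw [hc φ, hker])
    refine RingHom.ext fun w => ?_
    have := congrArg (fun f => f (c.symm w)) h1
    simpa using this

end Groth.Agent.H1.EtRad
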