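import Groth.Agent.Lib.Helper1.FibRank7
import Groth.Prelude.Def_EtBase

/-!
# Total splitting of finite étale morphisms of constant degree, étale locally (helper1)
-/

set_option autoImplicit false
universe u
open CategoryTheory CategoryTheory.Limits AlgebraicGeometry TopologicalSpace

namespace Groth.Agent.H1.EtSplit

open Groth.Agent.H1.FibRank

theorem range_fst_of_isPullback {P A B C : Scheme.{u}} {fst : P ⟶ A} {snd : P ⟶ B} {f : A ⟶ C}
    {g : B ⟶ C} (sq : IsPullback fst snd f g) : Set.range fst = f ⁻¹' Set.range g := by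
  have e : fst = sq.isoPullback.hom ≫ pullback.fst f g := (sq.isoPullback_hom_fst).symm
  rw [← Scheme.Pullback.range_fst, e]
  ext x
  constructor
  · rintro ⟨y, rfl⟩
    exact ⟨sq.isoPullback.hom y, rfl⟩
  · rintro ⟨y, rfl⟩
    refine ⟨sq.isoPullback.inv y, ?_⟩
    rw [← Scheme.Hom.comp_apply, ← Category.assoc, Iso.inv_hom_id, Category.id_comp]

section Plain

variable {U T V : Scheme.{u}}

/-- the section of `V ×_T U → V` defined by a `T`-morphism `σ : V ⟶ U` -/
noncomputable def psec (p : U ⟶ T) (e : V ⟶ T) (σ : V ⟶ U) (h : σ ≫ p = e) : V ⟶ pullback e p :=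
  pullback.lift (𝟙 _) σ (by rw [Category.id_comp, h])

@[reassoc (attr := simp)]
theorem psec_fst (p : U ⟶ T) (e : V ⟶ T) (σ : V ⟶ U) (h : σ ≫ p = e) :
    psec p e σ h ≫ pullback.fst e p = 𝟙 _ :=
  pullback.lift_fst _ _ _

@[reassoc (attr := simp)]
theorem psec_snd (p : U ⟶ T) (e : V ⟶ T) (σ : V ⟶ U) (h : σ ≫ p = e) :
    psec p e σ h ≫ pullback.snd e p = σ :=
  pullback.lift_snd _ _ _

/-- the sections `σ i` split `V ×_T U → V` completely -/
def PSplit (p : U ⟶ T) (e : V ⟶ T) {r : ℕ} (σ : Fin r → (V ⟶ U)) (hσ : ∀ i, σ i ≫ p = e) : Prop :=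
  (∀ x : ↥(pullback e p), ∃ i, x ∈ Set.range (psec p e (σ i) (hσ i))) ∧
  (∀ i k, i ≠ k → Disjoint (Set.range (psec p e (σ i) (hσ i))) (Set.range (psec p e (σ k) (hσ k))))

end Plain

theorem exists_psplit : ∀ (r : ℕ) {U T : Scheme.{u}} (p : U ⟶ T) [Etale p] [IsSeparated p]
    (_ : FinFib p) (_ : ∀ t, deg p t = r) (t : T),
    ∃ (V : Scheme.{u}) (e : V ⟶ T) (_ : Etale e) (v : V) (σ : Fin r → (V ⟶ U))
      (hσ : ∀ i, σ i ≫ p = e), e v = t ∧ PSplit p e σ hσ := by
  intro r
  induction r with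
  | zero =>
    intro U T p _ _ hf hdeg t
    refine ⟨T, 𝟙 T, inferInstance, t, Fin.elim0, fun i => Fin.elim0 i, rfl, ?_, fun i => Fin.elim0 i⟩
    intro x
    have h1 := one_le_deg_map p hf (pullback.snd (𝟙 T) p x)
    rw [hdeg] at h1
    omega
  | succ r ih =>
    intro U T p _ _ hf hdeg t
    obtain ⟨u, hu⟩ : t ∈ Set.range p :=
      mem_range_of_one_le_deg p hf t (by rw [hdeg]; omega)
    let q : pullback p p ⟶ U := pullback.snd p p
    let Δ : U ⟶ pullback p p := pullback.diagonal p
    haveI : IsOpenImmersion Δ := inferInstance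
    haveI : IsClosedImmersion Δ := inferInstance
    let D : (pullback p p).Opens := Δ.opensRange
    let D' : (pullback p p).Opens :=
      ⟨(Set.range Δ)ᶜ, Δ.isClosedEmbedding.isClosed_range.isOpen_compl⟩
    have hc : IsCompl D D' := by
      refine IsCompl.of_eq ?_ ?_
      · ext x
        simp only [D, D', Opens.coe_inf, Scheme.Hom.coe_opensRange, Opens.coe_mk, Opens.coe_bot,
          Set.inter_compl_self]
      · ext x
        simp only [D, D', Opens.coe_sup, Scheme.Hom.coe_opensRange, Opens.coe_mk, Opens.coe_top,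
          Set.union_compl_self]
    have sq : IsPullback (pullback.fst p p) q p p := IsPullback.of_hasPullback p p
    haveI : Etale q := MorphismProperty.pullback_snd (P := @Etale) _ _ inferInstance
    haveI : IsSeparated q := MorphismProperty.pullback_snd (P := @IsSeparated) _ _ inferInstance
    have hq : FinFib q := finFib_of_isPullback p hf sq
    have hdq : ∀ u', deg q u' = r + 1 := fun u' => by rw [deg_of_isPullback p hf sq, hdeg]
    have hΔq : Δ ≫ q = 𝟙 _ := pullback.diagonal_snd p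
    have hDq : D.ι ≫ q = Δ.isoOpensRange.inv := by
      rw [← cancel_epi Δ.isoOpensRange.hom, Iso.hom_inv_id, ← Category.assoc,
        Scheme.Hom.isoOpensRange_hom_ι, hΔq]
    haveI : IsIso (D.ι ≫ q) := by rw [hDq]; infer_instance
    have hd1 : ∀ u', deg (D.ι ≫ q) u' = 1 := by
      intro u'
      rw [deg_eq_finrank, Scheme.Hom.finrank_eq_one_of_isIso]
      rfl
    have hsplit := fdeg_add_of_isCompl q hq D D' hc
    have hd' : ∀ u', deg (D'.ι ≫ q) u' = r := by
      intro u'
      have := deg_add_of_isCompl q hq D D' hc u'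
      rw [hdq, hd1] at this
      omega
    haveI : Etale (D'.ι ≫ q) := inferInstance
    haveI : IsSeparated (D'.ι ≫ q) := inferInstance
    obtain ⟨V, e', he', v', τ, hτ, hv', hτcov, hτdisj⟩ := ih (D'.ι ≫ q) hsplit.2.1 hd' u
    have hσs : ∀ i, (τ i ≫ D'.ι ≫ pullback.fst p p) ≫ p = e' ≫ p := by
      intro i
      rw [Category.assoc, Category.assoc, pullback.condition]
      change τ i ≫ D'.ι ≫ q ≫ p = e' ≫ p
      rw [← hτ i, Category.assoc, Category.assoc]
    have hσ : ∀ i : Fin (r + 1),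
        (Fin.cons e' (fun i => τ i ≫ D'.ι ≫ pullback.fst p p) : Fin (r + 1) → (V ⟶ U)) i ≫ p =
          e' ≫ p := by
      intro i
      refine Fin.cases ?_ (fun i => ?_) i
      · rw [Fin.cons_zero]
      · rw [Fin.cons_succ]; exact hσs i
    refine ⟨V, e' ≫ p, inferInstance, v', Fin.cons e' (fun i => τ i ≫ D'.ι ≫ pullback.fst p p),
      hσ, ?_, ?_⟩
    · rw [Scheme.Hom.comp_apply, hv']
      exact hu
    -- geometry of the pullbacks
    let Qf : pullback (e' ≫ p) p ⟶ V := pullback.fst (e' ≫ p) p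
    let Qs : pullback (e' ≫ p) p ⟶ U := pullback.snd (e' ≫ p) p
    have hQcond : Qf ≫ e' ≫ p = Qs ≫ p := pullback.condition
    let c : pullback (e' ≫ p) p ⟶ pullback p p :=
      pullback.lift Qs (Qf ≫ e') (by rw [Category.assoc, hQcond])
    have hc1 : c ≫ pullback.fst p p = Qs := pullback.lift_fst _ _ _
    have hc2 : c ≫ q = Qf ≫ e' := pullback.lift_snd _ _ _
    have outer : IsPullback (c ≫ pullback.fst p p) Qf p (e' ≫ p) := by
      rw [hc1]
      exact (IsPullback.of_hasPullback (e' ≫ p) p).flip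
    have sqL : IsPullback c Qf q e' := IsPullback.of_right outer hc2 sq
    -- the zeroth section
    have hs0c : psec p (e' ≫ p) e' rfl ≫ c = e' ≫ Δ := by
      apply pullback.hom_ext
      · rw [Category.assoc, hc1, psec_snd, Category.assoc, pullback.diagonal_fst, Category.comp_id]
      · rw [Category.assoc]
        change psec p (e' ≫ p) e' rfl ≫ c ≫ q = (e' ≫ Δ) ≫ q
        rw [hc2, psec_fst_assoc, Category.assoc, hΔq, Category.comp_id]
    have hs0f : psec p (e' ≫ p) e' rfl ≫ Qf = 𝟙 _ := psec_fst _ _ _ _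
    have sq0 : IsPullback (psec p (e' ≫ p) e' rfl) e' c Δ := by
      refine IsPullback.of_right (h₁₂ := Qf) (v₁₃ := e') (h₂₂ := q) ?_ hs0c sqL.flip
      rw [hs0f, hΔq]
      exact IsPullback.of_horiz_isIso ⟨by rw [Category.id_comp, Category.comp_id]⟩
    have hr0 : Set.range (psec p (e' ≫ p) e' rfl) = c ⁻¹' Set.range Δ :=
      range_fst_of_isPullback sq0
    -- the other sections
    let k : pullback e' (D'.ι ≫ q) ⟶ pullback (e' ≫ p) p :=
      sqL.lift (pullback.snd e' (D'.ι ≫ q) ≫ D'.ι) (pullback.fst e' (D'.ι ≫ q)) (by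
        rw [Category.assoc]
        exact (pullback.condition (f := e') (g := D'.ι ≫ q)).symm)
    have hk1 : k ≫ c = pullback.snd e' (D'.ι ≫ q) ≫ D'.ι := sqL.lift_fst _ _ _
    have hk2 : k ≫ Qf = pullback.fst e' (D'.ι ≫ q) := sqL.lift_snd _ _ _
    have sqk : IsPullback k (pullback.snd e' (D'.ι ≫ q)) c D'.ι := by
      refine IsPullback.of_right (h₁₂ := Qf) (v₁₃ := e') (h₂₂ := q) ?_ hk1 sqL.flip
      rw [hk2]
      exact IsPullback.of_hasPullback e' (D'.ι ≫ q)
    have hrk : Set.range k = c ⁻¹' (D' : Set ↥(pullback p p)) := by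
      rw [range_fst_of_isPullback sqk, Scheme.Opens.range_ι]
    haveI : IsOpenImmersion k := MorphismProperty.of_isPullback (P := @IsOpenImmersion) sqk.flip
      inferInstance
    have hsk : ∀ i, psec p (e' ≫ p) (τ i ≫ D'.ι ≫ pullback.fst p p) (hσs i) =
        psec (D'.ι ≫ q) e' (τ i) (hτ i) ≫ k := by
      intro i
      apply pullback.hom_ext
      · rw [psec_fst, Category.assoc]
        change _ = psec (D'.ι ≫ q) e' (τ i) (hτ i) ≫ k ≫ Qf
        rw [hk2, psec_fst]
      · rw [psec_snd, Category.assoc]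
        change _ = psec (D'.ι ≫ q) e' (τ i) (hτ i) ≫ k ≫ Qs
        rw [← hc1, ← Category.assoc k, hk1, Category.assoc, psec_snd_assoc]
    have hmemD' : ∀ y, c (k y) ∈ (D' : Set ↥(pullback p p)) := by
      intro y
      have : k y ∈ Set.range k := ⟨_, rfl⟩
      rw [hrk] at this
      exact this
    constructor
    · intro x
      by_cases hx : c x ∈ Set.range Δ
      · refine ⟨0, ?_⟩
        have : x ∈ Set.range (psec p (e' ≫ p) e' rfl) := by rw [hr0]; exact hx
        exact this
      · have hx' : x ∈ Set.range k := by rw [hrk]; exact hx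
        obtain ⟨y, rfl⟩ := hx'
        obtain ⟨i, z, rfl⟩ := hτcov y
        refine ⟨i.succ, z, ?_⟩
        have := congrArg (fun m : V ⟶ pullback (e' ≫ p) p => m z) (hsk i)
        exact this
    · intro i j
      refine Fin.cases ?_ (fun i => ?_) i <;> refine Fin.cases ?_ (fun j => ?_) j
      · intro h; exact absurd rfl h
      · intro _
        change Disjoint (Set.range (psec p (e' ≫ p) e' rfl))
          (Set.range (psec p (e' ≫ p) (τ j ≫ D'.ι ≫ pullback.fst p p) (hσs j)))
        rw [hr0, hsk, Set.disjoint_left]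
        rintro x hx ⟨z, rfl⟩
        exact hmemD' _ hx
      · intro _
        change Disjoint (Set.range (psec p (e' ≫ p) (τ i ≫ D'.ι ≫ pullback.fst p p) (hσs i)))
          (Set.range (psec p (e' ≫ p) e' rfl))
        rw [hr0, hsk, Set.disjoint_right]
        rintro x hx ⟨z, rfl⟩
        exact hmemD' _ hx
      · intro hij
        have hij' : i ≠ j := fun h => hij (congrArg Fin.succ h)
        change Disjoint (Set.range (psec p (e' ≫ p) (τ i ≫ D'.ι ≫ pullback.fst p p) (hσs i)))
          (Set.range (psec p (e' ≫ p) (τ j ≫ D'.ι ≫ pullback.fst p p) (hσs j)))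
        rw [hsk, hsk, Set.disjoint_left]
        rintro x ⟨z, rfl⟩ ⟨z', hz'⟩
        have hinj : Function.Injective k := k.isOpenEmbedding.injective
        have hz'' : k (psec (D'.ι ≫ q) e' (τ j) (hτ j) z') = k (psec (D'.ι ≫ q) e' (τ i) (hτ i) z) :=
          hz'
        exact (Set.disjoint_left.mp (hτdisj i j hij')) ⟨z, rfl⟩ ⟨z', hinj hz''⟩

end Groth.Agent.H1.EtSplit
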