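import Mathlib
import Groth.Prelude.Def_EtBase

set_option autoImplicit false

namespace Groth.Agent.H1.EtStalk

open CategoryTheory CategoryTheory.Limits Opposite GrothendieckTopology

universe w w' v v' u u'

section General

variable {C : Type u} [Category.{v} C] {J : GrothendieckTopology C} [LocallySmall.{w} C]
  {P : ObjectProperty (Point.{w} J)}

/-- Sieve criterion: a sieve which is jointly surjective on the fibres of a (small) conservative
family of points is covering. -/
theorem mem_of_fiber_surjective [HasSheafify J (Type w)] [J.WEqualsLocallyBijective (Type w)]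
    (hP : P.IsConservativeFamilyOfPoints) [ObjectProperty.Small.{w} P]
    {X : C} (S : Sieve X)
    (h : ∀ (Φ : P.FullSubcategory) (x : Φ.obj.fiber.obj X),
      ∃ (Y : C) (g : Y ⟶ X) (_ : S g) (y : Φ.obj.fiber.obj Y), Φ.obj.fiber.map g y = x) :
    S ∈ J X := by
  let ι := Σ Y : C, {g : Y ⟶ X // S g}
  have h1 : Sieve.ofArrows (fun i : ι => i.1) (fun i => i.2.1) ∈ J X := by
    rw [hP.jointly_reflect_ofArrows_mem_of_small]
    intro Φ x
    obtain ⟨Y, g, hg, y, hy⟩ := h Φ x
    exact ⟨⟨Y, g, hg⟩, y, hy⟩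
  refine J.superset_covering ?_ h1
  rw [Sieve.generate_le_iff]
  rintro Y g ⟨i⟩
  exact i.2.2

/-- the sieve criterion as a predicate on a family of points -/
def SieveCrit (P : ObjectProperty (Point.{w} J)) : Prop :=
  ∀ ⦃X : C⦄ (S : Sieve X), (∀ (Φ : P.FullSubcategory) (x : Φ.obj.fiber.obj X),
      ∃ (Y : C) (g : Y ⟶ X) (_ : S g) (y : Φ.obj.fiber.obj Y), Φ.obj.fiber.map g y = x) → S ∈ J X

variable {A : Type u'} [Category.{v'} A] [HasColimitsOfSize.{w, w} A]
  {FC : A → A → Type*} {CC : A → Type w'} [∀ X Y, FunLike (FC X Y) (CC X) (CC Y)]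
  [ConcreteCategory.{w'} A FC] [PreservesFilteredColimitsOfSize.{w, w} (forget A)]

theorem isLocallySurjective_of_fiber (hP : SieveCrit P) {F G : Cᵒᵖ ⥤ A} (f : F ⟶ G)
    (hf : ∀ Φ : P.FullSubcategory, Function.Surjective (Φ.obj.presheafFiber.map f)) :
    Presheaf.IsLocallySurjective J f := by
  refine ⟨fun {U} s => ?_⟩
  apply hP
  intro Φ x
  obtain ⟨p, hp⟩ := hf Φ (Φ.obj.toPresheafFiber U x G s)
  obtain ⟨V, v, z, rfl⟩ := Φ.obj.toPresheafFiber_jointly_surjective p
  rw [Point.toPresheafFiber_naturality_apply] at hp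
  -- common refinement of (U, x) and (V, v)
  let eU : Φ.obj.fiber.Elements := ⟨U, x⟩
  let eV : Φ.obj.fiber.Elements := ⟨V, v⟩
  obtain ⟨⟨W, w⟩, ⟨a, ha⟩, ⟨b, hb⟩, -⟩ := IsCofilteredOrEmpty.cone_objs eU eV
  dsimp [eU, eV] at a ha b hb
  have h1 : Φ.obj.toPresheafFiber W w G (G.map a.op s) =
      Φ.obj.toPresheafFiber W w G (G.map b.op (f.app _ z)) := by
    rw [Point.toPresheafFiber_w_apply, Point.toPresheafFiber_w_apply, ha, hb, hp]
  rw [Point.toPresheafFiber_eq_iff'] at h1
  obtain ⟨Y, g, y, hy, hg⟩ := h1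
  refine ⟨Y, g ≫ a, ⟨F.map (g ≫ b).op z, ?_⟩, y, ?_⟩
  · rw [NatTrans.naturality_apply, op_comp, Functor.map_comp, op_comp, Functor.map_comp,
      ConcreteCategory.comp_apply, ConcreteCategory.comp_apply]
    exact hg.symm
  · rw [Functor.map_comp]
    change Φ.obj.fiber.map a (Φ.obj.fiber.map g y) = x
    rw [hy, ha]

theorem isLocallyInjective_of_fiber (hP : SieveCrit P) {F G : Cᵒᵖ ⥤ A} (f : F ⟶ G)
    (hf : ∀ Φ : P.FullSubcategory, Function.Injective (Φ.obj.presheafFiber.map f)) :
    Presheaf.IsLocallyInjective J f := by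
  refine ⟨fun {U} s t hst => ?_⟩
  apply hP
  intro Φ x
  have h1 : Φ.obj.toPresheafFiber U.unop x F s = Φ.obj.toPresheafFiber U.unop x F t := by
    apply hf Φ
    rw [Point.toPresheafFiber_naturality_apply, Point.toPresheafFiber_naturality_apply]
    exact congrArg _ hst
  rw [Point.toPresheafFiber_eq_iff'] at h1
  obtain ⟨Y, g, y, hy, hg⟩ := h1
  exact ⟨Y, g, hg, y, hy⟩

end General

section Etale

open AlgebraicGeometry ZeroObject

universe t

noncomputable instance ab5 : AB5OfSize.{t, t} AddCommGrpCat.{t + 1} :=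
  AB5OfSize_of_univLE.{t, t, t + 1, t + 1} AddCommGrpCat.{t + 1}

noncomputable instance pfc :
    PreservesFilteredColimitsOfSize.{t, t} (forget AddCommGrpCat.{t + 1}) :=
  preservesFilteredColimitsOfSize_shrink.{t, t + 1, t, t + 1} (forget AddCommGrpCat.{t + 1})

variable (X : Scheme.{t})

/-- the standard geometric point over `s : X` -/
noncomputable def geomPt (s : X) :
    Spec (CommRingCat.of (SeparableClosure (X.residueField s))) ⟶ X :=
  (Scheme.SpecToEquivOfField (SeparableClosure (X.residueField s)) _).2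
    ⟨s, CommRingCat.ofHom (algebraMap (X.residueField s) _)⟩

/-- Mathlib's conservative family of points of the small etale site -/
noncomputable def stdPts : ObjectProperty (Point.{t} X.smallEtaleTopology) :=
  ObjectProperty.ofObj (fun (s : X) ↦ Scheme.pointSmallEtale (geomPt X s))

theorem stdPts_conservative : (stdPts X).IsConservativeFamilyOfPoints :=
  Scheme.isConservativeFamilyOfPoints_pointSmallEtale' X

instance : ObjectProperty.Small.{t} (stdPts X) := by
  dsimp [stdPts]
  infer_instance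

theorem sieveCrit_stdPts : SieveCrit (stdPts X) := fun _ S h =>
  mem_of_fiber_surjective (stdPts_conservative X) S h

variable {X}

theorem sheafFiber_map_eq (Φ : Point.{t} X.smallEtaleTopology) {F G : EtCoh.Ab X} (a : F ⟶ G) :
    (Φ.sheafFiber (A := AddCommGrpCat.{t + 1})).map a = Φ.presheafFiber.map a.hom := rfl

/-- a morphism of abelian etale sheaves which is injective on the standard geometric stalks is
a monomorphism -/
theorem mono_of_stalk {F G : EtCoh.Ab X} (a : F ⟶ G)
    (h : ∀ s : X, Function.Injective ((EtCoh.stalk (geomPt X s)).map a)) : Mono a := by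
  have : Presheaf.IsLocallyInjective X.smallEtaleTopology a.hom := by
    refine isLocallyInjective_of_fiber (sieveCrit_stdPts X) a.hom ?_
    rintro ⟨Φ, ⟨s⟩⟩
    exact h s
  exact Sheaf.mono_of_isLocallyInjective a

theorem epi_of_stalk {F G : EtCoh.Ab X} (a : F ⟶ G)
    (h : ∀ s : X, Function.Surjective ((EtCoh.stalk (geomPt X s)).map a)) : Epi a := by
  have : Presheaf.IsLocallySurjective X.smallEtaleTopology a.hom := by
    refine isLocallySurjective_of_fiber (sieveCrit_stdPts X) a.hom ?_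
    rintro ⟨Φ, ⟨s⟩⟩
    exact h s
  exact (Sheaf.isLocallySurjective_iff_epi' (φ := a)).mp this

theorem isIso_of_stalk {F G : EtCoh.Ab X} (a : F ⟶ G)
    (h : ∀ s : X, Function.Bijective ((EtCoh.stalk (geomPt X s)).map a)) : IsIso a := by
  have := mono_of_stalk a (fun s => (h s).1)
  have := epi_of_stalk a (fun s => (h s).2)
  exact isIso_of_mono_of_epi a

section AllPoints

variable {Ω : Type t} [Field Ω] [IsSepClosed Ω] (ξ : Spec (CommRingCat.of Ω) ⟶ X)

theorem stalk_injective_of_mono {F G : EtCoh.Ab X} (a : F ⟶ G) [Mono a] :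
    Function.Injective ((EtCoh.stalk ξ).map a) := by
  have : Mono ((EtCoh.stalk ξ).map a) := inferInstance
  exact (AddCommGrpCat.mono_iff_injective _).mp this

theorem stalk_surjective_of_epi {F G : EtCoh.Ab X} (a : F ⟶ G) [Epi a] :
    Function.Surjective ((EtCoh.stalk ξ).map a) := by
  have : Epi ((EtCoh.stalk ξ).map a) := inferInstance
  exact (AddCommGrpCat.epi_iff_surjective _).mp this

end AllPoints

theorem isZero_of_stalk (F : EtCoh.Ab X)
    (h : ∀ s : X, IsZero ((EtCoh.stalk (geomPt X s)).obj F)) : IsZero F := by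
  have : Mono (0 : F ⟶ 0) := by
    apply mono_of_stalk
    intro s x y _
    exact (AddCommGrpCat.subsingleton_of_isZero (h s)).elim x y
  exact IsZero.of_mono (0 : F ⟶ 0) (isZero_zero _)

section Exact

variable {Ω : Type t} [Field Ω] [IsSepClosed Ω] (ξ : Spec (CommRingCat.of Ω) ⟶ X)

theorem stalk_preservesHomology : (EtCoh.stalk ξ).PreservesHomology :=
  Functor.preservesHomology_of_preservesEpis_and_kernels _

end Exact

/-- **Exactness of a short complex of abelian etale sheaves can be tested on geometric stalks.** -/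
theorem exact_iff_stalk (S : ShortComplex (EtCoh.Ab X)) :
    S.Exact ↔ ∀ (Ω : Type t) [Field Ω] [IsSepClosed Ω] (ξ : Spec (CommRingCat.of Ω) ⟶ X),
      (S.map (EtCoh.stalk ξ)).Exact := by
  constructor
  · intro h Ω _ _ ξ
    have := stalk_preservesHomology ξ
    exact h.map (EtCoh.stalk ξ)
  · intro h
    rw [S.leftHomologyData.exact_iff]
    apply isZero_of_stalk
    intro s
    have := stalk_preservesHomology (geomPt X s)
    exact (S.leftHomologyData.exact_map_iff (EtCoh.stalk (geomPt X s))).mp (h _ (geomPt X s))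

theorem mono_iff_stalk {F G : EtCoh.Ab X} (a : F ⟶ G) :
    Mono a ↔ ∀ (Ω : Type t) [Field Ω] [IsSepClosed Ω] (ξ : Spec (CommRingCat.of Ω) ⟶ X),
      Function.Injective ((EtCoh.stalk ξ).map a) :=
  ⟨fun _ _ _ _ ξ => stalk_injective_of_mono ξ a, fun h => mono_of_stalk a (fun _ => h _ _)⟩

theorem epi_iff_stalk {F G : EtCoh.Ab X} (a : F ⟶ G) :
    Epi a ↔ ∀ (Ω : Type t) [Field Ω] [IsSepClosed Ω] (ξ : Spec (CommRingCat.of Ω) ⟶ X),
      Function.Surjective ((EtCoh.stalk ξ).map a) :=
  ⟨fun _ _ _ _ ξ => stalk_surjective_of_epi ξ a, fun h => epi_of_stalk a (fun _ => h _ _)⟩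

theorem isIso_iff_stalk {F G : EtCoh.Ab X} (a : F ⟶ G) :
    IsIso a ↔ ∀ (Ω : Type t) [Field Ω] [IsSepClosed Ω] (ξ : Spec (CommRingCat.of Ω) ⟶ X),
      Function.Bijective ((EtCoh.stalk ξ).map a) := by
  constructor
  · intro _ Ω _ _ ξ
    exact ⟨stalk_injective_of_mono ξ a, stalk_surjective_of_epi ξ a⟩
  · intro h
    exact isIso_of_stalk a (fun _ => h _ _)

theorem isZero_iff_stalk (F : EtCoh.Ab X) :
    IsZero F ↔ ∀ (Ω : Type t) [Field Ω] [IsSepClosed Ω] (ξ : Spec (CommRingCat.of Ω) ⟶ X),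
      IsZero ((EtCoh.stalk ξ).obj F) :=
  ⟨fun h _ _ _ ξ => (EtCoh.stalk ξ).map_isZero h, fun h => isZero_of_stalk F (fun _ => h _ _)⟩

end Etale

end Groth.Agent.H1.EtStalk
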