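import Groth.Agent.Lib.Helper1.EtGerm
import Groth.Agent.S0100
import Groth.Agent.S0651

set_option autoImplicit false
universe u

namespace Groth.Agent.H1.EtStalkPull

open CategoryTheory CategoryTheory.Limits Opposite GrothendieckTopology AlgebraicGeometry
open Groth.Agent.H1.EtStalk Groth.Agent.H1.EtGerm

/-- Isomorphic fibre functors give isomorphic sheaf fibre functors (natural version). -/
noncomputable def sheafFiberIsoOfFiberIso {C : Type*} [Category C] {J : GrothendieckTopology C}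
    (Φ₁ Φ₂ : GrothendieckTopology.Point.{u} J) (e : Φ₁.fiber ≅ Φ₂.fiber)
    (A : Type*) [Category A] [HasColimitsOfSize.{u, u} A] :
    Φ₁.sheafFiber (A := A) ≅ Φ₂.sheafFiber :=
  (Groth.Agent.S0100.sheafFiber_iso_of_fiber_iso Φ₁ Φ₂ e A).some

instance hasProducts : HasProducts.{u} AddCommGrpCat.{u + 1} := fun J =>
  hasLimitsOfShape_of_equivalence (Discrete.equivalence (Equiv.ulift.{u + 1, u} (α := J)))

/-- **The stalk of a pullback**, as a natural isomorphism. -/
noncomputable def stalkPullIso {X Y : Scheme.{u}} (f : X ⟶ Y)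
    {Ω : Type u} [Field Ω] [IsSepClosed Ω] (ξ : Spec (CommRingCat.of Ω) ⟶ X) :
    EtCoh.pull f ⋙ EtCoh.stalk ξ ≅ EtCoh.stalk (ξ ≫ f) := by
  let Φ := Scheme.pointSmallEtale ξ
  let Ψ := Scheme.pointSmallEtale (ξ ≫ f)
  let e := Groth.Agent.S0100.fiberIso f ξ
  have : InitiallySmall.{u} (EtCoh.bc f ⋙ Φ.fiber).Elements := by
    have : InitiallySmall.{u} Ψ.fiber.Elements := Ψ.initiallySmall
    let E := Cat.equivOfIso (Functor.elementsFunctor.mapIso e.symm)
    let F : Ψ.fiber.Elements ⥤ (EtCoh.bc f ⋙ Φ.fiber).Elements := E.functor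
    have : F.IsEquivalence := E.isEquivalence_functor
    exact initiallySmall_of_initial_of_initiallySmall F
  let Φ' := Φ.comap (EtCoh.bc f) (EtCoh.coverPreserving_bc f)
  have i1 := GrothendieckTopology.Point.sheafFiberComapIso Φ (EtCoh.bc f)
    (EtCoh.coverPreserving_bc f) AddCommGrpCat.{u + 1}
  exact i1.symm ≪≫ sheafFiberIsoOfFiberIso Φ' Ψ e AddCommGrpCat.{u + 1}

/-- for an etale morphism, restriction is the inverse image -/
noncomputable def restrIsoPull {U X : Scheme.{u}} (j : U ⟶ X) [AlgebraicGeometry.Etale j]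
    [EtShriek.JCont j] : EtShriek.restrAlong j ≅ EtCoh.pull j :=
  (Groth.Agent.S0651.adj3 j).leftAdjointUniq (EtCoh.pullPushAdj j)

/-- the stalk of a restriction along an etale morphism -/
noncomputable def stalkRestrIso {U X : Scheme.{u}} (j : U ⟶ X) [AlgebraicGeometry.Etale j]
    [EtShriek.JCont j] {Ω : Type u} [Field Ω] [IsSepClosed Ω]
    (ζ : Spec (CommRingCat.of Ω) ⟶ U) :
    EtShriek.restrAlong j ⋙ EtCoh.stalk ζ ≅ EtCoh.stalk (ζ ≫ j) :=
  Functor.isoWhiskerRight (restrIsoPull j) (EtCoh.stalk ζ) ≪≫ stalkPullIso j ζ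

/-- a morphism which becomes an isomorphism after restriction to `U` is an isomorphism on the
stalks at geometric points of `U` -/
theorem isIso_stalk_of_isIso_restr {U X : Scheme.{u}} (j : U ⟶ X) [AlgebraicGeometry.Etale j]
    [EtShriek.JCont j] {A B : EtCoh.Ab X} (a : A ⟶ B) [IsIso ((EtShriek.restrAlong j).map a)]
    {Ω : Type u} [Field Ω] [IsSepClosed Ω] (ξ : Spec (CommRingCat.of Ω) ⟶ X)
    (hξ : ∃ ζ : Spec (CommRingCat.of Ω) ⟶ U, ζ ≫ j = ξ) :
    IsIso ((EtCoh.stalk ξ).map a) := by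
  obtain ⟨ζ, rfl⟩ := hξ
  have h := (stalkRestrIso j ζ).hom.naturality a
  have e : (EtCoh.stalk (ζ ≫ j)).map a =
      (stalkRestrIso j ζ).inv.app A ≫ (EtShriek.restrAlong j ⋙ EtCoh.stalk ζ).map a ≫
        (stalkRestrIso j ζ).hom.app B := by
    rw [h, Iso.inv_hom_id_app_assoc]
  rw [e]
  have : IsIso ((EtShriek.restrAlong j ⋙ EtCoh.stalk ζ).map a) := by
    change IsIso ((EtCoh.stalk ζ).map ((EtShriek.restrAlong j).map a))
    infer_instance
  infer_instance

/-- A sheaf whose "new" fibres at a point are all empty has zero stalk after extension by zero. -/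
theorem isZero_stalk_extZero {U X : Scheme.{u}} (j : U ⟶ X) [AlgebraicGeometry.Etale j]
    [EtShriek.JCont j] (F : EtCoh.Ab U)
    {Ω : Type u} [Field Ω] [IsSepClosed Ω] (ξ : Spec (CommRingCat.of Ω) ⟶ X)
    (hξ : ∀ V : U.Etale, IsEmpty ((Scheme.pointSmallEtale ξ).fiber.obj
      ((EtShriek.compEtale j).obj V))) :
    IsZero ((EtCoh.stalk ξ).obj ((EtShriek.extZero j).obj F)) := by
  let Φ := Scheme.pointSmallEtale ξ
  let S := (EtCoh.stalk ξ).obj ((EtShriek.extZero j).obj F)
  have h1 : Subsingleton (F ⟶ (EtShriek.restrAlong j).obj (Φ.skyscraperSheaf S)) := by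
    constructor
    intro a b
    apply Sheaf.hom_ext
    ext V : 2
    have : IsEmpty (Φ.fiber.obj ((EtShriek.compEtale j).obj V.unop)) := hξ V.unop
    apply Pi.hom_ext
    intro y
    exact (this.false y).elim
  have h2 : Subsingleton ((EtShriek.extZero j).obj F ⟶ Φ.skyscraperSheaf S) :=
    ((EtShriek.extZeroAdj j).homEquiv F (Φ.skyscraperSheaf S)).subsingleton
  have h3 : Subsingleton (S ⟶ S) :=
    (Φ.skyscraperSheafAdjunction.homEquiv ((EtShriek.extZero j).obj F) S).subsingleton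
  rw [IsZero.iff_id_eq_zero]
  exact Subsingleton.elim _ _

/-- the stalk of `j_! F` vanishes at geometric points outside the image of `j` -/
theorem isZero_stalk_extZero_of_not_mem {U X : Scheme.{u}} (j : U ⟶ X)
    [AlgebraicGeometry.Etale j] [EtShriek.JCont j] (F : EtCoh.Ab U)
    {Ω : Type u} [Field Ω] [IsSepClosed Ω] (ξ : Spec (CommRingCat.of Ω) ⟶ X)
    (hξ : Set.range ξ.base ⊆ (Set.range j.base)ᶜ) :
    IsZero ((EtCoh.stalk ξ).obj ((EtShriek.extZero j).obj F)) := by
  apply isZero_stalk_extZero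
  intro V
  constructor
  intro y
  have hy : Lift.hom y ≫ (V.hom ≫ j) = ξ := Lift.hom_comp (U := (EtShriek.compEtale j).obj V) y
  apply hξ ⟨default, rfl⟩
  refine ⟨V.hom.base ((Lift.hom y).base default), ?_⟩
  exact (congrArg (fun (g : Spec (CommRingCat.of Ω) ⟶ X) => g.base default) hy :)

/-- a geometric point whose image lies in the image of an open immersion factors through it -/
theorem exists_fac_of_mem_range {U X : Scheme.{u}} (j : U ⟶ X) [IsOpenImmersion j]
    {Ω : Type u} [Field Ω] (ξ : Spec (CommRingCat.of Ω) ⟶ X)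
    (hξ : ξ.base default ∈ Set.range j.base) :
    ∃ ζ : Spec (CommRingCat.of Ω) ⟶ U, ζ ≫ j = ξ := by
  have hr : Set.range ξ.base ⊆ Set.range j.base := by
    rintro _ ⟨a, rfl⟩
    rw [Subsingleton.elim a default]
    exact hξ
  exact ⟨IsOpenImmersion.lift j ξ hr, IsOpenImmersion.lift_fac j ξ hr⟩

end Groth.Agent.H1.EtStalkPull
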