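import Mathlib

/-!
# Comparing `Ext` groups along a functor by dimension shifting (helper1)

`π : 𝒜 ⥤ ℬ` additive between abelian categories with `Ext`, `ZA : 𝒜`, `ZB : ℬ` with natural additive
bijections `(ZA ⟶ G) ≃+ (ZB ⟶ π G)`.  If `𝒮` is a class of objects of `𝒜` such that every `G ∈ 𝒮`
sits in a short exact sequence `0 → G → I → Q → 0` with `I` injective, `Q ∈ 𝒮`, preserved by `π`,
and with `Ext^{n+1}(ZB, π I) = 0`, then `Ext^i(ZA, G) ≃+ Ext^i(ZB, π G)` for `G ∈ 𝒮`.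
The two `Ext` may live in different universes.
-/

set_option autoImplicit false

namespace Groth.Agent.H1.ExtShift

open CategoryTheory CategoryTheory.Limits Abelian

universe w w' v v' u u'

section Algebra

variable {A A' E E' : Type*} [AddCommGroup A] [AddCommGroup A'] [AddCommGroup E] [AddCommGroup E']

/-- two quotients are isomorphic if the kernels correspond -/
theorem nonempty_addEquiv_of_surjective (p : A →+ E) (p' : A' →+ E') (hp : Function.Surjective p)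
    (hp' : Function.Surjective p') (φ : A ≃+ A') (h : ∀ a, p a = 0 ↔ p' (φ a) = 0) :
    Nonempty (E ≃+ E') := by
  have e1 := QuotientAddGroup.quotientKerEquivOfSurjective p hp
  have e2 := QuotientAddGroup.quotientKerEquivOfSurjective p' hp'
  have hk : AddSubgroup.map (φ : A →+ A') p.ker = p'.ker := by
    ext y
    constructor
    · rintro ⟨a, ha, rfl⟩
      exact (h a).1 ha
    · intro hy
      refine ⟨φ.symm y, ?_, by simp⟩
      apply (h _).2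
      simpa using hy
  exact ⟨e1.symm.trans ((QuotientAddGroup.congr p.ker p'.ker φ hk).trans e2)⟩

end Algebra

section Single

variable {𝒞 : Type u} [Category.{v} 𝒞] [Abelian 𝒞] [HasExt.{w} 𝒞] (Z : 𝒞)
  {S : ShortComplex 𝒞} (hS : S.ShortExact) (hI : ∀ (n : ℕ) (x : Ext Z S.X₂ (n + 1)), x = 0)

/-- the connecting map `Hom(Z, X₃) → Ext¹(Z, X₁)` -/
noncomputable def conn : (Z ⟶ S.X₃) →+ Ext Z S.X₁ 1 :=
  (hS.extClass.postcomp Z (zero_add 1)).comp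
    (Ext.addEquiv₀ (X := Z) (Y := S.X₃)).symm.toAddMonoidHom

theorem conn_apply (x : Z ⟶ S.X₃) : conn Z hS x = (Ext.mk₀ x).comp hS.extClass (zero_add 1) := rfl

include hI in
theorem conn_surjective : Function.Surjective (conn Z hS) := by
  intro y
  obtain ⟨x₃, hx₃⟩ := Ext.covariant_sequence_exact₁ Z hS y (hI 0 _) (zero_add 1)
  refine ⟨Ext.addEquiv₀ x₃, ?_⟩
  rw [conn_apply, Ext.mk₀_addEquiv₀_apply, hx₃]

theorem conn_eq_zero_iff (x : Z ⟶ S.X₃) : conn Z hS x = 0 ↔ ∃ y : Z ⟶ S.X₂, y ≫ S.g = x := by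
  constructor
  · intro hx
    obtain ⟨x₂, hx₂⟩ := Ext.covariant_sequence_exact₃ Z hS (Ext.mk₀ x) (zero_add 1) hx
    refine ⟨Ext.addEquiv₀ x₂, ?_⟩
    apply (Ext.mk₀_bijective _ _).1
    rw [← Ext.mk₀_comp_mk₀, Ext.mk₀_addEquiv₀_apply, hx₂]
  · rintro ⟨y, rfl⟩
    rw [conn_apply, ← Ext.mk₀_comp_mk₀, Ext.comp_assoc_of_second_deg_zero, hS.comp_extClass,
      Ext.comp_zero]

include hI in
theorem shift_bijective (n : ℕ) :
    Function.Bijective (hS.extClass.postcomp Z (rfl : (n + 1) + 1 = n + 2)) := by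
  constructor
  · rw [injective_iff_map_eq_zero]
    intro x hx
    obtain ⟨x₂, hx₂⟩ := Ext.covariant_sequence_exact₃ Z hS x rfl hx
    rw [← hx₂, hI n x₂, Ext.zero_comp]
  · intro y
    obtain ⟨x₃, hx₃⟩ := Ext.covariant_sequence_exact₁ Z hS y (hI (n + 1) _) rfl
    exact ⟨x₃, hx₃⟩

end Single

variable {𝒜 : Type u} [Category.{v} 𝒜] [Abelian 𝒜] [HasExt.{w} 𝒜]
  {ℬ : Type u'} [Category.{v'} ℬ] [Abelian ℬ] [HasExt.{w'} ℬ]
  (π : 𝒜 ⥤ ℬ) [π.Additive] (ZA : 𝒜) (ZB : ℬ)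
  (φ : ∀ G : 𝒜, (ZA ⟶ G) ≃+ (ZB ⟶ π.obj G))
  (hφ : ∀ {G G' : 𝒜} (f : G ⟶ G') (x : ZA ⟶ G), φ G' (x ≫ f) = φ G x ≫ π.map f)

section Step

variable {S : ShortComplex 𝒜} (hS : S.ShortExact) (hSπ : (S.map π).ShortExact)
  (hI : ∀ (n : ℕ) (x : Ext ZA S.X₂ (n + 1)), x = 0)
  (hIπ : ∀ (n : ℕ) (x : Ext ZB (π.obj S.X₂) (n + 1)), x = 0)

include hφ hS hSπ hI hIπ in
theorem step_one : Nonempty (Ext ZA S.X₁ 1 ≃+ Ext ZB (π.obj S.X₁) 1) := by
  refine nonempty_addEquiv_of_surjective (conn ZA hS) (conn ZB hSπ) (conn_surjective ZA hS hI)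
    (conn_surjective ZB hSπ hIπ) (φ S.X₃) (fun x => ?_)
  refine (conn_eq_zero_iff ZA hS x).trans (Iff.trans ?_ (conn_eq_zero_iff ZB hSπ (φ S.X₃ x)).symm)
  constructor
  · rintro ⟨y, rfl⟩
    exact ⟨φ S.X₂ y, (hφ S.g y).symm⟩
  · rintro ⟨y, hy⟩
    refine ⟨(φ S.X₂).symm y, ?_⟩
    apply (φ S.X₃).injective
    rw [hφ, AddEquiv.apply_symm_apply]
    exact hy

end Step

variable (𝒮 : 𝒜 → Prop)
  (h𝒮 : ∀ G : 𝒜, 𝒮 G → ∃ (I Q : 𝒜) (f : G ⟶ I) (g : I ⟶ Q) (w : f ≫ g = 0),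
    (ShortComplex.mk f g w).ShortExact ∧ ((ShortComplex.mk f g w).map π).ShortExact ∧
      Injective I ∧ 𝒮 Q ∧ ∀ (n : ℕ) (x : Ext ZB (π.obj I) (n + 1)), x = 0)

include hφ h𝒮 in
theorem nonempty_ext_addEquiv (i : ℕ) :
    ∀ G : 𝒜, 𝒮 G → Nonempty (Ext ZA G i ≃+ Ext ZB (π.obj G) i) := by
  induction i using Nat.strong_induction_on with
  | _ i ih =>
  intro G hG
  match i, ih with
  | 0, _ =>
    exact ⟨(Ext.addEquiv₀ (X := ZA) (Y := G)).trans ((φ G).trans Ext.addEquiv₀.symm)⟩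
  | 1, _ =>
    obtain ⟨I, Q, f, g, w, hS, hSπ, hinj, hQ, hIπ⟩ := h𝒮 G hG
    exact step_one π ZA ZB φ hφ hS hSπ (fun n x => Ext.eq_zero_of_injective x) hIπ
  | n + 2, ih =>
    obtain ⟨I, Q, f, g, w, hS, hSπ, hinj, hQ, hIπ⟩ := h𝒮 G hG
    obtain ⟨e⟩ := ih (n + 1) (by omega) Q hQ
    have b1 := shift_bijective ZA hS (fun n x => Ext.eq_zero_of_injective x) n
    have b2 := shift_bijective ZB hSπ hIπ n
    let e1 := AddEquiv.ofBijective _ b1
    let e2 := AddEquiv.ofBijective _ b2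
    exact ⟨e1.symm.trans (e.trans e2)⟩

end Groth.Agent.H1.ExtShift
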