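import Groth.Agent.Lib.Helper1.EtZarAcyc
import Groth.Agent.Lib.Helper1.ExtShift

/-!
# `H^i(X_et, G) ≃ H^i(X_zar, π_* G)` for sheaves acyclic on affine étale schemes (helper1)
-/

set_option autoImplicit false
open CategoryTheory CategoryTheory.Limits AlgebraicGeometry Opposite TopologicalSpace
universe u

namespace Groth.Agent.H1.EtZarLeray

open Groth.Agent.S17614 Groth.Agent.H1.EtZarAcyc Abelian

variable (X : Scheme.{u})

/-- the constant étale sheaf `ℤ` computing cohomology -/
noncomputable abbrev ZA : EtCoh.Ab X :=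
  (constantSheaf X.smallEtaleTopology AddCommGrpCat.{u + 1}).obj
    (AddCommGrpCat.of (ULift.{u + 1} ℤ))

/-- the constant Zariski sheaf `ℤ` computing cohomology -/
noncomputable abbrev ZB : EtZar.Ab X :=
  (constantSheaf (Opens.grothendieckTopology X) AddCommGrpCat.{u + 1}).obj
    (AddCommGrpCat.of (ULift.{u + 1} ℤ))

noncomputable abbrev adjA :=
  constantSheafAdj X.smallEtaleTopology AddCommGrpCat.{u + 1}
    (Groth.Agent.S0670.zarToEtTopIsTerminal X)

noncomputable abbrev adjB :=
  constantSheafAdj (Opens.grothendieckTopology X) AddCommGrpCat.{u + 1}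
    (isTerminalTop : IsTerminal (⊤ : X.Opens))

variable {X} [EtZar.ZarCont X]

/-- global sections of `G` and of its restriction to the Zariski site -/
noncomputable def φ (G : EtCoh.Ab X) : (ZA X ⟶ G) ≃+ (ZB X ⟶ (EtZar.resZar X).obj G) :=
  ((adjA X).homAddEquiv _ G).trans ((adjB X).homAddEquiv _ ((EtZar.resZar X).obj G)).symm

theorem homEquiv_φ (G : EtCoh.Ab X) (x : ZA X ⟶ G) :
    (adjB X).homEquiv _ ((EtZar.resZar X).obj G) (φ G x) = (adjA X).homEquiv _ G x :=
  ((adjB X).homAddEquiv _ ((EtZar.resZar X).obj G)).apply_symm_apply _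

theorem hφ {G G' : EtCoh.Ab X} (f : G ⟶ G') (x : ZA X ⟶ G) :
    φ G' (x ≫ f) = φ G x ≫ (EtZar.resZar X).map f := by
  apply ((adjB X).homEquiv _ ((EtZar.resZar X).obj G')).injective
  rw [Adjunction.homEquiv_naturality_right]
  refine (homEquiv_φ G' (x ≫ f)).trans ?_
  rw [Adjunction.homEquiv_naturality_right]
  exact congrArg (fun m => m ≫ f.hom.app (op ((EtZar.zarToEt X).obj ⊤))) (homEquiv_φ G x).symm

theorem main (G : EtCoh.Ab X) (hG : Acyc G) (i : ℕ) :
    Nonempty (EtCoh.H X G i ≃+ EtZar.H ((EtZar.resZar X).obj G) i) := by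
  refine Groth.Agent.H1.ExtShift.nonempty_ext_addEquiv (EtZar.resZar X) (ZA X) (ZB X) φ
    (fun f x => hφ f x) (fun G => Acyc G) ?_ i G hG
  intro G hG
  let Sc : ShortComplex (EtCoh.Ab X) :=
    ShortComplex.mk (Injective.ι G) (cokernel.π (Injective.ι G)) (cokernel.condition _)
  have hSc : Sc.ShortExact :=
    { exact := ShortComplex.exact_cokernel (Injective.ι G)
      mono_f := inferInstanceAs (Mono (Injective.ι G))
      epi_g := inferInstanceAs (Epi (cokernel.π (Injective.ι G))) }
  have hinj : Injective Sc.X₂ := inferInstanceAs (Injective (Injective.under G))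
  have hinj' : Injective ((EtZar.resZar X).obj (Injective.under G)) :=
    injective_resZar (Injective.under G)
  exact ⟨Injective.under G, cokernel (Injective.ι G), Injective.ι G, cokernel.π (Injective.ι G),
    cokernel.condition _, hSc, resZar_shortExact hSc hG, inferInstance,
    acyc_quotient hSc hG, fun n x => @Ext.eq_zero_of_injective _ _ _ _ _ _ _ hinj' x⟩

end Groth.Agent.H1.EtZarLeray
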