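import Mathlib
import Groth.Agent.Lib.Helper1.ExtCompare

/-!
# Comparison of `Ext` along an adjunction with exact left adjoint, on acyclic objects (helper1)

`L ⊣ p` with `L` exact.  `Ψ : Ext^n(P, p G) → Ext^n(L P, G)`, `x ↦ L(x) ≫ counit`.  If `𝒞` is a class
of objects of `A` such that for `G ∈ 𝒞` the cokernel `Q` of `G ⟶ I(G)` is in `𝒞` and
`0 ⟶ p G ⟶ p I(G) ⟶ p Q ⟶ 0` is short exact, then `Ψ` is bijective on `𝒞` in all degrees
(collapse of the Leray spectral sequence for `p`-acyclic objects).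
-/

set_option autoImplicit false
set_option linter.unusedSectionVars false

namespace Groth.Agent.H1.ExtAcyc

open CategoryTheory Limits Abelian Groth.Agent.H1.ExtCompare

universe w w' v u v' u'

variable {A : Type u} [Category.{v} A] [Abelian A] [HasExt.{w} A]
  {B : Type u'} [Category.{v'} B] [Abelian B] [HasExt.{w'} B]
  {L : B ⥤ A} {p : A ⥤ B} (adj : L ⊣ p)
  [L.Additive] [PreservesFiniteLimits L] [PreservesFiniteColimits L] [p.Additive]

/-- the comparison map `Ext^n(P, p F) → Ext^n(L P, F)` -/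
noncomputable def Ψ (P : B) (F : A) (n : ℕ) (x : Ext.{w'} P (p.obj F) n) : Ext.{w} (L.obj P) F n :=
  (x.mapExactFunctor L).comp (Ext.mk₀ (adj.counit.app F)) (add_zero n)

lemma Ψ_add (P : B) (F : A) (n : ℕ) (x y : Ext.{w'} P (p.obj F) n) :
    Ψ adj P F n (x + y) = Ψ adj P F n x + Ψ adj P F n y := by
  simp only [Ψ, Ext.mapExactFunctor_add, Ext.add_comp]

/-- `Ψ` as an additive map -/
noncomputable def ΨHom (P : B) (F : A) (n : ℕ) : Ext.{w'} P (p.obj F) n →+ Ext.{w} (L.obj P) F n :=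
  AddMonoidHom.mk' (Ψ adj P F n) (Ψ_add adj P F n)

lemma ΨHom_apply (P : B) (F : A) (n : ℕ) (x : Ext.{w'} P (p.obj F) n) :
    ΨHom adj P F n x = Ψ adj P F n x := rfl

lemma Ψ_zero (P : B) (F : A) (n : ℕ) : Ψ adj P F n 0 = 0 := (ΨHom adj P F n).map_zero

lemma Ψ_comp_mk₀ (P : B) {F F' : A} (n : ℕ) (x : Ext.{w'} P (p.obj F) n) (f : F ⟶ F') :
    Ψ adj P F' n (x.comp (Ext.mk₀ (p.map f)) (add_zero n)) =
      (Ψ adj P F n x).comp (Ext.mk₀ f) (add_zero n) := by
  unfold Ψ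
  rw [Ext.mapExactFunctor_comp, Ext.mapExactFunctor_mk₀, Ext.comp_assoc_of_third_deg_zero,
    Ext.mk₀_comp_mk₀, Ext.comp_assoc_of_third_deg_zero, Ext.mk₀_comp_mk₀]
  have h : L.map (p.map f) ≫ adj.counit.app F' = adj.counit.app F ≫ f := adj.counit.naturality f
  rw [h]

/-- the counit as a morphism of short complexes -/
def counitSC (S : ShortComplex A) : (S.map p).map L ⟶ S where
  τ₁ := adj.counit.app _
  τ₂ := adj.counit.app _
  τ₃ := adj.counit.app _
  comm₁₂ := (adj.counit.naturality S.f).symm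
  comm₂₃ := (adj.counit.naturality S.g).symm

lemma map_comp_extClass_gen {P : B} {T : ShortComplex B} (hT : T.ShortExact)
    {S : ShortComplex A} (hS : S.ShortExact) (φ : T.map L ⟶ S) (n : ℕ) (x : Ext.{w'} P T.X₃ n) :
    ((x.comp hT.extClass rfl).mapExactFunctor L).comp (Ext.mk₀ φ.τ₁) (add_zero (n + 1)) =
      ((x.mapExactFunctor L).comp (Ext.mk₀ φ.τ₃) (add_zero n)).comp hS.extClass rfl := by
  have nat : (hT.map_of_exact L).extClass.comp (Ext.mk₀ φ.τ₁) (add_zero 1) =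
      (Ext.mk₀ φ.τ₃).comp hS.extClass (zero_add 1) :=
    ShortComplex.ShortExact.extClass_naturality (hT.map_of_exact L) hS φ
  rw [Ext.mapExactFunctor_comp, Ext.mapExactFunctor_extClass]
  calc ((x.mapExactFunctor L).comp (hT.map_of_exact L).extClass rfl).comp
          (Ext.mk₀ φ.τ₁) (add_zero (n + 1))
      = (x.mapExactFunctor L).comp ((hT.map_of_exact L).extClass.comp
          (Ext.mk₀ φ.τ₁) (add_zero 1)) rfl :=
        Ext.comp_assoc_of_third_deg_zero _ _ _ _
    _ = (x.mapExactFunctor L).comp ((Ext.mk₀ φ.τ₃).comp hS.extClass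
          (zero_add 1)) rfl := congrArg (fun y => (x.mapExactFunctor L).comp y rfl) nat
    _ = ((x.mapExactFunctor L).comp (Ext.mk₀ φ.τ₃) (add_zero n)).comp
          hS.extClass rfl := (Ext.comp_assoc_of_second_deg_zero _ _ _ _).symm

lemma Ψ_comp_extClass (P : B) {S : ShortComplex A} (hS : S.ShortExact)
    (hpS : (S.map p).ShortExact) (n : ℕ) (x : Ext.{w'} P (S.map p).X₃ n) :
    Ψ adj P S.X₁ (n + 1) (x.comp hpS.extClass rfl) = (Ψ adj P S.X₃ n x).comp hS.extClass rfl :=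
  map_comp_extClass_gen hpS hS (counitSC adj S) n x

lemma Ψ_mk₀ (P : B) (F : A) (f : P ⟶ p.obj F) :
    Ψ adj P F 0 (Ext.mk₀ f) = Ext.mk₀ (L.map f ≫ adj.counit.app F) := by
  unfold Ψ
  rw [Ext.mapExactFunctor_mk₀, Ext.mk₀_comp_mk₀]

lemma Ψ_zero_bijective (P : B) (F : A) : Function.Bijective (Ψ adj P F 0) := by
  have h : ∀ f : P ⟶ p.obj F, Ψ adj P F 0 (Ext.mk₀ f) = Ext.mk₀ ((adj.homEquiv P F).symm f) := by
    intro f
    rw [Ψ_mk₀, Adjunction.homEquiv_counit]
  constructor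
  · intro x y hxy
    obtain ⟨f, rfl⟩ := (Ext.mk₀_bijective _ _).2 x
    obtain ⟨g, rfl⟩ := (Ext.mk₀_bijective _ _).2 y
    rw [h, h] at hxy
    have h1 := (Ext.mk₀_bijective _ _).1 hxy
    rw [(adj.homEquiv P F).symm.injective h1]
  · intro y
    obtain ⟨g, rfl⟩ := (Ext.mk₀_bijective _ _).2 y
    exact ⟨Ext.mk₀ (adj.homEquiv P F g), by rw [h, Equiv.symm_apply_apply]⟩

/-- **Collapse of the Leray spectral sequence on acyclic objects.** -/
theorem Ψ_bijective [EnoughInjectives A] (𝒞 : A → Prop)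
    (hstep : ∀ G, 𝒞 G → 𝒞 (injSeq G).X₃ ∧ ((injSeq G).map p).ShortExact) :
    ∀ (n : ℕ) (G : A), 𝒞 G → ∀ P : B, Function.Bijective (Ψ adj P G n) := by
  intro n
  induction n with
  | zero => exact fun G _ P => Ψ_zero_bijective adj P G
  | succ n ih =>
    intro G hG P
    obtain ⟨S, hS, hSI, hSG, hQ, hpS⟩ : ∃ (S : ShortComplex A) (_ : S.ShortExact)
        (_ : Injective S.X₂), S.X₁ = G ∧ 𝒞 S.X₃ ∧ (S.map p).ShortExact :=
      ⟨injSeq G, injSeq_shortExact G, inferInstanceAs (Injective (Injective.under G)), rfl,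
        (hstep G hG).1, (hstep G hG).2⟩
    subst hSG
    haveI : L.PreservesMonomorphisms := inferInstance
    haveI hpI : Injective (p.obj S.X₂) := adj.map_injective _ hSI
    have hJ : Function.Surjective (Ψ adj P S.X₂ n) := by
      cases n with
      | zero => exact (Ψ_zero_bijective adj P S.X₂).2
      | succ m =>
        intro y
        exact ⟨0, by rw [Ψ_zero]; exact (Ext.eq_zero_of_injective y).symm⟩
    constructor
    · intro x₁ x₂ hx
      have hx0 : Ψ adj P S.X₁ (n + 1) (x₁ - x₂) = 0 := by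
        have := (ΨHom adj P S.X₁ (n + 1)).map_sub x₁ x₂
        rw [ΨHom_apply, ΨHom_apply, ΨHom_apply, hx, sub_self] at this
        exact this
      suffices hz : ∀ x : Ext.{w'} P (p.obj S.X₁) (n + 1), Ψ adj P S.X₁ (n + 1) x = 0 → x = 0 from
        sub_eq_zero.1 (hz _ hx0)
      intro x hx
      change Ext.{w'} P (S.map p).X₁ (n + 1) at x
      obtain ⟨y, rfl⟩ := Ext.covariant_sequence_exact₁ P hpS x
        (@Ext.eq_zero_of_injective _ _ _ _ _ _ _ hpI _) (rfl : n + 1 = n + 1)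
      have hx' : Ψ adj P S.X₁ (n + 1) (y.comp hpS.extClass rfl) = 0 := hx
      have hx'' : (Ψ adj P S.X₃ n y).comp hS.extClass rfl = 0 :=
        (Ψ_comp_extClass adj P hS hpS n y).symm.trans hx'
      obtain ⟨z, hz⟩ := Ext.covariant_sequence_exact₃ (L.obj P) hS (Ψ adj P S.X₃ n y) rfl hx''
      obtain ⟨w, rfl⟩ := hJ z
      have h1 : Ψ adj P S.X₃ n (w.comp (Ext.mk₀ (p.map S.g)) (add_zero n)) = Ψ adj P S.X₃ n y := by
        rw [Ψ_comp_mk₀]; exact hz
      have h2 := (ih S.X₃ hQ P).1 h1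
      rw [← h2]
      have h4 : ∀ w' : Ext.{w'} P (S.map p).X₂ n,
          (w'.comp (Ext.mk₀ (S.map p).g) (add_zero n)).comp hpS.extClass rfl = 0 := by
        intro w'
        rw [Ext.comp_assoc_of_second_deg_zero, hpS.comp_extClass, Ext.comp_zero]
      exact h4 w
    · intro x'
      obtain ⟨y', rfl⟩ := Ext.covariant_sequence_exact₁ (L.obj P) hS x'
        (Ext.eq_zero_of_injective _) (rfl : n + 1 = n + 1)
      obtain ⟨y, rfl⟩ := (ih S.X₃ hQ P).2 y'
      exact ⟨y.comp hpS.extClass rfl, Ψ_comp_extClass adj P hS hpS n y⟩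

end Groth.Agent.H1.ExtAcyc
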