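import Mathlib
import Groth.Agent.Lib.Helper27.DeltaF

/-!
# Naturality of maps on `Ext` induced by exact functors with respect to natural transformations

`ExtOp F` packages a family of maps `Ext X Y n → Ext (F X) (F Y) n` compatible with `mk₀`, composition
and extension classes.  Exact functors give such operations (`ExtOp.ofExact`), and operations compose.
Main result `ExtOp.naturality`: for `τ : F ⟶ G`, `T₁ e ≫ τ_Y = τ_X ≫ T₂ e` in `Ext`.
-/

set_option autoImplicit false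
set_option linter.unusedSectionVars false

namespace Groth.Agent.H1.ExtNat

open CategoryTheory Limits Abelian Groth.Agent.Lib.helper27

universe w w' w'' v u v' u' v'' u''

variable {C : Type u} [Category.{v} C] [Abelian C] [HasExt.{w} C]
  {D : Type u'} [Category.{v'} D] [Abelian D] [HasExt.{w'} D]
  {E : Type u''} [Category.{v''} E] [Abelian E] [HasExt.{w''} E]

/-- an operation on `Ext`-groups over a functor -/
structure ExtOp (F : C ⥤ D) [F.PreservesZeroMorphisms] where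
  map : ∀ {X Y : C} {n : ℕ}, Ext.{w} X Y n → Ext.{w'} (F.obj X) (F.obj Y) n
  map_mk₀ : ∀ {X Y : C} (f : X ⟶ Y), map (Ext.mk₀ f) = Ext.mk₀ (F.map f)
  map_comp : ∀ {X Y Z : C} {a b c : ℕ} (α : Ext.{w} X Y a) (β : Ext.{w} Y Z b) (h : a + b = c),
    map (α.comp β h) = (map α).comp (map β) h
  map_extClass : ∀ {S : ShortComplex C} (hS : S.ShortExact),
    ∃ hS' : (S.map F).ShortExact, map hS.extClass = hS'.extClass

namespace ExtOp

/-- the operation of an exact functor -/
noncomputable def ofExact (F : C ⥤ D) [F.Additive] [PreservesFiniteLimits F]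
    [PreservesFiniteColimits F] : ExtOp.{w, w'} F where
  map e := e.mapExactFunctor F
  map_mk₀ f := Ext.mapExactFunctor_mk₀ F f
  map_comp α β h := Ext.mapExactFunctor_comp F α β h
  map_extClass hS := ⟨hS.map_of_exact F, Ext.mapExactFunctor_extClass F hS⟩

/-- the identity operation -/
def id : ExtOp.{w, w} (𝟭 C) where
  map e := e
  map_mk₀ _ := rfl
  map_comp _ _ _ := rfl
  map_extClass hS := ⟨hS, rfl⟩

/-- composition of operations -/
def comp {F : C ⥤ D} {G : D ⥤ E} [F.PreservesZeroMorphisms] [G.PreservesZeroMorphisms] (T₁ : ExtOp.{w, w'} F) (T₂ : ExtOp.{w', w''} G) :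
    ExtOp.{w, w''} (F ⋙ G) where
  map e := T₂.map (T₁.map e)
  map_mk₀ f := by rw [T₁.map_mk₀, T₂.map_mk₀]; rfl
  map_comp α β h := by rw [T₁.map_comp, T₂.map_comp]
  map_extClass hS := by
    obtain ⟨h1, e1⟩ := T₁.map_extClass hS
    obtain ⟨h2, e2⟩ := T₂.map_extClass h1
    exact ⟨h2, (congrArg (fun x => T₂.map x) e1).trans e2⟩

variable {F G : C ⥤ D} [F.PreservesZeroMorphisms] [G.PreservesZeroMorphisms] (T₁ : ExtOp.{w, w'} F) (T₂ : ExtOp.{w, w'} G) (τ : F ⟶ G)

/-- the morphism of short complexes induced by a natural transformation -/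
def mapSC (S : ShortComplex C) : S.map F ⟶ S.map G where
  τ₁ := τ.app _
  τ₂ := τ.app _
  τ₃ := τ.app _
  comm₁₂ := (τ.naturality S.f).symm
  comm₂₃ := (τ.naturality S.g).symm

theorem naturality [EnoughInjectives C] : ∀ (n : ℕ) {X Y : C} (e : Ext.{w} X Y n),
    (T₁.map e).comp (Ext.mk₀ (τ.app Y)) (add_zero n) =
      (Ext.mk₀ (τ.app X)).comp (T₂.map e) (zero_add n) := by
  intro n
  induction n with
  | zero =>
    intro X Y e
    obtain ⟨f, rfl⟩ := (Ext.mk₀_bijective _ _).2 e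
    rw [T₁.map_mk₀, T₂.map_mk₀, Ext.mk₀_comp_mk₀, Ext.mk₀_comp_mk₀, τ.naturality]
  | succ n ih =>
    intro X Y e
    have hS : (cokerSES (Injective.ι Y)).ShortExact := cokerSES_shortExact _
    have hI : Injective (cokerSES (Injective.ι Y)).X₂ :=
      inferInstanceAs (Injective (Injective.under Y))
    obtain ⟨S, hS', hSI, hSY⟩ : ∃ (S : ShortComplex C) (_ : S.ShortExact) (_ : Injective S.X₂),
        S.X₁ = Y := ⟨_, hS, hI, rfl⟩
    subst hSY
    obtain ⟨e', rfl⟩ := Ext.covariant_sequence_exact₁ X hS' e (Ext.eq_zero_of_injective _) rfl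
    obtain ⟨h1, e1⟩ := T₁.map_extClass hS'
    obtain ⟨h2, e2⟩ := T₂.map_extClass hS'
    have nat : h1.extClass.comp (Ext.mk₀ (τ.app S.X₁)) (add_zero 1) =
        (Ext.mk₀ (τ.app S.X₃)).comp h2.extClass (zero_add 1) :=
      ShortComplex.ShortExact.extClass_naturality h1 h2 (mapSC τ S)
    have ih' := ih e'
    calc (T₁.map (e'.comp hS'.extClass rfl)).comp (Ext.mk₀ (τ.app S.X₁)) (add_zero (n + 1))
        = ((T₁.map e').comp (T₁.map hS'.extClass) rfl).comp (Ext.mk₀ (τ.app S.X₁))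
            (add_zero (n + 1)) := by rw [T₁.map_comp]
      _ = (T₁.map e').comp ((T₁.map hS'.extClass).comp (Ext.mk₀ (τ.app S.X₁)) (add_zero 1)) rfl :=
          Ext.comp_assoc_of_third_deg_zero _ _ _ _
      _ = (T₁.map e').comp ((Ext.mk₀ (τ.app S.X₃)).comp (T₂.map hS'.extClass) (zero_add 1)) rfl := by
          rw [e1, e2]; exact congrArg (fun y => (T₁.map e').comp y rfl) nat
      _ = ((T₁.map e').comp (Ext.mk₀ (τ.app S.X₃)) (add_zero n)).comp (T₂.map hS'.extClass) rfl :=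
          (Ext.comp_assoc_of_second_deg_zero _ _ _ _).symm
      _ = ((Ext.mk₀ (τ.app X)).comp (T₂.map e') (zero_add n)).comp (T₂.map hS'.extClass) rfl := by
          rw [ih']
      _ = (Ext.mk₀ (τ.app X)).comp ((T₂.map e').comp (T₂.map hS'.extClass) rfl) (zero_add (n + 1)) :=
          Ext.comp_assoc _ _ _ (zero_add n) rfl (by omega)
      _ = _ := by rw [T₂.map_comp]

end ExtOp

section Adj

variable {A : Type u} [Category.{v} A] [Abelian A] [HasExt.{w} A] [EnoughInjectives A]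
  {B : Type u'} [Category.{v'} B] [Abelian B] [HasExt.{w'} B] [EnoughInjectives B]
  {L : B ⥤ A} {p : A ⥤ B} (adj : L ⊣ p)
  [L.Additive] [PreservesFiniteLimits L] [PreservesFiniteColimits L]
  [p.Additive] [PreservesFiniteLimits p] [PreservesFiniteColimits p]

/-- the comparison map `Ext^n(P, p F) → Ext^n(L P, F)` -/
noncomputable def Ψ (P : B) (F : A) (n : ℕ) (x : Ext.{w'} P (p.obj F) n) : Ext.{w} (L.obj P) F n :=
  (x.mapExactFunctor L).comp (Ext.mk₀ (adj.counit.app F)) (add_zero n)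

/-- the inverse comparison map `Ext^n(L P, F) → Ext^n(P, p F)` -/
noncomputable def Ψinv (P : B) (F : A) (n : ℕ) (y : Ext.{w} (L.obj P) F n) :
    Ext.{w'} P (p.obj F) n :=
  (Ext.mk₀ (adj.unit.app P)).comp (y.mapExactFunctor p) (zero_add n)

lemma Ψ_add (P : B) (F : A) (n : ℕ) (x y : Ext.{w'} P (p.obj F) n) :
    Ψ adj P F n (x + y) = Ψ adj P F n x + Ψ adj P F n y := by
  simp only [Ψ, Ext.mapExactFunctor_add, Ext.add_comp]

/-- `Ψ` as an additive map -/
noncomputable def ΨHom (P : B) (F : A) (n : ℕ) : Ext.{w'} P (p.obj F) n →+ Ext.{w} (L.obj P) F n :=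
  AddMonoidHom.mk' (Ψ adj P F n) (Ψ_add adj P F n)

lemma Ψ_zero (P : B) (F : A) (n : ℕ) : Ψ adj P F n 0 = 0 := (ΨHom adj P F n).map_zero

lemma Ψ_neg (P : B) (F : A) (n : ℕ) (x : Ext.{w'} P (p.obj F) n) :
    Ψ adj P F n (-x) = -Ψ adj P F n x := (ΨHom adj P F n).map_neg x

lemma Ψ_sub (P : B) (F : A) (n : ℕ) (x y : Ext.{w'} P (p.obj F) n) :
    Ψ adj P F n (x - y) = Ψ adj P F n x - Ψ adj P F n y := (ΨHom adj P F n).map_sub x y

lemma counit_naturality {F F' : A} {m : ℕ} (e : Ext.{w} F F' m) :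
    ((e.mapExactFunctor p).mapExactFunctor L).comp (Ext.mk₀ (adj.counit.app F')) (add_zero m) =
      (Ext.mk₀ (adj.counit.app F)).comp e (zero_add m) :=
  ExtOp.naturality ((ExtOp.ofExact p).comp (ExtOp.ofExact L)) ExtOp.id adj.counit m e

lemma unit_naturality {P P' : B} {m : ℕ} (e : Ext.{w'} P P' m) :
    e.comp (Ext.mk₀ (adj.unit.app P')) (add_zero m) =
      (Ext.mk₀ (adj.unit.app P)).comp ((e.mapExactFunctor L).mapExactFunctor p) (zero_add m) :=
  ExtOp.naturality ExtOp.id ((ExtOp.ofExact L).comp (ExtOp.ofExact p)) adj.unit m e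

/-- `Ψ` is natural with respect to composition with `Ext`-classes in the second variable -/
lemma Ψ_comp (P : B) {F F' : A} {n m k : ℕ} (x : Ext.{w'} P (p.obj F) n) (e : Ext.{w} F F' m)
    (h : n + m = k) :
    Ψ adj P F' k (x.comp (e.mapExactFunctor p) h) = (Ψ adj P F n x).comp e h := by
  unfold Ψ
  rw [Ext.mapExactFunctor_comp, Ext.comp_assoc_of_third_deg_zero, counit_naturality,
    ← Ext.comp_assoc_of_second_deg_zero]

lemma Ψ_mk₀ (P : B) (F : A) (f : P ⟶ p.obj F) :
    Ψ adj P F 0 (Ext.mk₀ f) = Ext.mk₀ (L.map f ≫ adj.counit.app F) := by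
  unfold Ψ
  rw [Ext.mapExactFunctor_mk₀, Ext.mk₀_comp_mk₀]

lemma Ψinv_Ψ (P : B) (F : A) (n : ℕ) (x : Ext.{w'} P (p.obj F) n) :
    Ψinv adj P F n (Ψ adj P F n x) = x := by
  unfold Ψ Ψinv
  rw [Ext.mapExactFunctor_comp, Ext.mapExactFunctor_mk₀, ← Ext.comp_assoc_of_third_deg_zero,
    ← unit_naturality, Ext.comp_assoc_of_third_deg_zero, Ext.mk₀_comp_mk₀,
    adj.right_triangle_components, Ext.comp_mk₀_id]

lemma Ψ_Ψinv (P : B) (F : A) (n : ℕ) (y : Ext.{w} (L.obj P) F n) :
    Ψ adj P F n (Ψinv adj P F n y) = y := by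
  unfold Ψ Ψinv
  rw [Ext.mapExactFunctor_comp, Ext.mapExactFunctor_mk₀, Ext.comp_assoc_of_third_deg_zero,
    counit_naturality, ← Ext.comp_assoc_of_second_deg_zero, Ext.mk₀_comp_mk₀,
    adj.left_triangle_components, Ext.mk₀_id_comp]

lemma Ψ_injective (P : B) (F : A) (n : ℕ) : Function.Injective (Ψ adj P F n) :=
  Function.LeftInverse.injective (Ψinv_Ψ adj P F n)

lemma Ψ_surjective (P : B) (F : A) (n : ℕ) : Function.Surjective (Ψ adj P F n) :=
  Function.RightInverse.surjective (Ψ_Ψinv adj P F n)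

end Adj

end Groth.Agent.H1.ExtNat
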