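import Mathlib

set_option autoImplicit false
universe u

namespace Groth.Agent.H1.ExtPowBC

open TensorProduct

section Concrete

variable (A B : Type u) [CommRing A] [CommRing B] [Algebra A B]
variable (M : Type u) [AddCommGroup M] [Module A M]

/-- base change of `ι` -/
noncomputable def ιBC : B ⊗[A] M →ₗ[B] B ⊗[A] ExteriorAlgebra A M :=
  (ExteriorAlgebra.ι A).baseChange B

theorem ιBC_tmul (b : B) (m : M) :
    ιBC A B M (b ⊗ₜ m) = b ⊗ₜ ExteriorAlgebra.ι A m := by
  simp [ιBC]

theorem ιBC_swap (x y : B ⊗[A] M) :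
    ιBC A B M x * ιBC A B M y + ιBC A B M y * ιBC A B M x = 0 := by
  induction x using TensorProduct.induction_on with
  | zero => simp
  | tmul b m =>
    induction y using TensorProduct.induction_on with
    | zero => simp
    | tmul b' m' =>
      rw [ιBC_tmul, ιBC_tmul, Algebra.TensorProduct.tmul_mul_tmul,
        Algebra.TensorProduct.tmul_mul_tmul, mul_comm b' b, ← tmul_add,
        ExteriorAlgebra.ι_add_mul_swap, tmul_zero]
    | add y₁ y₂ h₁ h₂ =>
      rw [map_add, mul_add, add_mul, add_add_add_comm, h₁, h₂, add_zero]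
  | add x₁ x₂ h₁ h₂ =>
    rw [map_add, add_mul, mul_add, add_add_add_comm, h₁, h₂, add_zero]

theorem ιBC_sq (x : B ⊗[A] M) : ιBC A B M x * ιBC A B M x = 0 := by
  induction x using TensorProduct.induction_on with
  | zero => simp
  | tmul b m =>
    rw [ιBC_tmul, Algebra.TensorProduct.tmul_mul_tmul, ExteriorAlgebra.ι_sq_zero, tmul_zero]
  | add x y hx hy =>
    rw [map_add, add_mul, mul_add, mul_add, hx, hy, zero_add, add_zero, add_comm, ιBC_swap]

/-- the comparison algebra map -/
noncomputable def Φ : ExteriorAlgebra B (B ⊗[A] M) →ₐ[B] B ⊗[A] ExteriorAlgebra A M :=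
  ExteriorAlgebra.lift B ⟨ιBC A B M, ιBC_sq A B M⟩

theorem Φ_ι (x : B ⊗[A] M) : Φ A B M (ExteriorAlgebra.ι B x) = ιBC A B M x := by
  simp [Φ]

end Concrete

section General

variable {A B : Type u} [CommRing A] [CommRing B] [Algebra A B]
variable {M : Type u} [AddCommGroup M] [Module A M]
variable {N : Type u} [AddCommGroup N] [Module A N] [Module B N] [IsScalarTower A B N]

theorem comp_update (f : M →ₗ[A] N) {n : ℕ} (m : Fin n → M) (i : Fin n) (z : M) :
    (fun j => f (Function.update m i z j)) = Function.update (fun j => f (m j)) i (f z) := by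
  funext j
  by_cases h : j = i
  · subst h; simp
  · simp [Function.update_of_ne h]

/-- the `A`-alternating map `m ↦ f m₁ ∧ ⋯ ∧ f mₙ` -/
noncomputable def altBC (n : ℕ) (f : M →ₗ[A] N) : M [⋀^Fin n]→ₗ[A] (⋀[B]^n N) where
  toFun m := exteriorPower.ιMulti B n (fun i => f (m i))
  map_update_add' := by
    intro _ m i x y
    have e : ‹DecidableEq (Fin n)› = instDecidableEqFin n := Subsingleton.elim _ _
    subst e
    rw [comp_update, comp_update, comp_update, map_add, AlternatingMap.map_update_add]
  map_update_smul' := by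
    intro _ m i c x
    have e : ‹DecidableEq (Fin n)› = instDecidableEqFin n := Subsingleton.elim _ _
    subst e
    rw [comp_update, comp_update, map_smul, ← algebraMap_smul B c (f x),
      AlternatingMap.map_update_smul, algebraMap_smul]
  map_eq_zero_of_eq' := fun m i j h hij =>
    (exteriorPower.ιMulti B n).map_eq_zero_of_eq _ (by simp [h]) hij

/-- functoriality of exterior powers along a base-change-type map -/
noncomputable def bcMap (n : ℕ) (f : M →ₗ[A] N) : ⋀[A]^n M →ₗ[A] ⋀[B]^n N :=
  exteriorPower.alternatingMapLinearEquiv (altBC n f)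

theorem bcMap_ιMulti (n : ℕ) (f : M →ₗ[A] N) (m : Fin n → M) :
    bcMap n f (exteriorPower.ιMulti A n m) = exteriorPower.ιMulti B n (fun i => f (m i)) := by
  rw [bcMap, exteriorPower.alternatingMapLinearEquiv_apply_ιMulti]
  rfl

end General

section Main

variable (A B : Type u) [CommRing A] [CommRing B] [Algebra A B]
variable (M : Type u) [AddCommGroup M] [Module A M]

/-- the canonical map `m ↦ 1 ⊗ m` -/
noncomputable abbrev f₀ : M →ₗ[A] B ⊗[A] M := TensorProduct.mk A B M 1

/-- the comparison map -/
noncomputable def L (n : ℕ) : B ⊗[A] (⋀[A]^n M) →ₗ[B] ⋀[B]^n (B ⊗[A] M) :=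
  (bcMap n (f₀ A B M)).liftBaseChange B

theorem L_tmul (n : ℕ) (b : B) (m : Fin n → M) :
    L A B M n (b ⊗ₜ exteriorPower.ιMulti A n m) =
      b • exteriorPower.ιMulti B n (fun i => (1 : B) ⊗ₜ[A] m i) := by
  rw [L, LinearMap.liftBaseChange_tmul, bcMap_ιMulti]
  rfl

/-- the linear projection of the exterior algebra to its degree `n` part -/
noncomputable def proj (n : ℕ) : ExteriorAlgebra A M →ₗ[A] ⋀[A]^n M :=
  (DirectSum.component A ℕ (fun i => ⋀[A]^i M) n).comp
    (DirectSum.decomposeLinearEquiv (fun i => ⋀[A]^i M)).toLinearMap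

theorem proj_subtype (n : ℕ) : (proj A M n).comp (⋀[A]^n M).subtype = LinearMap.id := by
  refine LinearMap.ext fun x => ?_
  simp only [proj, LinearMap.coe_comp, Function.comp_apply, Submodule.subtype_apply,
    LinearEquiv.coe_coe, DirectSum.decomposeLinearEquiv_apply, LinearMap.id_coe, id_eq]
  rw [DirectSum.decompose_coe, ← DirectSum.apply_eq_component, DirectSum.of_eq_same]

theorem key (n : ℕ) :
    ((Φ A B M).toLinearMap.comp ((⋀[B]^n (B ⊗[A] M)).subtype)).comp (L A B M n) =
      ((⋀[A]^n M).subtype).baseChange B := by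
  apply TensorProduct.AlgebraTensorModule.curry_injective
  apply LinearMap.ext
  intro b
  apply exteriorPower.linearMap_ext
  ext m
  change Φ A B M ((L A B M n (b ⊗ₜ exteriorPower.ιMulti A n m) : _) : ExteriorAlgebra B _) =
    b ⊗ₜ ((exteriorPower.ιMulti A n m : ⋀[A]^n M) : ExteriorAlgebra A M)
  rw [L_tmul, Submodule.coe_smul, map_smul, exteriorPower.ιMulti_apply_coe,
    exteriorPower.ιMulti_apply_coe, ExteriorAlgebra.ιMulti_apply, ExteriorAlgebra.ιMulti_apply,
    map_list_prod, List.map_ofFn]
  have h1 : (⇑(Φ A B M) ∘ fun i => (ExteriorAlgebra.ι B) ((1 : B) ⊗ₜ[A] m i)) =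
      fun i => (Algebra.TensorProduct.includeRight : ExteriorAlgebra A M →ₐ[A] B ⊗[A] _)
        (ExteriorAlgebra.ι A (m i)) := by
    funext i
    simp only [Function.comp_apply, Φ_ι, ιBC_tmul, Algebra.TensorProduct.includeRight_apply]
  rw [h1]
  have h2 : (List.ofFn fun i => (Algebra.TensorProduct.includeRight :
      ExteriorAlgebra A M →ₐ[A] B ⊗[A] _) (ExteriorAlgebra.ι A (m i))) =
      List.map (Algebra.TensorProduct.includeRight : ExteriorAlgebra A M →ₐ[A] B ⊗[A] _)
        (List.ofFn fun i => ExteriorAlgebra.ι A (m i)) := by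
    rw [List.map_ofFn]; rfl
  rw [h2, ← map_list_prod, Algebra.TensorProduct.includeRight_apply, TensorProduct.smul_tmul',
    smul_eq_mul, mul_one]

theorem L_injective (n : ℕ) : Function.Injective (L A B M n) := by
  have h : Function.Injective (((⋀[A]^n M).subtype).baseChange B) := by
    apply Function.LeftInverse.injective (g := (proj A M n).baseChange B)
    intro x
    rw [← LinearMap.comp_apply, ← LinearMap.baseChange_comp, proj_subtype,
      LinearMap.baseChange_id, LinearMap.id_apply]
  rw [← key, LinearMap.coe_comp] at h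
  exact Function.Injective.of_comp h

theorem span_range_f₀ : Submodule.span B (Set.range (f₀ A B M)) = ⊤ := by
  rw [eq_top_iff]
  rintro x -
  induction x using TensorProduct.induction_on with
  | zero => exact Submodule.zero_mem _
  | tmul b m =>
    have : b ⊗ₜ[A] m = b • (f₀ A B M m) := by
      simp [TensorProduct.smul_tmul']
    rw [this]
    exact Submodule.smul_mem _ _ (Submodule.subset_span ⟨m, rfl⟩)
  | add x y hx hy => exact Submodule.add_mem _ hx hy

theorem L_surjective (n : ℕ) : Function.Surjective (L A B M n) := by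
  rw [← LinearMap.range_eq_top, eq_top_iff,
    ← exteriorPower.ιMulti_span_of_span B n _ (span_range_f₀ A B M), Submodule.span_le]
  rintro _ ⟨a, ha, rfl⟩
  have : ∀ i, ∃ m, f₀ A B M m = a i := fun i => ha ⟨i, rfl⟩
  choose m hm using this
  refine ⟨(1 : B) ⊗ₜ exteriorPower.ιMulti A n m, ?_⟩
  rw [L_tmul, one_smul]
  congr 1
  funext i
  exact hm i

/-- exterior powers commute with base change, concrete form -/
theorem isBaseChange_bcMap_f₀ (n : ℕ) : IsBaseChange B (bcMap (B := B) n (f₀ A B M)) := by
  refine IsBaseChange.of_equiv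
    (LinearEquiv.ofBijective (L A B M n) ⟨L_injective A B M n, L_surjective A B M n⟩) ?_
  intro x
  simp [L]

end Main

section Final

variable {A B : Type u} [CommRing A] [CommRing B] [Algebra A B]
variable {M : Type u} [AddCommGroup M] [Module A M]
variable {N : Type u} [AddCommGroup N] [Module A N] [Module B N] [IsScalarTower A B N]

/-- the equivalence on exterior powers induced by a linear equivalence -/
noncomputable def mapEquiv {P Q : Type u} [AddCommGroup P] [Module B P] [AddCommGroup Q]
    [Module B Q] (n : ℕ) (e : P ≃ₗ[B] Q) : ⋀[B]^n P ≃ₗ[B] ⋀[B]^n Q :=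
  LinearEquiv.ofLinearMap (exteriorPower.map n e.toLinearMap)
    (exteriorPower.map n e.symm.toLinearMap)
    (by rw [← exteriorPower.map_comp]; simp)
    (by rw [← exteriorPower.map_comp]; simp)

/-- **Exterior powers commute with base change.** -/
theorem isBaseChange_bcMap (n : ℕ) {f : M →ₗ[A] N} (hf : IsBaseChange B f) :
    IsBaseChange B (bcMap (B := B) n f) := by
  refine (IsBaseChange.iff_of_equiv_comm (LinearEquiv.refl A _) (mapEquiv n hf.equiv) ?_).mp
    (isBaseChange_bcMap_f₀ A B M n)
  apply exteriorPower.linearMap_ext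
  ext m
  simp only [LinearMap.compAlternatingMap_apply, LinearMap.coe_comp, Function.comp_apply,
    LinearEquiv.coe_coe, LinearEquiv.refl_apply, LinearEquiv.restrictScalars_apply]
  rw [bcMap_ιMulti, bcMap_ιMulti]
  congr 1
  change _ = exteriorPower.map n hf.equiv.toLinearMap _
  rw [exteriorPower.map_apply_ιMulti]
  congr 1
  funext i
  simp

end Final

end Groth.Agent.H1.ExtPowBC
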