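import Groth.Agent.Lib.Helper1.ExtPowBC
import Groth.Agent.Lib.Helper8.PullbackUnit

set_option autoImplicit false
universe u

namespace Groth.Agent.H1.ExtPowSemi

open Groth.Agent.Lib.helper8.PullbackUnit Groth.Agent.H1.ExtPowBC

section

variable {R R' : Type u} [CommRing R] [CommRing R'] (φ : R →+* R') {N P : Type u}
  [AddCommGroup N] [Module R N] [AddCommGroup P] [Module R' P] (k : N →+ P)
  (hk : ∀ (r : R) (n : N), k (r • n) = φ r • k n)

/-- semilinear functoriality of exterior powers -/
noncomputable def extMap (n : ℕ) : ⋀[R]^n N →+ ⋀[R']^n P :=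
  letI : Algebra R R' := φ.toAlgebra
  letI : Module R P := Module.compHom P φ
  haveI : IsScalarTower R R' P := IsScalarTower.of_algebraMap_smul (fun _ _ => rfl)
  (bcMap (B := R') n
    ({ toFun := k, map_add' := k.map_add, map_smul' := hk } : N →ₗ[R] P)).toAddMonoidHom

theorem extMap_ιMulti (n : ℕ) (e : Fin n → N) :
    extMap φ k hk n (exteriorPower.ιMulti R n e) = exteriorPower.ιMulti R' n (fun i => k (e i)) := by
  let _ : Algebra R R' := φ.toAlgebra
  let _ : Module R P := Module.compHom P φ
  have : IsScalarTower R R' P := IsScalarTower.of_algebraMap_smul (fun _ _ => rfl)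
  exact bcMap_ιMulti (B := R') n
    ({ toFun := k, map_add' := k.map_add, map_smul' := hk } : N →ₗ[R] P) e

theorem extMap_smul (n : ℕ) (r : R) (x : ⋀[R]^n N) :
    extMap φ k hk n (r • x) = φ r • extMap φ k hk n x := by
  let _ : Algebra R R' := φ.toAlgebra
  let _ : Module R P := Module.compHom P φ
  have : IsScalarTower R R' P := IsScalarTower.of_algebraMap_smul (fun _ _ => rfl)
  have := (bcMap (B := R') n
    ({ toFun := k, map_add' := k.map_add, map_smul' := hk } : N →ₗ[R] P)).map_smul r x
  exact this.trans (algebraMap_smul R' r _).symm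

end

section

variable {R R' : Type u} [CommRing R] [CommRing R'] {φ : R →+* R'} {N P : Type u}
  [AddCommGroup N] [Module R N] [AddCommGroup P] [Module R' P] {k : N →+ P}

/-- **Exterior powers commute with base change** (explicit ring homomorphism form). -/
theorem isBC_extMap (h : IsBC φ k) (n : ℕ) : IsBC φ (extMap φ k h.map_smul n) := by
  let _ : Algebra R R' := φ.toAlgebra
  let _ : Module R P := Module.compHom P φ
  have : IsScalarTower R R' P := IsScalarTower.of_algebraMap_smul (fun _ _ => rfl)
  let kl : N →ₗ[R] P := { toFun := k, map_add' := k.map_add, map_smul' := h.map_smul }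
  have h1 : IsBaseChange R' kl := IsBC.isBaseChange kl h
  have h2 := isBaseChange_bcMap (B := R') n h1
  exact IsBC.of_isBaseChange _ h2

/-- uniqueness of maps out of a base change, semilinear form -/
theorem addHom_ext (h : IsBC φ k) {R'' : Type u} [CommRing R''] (ρ : R' →+* R'')
    {T : Type u} [AddCommGroup T] [Module R'' T] (a b : P →+ T)
    (ha : ∀ (r : R') (p : P), a (r • p) = ρ r • a p)
    (hb : ∀ (r : R') (p : P), b (r • p) = ρ r • b p)
    (hab : ∀ n, a (k n) = b (k n)) : a = b := by
  let _ : Module R' T := Module.compHom T ρ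
  let al : P →ₗ[R'] T := { toFun := a, map_add' := a.map_add, map_smul' := ha }
  let bl : P →ₗ[R'] T := { toFun := b, map_add' := b.map_add, map_smul' := hb }
  obtain ⟨z, -, hz⟩ := h.existsUnique_lift T (a.comp k) (by
    intro r n
    change a (k (r • n)) = ρ (φ r) • a (k n)
    rw [h.map_smul, ha])
  have e1 : al = z := hz al (fun n => rfl)
  have e2 : bl = z := hz bl (fun n => (hab n).symm)
  have e3 : al = bl := e1.trans e2.symm
  ext p
  exact congr($e3 p)

/-- two base changes of the same module along the same ring map are canonically equivalent -/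
noncomputable def bcEquiv (h : IsBC φ k) {P' : Type u} [AddCommGroup P'] [Module R' P']
    {k' : N →+ P'} (h' : IsBC φ k') : P ≃ₗ[R'] P' :=
  LinearEquiv.ofBijective (h.existsUnique_lift P' k' h'.map_smul).exists.choose
    (h.bijective_of_comp h' _ (h.existsUnique_lift P' k' h'.map_smul).exists.choose_spec)

theorem bcEquiv_apply (h : IsBC φ k) {P' : Type u} [AddCommGroup P'] [Module R' P']
    {k' : N →+ P'} (h' : IsBC φ k') (n : N) : bcEquiv h h' (k n) = k' n :=
  (h.existsUnique_lift P' k' h'.map_smul).exists.choose_spec n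

theorem bcEquiv_symm_apply (h : IsBC φ k) {P' : Type u} [AddCommGroup P'] [Module R' P']
    {k' : N →+ P'} (h' : IsBC φ k') (n : N) : (bcEquiv h h').symm (k' n) = k n := by
  rw [LinearEquiv.symm_apply_eq, bcEquiv_apply]

/-- precomposition of a base change with a semilinear isomorphism of the source -/
theorem precomp_equiv (h : IsBC φ k) {R₀ N₀ : Type u} [CommRing R₀] [AddCommGroup N₀]
    [Module R₀ N₀] (σ : R₀ ≃+* R) (eN : N₀ ≃+ N) (hσ : ∀ (r : R₀) (n : N₀), eN (r • n) = σ r • eN n) :
    IsBC (φ.comp σ.toRingHom) (k.comp eN.toAddMonoidHom) := by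
  have hσ' : ∀ (r : R) (n : N), eN.symm (r • n) = σ.symm r • eN.symm n := by
    intro r n
    apply eN.injective
    rw [hσ]
    simp
  constructor
  · intro r n
    change k (eN (r • n)) = φ (σ r) • k (eN n)
    rw [hσ, h.map_smul]
  · intro T _ _ g hg
    obtain ⟨z, hz, hu⟩ := h.existsUnique_lift T (g.comp eN.symm.toAddMonoidHom) (by
      intro r n
      change g (eN.symm (r • n)) = φ r • g (eN.symm n)
      rw [hσ', hg]
      change φ (σ (σ.symm r)) • _ = _
      rw [RingEquiv.apply_symm_apply])
    refine ⟨z, ?_, ?_⟩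
    · intro n
      change z (k (eN n)) = g n
      rw [hz]
      change g (eN.symm (eN n)) = g n
      rw [AddEquiv.symm_apply_apply]
    · intro z' hz'
      apply hu
      intro n
      change z' (k n) = g (eN.symm n)
      rw [← hz' (eN.symm n)]
      change z' (k n) = z' (k (eN (eN.symm n)))
      rw [AddEquiv.apply_symm_apply]

end

end Groth.Agent.H1.ExtPowSemi
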