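import Groth.Agent.Lib.Helper8.PullbackUnit

set_option autoImplicit false
universe u

namespace Groth.Agent.H1.ResBC

open CategoryTheory AlgebraicGeometry TopologicalSpace Opposite Scheme.Modules
open Groth.Agent.Lib.helper8.PullbackUnit

variable {X : Scheme.{u}} (F : X.Modules)

/-- restriction of sections as an additive map -/
noncomputable def res {U V : X.Opens} (h : V ≤ U) : Γ(F, U) →+ Γ(F, V) :=
  (F.presheaf.map (homOfLE h).op).hom

theorem unit_id_app {U : X.Opens} (a : Γ(F, U)) :
    (((pullbackId X).hom.app F).app U).hom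
      ((((pullbackPushforwardAdjunction (𝟙 X)).unit.app F).app U).hom a) = a := by
  have h := conjugateEquiv_pullbackId_hom X
  have h2 := congrArg (fun t => (t.app F).app U) h
  simp only [conjugateEquiv_apply_app] at h2
  simp at h2
  exact congr($(h2).hom a)

/-- sections of isomorphic modules are linearly equivalent -/
noncomputable def appEquiv {F G : X.Modules} (ψ : F ≅ G) (V : X.Opens) :
    Γ(F, V) ≃ₗ[Γ(X, V)] Γ(G, V) where
  toFun := (ψ.hom.app V).hom
  invFun := (ψ.inv.app V).hom
  map_add' := map_add _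
  map_smul' r x := Hom.app_smul ψ.hom r x
  left_inv x := by
    have : ψ.hom.app V ≫ ψ.inv.app V = 𝟙 _ := by rw [← Hom.comp_app, ψ.hom_inv_id]; rfl
    exact congr($(this).hom x)
  right_inv x := by
    have : ψ.inv.app V ≫ ψ.hom.app V = 𝟙 _ := by rw [← Hom.comp_app, ψ.inv_hom_id]; rfl
    exact congr($(this).hom x)

/-- **Restriction of a quasi-coherent module between affine opens is a base change.** -/
theorem isBC_res [F.IsQuasicoherent] {U V : X.Opens} (hU : IsAffineOpen U)
    (hV : IsAffineOpen V) (h : V ≤ U) :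
    IsBC (X.presheaf.map (homOfLE h).op).hom (res F h) := by
  have e : V ≤ (𝟙 X) ⁻¹ᵁ U := h
  have h0 := isBC_ρ (𝟙 X) hU hV e F
  have hr : (Scheme.Hom.appLE (𝟙 X) U V e) = X.presheaf.map (homOfLE h).op := by
    rw [Scheme.Hom.appLE, Scheme.Hom.id_app]
    exact Category.id_comp _
  rw [hr] at h0
  refine h0.of_equiv (LinearEquiv.refl _ _) (appEquiv ((pullbackId X).app F).symm V) (res F h) ?_
  intro a
  change (((pullbackId X).inv.app F).app V).hom (F.presheaf.map (homOfLE h).op a) = _
  rw [ρ_apply]
  have h1 := unit_id_app F a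
  have h2 := Groth.Agent.Lib.helper16.QCohEpi.app_map ((pullbackId X).hom.app F) h
    ((((pullbackPushforwardAdjunction (𝟙 X)).unit.app F).app U).hom a)
  rw [h1] at h2
  have h3 : ((pullbackId X).hom.app F).app V ≫ ((pullbackId X).inv.app F).app V = 𝟙 _ := by
    rw [← Hom.comp_app, Iso.hom_inv_id_app]; rfl
  refine (congrArg (((pullbackId X).inv.app F).app V).hom h2.symm).trans ?_
  exact congr($(h3).hom _)

end Groth.Agent.H1.ResBC
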