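import Groth.Agent.Lib.Helper1.ExtPowSemi
import Groth.Agent.Lib.Helper1.ResBC
import Groth.Prelude.Def_ExtPow2

set_option autoImplicit false
universe u

namespace Groth.Agent.H1.ExtPowTilde

open CategoryTheory AlgebraicGeometry TopologicalSpace Opposite Scheme.Modules
open Groth.Agent.Lib.helper8.PullbackUnit Groth.Agent.H1.ExtPowBC Groth.Agent.H1.ExtPowSemi
open Groth.Agent.H1.ResBC

section Algebra

/-- additive semilinear maps out of an exterior power agreeing on pure wedges are equal -/
theorem extPow_addHom_ext {A C : Type u} [CommRing A] [CommRing C] (χ : A →+* C) {M T : Type u}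
    [AddCommGroup M] [Module A M] [AddCommGroup T] [Module C T] {n : ℕ}
    (f g : ⋀[A]^n M →+ T) (hf : ∀ (a : A) x, f (a • x) = χ a • f x)
    (hg : ∀ (a : A) x, g (a • x) = χ a • g x)
    (h : ∀ m : Fin n → M, f (exteriorPower.ιMulti A n m) = g (exteriorPower.ιMulti A n m)) :
    f = g := by
  ext x
  have hx : x ∈ Submodule.span A (Set.range (exteriorPower.ιMulti A n (M := M))) := by
    rw [exteriorPower.ιMulti_span]; trivial
  induction hx using Submodule.span_induction with
  | mem x hx => obtain ⟨m, rfl⟩ := hx; exact h m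
  | zero => rw [map_zero, map_zero]
  | add x y _ _ hx hy => rw [map_add, map_add, hx, hy]
  | smul a x _ hx => rw [hf, hg, hx]

variable {A BU BV : Type u} [CommRing A] [CommRing BU] [CommRing BV]
  {ψU : A →+* BU} {ρ : BU →+* BV}
  {M EU EV LU LV : Type u} [AddCommGroup M] [Module A M] [AddCommGroup EU] [Module BU EU]
  [AddCommGroup EV] [Module BV EV] [AddCommGroup LU] [Module BU LU] [AddCommGroup LV]
  [Module BV LV] {n : ℕ}
  {tEU : M →+ EU} {tEV : M →+ EV} {tLU : ⋀[A]^n M →+ LU} {tLV : ⋀[A]^n M →+ LV}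

/-- the local comparison isomorphism `L ≃ ⋀ⁿ E` -/
noncomputable def phi (hE : IsBC ψU tEU) (hL : IsBC ψU tLU) : LU ≃ₗ[BU] ⋀[BU]^n EU :=
  bcEquiv hL (isBC_extMap hE n)

theorem phi_symm_apply (hE : IsBC ψU tEU) (hL : IsBC ψU tLU) (w : ⋀[A]^n M) :
    (phi hE hL).symm (extMap ψU tEU hE.map_smul n w) = tLU w :=
  bcEquiv_symm_apply hL (isBC_extMap hE n) w

theorem compat (hEU : IsBC ψU tEU) (hEV : IsBC (ρ.comp ψU) tEV) (hLU : IsBC ψU tLU)
    (hLV : IsBC (ρ.comp ψU) tLV)
    (rE : EU →+ EV) (hrE : ∀ (b : BU) x, rE (b • x) = ρ b • rE x) (hrEt : ∀ m, rE (tEU m) = tEV m)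
    (rL : LU →+ LV) (hrL : ∀ (b : BU) x, rL (b • x) = ρ b • rL x) (hrLt : ∀ w, rL (tLU w) = tLV w)
    (e : Fin n → EU) :
    rL ((phi hEU hLU).symm (exteriorPower.ιMulti BU n e)) =
      (phi hEV hLV).symm (exteriorPower.ιMulti BV n (fun i => rE (e i))) := by
  let a : ⋀[BU]^n EU →+ LV := rL.comp (phi hEU hLU).symm.toLinearMap.toAddMonoidHom
  let b : ⋀[BU]^n EU →+ LV :=
    (phi hEV hLV).symm.toLinearMap.toAddMonoidHom.comp (extMap ρ rE hrE n)
  have hab : a = b := by
    refine addHom_ext (isBC_extMap hEU n) ρ a b ?_ ?_ ?_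
    · intro r p
      change rL ((phi hEU hLU).symm (r • p)) = ρ r • rL ((phi hEU hLU).symm p)
      rw [_root_.map_smul, hrL]
    · intro r p
      change (phi hEV hLV).symm (extMap ρ rE hrE n (r • p)) =
        ρ r • (phi hEV hLV).symm (extMap ρ rE hrE n p)
      rw [extMap_smul, _root_.map_smul]
    · intro w
      change rL ((phi hEU hLU).symm (extMap ψU tEU hEU.map_smul n w)) =
        (phi hEV hLV).symm (extMap ρ rE hrE n (extMap ψU tEU hEU.map_smul n w))
      rw [phi_symm_apply, hrLt]
      have h2 : (extMap ρ rE hrE n).comp (extMap ψU tEU hEU.map_smul n) =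
          extMap (ρ.comp ψU) tEV hEV.map_smul n := by
        refine extPow_addHom_ext (ρ.comp ψU) _ _ ?_ ?_ ?_
        · intro a x
          change extMap ρ rE hrE n (extMap ψU tEU hEU.map_smul n (a • x)) = _
          rw [extMap_smul, extMap_smul]; rfl
        · intro a x
          rw [extMap_smul]
        · intro m
          change extMap ρ rE hrE n (extMap ψU tEU hEU.map_smul n _) = _
          rw [extMap_ιMulti, extMap_ιMulti, extMap_ιMulti]
          congr 1
          funext i
          exact hrEt (m i)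
      have h3 : extMap ρ rE hrE n (extMap ψU tEU hEU.map_smul n w) =
          extMap (ρ.comp ψU) tEV hEV.map_smul n w := congr($h2 w)
      rw [h3, phi_symm_apply]
  have := congr($hab (exteriorPower.ιMulti BU n e))
  change rL ((phi hEU hLU).symm _) = (phi hEV hLV).symm (extMap ρ rE hrE n _) at this
  rw [extMap_ιMulti] at this
  exact this

end Algebra

section Tilde

variable {R : CommRingCat.{u}} (M : ModuleCat.{u} R)

/-- `toOpen` as an additive map into sections -/
noncomputable def tO (U : (Spec R).Opens) : M →+ Γ(tilde M, U) :=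
  (tilde.toOpen M U).hom.toAddMonoidHom

theorem tO_smul (U : (Spec R).Opens) (r : R) (m : M) :
    tO M U (r • m) = algebraMap R Γ(Spec R, U) r • tO M U m := by
  have := (tilde.toOpen M U).hom.map_smul r m
  exact this

theorem isBC_tO {U : (Spec R).Opens} (hU : IsAffineOpen U) :
    IsBC (algebraMap R Γ(Spec R, U)) (tO M U) := by
  have h0 := isBC_res (tilde M) (isAffineOpen_top (Spec R)) hU le_top
  let σ : R ≃+* Γ(Spec R, ⊤) := (Scheme.ΓSpecIso R).symm.commRingCatIsoToRingEquiv
  have hbij : Function.Bijective (tO M ⊤) := by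
    have := (ConcreteCategory.isIso_iff_bijective (tilde.toOpen M ⊤)).mp inferInstance
    exact this
  let eN : M ≃+ Γ(tilde M, ⊤) := AddEquiv.ofBijective (tO M ⊤) hbij
  have hσ : ∀ (r : R) (m : M), eN (r • m) = σ r • eN m := by
    intro r m
    change tO M ⊤ (r • m) = _
    rw [tO_smul]
    rfl
  have h1 := precomp_equiv h0 σ eN hσ
  exact h1

theorem algebraMap_comp {U V : (Spec R).Opens} (h : V ≤ U) :
    ((Spec R).presheaf.map (homOfLE h).op).hom.comp (algebraMap R Γ(Spec R, U)) =
      algebraMap R Γ(Spec R, V) := by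
  rw [IsAffineOpen.algebraMap_Spec_obj, IsAffineOpen.algebraMap_Spec_obj,
    ← CommRingCat.hom_comp, Category.assoc, ← Functor.map_comp]
  rfl

theorem res_tO {U V : (Spec R).Opens} (h : V ≤ U) (m : M) :
    res (tilde M) h (tO M U m) = tO M V m := rfl

theorem res_smul {X : Scheme.{u}} (F : X.Modules) {U V : X.Opens} (h : V ≤ U) (b : Γ(X, U))
    (x : Γ(F, U)) :
    res F h (b • x) = (X.presheaf.map (homOfLE h).op).hom b • res F h x :=
  Scheme.Modules.map_smul F (homOfLE h) b x

end Tilde

/-- **`tilde (⋀ⁿ M)` is the `n`-th exterior power of `tilde M`.** -/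
theorem isExtPow_tilde (A : Type u) [CommRing A] (M : Type u) [AddCommGroup M] [Module A M]
    (n : ℕ) :
    ExtPow.IsExtPow n (tilde (R := CommRingCat.of A) (ModuleCat.of A M))
      (tilde (R := CommRingCat.of A) (ModuleCat.of A ↥(⋀[A]^n M))) := by
  refine ⟨fun U => phi (isBC_tO (R := CommRingCat.of A) (ModuleCat.of A M) U.2)
    (isBC_tO (R := CommRingCat.of A) (ModuleCat.of A (⋀[A]^n M)) U.2), ?_⟩
  intro U V h e
  have hEV := isBC_tO (R := CommRingCat.of A) (ModuleCat.of A M) V.2
  have hLV := isBC_tO (R := CommRingCat.of A) (ModuleCat.of A (⋀[A]^n M)) V.2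
  rw [← algebraMap_comp h] at hEV hLV
  exact compat (isBC_tO (R := CommRingCat.of A) (ModuleCat.of A M) U.2) hEV
    (isBC_tO (R := CommRingCat.of A) (ModuleCat.of A (⋀[A]^n M)) U.2) hLV
    (res _ h) (res_smul _ h) (res_tO (R := CommRingCat.of A) (ModuleCat.of A M) h)
    (res _ h) (res_smul _ h)
    (res_tO (R := CommRingCat.of A) (ModuleCat.of A (⋀[A]^n M)) h) e

end Groth.Agent.H1.ExtPowTilde
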