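import Mathlib
import Groth.Prelude.Def_EtBase
import Groth.Prelude.Def_PBC

/-!
# Extension by zero on the small étale site: the universal property (helper1)
-/

set_option autoImplicit false
universe u
open CategoryTheory CategoryTheory.Limits AlgebraicGeometry Opposite

namespace Groth.Agent.H1.ExtZero

variable {X : Scheme.{u}}

/-- `(F, g)` has the universal property of `j_! A` for `j : U → X`: morphisms `F ⟶ G` correspond to
morphisms `A ⟶ G(U)`. -/
def IsExtZero (U : X.Etale) (A : AddCommGrpCat.{u + 1}) (F : EtCoh.Ab X)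
    (g : A ⟶ F.obj.obj (op U)) : Prop :=
  ∀ G : EtCoh.Ab X, Function.Bijective (fun φ : F ⟶ G => g ≫ φ.hom.app (op U))

/-- `j_! A` for a general coefficient group -/
noncomputable abbrev ez (U : X.Etale) (A : AddCommGrpCat.{u + 1}) : EtCoh.Ab X :=
  (EtPBC.extZero U).obj ((constantSheaf (X.smallEtaleTopology.over U) AddCommGrpCat.{u + 1}).obj A)

noncomputable def homEquiv (U : X.Etale) (A : AddCommGrpCat.{u + 1}) (G : EtCoh.Ab X) :
    (ez U A ⟶ G) ≃ (A ⟶ G.obj.obj (op U)) :=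
  ((EtPBC.extZeroAdj U).homEquiv _ _).trans
    ((constantSheafAdj (X.smallEtaleTopology.over U) AddCommGrpCat.{u + 1}
      Over.mkIdTerminal).homEquiv A (G.over U))

/-- the universal section -/
noncomputable def gen (U : X.Etale) (A : AddCommGrpCat.{u + 1}) : A ⟶ (ez U A).obj.obj (op U) :=
  homEquiv U A (ez U A) (𝟙 _)

theorem homEquiv_apply (U : X.Etale) (A : AddCommGrpCat.{u + 1}) (G : EtCoh.Ab X) (φ : ez U A ⟶ G) :
    homEquiv U A G φ = gen U A ≫ φ.hom.app (op U) := by
  have h1 : (EtPBC.extZeroAdj U).homEquiv _ _ φ =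
      (EtPBC.extZeroAdj U).homEquiv _ _ (𝟙 (ez U A)) ≫
        (X.smallEtaleTopology.overPullback AddCommGrpCat.{u + 1} U).map φ := by
    rw [← Adjunction.homEquiv_naturality_right, Category.id_comp]
  change (constantSheafAdj (X.smallEtaleTopology.over U) AddCommGrpCat.{u + 1}
      Over.mkIdTerminal).homEquiv A (G.over U) ((EtPBC.extZeroAdj U).homEquiv _ _ φ) = _
  rw [h1, Adjunction.homEquiv_naturality_right]
  rfl

theorem isExtZero_ez (U : X.Etale) (A : AddCommGrpCat.{u + 1}) :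
    IsExtZero U A (ez U A) (gen U A) := by
  intro G
  have : (fun φ : ez U A ⟶ G => gen U A ≫ φ.hom.app (op U)) = homEquiv U A G := by
    funext φ
    exact (homEquiv_apply U A G φ).symm
  rw [this]
  exact (homEquiv U A G).bijective

namespace IsExtZero

variable {U : X.Etale} {A : AddCommGrpCat.{u + 1}} {F : EtCoh.Ab X} {g : A ⟶ F.obj.obj (op U)}

noncomputable def desc (h : IsExtZero U A F g) {G : EtCoh.Ab X} (a : A ⟶ G.obj.obj (op U)) : F ⟶ G :=
  ((h G).2 a).choose

theorem fac (h : IsExtZero U A F g) {G : EtCoh.Ab X} (a : A ⟶ G.obj.obj (op U)) :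
    g ≫ (h.desc a).hom.app (op U) = a :=
  ((h G).2 a).choose_spec

theorem hom_ext (h : IsExtZero U A F g) {G : EtCoh.Ab X} {φ ψ : F ⟶ G}
    (e : g ≫ φ.hom.app (op U) = g ≫ ψ.hom.app (op U)) : φ = ψ :=
  (h G).1 e

/-- uniqueness of `j_! A` -/
noncomputable def iso (h : IsExtZero U A F g) {F' : EtCoh.Ab X} {g' : A ⟶ F'.obj.obj (op U)}
    (h' : IsExtZero U A F' g') : F ≅ F' where
  hom := h.desc g'
  inv := h'.desc g
  hom_inv_id := by
    apply h.hom_ext
    change g ≫ ((h.desc g').hom.app (op U) ≫ (h'.desc g).hom.app (op U)) = g ≫ 𝟙 _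
    rw [← Category.assoc, h.fac, h'.fac, Category.comp_id]
  inv_hom_id := by
    apply h'.hom_ext
    change g' ≫ ((h'.desc g).hom.app (op U) ≫ (h.desc g').hom.app (op U)) = g' ≫ 𝟙 _
    rw [← Category.assoc, h'.fac, h.fac, Category.comp_id]

theorem iso_hom_fac (h : IsExtZero U A F g) {F' : EtCoh.Ab X} {g' : A ⟶ F'.obj.obj (op U)}
    (h' : IsExtZero U A F' g') : g ≫ (h.iso h').hom.hom.app (op U) = g' :=
  h.fac g'

theorem of_iso (h : IsExtZero U A F g) {F' : EtCoh.Ab X} (e : F ≅ F') :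
    IsExtZero U A F' (g ≫ e.hom.hom.app (op U)) := by
  intro G
  have : (fun φ : F' ⟶ G => (g ≫ e.hom.hom.app (op U)) ≫ φ.hom.app (op U)) =
      (fun φ : F ⟶ G => g ≫ φ.hom.app (op U)) ∘ (fun φ : F' ⟶ G => e.hom ≫ φ) := by
    funext φ
    exact Category.assoc _ _ _
  rw [this]
  exact (h G).comp ((Iso.homFromEquiv e.symm (Z := G)).bijective)

/-- base change of `j_!` -/
theorem pull (h : IsExtZero U A F g) {T : Scheme.{u}} (f : T ⟶ X) :
    IsExtZero ((EtCoh.bc f).obj U) A ((EtCoh.pull f).obj F)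
      (g ≫ ((EtCoh.pullPushAdj f).unit.app F).hom.app (op U)) := by
  intro G
  have : (fun φ : (EtCoh.pull f).obj F ⟶ G =>
        (g ≫ ((EtCoh.pullPushAdj f).unit.app F).hom.app (op U)) ≫
          φ.hom.app (op ((EtCoh.bc f).obj U))) =
      (fun ψ : F ⟶ (EtCoh.push f).obj G => g ≫ ψ.hom.app (op U)) ∘
        ((EtCoh.pullPushAdj f).homEquiv F G) := by
    funext φ
    change _ = g ≫ (((EtCoh.pullPushAdj f).homEquiv F G) φ).hom.app (op U)
    rw [Adjunction.homEquiv_unit]
    exact Category.assoc _ _ _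
  exact (congrArg Function.Bijective this).mpr
    ((h _).comp ((EtCoh.pullPushAdj f).homEquiv F G).bijective)

theorem smul_id_eq_zero (h : IsExtZero U A F g) (n : ℕ) (hn : ∀ a : A, n • a = 0) :
    n • 𝟙 F = 0 := by
  apply h.hom_ext
  ext a
  change (n • 𝟙 F).hom.app (op U) (g a) = (0 : F ⟶ F).hom.app (op U) (g a)
  have h1 : (n • 𝟙 F).hom.app (op U) (g a) = n • (g a) := rfl
  have h2 : (0 : F ⟶ F).hom.app (op U) (g a) = 0 := rfl
  rw [h1, h2, ← map_nsmul, hn, map_zero]

theorem killedBy (h : IsExtZero U A F g) (n : ℕ) (hn : ∀ a : A, n • a = 0) :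
    EtCoh.KilledBy n F := by
  intro V s
  have h0 := h.smul_id_eq_zero n hn
  have h1 : (n • 𝟙 F).hom.app (op V) s = n • s := rfl
  rw [← h1, h0]
  rfl

end IsExtZero

end Groth.Agent.H1.ExtZero
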