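import Groth.Agent.Lib.Helper1.ExtZeroA
import Groth.Agent.Lib.Helper1.EtFiltH

/-!
# Extension by zero: functoriality and presentation from a covering (helper1)
-/

set_option autoImplicit false
universe u
open CategoryTheory CategoryTheory.Limits AlgebraicGeometry Opposite

namespace Groth.Agent.H1.ExtZero

variable {X : Scheme.{u}}

theorem eq_of_locally (G : EtCoh.Ab X) (E : X.Etale) (s s' : G.obj.obj (op E))
    (h : ∀ e : E.left, ∃ (N : X.Etale) (n : N ⟶ E), e ∈ Set.range n.left.base ∧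
      G.obj.map n.op s = G.obj.map n.op s') : s = s' := by
  rw [← sub_eq_zero]
  apply Groth.Agent.H1.EtFiltH.eq_zero_of_locally G E
  intro e
  obtain ⟨N, n, hn, hs⟩ := h e
  refine ⟨N, n, hn, ?_⟩
  rw [map_sub, hs, sub_self]

/-- gluing of homomorphisms into the sections of a sheaf -/
theorem existsUnique_glue_hom (G : EtCoh.Ab X) (U : X.Etale) {K : Type*} (V : K → X.Etale)
    (a : ∀ k, V k ⟶ U) (hcov : ∀ x : U.left, ∃ k, x ∈ Set.range (a k).left.base)
    (A : AddCommGrpCat.{u + 1}) (s : ∀ k, A ⟶ G.obj.obj (op (V k)))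
    (hs : ∀ (k l : K) (Z : X.Etale) (gk : Z ⟶ V k) (gl : Z ⟶ V l), gk ≫ a k = gl ≫ a l →
      s k ≫ G.obj.map gk.op = s l ≫ G.obj.map gl.op) :
    ∃! t : A ⟶ G.obj.obj (op U), ∀ k, t ≫ G.obj.map (a k).op = s k := by
  have hmem : Sieve.generate (Presieve.ofArrows V a) ∈ X.smallEtaleTopology U := by
    apply Groth.Agent.H1.ClosedDense.mem_smallEtaleTopology
    intro x
    obtain ⟨k, y, hy⟩ := hcov x
    exact ⟨V k, a k, y, ⟨_, 𝟙 _, a k, Presieve.ofArrows.mk k, Category.id_comp _⟩, hy⟩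
  have hsh : Presieve.IsSheafFor (G.obj ⋙ forget AddCommGrpCat) (Presieve.ofArrows V a) := by
    rw [Presieve.isSheafFor_iff_generate]
    exact ((isSheaf_iff_isSheaf_of_type _ _).1
      ((Presheaf.isSheaf_iff_isSheaf_forget _ G.obj (forget _)).1 G.property)) _ hmem
  rw [Presieve.isSheafFor_arrows_iff] at hsh
  have hx : ∀ x : A, Presieve.Arrows.Compatible (G.obj ⋙ forget AddCommGrpCat) a
      (fun k => s k x) := by
    intro x k l Z gk gl hg
    exact congrArg (fun φ : A ⟶ G.obj.obj (op Z) => φ x) (hs k l Z gk gl hg)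
  choose t ht htu using fun x => hsh (fun k => s k x) (hx x)
  have ht' : ∀ x k, G.obj.map (a k).op (t x) = s k x := ht
  have htu' : ∀ x (y : G.obj.obj (op U)), (∀ k, G.obj.map (a k).op y = s k x) → y = t x :=
    fun x y hy => htu x y hy
  have hadd : ∀ x y, t (x + y) = t x + t y := by
    intro x y
    symm
    apply htu'
    intro k
    rw [map_add, ht', ht', map_add]
  refine ⟨AddCommGrpCat.ofHom (AddMonoidHom.mk' t hadd), ?_, ?_⟩
  · intro k
    ext x
    exact ht' x k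
  · intro t' ht'2
    ext x
    apply htu'
    intro k
    exact congrArg (fun φ : A ⟶ G.obj.obj (op (V k)) => φ x) (ht'2 k)

/-- functoriality of `j_! A` in the étale `X`-scheme -/
noncomputable def ezMap {V U : X.Etale} (a : V ⟶ U) (A : AddCommGrpCat.{u + 1}) : ez V A ⟶ ez U A :=
  (isExtZero_ez V A).desc (gen U A ≫ (ez U A).obj.map a.op)

theorem gen_ezMap {V U : X.Etale} (a : V ⟶ U) (A : AddCommGrpCat.{u + 1}) :
    gen V A ≫ (ezMap a A).hom.app (op V) = gen U A ≫ (ez U A).obj.map a.op :=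
  (isExtZero_ez V A).fac _

/-- `gen_V ≫ (ezMap a ≫ ψ)_V = (gen_U ≫ ψ_U) ≫ G(a)` -/
theorem gen_ezMap_comp {V U : X.Etale} (a : V ⟶ U) (A : AddCommGrpCat.{u + 1}) {G : EtCoh.Ab X}
    (ψ : ez U A ⟶ G) :
    gen V A ≫ (ezMap a A ≫ ψ).hom.app (op V) =
      (gen U A ≫ ψ.hom.app (op U)) ≫ G.obj.map a.op := by
  change gen V A ≫ ((ezMap a A).hom.app (op V) ≫ ψ.hom.app (op V)) = _
  rw [← Category.assoc, gen_ezMap, Category.assoc, Category.assoc]
  congr 1
  exact ψ.hom.naturality a.op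

section Presentation

variable (U : X.Etale) {K : Type} [Finite K] (V : K → X.Etale) (a : ∀ k, V k ⟶ U)
  (W : K → K → X.Etale) (p : ∀ k l, W k l ⟶ V k) (q : ∀ k l, W k l ⟶ V l)
  (A : AddCommGrpCat.{u + 1})

/-- the sum of the `j_{V_k !} A` -/
noncomputable abbrev S0 : EtCoh.Ab X := ⨁ fun k : K => ez (V k) A

/-- the sum of the `j_{W_kl !} A` -/
noncomputable abbrev S1 : EtCoh.Ab X := ⨁ fun kl : K × K => ez (W kl.1 kl.2) A

/-- the difference map -/
noncomputable def dMap : S1 W A ⟶ S0 V A :=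
  biproduct.desc (fun kl : K × K =>
    ezMap (p kl.1 kl.2) A ≫ biproduct.ι (fun k : K => ez (V k) A) kl.1 -
      ezMap (q kl.1 kl.2) A ≫ biproduct.ι (fun k : K => ez (V k) A) kl.2)

/-- the augmentation -/
noncomputable def piMap : S0 V A ⟶ ez U A :=
  biproduct.desc (fun k : K => ezMap (a k) A)

variable (hcomm : ∀ k l, p k l ≫ a k = q k l ≫ a l)

theorem ezMap_comp {V' V U : X.Etale} (b : V' ⟶ V) (a : V ⟶ U) (A : AddCommGrpCat.{u + 1}) :
    ezMap b A ≫ ezMap a A = ezMap (b ≫ a) A := by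
  apply (isExtZero_ez V' A).hom_ext
  rw [gen_ezMap_comp, gen_ezMap, gen_ezMap, Category.assoc, ← Functor.map_comp, ← op_comp]

include hcomm in
theorem dMap_piMap : dMap V W p q A ≫ piMap U V a A = 0 := by
  apply biproduct.hom_ext'
  rintro ⟨k, l⟩
  rw [dMap, piMap, biproduct.ι_desc_assoc, comp_zero, Preadditive.sub_comp, Category.assoc,
    Category.assoc, biproduct.ι_desc, biproduct.ι_desc, ezMap_comp, ezMap_comp, hcomm, sub_self]

variable (hcov : ∀ x : U.left, ∃ k, x ∈ Set.range (a k).left.base)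
  (hW : ∀ (k l : K) (Z : X.Etale) (gk : Z ⟶ V k) (gl : Z ⟶ V l), gk ≫ a k = gl ≫ a l →
    ∀ z : Z.left, ∃ (Z' : X.Etale) (e : Z' ⟶ Z) (t : Z' ⟶ W k l), z ∈ Set.range e.left.base ∧
      t ≫ p k l = e ≫ gk ∧ t ≫ q k l = e ≫ gl)

include hW in
theorem compat_of_dMap_comp {G : EtCoh.Ab X} (ψ : S0 V A ⟶ G) (hψ : dMap V W p q A ≫ ψ = 0)
    (k l : K) (Z : X.Etale) (gk : Z ⟶ V k) (gl : Z ⟶ V l) (hg : gk ≫ a k = gl ≫ a l) :
    (gen (V k) A ≫ (biproduct.ι (fun k : K => ez (V k) A) k ≫ ψ).hom.app (op (V k))) ≫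
        G.obj.map gk.op =
      (gen (V l) A ≫ (biproduct.ι (fun k : K => ez (V k) A) l ≫ ψ).hom.app (op (V l))) ≫
        G.obj.map gl.op := by
  have h1 : ezMap (p k l) A ≫ biproduct.ι (fun k : K => ez (V k) A) k ≫ ψ =
      ezMap (q k l) A ≫ biproduct.ι (fun k : K => ez (V k) A) l ≫ ψ := by
    have := congrArg (fun φ => biproduct.ι (fun kl : K × K => ez (W kl.1 kl.2) A) (k, l) ≫ φ) hψ
    simp only [dMap, biproduct.ι_desc_assoc, comp_zero, Preadditive.sub_comp, Category.assoc] at this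
    exact sub_eq_zero.mp this
  have h2 := congrArg (fun φ : ez (W k l) A ⟶ G => gen (W k l) A ≫ φ.hom.app (op (W k l))) h1
  simp only [gen_ezMap_comp] at h2
  ext x
  apply eq_of_locally G Z
  intro z
  obtain ⟨Z', e, t, hz, ht1, ht2⟩ := hW k l Z gk gl hg z
  refine ⟨Z', e, hz, ?_⟩
  have h3 := congrArg (fun φ : A ⟶ G.obj.obj (op (W k l)) => G.obj.map t.op (φ x)) h2
  set sk := gen (V k) A ≫ (biproduct.ι (fun k : K => ez (V k) A) k ≫ ψ).hom.app (op (V k)) with hsk
  set sl := gen (V l) A ≫ (biproduct.ι (fun k : K => ez (V k) A) l ≫ ψ).hom.app (op (V l)) with hsl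
  change G.obj.map t.op (G.obj.map (p k l).op (sk x)) =
    G.obj.map t.op (G.obj.map (q k l).op (sl x)) at h3
  change G.obj.map e.op (G.obj.map gk.op (sk x)) = G.obj.map e.op (G.obj.map gl.op (sl x))
  have e1 : ∀ (y : G.obj.obj (op (V k))), G.obj.map t.op (G.obj.map (p k l).op y) =
      G.obj.map e.op (G.obj.map gk.op y) := by
    intro y
    have : (p k l).op ≫ t.op = gk.op ≫ e.op := by rw [← op_comp, ← op_comp, ht1]
    have h := congrArg (fun m => G.obj.map m y) this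
    simp only [Functor.map_comp] at h
    exact h
  have e2 : ∀ (y : G.obj.obj (op (V l))), G.obj.map t.op (G.obj.map (q k l).op y) =
      G.obj.map e.op (G.obj.map gl.op y) := by
    intro y
    have : (q k l).op ≫ t.op = gl.op ≫ e.op := by rw [← op_comp, ← op_comp, ht2]
    have h := congrArg (fun m => G.obj.map m y) this
    simp only [Functor.map_comp] at h
    exact h
  rw [← e1, ← e2]
  exact h3

include hcomm hcov hW in
/-- **Presentation of `j_{U!} A` from a covering of `U`**: `j_{U!} A` is the cokernel of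
`⊕ j_{W_kl !} A ⟶ ⊕ j_{V_k !} A`. -/
theorem isColimit_piMap : Nonempty (IsColimit (CokernelCofork.ofπ (piMap U V a A)
    (dMap_piMap U V a W p q A hcomm))) := by
  have key : ∀ {G : EtCoh.Ab X} (ψ : S0 V A ⟶ G) (hψ : dMap V W p q A ≫ ψ = 0),
      ∃! t : A ⟶ G.obj.obj (op U), ∀ k, t ≫ G.obj.map (a k).op =
        gen (V k) A ≫ (biproduct.ι (fun k : K => ez (V k) A) k ≫ ψ).hom.app (op (V k)) :=
    fun {G} ψ hψ => existsUnique_glue_hom G U V a hcov A _
      (compat_of_dMap_comp U V a W p q A hW ψ hψ)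
  have hfac : ∀ {G : EtCoh.Ab X} (ψ : S0 V A ⟶ G) (m : ez U A ⟶ G), piMap U V a A ≫ m = ψ ↔
      ∀ k, (gen U A ≫ m.hom.app (op U)) ≫ G.obj.map (a k).op =
        gen (V k) A ≫ (biproduct.ι (fun k : K => ez (V k) A) k ≫ ψ).hom.app (op (V k)) := by
    intro G ψ m
    constructor
    · rintro rfl k
      rw [piMap, biproduct.ι_desc_assoc, gen_ezMap_comp]
    · intro h
      apply biproduct.hom_ext'
      intro k
      apply (isExtZero_ez (V k) A).hom_ext
      rw [piMap, biproduct.ι_desc_assoc, gen_ezMap_comp, h k]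
  refine ⟨CokernelCofork.IsColimit.ofπ _ _
    (fun {G} ψ hψ => (isExtZero_ez U A).desc (key ψ hψ).choose) ?_ ?_⟩
  · intro G ψ hψ
    rw [hfac]
    intro k
    rw [(isExtZero_ez U A).fac]
    exact (key ψ hψ).choose_spec.1 k
  · intro G ψ hψ m hm
    apply (isExtZero_ez U A).hom_ext
    rw [(isExtZero_ez U A).fac]
    exact (key ψ hψ).choose_spec.2 _ ((hfac ψ m).mp hm)

end Presentation

end Groth.Agent.H1.ExtZero
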