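import Groth.Agent.Lib.Helper1.ExtZeroB
import Groth.Agent.Lib.Helper1.EtSplit

/-!
# Gluing over disjoint sections on the over-site; products in the small étale site (helper1)
-/

set_option autoImplicit false
universe u v₁ u₁
open CategoryTheory CategoryTheory.Limits AlgebraicGeometry Opposite

namespace Groth.Agent.H1.ExtZero

section Site

variable {C : Type u₁} [Category.{v₁} C] (J : GrothendieckTopology C)

/-- gluing of homomorphisms into the sections of an abelian sheaf on any site -/
theorem existsUnique_glue_hom_site (G : Sheaf J AddCommGrpCat.{max u₁ v₁}) (U : C) {K : Type*}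
    (V : K → C) (a : ∀ k, V k ⟶ U) (hmem : Sieve.generate (Presieve.ofArrows V a) ∈ J U)
    (A : AddCommGrpCat.{max u₁ v₁}) (s : ∀ k, A ⟶ G.obj.obj (op (V k)))
    (hs : ∀ (k l : K) (Z : C) (gk : Z ⟶ V k) (gl : Z ⟶ V l), gk ≫ a k = gl ≫ a l →
      s k ≫ G.obj.map gk.op = s l ≫ G.obj.map gl.op) :
    ∃! t : A ⟶ G.obj.obj (op U), ∀ k, t ≫ G.obj.map (a k).op = s k := by
  have hsh : Presieve.IsSheafFor (G.obj ⋙ forget AddCommGrpCat) (Presieve.ofArrows V a) := by
    rw [Presieve.isSheafFor_iff_generate]
    exact ((isSheaf_iff_isSheaf_of_type _ _).1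
      ((Presheaf.isSheaf_iff_isSheaf_forget _ G.obj (forget _)).1 G.property)) _ hmem
  rw [Presieve.isSheafFor_arrows_iff] at hsh
  have hx : ∀ x : A, Presieve.Arrows.Compatible (G.obj ⋙ forget AddCommGrpCat) a
      (fun k => s k x) := by
    intro x k l Z gk gl hg
    exact congrArg (fun φ : A ⟶ G.obj.obj (op Z) => φ x) (hs k l Z gk gl hg)
  choose t ht htu using fun x => hsh (fun k => s k x) (hx x)
  have ht' : ∀ x k, G.obj.map (a k).op (t x) = s k x := ht
  have htu' : ∀ x (y : G.obj.obj (op U)), (∀ k, G.obj.map (a k).op y = s k x) → y = t x :=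
    fun x y hy => htu x y hy
  have hadd : ∀ x y, t (x + y) = t x + t y := by
    intro x y
    symm
    apply htu'
    intro k
    rw [map_add, ht', ht', map_add]
  refine ⟨AddCommGrpCat.ofHom (AddMonoidHom.mk' t hadd), ?_, ?_⟩
  · intro k
    ext x
    exact ht' x k
  · intro t' ht'2
    ext x
    apply htu'
    intro k
    exact congrArg (fun φ : A ⟶ G.obj.obj (op (V k)) => φ x) (ht'2 k)

/-- sections over an object with empty covering sieve -/
theorem subsingleton_of_bot_mem (G : Sheaf J AddCommGrpCat.{max u₁ v₁}) (Z : C) (hZ : ⊥ ∈ J Z) :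
    Subsingleton (G.obj.obj (op Z)) := by
  have hsh : Presieve.IsSheafFor (G.obj ⋙ forget AddCommGrpCat) (⊥ : Sieve Z).arrows :=
    ((isSheaf_iff_isSheaf_of_type _ _).1
      ((Presheaf.isSheaf_iff_isSheaf_forget _ G.obj (forget _)).1 G.property)) _ hZ
  constructor
  intro a b
  have hsep := hsh.isSeparatedFor
  apply hsep (fun Y f hf => (hf : False).elim) a b
  · intro Y f hf
    exact (hf : False).elim
  · intro Y f hf
    exact (hf : False).elim

end Site

variable {T : Scheme.{u}}

section Prod

variable (V U : T.Etale)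

/-- the explicit product of two objects of the small étale site -/
noncomputable def pObj : T.Etale :=
  have : Etale V.hom := V.prop
  have : Etale U.hom := U.prop
  Scheme.Etale.mk (pullback.fst V.hom U.hom ≫ V.hom)

noncomputable def pFst : pObj V U ⟶ V :=
  MorphismProperty.Over.homMk (pullback.fst V.hom U.hom) rfl trivial

noncomputable def pSnd : pObj V U ⟶ U :=
  MorphismProperty.Over.homMk (pullback.snd V.hom U.hom) pullback.condition.symm trivial

noncomputable def pLift {Z : T.Etale} (f : Z ⟶ V) (g : Z ⟶ U) : Z ⟶ pObj V U :=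
  MorphismProperty.Over.homMk (pullback.lift f.left g.left
    ((MorphismProperty.Over.w f).trans (MorphismProperty.Over.w g).symm))
    (by
      change pullback.lift f.left g.left _ ≫ pullback.fst V.hom U.hom ≫ V.hom = Z.hom
      rw [pullback.lift_fst_assoc]
      exact MorphismProperty.Over.w f) trivial

theorem pLift_fst {Z : T.Etale} (f : Z ⟶ V) (g : Z ⟶ U) : pLift V U f g ≫ pFst V U = f := by
  apply MorphismProperty.Over.Hom.ext
  exact pullback.lift_fst _ _ _

theorem pLift_snd {Z : T.Etale} (f : Z ⟶ V) (g : Z ⟶ U) : pLift V U f g ≫ pSnd V U = g := by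
  apply MorphismProperty.Over.Hom.ext
  exact pullback.lift_snd _ _ _

noncomputable def pIsLimit : IsLimit (BinaryFan.mk (pFst V U) (pSnd V U)) :=
  BinaryFan.IsLimit.mk _ (fun f g => pLift V U f g) (fun f g => pLift_fst V U f g)
    (fun f g => pLift_snd V U f g) (by
      intro Z f g m h1 h2
      apply MorphismProperty.Over.Hom.ext
      apply pullback.hom_ext
      · have := congrArg (fun k => k.left) h1
        exact this.trans (pullback.lift_fst _ _ _).symm
      · have := congrArg (fun k => k.left) h2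
        exact this.trans (pullback.lift_snd _ _ _).symm)

/-- the categorical product in `T.Etale` is the explicit one -/
noncomputable def prodIso : V ⨯ U ≅ pObj V U :=
  IsLimit.conePointUniqueUpToIso (prodIsProd V U) (pIsLimit V U)

theorem prodIso_hom_fst : (prodIso V U).hom ≫ pFst V U = prod.fst :=
  IsLimit.conePointUniqueUpToIso_hom_comp (prodIsProd V U) (pIsLimit V U) ⟨WalkingPair.left⟩

theorem prodIso_hom_snd : (prodIso V U).hom ≫ pSnd V U = prod.snd :=
  IsLimit.conePointUniqueUpToIso_hom_comp (prodIsProd V U) (pIsLimit V U) ⟨WalkingPair.right⟩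

/-- the comparison on underlying schemes -/
noncomputable def θ : (V ⨯ U).left ⟶ pullback V.hom U.hom := (prodIso V U).hom.left

theorem θ_fst : θ V U ≫ pullback.fst V.hom U.hom = (prod.fst : V ⨯ U ⟶ V).left :=
  congrArg (fun k => k.left) (prodIso_hom_fst V U)

theorem θ_snd : θ V U ≫ pullback.snd V.hom U.hom = (prod.snd : V ⨯ U ⟶ U).left :=
  congrArg (fun k => k.left) (prodIso_hom_snd V U)

theorem θ_bijective : Function.Bijective (θ V U) := by
  have h1 : θ V U ≫ (prodIso V U).inv.left = 𝟙 _ :=
    congrArg (fun k => k.left) (prodIso V U).hom_inv_id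
  have h2 : (prodIso V U).inv.left ≫ θ V U = 𝟙 _ :=
    congrArg (fun k => k.left) (prodIso V U).inv_hom_id
  refine ⟨fun x y hxy => ?_, fun y => ⟨(prodIso V U).inv.left y, ?_⟩⟩
  · have hx : (prodIso V U).inv.left (θ V U x) = x :=
      congrArg (fun m : (V ⨯ U).left ⟶ (V ⨯ U).left => m x) h1
    have hy : (prodIso V U).inv.left (θ V U y) = y :=
      congrArg (fun m : (V ⨯ U).left ⟶ (V ⨯ U).left => m y) h1
    exact hx.symm.trans ((congrArg (fun z => (prodIso V U).inv.left z) hxy).trans hy)
  · exact congrArg (fun m : pullback V.hom U.hom ⟶ pullback V.hom U.hom => m y) h2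

theorem lift_θ (σ : V ⟶ U) :
    (prod.lift (𝟙 V) σ).left ≫ θ V U =
      Groth.Agent.H1.EtSplit.psec U.hom V.hom σ.left (MorphismProperty.Over.w σ) := by
  apply pullback.hom_ext
  · rw [Category.assoc, θ_fst, Groth.Agent.H1.EtSplit.psec_fst]
    exact congrArg (fun k => k.left) (prod.lift_fst (𝟙 V) σ)
  · rw [Category.assoc, θ_snd, Groth.Agent.H1.EtSplit.psec_snd]
    exact congrArg (fun k => k.left) (prod.lift_snd (𝟙 V) σ)

end Prod

end Groth.Agent.H1.ExtZero
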