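import Groth.Agent.Lib.Helper1.ExtZeroC
import Groth.Agent.Lib.Helper21.FlcPull

/-!
# `j_! A` is locally constant where `U → T` splits completely (helper1)
-/

set_option autoImplicit false
universe u
open CategoryTheory CategoryTheory.Limits AlgebraicGeometry Opposite

namespace Groth.Agent.H1.ExtZero

open Groth.Agent.Lib.helper21.FlcPull Groth.Agent.H1.EtSplit

variable {T : Scheme.{u}} (V U : T.Etale) {r : ℕ} (σ : Fin r → (V ⟶ U))

/-- the topology of the over-site -/
abbrev JV : GrothendieckTopology (Over V) := T.smallEtaleTopology.over V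

/-- terminal object of the over-site -/
abbrev EV : Over V := Over.mk (𝟙 V)

/-- the object `V × U → V` of the over-site -/
noncomputable abbrev YV : Over V := (Over.star V).obj U

/-- the sections of `V × U → V` defined by the `σ i` -/
noncomputable def jj (i : Fin r) : EV V ⟶ YV V U :=
  (Over.forgetAdjStar V).homEquiv (EV V) U (σ i)

theorem jj_left_snd (i : Fin r) : (jj V U σ i).left ≫ (prod.snd : V ⨯ U ⟶ U) = σ i := by
  have h := (Over.forgetAdjStar V).homEquiv_counit (X := EV V) (Y := U) (g := jj V U σ i)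
  rw [Over.forgetAdjStar_counit_app] at h
  rw [jj, Equiv.symm_apply_apply] at h
  exact h.symm

theorem jj_left_fst (i : Fin r) : (jj V U σ i).left ≫ (prod.fst : V ⨯ U ⟶ V) = 𝟙 V := by
  have h := Over.w (jj V U σ i)
  have h2 : (YV V U).hom = (prod.fst : V ⨯ U ⟶ V) :=
    (Over.star_obj_hom V U).trans (prod.lift_fst _ _)
  rw [h2] at h
  exact h

theorem jj_left (i : Fin r) : (jj V U σ i).left = prod.lift (𝟙 V) (σ i) := by
  apply Limits.prod.hom_ext
  · exact (jj_left_fst V U σ i).trans (prod.lift_fst _ _).symm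
  · exact (jj_left_snd V U σ i).trans (prod.lift_snd _ _).symm

variable (hs : PSplit U.hom V.hom (fun i => (σ i).left) (fun i => MorphismProperty.Over.w (σ i)))

theorem θ_jj (i : Fin r) (v : V.left) :
    θ V U ((jj V U σ i).left.left v) = psec U.hom V.hom (σ i).left (MorphismProperty.Over.w (σ i)) v := by
  have h1 := lift_θ V U (σ i)
  rw [← jj_left] at h1
  exact congrArg (fun m : V.left ⟶ pullback V.hom U.hom => m v) h1

include hs in
theorem jj_cover (x : (V ⨯ U).left) : ∃ (i : Fin r) (v : V.left), (jj V U σ i).left.left v = x := by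
  obtain ⟨i, v, hv⟩ := hs.1 (θ V U x)
  refine ⟨i, v, (θ_bijective V U).1 ?_⟩
  exact (θ_jj V U σ i v).trans hv

include hs in
theorem jj_disj (i k : Fin r) (hik : i ≠ k) (v v' : V.left) :
    (jj V U σ i).left.left v ≠ (jj V U σ k).left.left v' := by
  intro h
  have h1 := congrArg (fun z => θ V U z) h
  simp only [θ_jj] at h1
  exact (Set.disjoint_left.mp (hs.2 i k hik)) ⟨v, rfl⟩ ⟨v', h1.symm⟩

theorem bot_mem_over (Z : Over V) (hZ : IsEmpty Z.left.left) : ⊥ ∈ JV V Z := by
  rw [GrothendieckTopology.mem_over_iff]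
  apply Groth.Agent.H1.ClosedDense.mem_smallEtaleTopology
  intro x
  exact (hZ.false x).elim

include hs in
theorem generate_jj_mem : Sieve.generate (Presieve.ofArrows (fun _ : Fin r => EV V) (jj V U σ)) ∈
    JV V (YV V U) := by
  rw [GrothendieckTopology.mem_over_iff, Sieve.overEquiv_generate]
  apply Groth.Agent.H1.ClosedDense.mem_smallEtaleTopology
  intro x
  obtain ⟨i, v, hv⟩ := jj_cover V U σ hs x
  refine ⟨V, (jj V U σ i).left, v, ?_, hv⟩
  apply Sieve.le_generate
  exact ⟨EV V, jj V U σ i, 𝟙 _, Presieve.ofArrows.mk i, (Category.id_comp _).symm⟩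

include hs in
/-- gluing over the sections -/
theorem existsUnique_glue_over (G : Sheaf (JV V) AddCommGrpCat.{u + 1}) (A : AddCommGrpCat.{u + 1})
    (m : Fin r → (A ⟶ G.obj.obj (op (EV V)))) :
    ∃! t : A ⟶ G.obj.obj (op (YV V U)), ∀ i, t ≫ G.obj.map (jj V U σ i).op = m i := by
  apply existsUnique_glue_hom_site (JV V) G (YV V U) (fun _ : Fin r => EV V) (jj V U σ)
    (generate_jj_mem V U σ hs) A m
  intro i k Z gi gk hg
  have hgik : gi = gk := Over.mkIdTerminal.hom_ext _ _
  subst hgik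
  by_cases hik : i = k
  · subst hik
    rfl
  · have hZ : IsEmpty Z.left.left := by
      constructor
      intro z
      have h1 := congrArg (fun f : Z ⟶ YV V U => f.left.left z) hg
      exact jj_disj V U σ hs i k hik (gi.left.left z) (gi.left.left z) h1
    have := subsingleton_of_bot_mem (JV V) G Z (bot_mem_over V Z hZ)
    ext x
    exact Subsingleton.elim _ _

section Main

variable {A : AddCommGrpCat.{u + 1}} {F : EtCoh.Ab T} (g : A ⟶ F.obj.obj (op U))

/-- the group `A^r` -/
abbrev NN (A : AddCommGrpCat.{u + 1}) (r : ℕ) : AddCommGrpCat.{u + 1} :=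
  AddCommGrpCat.of (Fin r → A)

/-- the inclusion of the `i`-th factor -/
def ιN (A : AddCommGrpCat.{u + 1}) (r : ℕ) (i : Fin r) : A ⟶ NN A r :=
  AddCommGrpCat.ofHom (AddMonoidHom.single (fun _ : Fin r => A) i)

theorem NN_hom_ext {A B : AddCommGrpCat.{u + 1}} {r : ℕ} {f f' : NN A r ⟶ B}
    (hf : ∀ i, ιN A r i ≫ f = ιN A r i ≫ f') : f = f' := by
  apply AddCommGrpCat.hom_ext
  apply AddMonoidHom.ext
  intro x
  have hx : x = ∑ i, Pi.single i (x i) := (Finset.univ_sum_single x).symm
  rw [hx, map_sum, map_sum]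
  refine Finset.sum_congr rfl (fun i _ => ?_)
  exact congrArg (fun m : A ⟶ B => m (x i)) (hf i)

/-- the map `A^r → F(V)`, `(a_i) ↦ Σ F(σ_i)(g a_i)` -/
noncomputable def nMap : NN A r ⟶ F.obj.obj (op V) :=
  AddCommGrpCat.ofHom (∑ i, (g ≫ F.obj.map (σ i).op).hom.comp
    (Pi.evalAddMonoidHom (fun _ : Fin r => A) i))

theorem ιN_nMap (i : Fin r) : ιN A r i ≫ nMap V U σ g = g ≫ F.obj.map (σ i).op := by
  ext a
  change (∑ k, (g ≫ F.obj.map (σ k).op).hom.comp (Pi.evalAddMonoidHom (fun _ : Fin r => A) k))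
    (Pi.single i a) = _
  rw [AddMonoidHom.finsetSum_apply, Finset.sum_eq_single i]
  · change (g ≫ F.obj.map (σ i).op).hom ((Pi.single i a : Fin r → A) i) = _
    rw [Pi.single_eq_same]
  · intro k _ hki
    change (g ≫ F.obj.map (σ k).op).hom ((Pi.single i a : Fin r → A) k) = 0
    rw [Pi.single_eq_of_ne hki, map_zero]
  · intro hi
    exact absurd (Finset.mem_univ i) hi

/-- compatibility of the adjunction `res ⊣ star` with the sections -/
theorem adj_rel (G : Sheaf (JV V) AddCommGrpCat.{u + 1})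
    (ψ : (res AddCommGrpCat.{u + 1} V).obj F ⟶ G) (i : Fin r) :
    (g ≫ ((resStarAdj AddCommGrpCat.{u + 1} V).homEquiv F G ψ).hom.app (op U)) ≫
        G.obj.map (jj V U σ i).op =
      (g ≫ F.obj.map (σ i).op) ≫ ψ.hom.app (op (EV V)) := by
  rw [Adjunction.homEquiv_unit]
  have hc : (Over.forget V).map (jj V U σ i) ≫ (Over.forgetAdjStar V).counit.app U = σ i := by
    have h := (Over.forgetAdjStar V).homEquiv_counit (X := EV V) (Y := U) (g := jj V U σ i)
    rw [jj, Equiv.symm_apply_apply] at h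
    exact h.symm
  have hσ : F.obj.map ((Over.forgetAdjStar V).counit.app U).op ≫
      F.obj.map ((Over.forget V).map (jj V U σ i)).op = F.obj.map (σ i).op :=
    (F.obj.map_comp _ _).symm.trans (congrArg (fun k => F.obj.map k.op) hc)
  have hnat : ψ.hom.app (op (YV V U)) ≫ G.obj.map (jj V U σ i).op =
      F.obj.map ((Over.forget V).map (jj V U σ i)).op ≫ ψ.hom.app (op (EV V)) :=
    (ψ.hom.naturality (jj V U σ i).op).symm
  have hnat' : ∀ y, G.obj.map (jj V U σ i).op (ψ.hom.app (op (YV V U)) y) =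
      ψ.hom.app (op (EV V)) (F.obj.map ((Over.forget V).map (jj V U σ i)).op y) :=
    fun y => congrArg (fun m => m y) hnat
  have hσ' : ∀ y, F.obj.map ((Over.forget V).map (jj V U σ i)).op
      (F.obj.map ((Over.forgetAdjStar V).counit.app U).op y) = F.obj.map (σ i).op y :=
    fun y => congrArg (fun m => m y) hσ
  ext x
  exact (hnat' _).trans (congrArg (fun z => ψ.hom.app (op (EV V)) z) (hσ' (g x)))

variable (h : IsExtZero U A F g)

theorem ιN_comp_nMap_comp (G : Sheaf (JV V) AddCommGrpCat.{u + 1})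
    (ψ : (res AddCommGrpCat.{u + 1} V).obj F ⟶ G) (i : Fin r) :
    ιN A r i ≫ (nMap V U σ g ≫ ψ.hom.app (op (EV V))) =
      (g ≫ F.obj.map (σ i).op) ≫ ψ.hom.app (op (EV V)) := by
  rw [← Category.assoc, ιN_nMap]

include hs h in
theorem bijective_nMap (G : Sheaf (JV V) AddCommGrpCat.{u + 1}) :
    Function.Bijective (fun ψ : (res AddCommGrpCat.{u + 1} V).obj F ⟶ G =>
      nMap V U σ g ≫ ψ.hom.app (op (EV V))) := by
  constructor
  · intro ψ ψ' hψ
    have hψ' : nMap V U σ g ≫ ψ.hom.app (op (EV V)) = nMap V U σ g ≫ ψ'.hom.app (op (EV V)) := hψ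
    apply ((resStarAdj AddCommGrpCat.{u + 1} V).homEquiv F G).injective
    apply h.hom_ext
    obtain ⟨t, -, htu⟩ := existsUnique_glue_over V U σ hs G A
      (fun i => (g ≫ F.obj.map (σ i).op) ≫ ψ.hom.app (op (EV V)))
    have h1 := htu _ (fun i => adj_rel V U σ g G ψ i)
    have h2 := htu (g ≫ ((resStarAdj AddCommGrpCat.{u + 1} V).homEquiv F G ψ').hom.app (op U))
      (fun i => (adj_rel V U σ g G ψ' i).trans
        ((ιN_comp_nMap_comp V U σ g G ψ' i).symm.trans
          ((congrArg (fun m => ιN A r i ≫ m) hψ'.symm).trans (ιN_comp_nMap_comp V U σ g G ψ i))))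
    exact h1.trans h2.symm
  · intro β
    obtain ⟨t, ht, -⟩ := existsUnique_glue_over V U σ hs G A (fun i => ιN A r i ≫ β)
    obtain ⟨ψ0, hψ0⟩ : ∃ ψ0 : (res AddCommGrpCat.{u + 1} V).obj F ⟶ G,
        (resStarAdj AddCommGrpCat.{u + 1} V).homEquiv F G ψ0 = h.desc t :=
      ⟨((resStarAdj AddCommGrpCat.{u + 1} V).homEquiv F G).symm (h.desc t),
        Equiv.apply_symm_apply _ _⟩
    refine ⟨ψ0, ?_⟩
    apply NN_hom_ext
    intro i
    have h3 : g ≫ ((resStarAdj AddCommGrpCat.{u + 1} V).homEquiv F G ψ0).hom.app (op U) = t :=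
      (congrArg (fun φ : F ⟶ (star AddCommGrpCat.{u + 1} V).obj G => g ≫ φ.hom.app (op U)) hψ0).trans
        (h.fac (G := (star AddCommGrpCat.{u + 1} V).obj G) t)
    exact (ιN_comp_nMap_comp V U σ g G ψ0 i).trans ((adj_rel V U σ g G ψ0 i).symm.trans
      ((congrArg (fun m => m ≫ G.obj.map (jj V U σ i).op) h3).trans (ht i)))

include hs h in
/-- **`j_! A` restricted to `V` is constant when `U ×_T V → V` splits completely.** -/
theorem nonempty_restr_iso : Nonempty (EtCoh.restr F V ≅
    (constantSheaf (JV V) AddCommGrpCat.{u + 1}).obj (NN A r)) := by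
  let cadj := constantSheafAdj (JV V) AddCommGrpCat.{u + 1} (Over.mkIdTerminal (X := V))
  let α : (constantSheaf (JV V) AddCommGrpCat.{u + 1}).obj (NN A r) ⟶ EtCoh.restr F V :=
    (cadj.homEquiv (NN A r) (EtCoh.restr F V)).symm (nMap V U σ g)
  have hα : IsIso α := by
    rw [isIso_iff_coyoneda_map_bijective]
    intro G
    have hcomp : (cadj.homEquiv (NN A r) G) ∘ (fun ψ : EtCoh.restr F V ⟶ G => α ≫ ψ) =
        fun ψ : EtCoh.restr F V ⟶ G => nMap V U σ g ≫ ψ.hom.app (op (EV V)) := by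
      funext ψ
      change cadj.homEquiv (NN A r) G (α ≫ ψ) = _
      rw [Adjunction.homEquiv_naturality_right, Equiv.apply_symm_apply]
      rfl
    rw [← Function.Bijective.of_comp_iff' (cadj.homEquiv (NN A r) G).bijective, hcomp]
    exact bijective_nMap V U σ hs g h G
  exact ⟨(asIso α).symm⟩

end Main

end Groth.Agent.H1.ExtZero
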