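import Groth.Agent.Lib.Helper1.ExtZeroD
import Groth.Agent.Lib.Helper21.Strata
import Groth.Agent.S0130

/-!
# `j_! M` is constructible for `j` étale, separated and quasi-compact (helper1)
-/

set_option autoImplicit false
universe u
open CategoryTheory CategoryTheory.Limits AlgebraicGeometry Opposite

namespace Groth.Agent.H1.ExtZero

open Groth.Agent.Lib.helper21.FlcPull Groth.Agent.H1.EtSplit Groth.Agent.H1.FibRank

/-- the coefficient group attached to a small abelian group -/
abbrev cof (M : Type) [AddCommGroup M] : AddCommGrpCat.{u + 1} := AddCommGrpCat.of (ULift.{u + 1} M)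

/-- **`j_! M` is finite locally constant when `U → T` is separated with finite fibres of constant
degree.** -/
theorem isFiniteLocallyConstant_of_deg_const {T : Scheme.{u}} (U : T.Etale) [IsSeparated U.hom]
    (hf : FinFib U.hom) (r : ℕ) (hdeg : ∀ t, deg U.hom t = r)
    (M : Type) [AddCommGroup M] [Finite M] (F : EtCoh.Ab T)
    (g : cof.{u} M ⟶ F.obj.obj (op U)) (h : IsExtZero U (cof.{u} M) F g) :
    EtCoh.IsFiniteLocallyConstant F := by
  haveI : Etale U.hom := U.prop
  choose V e he v σ hσ hv hsp using exists_psplit r U.hom hf hdeg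
  refine ⟨T, fun t => @Scheme.Etale.mk _ _ (e t) (he t), fun x => ⟨x, v x, hv x⟩, fun t => ?_⟩
  refine ⟨Fin r → M, inferInstance, inferInstance, ?_⟩
  obtain ⟨iso⟩ := nonempty_restr_iso (@Scheme.Etale.mk _ _ (e t) (he t)) U
    (fun i => MorphismProperty.Over.homMk (σ t i) (hσ t i) trivial) (hsp t) g h
  let eM : NN (cof.{u} M) r ≅ cof.{u} (Fin r → M) :=
    ((AddEquiv.piCongrRight fun _ : Fin r => (AddEquiv.ulift : ULift.{u + 1} M ≃+ M)).trans
      (AddEquiv.ulift : ULift.{u + 1} (Fin r → M) ≃+ (Fin r → M)).symm).toAddCommGrpIso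
  exact ⟨iso ≪≫ (constantSheaf _ _).mapIso eM⟩

/-- finite locally constant sheaves are constructible -/
theorem isConstructible_of_flc {X : Scheme.{u}} (F : EtCoh.Ab X)
    (hF : EtCoh.IsFiniteLocallyConstant F) : EtPBC.IsConstructible F := by
  intro W _
  refine ⟨1, fun _ => W.toScheme, fun _ => W.ι, fun _ => inferInstance, fun _ => ?_,
    Subsingleton.pairwise, ?_, fun _ _ => flc_pull W.ι F hF⟩
  · rw [Scheme.Opens.range_ι]
    have : (Subtype.val : ↥(W : Set X) → X) ⁻¹' (W : Set X) = Set.univ := by
      ext x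
      simp
    rw [this]
    exact Topology.IsConstructible.univ
  · rw [Set.iUnion_const, Scheme.Opens.range_ι]

theorem lqf_of_etale {X Y : Scheme.{u}} (g : X ⟶ Y) [Etale g] : LocallyQuasiFinite g := by
  constructor
  intro U hU V hV e
  have h := Etale.etale_appLE g hU hV e
  algebraize [(g.appLE U V e).hom]
  show Algebra.QuasiFinite _ _
  infer_instance

/-- **`j_! M` is constructible for `j : U → X` étale, separated and quasi-compact, `X` qcqs.** -/
theorem isConstructible_of_separated (X : Scheme.{u}) [CompactSpace X] [QuasiSeparatedSpace X]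
    (U : X.Etale) [IsSeparated U.hom] [QuasiCompact U.hom] (M : Type) [AddCommGroup M] [Finite M]
    (F : EtCoh.Ab X) (g : cof.{u} M ⟶ F.obj.obj (op U)) (h : IsExtZero U (cof.{u} M) F g) :
    EtPBC.IsConstructible F := by
  haveI : Etale U.hom := U.prop
  haveI : LocallyQuasiFinite U.hom := lqf_of_etale U.hom
  have hf : FinFib U.hom := finFib_of_quasiCompact U.hom
  have hopen : ∀ r, IsOpen {x : X | r ≤ deg U.hom x} := fun r => isOpen_le_deg U.hom hf r
  have hcomp : ∀ r, IsCompact {x : X | r ≤ deg U.hom x} := fun r =>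
    isCompact_le_deg r (X := U.left) (S := X) U.hom hf
  have hex : ∀ r : ℕ, ∃ (Z : Scheme.{u}) (k : Z ⟶ X), IsImmersion k ∧
      Set.range k = {x | r ≤ deg U.hom x} ∩ {x | r + 1 ≤ deg U.hom x}ᶜ :=
    fun r => Groth.Agent.Lib.helper21.Strata.exists_immersion_range ⟨_, hopen r⟩
      ⟨_, (hopen (r + 1)).isClosed_compl⟩
  choose Z k hk hkr using hex
  haveI : ∀ i : ULift.{u} ℕ, IsImmersion (k i.down) := fun i => hk i.down
  apply Groth.Agent.S0130.result X F (fun i : ULift.{u} ℕ => Z i.down) (fun i => k i.down)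
  · intro i
    rw [hkr]
    exact ((hcomp _).isConstructible (hopen _)).inter ((hcomp _).isConstructible (hopen _)).compl
  · ext x
    simp only [Set.mem_iUnion, Set.mem_univ, iff_true]
    refine ⟨⟨deg U.hom x⟩, ?_⟩
    rw [hkr]
    refine ⟨?_, ?_⟩
    · show deg U.hom x ≤ deg U.hom x
      exact le_rfl
    · show ¬ (deg U.hom x + 1 ≤ deg U.hom x)
      omega
  · intro i
    apply isConstructible_of_flc
    have hp := h.pull (k i.down)
    have sq : IsPullback (pullback.fst U.hom (k i.down)) (pullback.snd U.hom (k i.down)) U.hom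
      (k i.down) := IsPullback.of_hasPullback _ _
    haveI : IsSeparated ((EtCoh.bc (k i.down)).obj U).hom :=
      MorphismProperty.pullback_snd (P := @IsSeparated) _ _ inferInstance
    refine isFiniteLocallyConstant_of_deg_const ((EtCoh.bc (k i.down)).obj U)
      (finFib_of_isPullback U.hom hf sq) i.down ?_ M _ _ hp
    intro t
    have h1 : deg ((EtCoh.bc (k i.down)).obj U).hom t = deg U.hom (k i.down t) :=
      deg_of_isPullback U.hom hf sq t
    rw [h1]
    have h2 : k i.down t ∈ Set.range (k i.down) := ⟨t, rfl⟩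
    rw [hkr] at h2
    obtain ⟨h3, h4⟩ := h2
    simp only [Set.mem_compl_iff, Set.mem_ofPred_eq, not_le] at h3 h4
    omega

end Groth.Agent.H1.ExtZero
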