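import Groth.Agent.S0687

/-!
# Sections of `j_! F` for an open immersion `j` (helper1)

For an open immersion `j : X ⟶ Xb`, an abelian sheaf `F` on `X_et`, an etale `Xb`-scheme `E`, an etale
`X`-scheme `W` and a morphism `π : (W → X → Xb) ⟶ E` of the small etale site of `Xb` which is an open
immersion onto the preimage of `X` in `E`, the sections of `j_! F` over `E` are the sections of `F` over `W`
whose support is closed in `E`.

* `eq_zero_of_map_π`: injectivity of `t ↦ t|_W`.
* `exists_closed_of_map_π`: the support of `t|_W` is closed in `E`.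
* `exists_of_closed_image`: sections with support closed in `E` extend.
* `isClosed_image_of_isProperOver`, `isProperOver_of_isClosed_image`: for an open immersion into a scheme proper
  over a base, proper over the base = closed in the compactification.
-/

set_option autoImplicit false
universe u
open CategoryTheory CategoryTheory.Limits AlgebraicGeometry Opposite
open EtShriek

namespace Groth.Agent.H1.ExtZeroSect

open Groth.Agent.H1.EtGerm Groth.Agent.H1.FinPushStalk Groth.Agent.H1.EtStalkPull Groth.Agent.S0728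
  Groth.Agent.S0687

theorem isClosed_image_of_isProperOver {S X Xb : Scheme.{u}} (j : X ⟶ Xb)
    (pb : Xb ⟶ S) [IsProper pb] (p : X ⟶ S) (hp : p = j ≫ pb) (Z : Set X)
    (h : ClSub.IsProperOver p Z) : IsClosed (j.base '' Z) := by
  obtain ⟨hZ, hprop⟩ := h
  rw [hp, ← Category.assoc] at hprop
  have h1 : IsProper ((Scheme.IdealSheafData.vanishingIdeal ⟨Z, hZ⟩).subschemeι ≫ j) :=
    IsProper.of_comp _ pb
  rw [← range_comp_subschemeι j Z hZ]
  exact ((Scheme.IdealSheafData.vanishingIdeal ⟨Z, hZ⟩).subschemeι ≫ j).isClosedMap.isClosed_range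

theorem isProperOver_of_isClosed_image {S X Xb : Scheme.{u}} (j : X ⟶ Xb)
    [IsOpenImmersion j] (pb : Xb ⟶ S) [IsProper pb]
    (p : X ⟶ S) (hp : p = j ≫ pb) (Z : Set X) (hZ : IsClosed Z)
    (h : IsClosed (j.base '' Z)) : ClSub.IsProperOver p Z := by
  refine ⟨hZ, ?_⟩
  have h1 : IsClosedImmersion ((Scheme.IdealSheafData.vanishingIdeal ⟨Z, hZ⟩).subschemeι ≫ j) := by
    apply IsClosedImmersion.of_isPreimmersion
    rw [range_comp_subschemeι j Z hZ]
    exact h
  rw [hp, ← Category.assoc]
  infer_instance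

section

variable {X Xb : Scheme.{u}} (j : X ⟶ Xb) [IsOpenImmersion j] [EtShriek.JCont j] (F : EtCoh.Ab X)
variable {W : X.Etale} {E : Xb.Etale} (π : (EtShriek.compEtale j).obj W ⟶ E)

theorem mem_vanishLocus_of_not_mem_range
    (hπ : ∀ e : E.left, E.hom.base e ∈ Set.range j.base → e ∈ Set.range π.left.base)
    (t : (G j F).obj.obj (op E)) (e : E.left)
    (he : e ∉ Set.range π.left.base) : e ∈ vanishLocus (G j F) E t := by
  apply mem_vanishLocus_of_isZero_stalk
  intro Ω _ _ ξ y hy
  apply isZero_stalk_extZero_of_not_mem j F ξ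
  rintro _ ⟨a, rfl⟩
  rw [Subsingleton.elim a default]
  have h1 : y.hom ≫ E.hom = ξ := y.hom_comp
  have h2 : ξ.base default = E.hom.base e := by
    rw [← h1, ← hy]
    rfl
  rw [h2]
  intro h3
  exact he (hπ e h3)

/-- sections of `j_! F` over `E` are determined by their restriction to `W` -/
theorem eq_zero_of_map_π
    (hπ : ∀ e : E.left, E.hom.base e ∈ Set.range j.base → e ∈ Set.range π.left.base)
    (t : (G j F).obj.obj (op E)) (h : (G j F).obj.map π.op t = 0) : t = 0 := by
  apply eq_zero_of_locally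
  intro e
  by_cases he : e ∈ Set.range π.left.base
  · exact ⟨_, π, he, h⟩
  · exact mem_vanishLocus_of_not_mem_range j F π hπ t e he


/-- the fibre product `N ×_E W` as an etale `X`-scheme -/
noncomputable def pbObj {N : Xb.Etale} (n : N ⟶ E) : X.Etale :=
  have h0 : AlgebraicGeometry.Etale n.left := etale_left n
  have h1 : AlgebraicGeometry.Etale (pullback.snd n.left π.left) := inferInstance
  have h2 : AlgebraicGeometry.Etale W.hom := W.prop
  have h3 : AlgebraicGeometry.Etale (pullback.snd n.left π.left ≫ W.hom) :=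
    @AlgebraicGeometry.Etale.etale_comp _ _ (pullback.snd n.left π.left) _ W.hom h1 h2
  Scheme.Etale.mk (pullback.snd n.left π.left ≫ W.hom)

/-- the projection `N ×_E W → W` -/
noncomputable def pbSnd {N : Xb.Etale} (n : N ⟶ E) : pbObj j π n ⟶ W :=
  MorphismProperty.Over.homMk (pullback.snd n.left π.left) rfl trivial

/-- the projection `N ×_E W → N` -/
noncomputable def pbFst {N : Xb.Etale} (n : N ⟶ E) :
    (EtShriek.compEtale j).obj (pbObj j π n) ⟶ N :=
  MorphismProperty.Over.homMk (pullback.fst n.left π.left) (by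
    have e1 : n.left ≫ E.hom = N.hom := MorphismProperty.Over.w n
    have e2 : π.left ≫ E.hom = W.hom ≫ j := MorphismProperty.Over.w π
    change pullback.fst n.left π.left ≫ N.hom = (pullback.snd n.left π.left ≫ W.hom) ≫ j
    rw [← e1, ← Category.assoc, pullback.condition, Category.assoc, e2]
    exact (Category.assoc _ _ _).symm) trivial

omit [EtShriek.JCont j] in
theorem pb_comm {N : Xb.Etale} (n : N ⟶ E) :
    (EtShriek.compEtale j).map (pbSnd j π n) ≫ π = pbFst j π n ≫ n := by
  apply MorphismProperty.Over.Hom.ext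
  exact pullback.condition.symm

/-- the support of the restriction to `W` of a section of `j_! F` over `E` is closed in `E` -/
theorem exists_closed_of_map_π [IsOpenImmersion π.left]
    (hπ : ∀ e : E.left, E.hom.base e ∈ Set.range j.base → e ∈ Set.range π.left.base)
    (t : (G j F).obj.obj (op E)) (s : F.obj.obj (op W))
    (hs : uA j F W s = (G j F).obj.map π.op t) :
    ∃ Z : Set W.left, IsClosed Z ∧ sectSupp F W s ⊆ Z ∧ IsClosed (π.left.base '' Z) := by
  have hTcl : IsClosed (vanishLocus (G j F) E t)ᶜ := (isOpen_vanishLocus _ _ _).isClosed_compl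
  have hTsub : (vanishLocus (G j F) E t)ᶜ ⊆ Set.range π.left.base := by
    intro e he
    by_contra h
    exact he (mem_vanishLocus_of_not_mem_range j F π hπ t e h)
  refine ⟨π.left.base ⁻¹' (vanishLocus (G j F) E t)ᶜ, hTcl.preimage π.left.continuous, ?_, ?_⟩
  · intro x hx
    by_contra hxT
    have hx' : π.left.base x ∈ vanishLocus (G j F) E t := by
      by_contra h
      exact hxT h
    obtain ⟨N, n, ⟨y, hy⟩, hn⟩ := hx'
    obtain ⟨z, hz1, hz2⟩ := Scheme.Pullback.exists_preimage_pullback (f := n.left) (g := π.left) y x hy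
    refine hx (pbObj j π n) (pbSnd j π n) ⟨z, hz2⟩ ?_
    apply (uA_bijective j F _).1
    rw [map_zero, uA_naturality, hs, map_map, pb_comm, ← map_map, hn, map_zero]
  · have e := Set.image_preimage_eq_of_subset hTsub
    exact e.symm ▸ hTcl

/-- a section of `F` over `W` whose support is closed in `E` extends to a section of `j_! F` over `E` -/
theorem exists_of_closed_image [IsOpenImmersion π.left]
    (s : F.obj.obj (op W)) (Z : Set W.left) (hsZ : sectSupp F W s ⊆ Z)
    (hT : IsClosed (π.left.base '' Z)) :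
    ∃ t : (G j F).obj.obj (op E), (G j F).obj.map π.op t = uA j F W s := by
  obtain ⟨V, hV⟩ : ∃ V : E.left.Opens, V = ⟨(π.left.base '' Z)ᶜ, hT.isOpen_compl⟩ := ⟨_, rfl⟩
  have hmemV : ∀ x : E.left, x ∈ V ↔ x ∉ π.left.base '' Z := by
    intro x
    rw [hV]
    rfl
  obtain ⟨W₀, hW₀⟩ : ∃ W₀ : W.left.Opens, W₀ = π.left ⁻¹ᵁ V := ⟨_, rfl⟩
  have hmemW : ∀ x : W.left, x ∈ W₀ → x ∉ Z := by
    intro x hx hxZ
    rw [hW₀] at hx
    exact (hmemV _).1 hx ⟨x, hxZ, rfl⟩
  have hb := main_aux (G j F) π V
    (fun a b _ hab => π.left.isOpenEmbedding.injective hab)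
    (fun x hx => by
      have hx' : x ∈ π.left.base '' Z := by
        by_contra h
        exact hx ((hmemV x).2 h)
      obtain ⟨z, -, rfl⟩ := hx'
      exact ⟨z, rfl⟩)
    (fun x _ => (ConcreteCategory.isIso_iff_bijective _).mp inferInstance)
  have hs0 : F.obj.map (restrictOpenι W W₀).op s = 0 := by
    apply (sectSupp_subset_iff F W W₀ s).1
    intro x hx hxW
    exact hmemW x hxW (hsZ hx)
  have hs' : (G j F).obj.map (restrictOpenι ((EtShriek.compEtale j).obj W) (π.left ⁻¹ᵁ V)).op
      (uA j F W s) = 0 := by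
    have h1 : (G j F).obj.map ((EtShriek.compEtale j).map (restrictOpenι W W₀)).op
        (uA j F W s) = 0 := by
      rw [← uA_naturality, hs0, map_zero]
    have : IsOpenImmersion ((EtShriek.compEtale j).map (restrictOpenι W W₀)).left := by
      change IsOpenImmersion W₀.ι
      infer_instance
    refine map_eq_zero_of_fac' (G j F) _ _ h1 _ (fun x => ?_)
    change _ ∈ Set.range W₀.ι.base
    rw [Scheme.Opens.range_ι, hW₀]
    exact ι_mem (π.left ⁻¹ᵁ V) x
  obtain ⟨t, -, ht⟩ := hb.surjOn hs'
  exact ⟨t, ht⟩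

end

end Groth.Agent.H1.ExtZeroSect
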