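import Groth.Agent.Lib.Helper1.TorsColim
import Groth.Prelude.Def_EtShriek2

/-!
# Extension by zero along an étale morphism preserves constructibility (helper1)
-/

set_option autoImplicit false
universe u
open CategoryTheory CategoryTheory.Limits AlgebraicGeometry Opposite

namespace Groth.Agent.H1.ExtZeroShriek

open Groth.Agent.H1.ExtZero Groth.Agent.H1.ConstrGen Groth.Agent.H1.Cpt
  Groth.Agent.Lib.helper21.Constr

variable {U X : Scheme.{u}}

/-- `f_!` of `j_! A` is `(f ∘ j)_! A` -/
theorem isExtZero_shriek (f : U ⟶ X) [Etale f] [EtShriek.JCont f] {V : U.Etale}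
    {A : AddCommGrpCat.{u + 1}} {P : EtCoh.Ab U} {g : A ⟶ P.obj.obj (op V)}
    (h : IsExtZero V A P g) :
    IsExtZero ((EtShriek.compEtale f).obj V) A ((EtShriek.extZero f).obj P)
      (g ≫ ((EtShriek.extZeroAdj f).unit.app P).hom.app (op V)) := by
  intro G
  have : (fun φ : (EtShriek.extZero f).obj P ⟶ G =>
        (g ≫ ((EtShriek.extZeroAdj f).unit.app P).hom.app (op V)) ≫
          φ.hom.app (op ((EtShriek.compEtale f).obj V))) =
      (fun ψ : P ⟶ (EtShriek.restrAlong f).obj G => g ≫ ψ.hom.app (op V)) ∘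
        ((EtShriek.extZeroAdj f).homEquiv P G) := by
    funext φ
    change _ = g ≫ (((EtShriek.extZeroAdj f).homEquiv P G) φ).hom.app (op V)
    rw [Adjunction.homEquiv_unit]
    exact Category.assoc _ _ _
  exact (congrArg Function.Bijective this).mpr
    ((h _).comp ((EtShriek.extZeroAdj f).homEquiv P G).bijective)

variable [CompactSpace X] [QuasiSeparatedSpace X]

theorem isConstructible_shriek_ez (f : U ⟶ X) [Etale f] [EtShriek.JCont f] (V : U.Etale)
    (hV : IsAffine V.left) (n : ℕ) (hn : 0 < n) :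
    EtPBC.IsConstructible ((EtShriek.extZero f).obj (ez V (Zn.{u} n))) := by
  haveI : NeZero n := ⟨hn.ne'⟩
  have h1 := isExtZero_shriek f (isExtZero_ez V (Zn.{u} n))
  have h2 := isExtZero_ez ((EtShriek.compEtale f).obj V) (Zn.{u} n)
  haveI : IsAffine ((EtShriek.compEtale f).obj V).left := hV
  exact isConstructible_of_iso (h2.iso h1) (isConstructible_ez _ (ZMod n))

theorem isConstructible_shriek_PP (f : U ⟶ X) [Etale f] [EtShriek.JCont f] (n : ℕ) (hn : 0 < n)
    {a : ℕ} (V : Fin a → U.Etale) (hV : ∀ k, IsAffine (V k).left) :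
    EtPBC.IsConstructible ((EtShriek.extZero f).obj (PP.{u} n V)) := by
  haveI : NeZero n := ⟨hn.ne'⟩
  haveI : CompactSpace (EtCoh.top X).left := inferInstanceAs (CompactSpace X)
  haveI : QuasiSeparatedSpace (EtCoh.top X).left := inferInstanceAs (QuasiSeparatedSpace X)
  have h₀ : EtPBC.IsConstructible (ez (EtCoh.top X) (cof.{u} (ZMod n))) :=
    isConstructible_ez (EtCoh.top X) (ZMod n)
  haveI : (EtShriek.extZero f).IsLeftAdjoint := (EtShriek.extZeroAdj f).isLeftAdjoint
  haveI : (EtShriek.extZero f).PreservesZeroMorphisms :=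
    Functor.preservesZeroMorphisms_of_isLeftAdjoint _
  haveI : PreservesBiproduct (fun k : Fin a => ez (V k) (Zn.{u} n)) (EtShriek.extZero f) :=
    preservesBiproduct_of_preservesCoproduct _
  have e := (EtShriek.extZero f).mapBiproduct (fun k : Fin a => ez (V k) (Zn.{u} n))
  exact isConstructible_of_iso e.symm (isConstructible_biproduct h₀ _
    (fun k => isConstructible_shriek_ez f (V k) (hV k) n hn))

/-- **`f_!` preserves constructibility** for `f : U ⟶ X` étale between quasi-compact
quasi-separated schemes -/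
theorem isConstructible_shriek [CompactSpace U] [QuasiSeparatedSpace U] (f : U ⟶ X) [Etale f]
    [EtShriek.JCont f] (F : EtCoh.Ab U) (hF : EtPBC.IsConstructible F) :
    EtPBC.IsConstructible ((EtShriek.extZero f).obj F) := by
  obtain ⟨N, hN, hFN⟩ := exists_killedBy F hF
  obtain ⟨a, b, V, W, hV, hW, φ, ⟨e⟩⟩ := exists_presentation N hN F hF hFN
  have e1 : (EtShriek.extZero f).obj F ≅ (EtShriek.extZero f).obj (cokernel φ) :=
    (EtShriek.extZero f).mapIso e
  haveI : (EtShriek.extZero f).IsLeftAdjoint := (EtShriek.extZeroAdj f).isLeftAdjoint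
  haveI : (EtShriek.extZero f).PreservesZeroMorphisms :=
    Functor.preservesZeroMorphisms_of_isLeftAdjoint _
  have e2 : (EtShriek.extZero f).obj (cokernel φ) ≅ cokernel ((EtShriek.extZero f).map φ) :=
    PreservesCokernel.iso (EtShriek.extZero f) φ
  exact isConstructible_of_iso (e1 ≪≫ e2).symm
    (constr_kernel_cokernel _ (isConstructible_shriek_PP f N hN V hV)
      (isConstructible_shriek_PP f N hN W hW)).2

end Groth.Agent.H1.ExtZeroShriek
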