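import Groth.Agent.Lib.Helper1.ClopenExt
import Groth.Agent.Lib.Helper1.ExtZeroStalk
import Groth.Agent.S0660
import Groth.Agent.S0651

set_option autoImplicit false
universe u

namespace Groth.Agent.H1.ExtZeroToPush

open CategoryTheory CategoryTheory.Limits Opposite GrothendieckTopology AlgebraicGeometry
open Groth.Agent.H1.EtStalk Groth.Agent.H1.EtGerm Groth.Agent.H1.EtStalkPull
  Groth.Agent.H1.ClopenExt Groth.Agent.H1.ExtZeroStalk

variable {U X : Scheme.{u}} (j : U ⟶ X) [AlgebraicGeometry.Etale j]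

/-- `V ↦ U ×_X V` on the small etale site of `U` -/
noncomputable abbrev E (V : U.Etale) : U.Etale :=
  (EtCoh.bc j).obj ((EtShriek.compEtale j).obj V)

/-- the graph `V ⟶ U ×_X V` -/
noncomputable abbrev Γ (V : U.Etale) : V ⟶ E j V := (Groth.Agent.S0651.adj0 j).unit.app V

/-- the first projection `U ×_X V ⟶ V` -/
noncomputable abbrev pr (V : U.Etale) : (E j V).left ⟶ V.left := pullback.fst (V.hom ≫ j) j

theorem Γ_pr (V : U.Etale) : (Γ j V).left ≫ pr j V = 𝟙 V.left := by
  change (pullback.lift (𝟙 V.left) V.hom (by simp) : V.left ⟶ pullback (V.hom ≫ j) j) ≫ _ = _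
  exact pullback.lift_fst _ _ _

theorem Γ_snd (V : U.Etale) : (Γ j V).left ≫ pullback.snd (V.hom ≫ j) j = V.hom := by
  change (pullback.lift (𝟙 V.left) V.hom (by simp) : V.left ⟶ pullback (V.hom ≫ j) j) ≫ _ = _
  exact pullback.lift_snd _ _ _

theorem Γ_naturality {V V' : U.Etale} (k : V' ⟶ V) :
    Γ j V' ≫ (EtCoh.bc j).map ((EtShriek.compEtale j).map k) = k ≫ Γ j V :=
  ((Groth.Agent.S0651.adj0 j).unit.naturality k).symm

theorem isPullback_Γ {V V' : U.Etale} (k : V' ⟶ V) :
    IsPullback (Γ j V').left k.left ((EtCoh.bc j).map ((EtShriek.compEtale j).map k)).left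
      (Γ j V).left := by
  have t := (EtCoh.isPullback_bc_map j ((EtShriek.compEtale j).map k)).flip
  have p : (Γ j V').left ≫ ((EtCoh.bc j).map ((EtShriek.compEtale j).map k)).left =
      k.left ≫ (Γ j V).left := congrArg (fun m => m.left) (Γ_naturality j k)
  refine IsPullback.of_right ?_ p t
  have e1 : (Γ j V').left ≫ pullback.fst (((EtShriek.compEtale j).obj V').hom) j = 𝟙 _ := Γ_pr j V'
  have e2 : (Γ j V).left ≫ pullback.fst (((EtShriek.compEtale j).obj V).hom) j = 𝟙 _ := Γ_pr j V
  rw [e1, e2]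
  exact IsPullback.id_horiz k.left

theorem mem_range_Γ {V V' : U.Etale} (k : V' ⟶ V) (x : (E j V').left)
    (hx : ((EtCoh.bc j).map ((EtShriek.compEtale j).map k)).left.base x ∈
      Set.range (Γ j V).left.base) : x ∈ Set.range (Γ j V').left.base := by
  obtain ⟨v, hv⟩ := hx
  have sq := isPullback_Γ j k
  obtain ⟨z, hz1, -⟩ := Scheme.Pullback.exists_preimage_pullback
    (f := ((EtCoh.bc j).map ((EtShriek.compEtale j).map k)).left) (g := (Γ j V).left) x v hv.symm
  refine ⟨sq.isoPullback.inv.base z, ?_⟩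
  rw [← hz1, ← Scheme.Hom.comp_apply, IsPullback.isoPullback_inv_fst]

variable [IsSeparated j]

omit [IsSeparated j] in
theorem etale_pr (V : U.Etale) : AlgebraicGeometry.Etale (pr j V) :=
  MorphismProperty.pullback_fst (P := @AlgebraicGeometry.Etale) _ _ inferInstance

theorem isSeparated_pr (V : U.Etale) : IsSeparated (pr j V) :=
  MorphismProperty.pullback_fst (P := @IsSeparated) _ _ inferInstance

theorem isClopen_Γ (V : U.Etale) : IsClopen (Γ j V) where
  open_imm :=
    have := etale_pr j V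
    Groth.Agent.S0660.isOpenImmersion_of_section (Γ j V).left (pr j V) (Γ_pr j V)
  closed_range := by
    have := isSeparated_pr j V
    have h1 : IsClosedImmersion ((Γ j V).left ≫ pr j V) := by
      rw [Γ_pr]
      infer_instance
    have h2 : IsClosedImmersion (Γ j V).left := IsClosedImmersion.of_comp _ (pr j V)
    exact (Γ j V).left.isClosedEmbedding.isClosed_range


variable [EtShriek.JCont j]

/-- components of `η : F ⟶ j⁻¹ j_* F`: extension by zero along the graph -/
noncomputable def ηApp (F : EtCoh.Ab U) (V : U.Etale) :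
    F.obj.obj (op V) ⟶
      ((EtShriek.restrAlong j).obj ((EtCoh.push j).obj F)).obj.obj (op V) :=
  extZHom F (isClopen_Γ j V)

theorem ηApp_apply (F : EtCoh.Ab U) (V : U.Etale) (s : F.obj.obj (op V)) :
    ηApp j F V s = extZ F (isClopen_Γ j V) s := rfl

theorem ηApp_naturality (F : EtCoh.Ab U) {V V' : U.Etale} (k : V' ⟶ V) :
    F.obj.map k.op ≫ ηApp j F V' =
      ηApp j F V ≫ ((EtShriek.restrAlong j).obj ((EtCoh.push j).obj F)).obj.map k.op := by
  ext s
  change extZ F (isClopen_Γ j V') (F.obj.map k.op s) =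
    F.obj.map ((EtCoh.bc j).map ((EtShriek.compEtale j).map k)).op (extZ F (isClopen_Γ j V) s)
  exact (map_extZ_of_square F (isClopen_Γ j V) (isClopen_Γ j V')
    ((EtCoh.bc j).map ((EtShriek.compEtale j).map k)) k (Γ_naturality j k)
    (mem_range_Γ j k) s).symm

/-- `η_F : F ⟶ j⁻¹ j_* F` -/
noncomputable def ηF (F : EtCoh.Ab U) :
    F ⟶ (EtShriek.restrAlong j).obj ((EtCoh.push j).obj F) :=
  ⟨{ app := fun V => ηApp j F V.unop
     naturality := fun _ _ k => ηApp_naturality j F k.unop }⟩

theorem ηF_app (F : EtCoh.Ab U) (V : U.Etale) : (ηF j F).hom.app (op V) = ηApp j F V := rfl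

/-- `η : 𝟭 ⟶ j_* ⋙ j⁻¹` -/
noncomputable def η : 𝟭 (EtCoh.Ab U) ⟶ EtCoh.push j ⋙ EtShriek.restrAlong j where
  app F := ηF j F
  naturality F G α := by
    apply Sheaf.hom_ext
    ext V : 2
    induction V using Opposite.rec with | _ V => ?_
    ext s
    change extZ G (isClopen_Γ j V) (α.hom.app (op V) s) =
      α.hom.app (op (E j V)) (extZ F (isClopen_Γ j V) s)
    exact (app_extZ F α (isClopen_Γ j V) s).symm

/-- the comparison `τ : j_! ⟶ j_*` -/
noncomputable def τ : EtShriek.extZero j ⟶ EtCoh.push j where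
  app F := ((EtShriek.extZeroAdj j).homEquiv F ((EtCoh.push j).obj F)).symm ((η j).app F)
  naturality F G α := by
    rw [← Adjunction.homEquiv_naturality_left_symm, ← Adjunction.homEquiv_naturality_right_symm]
    congr 1
    exact (η j).naturality α

theorem unit_τ (F : EtCoh.Ab U) :
    (EtShriek.extZeroAdj j).unit.app F ≫ (EtShriek.restrAlong j).map ((τ j).app F) = ηF j F := by
  have := (EtShriek.extZeroAdj j).homEquiv_unit (X := F) (Y := (EtCoh.push j).obj F)
    (f := (τ j).app F)
  rw [← this]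
  exact Equiv.apply_symm_apply _ _

end Groth.Agent.H1.ExtZeroToPush
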