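import Mathlib
import Groth.Agent.Lib.Helper4.AffineDescent

/-!
# Degrees of fibres of étale separated morphisms via lifts of field valued points (helper1)
-/

set_option autoImplicit false
universe u
open CategoryTheory CategoryTheory.Limits AlgebraicGeometry

namespace Groth.Agent.H1.FibDeg

variable {R U : Scheme.{u}}

/-- Lifts of a field valued point `g` of `U` along `s : R ⟶ U`. -/
def Lifts (s : R ⟶ U) {K : Type u} [Field K] (g : Spec (.of K) ⟶ U) : Set (Spec (.of K) ⟶ R) :=
  {ℓ | ℓ ≫ s = g}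

theorem mem_lifts (s : R ⟶ U) {K : Type u} [Field K] (g : Spec (.of K) ⟶ U)
    (ℓ : Spec (.of K) ⟶ R) : ℓ ∈ Lifts s g ↔ ℓ ≫ s = g := Iff.rfl

/-- A morphism between spectra of fields is an epimorphism of schemes. -/
theorem epi_of_field {K Ω : Type u} [Field K] [Field Ω] (e : Spec (.of Ω) ⟶ Spec (.of K)) :
    Epi e := by
  have hfl : Flat e := by
    rw [← Spec.map_preimage e, HasRingHomProperty.Spec_iff (P := @Flat)]
    algebraize [(Spec.preimage e).hom]
    exact (inferInstance : Module.Flat K Ω)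
  have hsurj : Surjective e := by
    constructor
    intro y
    obtain ⟨x⟩ : Nonempty (Spec (.of Ω)) := inferInstance
    have : Subsingleton (Spec (.of K)) := inferInstanceAs (Subsingleton (PrimeSpectrum K))
    exact ⟨x, Subsingleton.elim _ _⟩
  exact Flat.epi_of_flat_of_surjective e

theorem encard_lifts_le_of_ext (s : R ⟶ U) {K Ω : Type u} [Field K] [Field Ω]
    (g : Spec (.of K) ⟶ U) (e : Spec (.of Ω) ⟶ Spec (.of K)) :
    (Lifts s g).encard ≤ (Lifts s (e ≫ g)).encard := by
  haveI := epi_of_field e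
  refine Set.encard_le_encard_of_injOn (f := fun ℓ => e ≫ ℓ) ?_ ?_
  · intro ℓ hℓ
    change (e ≫ ℓ) ≫ s = e ≫ g
    rw [Category.assoc, hℓ]
  · intro ℓ _ ℓ' _ h
    exact (cancel_epi e).1 h

/-- The fibre of `s` over `v` has geometric degree at least `n`. -/
def DegGE (s : R ⟶ U) (n : ℕ) (v : U) : Prop :=
  ∃ (K : Type u) (_ : Field K) (g : Spec (.of K) ⟶ U), (∀ y, g y = v) ∧
    (n : ℕ∞) ≤ (Lifts s g).encard

theorem degGE_zero (s : R ⟶ U) (v : U) : DegGE s 0 v := by
  refine ⟨U.residueField v, inferInstance, U.fromSpecResidueField v, ?_, by simp⟩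
  intro y
  have : U.fromSpecResidueField v y ∈ Set.range (U.fromSpecResidueField v) := ⟨y, rfl⟩
  rw [Scheme.range_fromSpecResidueField] at this
  exact this

theorem DegGE.mono {s : R ⟶ U} {m n : ℕ} (hmn : m ≤ n) {v : U} (h : DegGE s n v) : DegGE s m v := by
  obtain ⟨K, hK, g, hg, hn⟩ := h
  exact ⟨K, hK, g, hg, le_trans (by exact_mod_cast hmn) hn⟩

/-- A field valued point of `U` at `s r` and the point `r` have a common refinement. -/
theorem exists_ext (s : R ⟶ U) {K : Type u} [Field K] (g : Spec (.of K) ⟶ U) (r : R)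
    (hr : ∀ y, g y = s r) :
    ∃ (Ω : Type u) (_ : Field Ω) (e : Spec (.of Ω) ⟶ Spec (.of K)) (ρ : Spec (.of Ω) ⟶ R),
      (∀ y, ρ y = r) ∧ ρ ≫ s = e ≫ g := by
  obtain ⟨y₀⟩ : Nonempty (Spec (.of K)) := inferInstance
  obtain ⟨z, hz1, hz2⟩ := Scheme.Pullback.exists_preimage_pullback (f := g) (g := s) y₀ r (hr y₀)
  refine ⟨(pullback g s).residueField z, inferInstance,
    (pullback g s).fromSpecResidueField z ≫ pullback.fst g s,
    (pullback g s).fromSpecResidueField z ≫ pullback.snd g s, ?_, ?_⟩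
  · intro y
    have : (pullback g s).fromSpecResidueField z y ∈ Set.range ((pullback g s).fromSpecResidueField z) :=
      ⟨y, rfl⟩
    rw [Scheme.range_fromSpecResidueField] at this
    rw [Scheme.Hom.comp_apply, this, hz2]
  · rw [Category.assoc, Category.assoc, pullback.condition]


section OffDiag

variable (s : R ⟶ U)

/-- The complement of the diagonal in `R ×_U R`, for separated `s`. -/
noncomputable def offDiag [IsSeparated s] : (pullback s s).Opens :=
  ⟨(Set.range (pullback.diagonal s))ᶜ,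
    (pullback.diagonal s).isClosedEmbedding.isClosed_range.isOpen_compl⟩

/-- The first projection from the complement of the diagonal. -/
noncomputable def sp [IsSeparated s] : (offDiag s).toScheme ⟶ R := (offDiag s).ι ≫ pullback.fst s s

instance [IsSeparated s] [Etale s] : Etale (sp s) := by
  unfold sp; infer_instance

instance [IsSeparated s] : IsSeparated (sp s) := by
  unfold sp; infer_instance

variable {s} in
theorem lift_mem_offDiag [IsSeparated s] [Etale s] {K : Type u} [Field K] {ρ ℓ : Spec (.of K) ⟶ R}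
    (h : ℓ ≫ s = ρ ≫ s) (hne : ℓ ≠ ρ) (y : Spec (.of K)) :
    pullback.lift ρ ℓ h.symm y ∈ offDiag s := by
  intro hy
  apply hne
  have hsub : Set.range (pullback.lift ρ ℓ h.symm) ⊆ Set.range (pullback.diagonal s) := by
    rintro _ ⟨y', rfl⟩
    have : Subsingleton (Spec (.of K)) := inferInstanceAs (Subsingleton (PrimeSpectrum K))
    rw [Subsingleton.elim y' y]
    exact hy
  have h1 := IsOpenImmersion.lift_fac (pullback.diagonal s) (pullback.lift ρ ℓ h.symm) hsub
  have h2 := congrArg (fun m => m ≫ pullback.fst s s) h1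
  have h3 := congrArg (fun m => m ≫ pullback.snd s s) h1
  simp only [Category.assoc, pullback.diagonal_fst, pullback.diagonal_snd, Category.comp_id,
    pullback.lift_fst, pullback.lift_snd] at h2 h3
  exact h3.symm.trans h2

/-- **Key identity**: the fibre of `sp s` over `ρ` is the fibre of `s` over `ρ ≫ s` minus `ρ`. -/
theorem encard_lifts_sp [IsSeparated s] [Etale s] {K : Type u} [Field K] (ρ : Spec (.of K) ⟶ R) :
    (Lifts (sp s) ρ).encard + 1 = (Lifts s (ρ ≫ s)).encard := by
  have hρ : ρ ∈ Lifts s (ρ ≫ s) := rfl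
  rw [← Set.encard_sdiff_singleton_add_one hρ]
  congr 1
  have hinj : Set.InjOn (fun ℓ' : Spec (.of K) ⟶ (offDiag s).toScheme =>
      ℓ' ≫ (offDiag s).ι ≫ pullback.snd s s) (Lifts (sp s) ρ) := by
    intro ℓ₁ h₁ ℓ₂ h₂ h
    rw [← cancel_mono (offDiag s).ι]
    apply pullback.hom_ext
    · have e₁ : ℓ₁ ≫ (offDiag s).ι ≫ pullback.fst s s = ρ := h₁
      have e₂ : ℓ₂ ≫ (offDiag s).ι ≫ pullback.fst s s = ρ := h₂
      rw [Category.assoc, Category.assoc, e₁, e₂]
    · simpa only [Category.assoc] using h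
  rw [← hinj.encard_image]
  congr 1
  ext ℓ
  constructor
  · rintro ⟨ℓ', hℓ', rfl⟩
    have e₁ : ℓ' ≫ (offDiag s).ι ≫ pullback.fst s s = ρ := hℓ'
    refine ⟨?_, ?_⟩
    · change (ℓ' ≫ (offDiag s).ι ≫ pullback.snd s s) ≫ s = ρ ≫ s
      rw [← e₁]
      simp only [Category.assoc, pullback.condition]
    · intro hh
      have hh' : ℓ' ≫ (offDiag s).ι ≫ pullback.snd s s = ρ := hh
      have heq : ℓ' ≫ (offDiag s).ι = ρ ≫ pullback.diagonal s := by
        apply pullback.hom_ext
        · rw [Category.assoc, e₁, Category.assoc, pullback.diagonal_fst, Category.comp_id]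
        · rw [Category.assoc, hh', Category.assoc, pullback.diagonal_snd, Category.comp_id]
      obtain ⟨y⟩ : Nonempty (Spec (.of K)) := inferInstance
      have hy1 : (ℓ' ≫ (offDiag s).ι) y ∈ Set.range (offDiag s).ι := ⟨ℓ' y, rfl⟩
      rw [Scheme.Opens.range_ι] at hy1
      apply hy1
      rw [heq]
      exact ⟨ρ y, rfl⟩
  · rintro ⟨hℓ, hne⟩
    have hℓ' : ℓ ≫ s = ρ ≫ s := hℓ
    have hne' : ℓ ≠ ρ := hne
    have hsub : Set.range (pullback.lift ρ ℓ hℓ'.symm) ⊆ Set.range (offDiag s).ι := by
      rw [Scheme.Opens.range_ι]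
      rintro _ ⟨y, rfl⟩
      exact lift_mem_offDiag hℓ' hne' y
    refine ⟨IsOpenImmersion.lift (offDiag s).ι (pullback.lift ρ ℓ hℓ'.symm) hsub, ?_, ?_⟩
    · change IsOpenImmersion.lift (offDiag s).ι (pullback.lift ρ ℓ hℓ'.symm) hsub ≫
        (offDiag s).ι ≫ pullback.fst s s = ρ
      rw [IsOpenImmersion.lift_fac_assoc, pullback.lift_fst]
    · change IsOpenImmersion.lift (offDiag s).ι (pullback.lift ρ ℓ hℓ'.symm) hsub ≫
        (offDiag s).ι ≫ pullback.snd s s = ℓ
      rw [IsOpenImmersion.lift_fac_assoc, pullback.lift_snd]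


theorem degGE_succ_iff [IsSeparated s] [Etale s] (n : ℕ) (v : U) :
    DegGE s (n + 1) v ↔ ∃ r, s r = v ∧ DegGE (sp s) n r := by
  constructor
  · rintro ⟨K, hK, g, hg, hn⟩
    have hne : (Lifts s g).Nonempty := by
      rw [← Set.encard_pos]
      exact lt_of_lt_of_le (by simp) hn
    obtain ⟨ρ, hρ⟩ := hne
    have hρ' : ρ ≫ s = g := hρ
    obtain ⟨y₀⟩ : Nonempty (Spec (.of K)) := inferInstance
    have hsub : Subsingleton (Spec (.of K)) := inferInstanceAs (Subsingleton (PrimeSpectrum K))
    refine ⟨ρ y₀, ?_, K, hK, ρ, ?_, ?_⟩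
    · rw [← Scheme.Hom.comp_apply, hρ', hg]
    · intro y; rw [Subsingleton.elim y y₀]
    · have h1 := encard_lifts_sp s ρ
      rw [hρ'] at h1
      rw [← h1] at hn
      push_cast at hn
      exact (WithTop.add_le_add_iff_right ENat.one_ne_top).1 hn
  · rintro ⟨r, rfl, K, hK, ρ, hρ, hn⟩
    refine ⟨K, hK, ρ ≫ s, ?_, ?_⟩
    · intro y; rw [Scheme.Hom.comp_apply, hρ]
    · rw [← encard_lifts_sp s ρ]
      push_cast
      gcongr

end OffDiag

theorem isOpen_degGE (n : ℕ) : ∀ {R U : Scheme.{u}} (s : R ⟶ U) [IsSeparated s] [Etale s],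
    IsOpen {v | DegGE s n v} := by
  induction n with
  | zero =>
    intro R U s _ _
    convert isOpen_univ
    ext v
    simp [degGE_zero]
  | succ n ih =>
    intro R U s _ _
    have : {v | DegGE s (n + 1) v} = s '' {r | DegGE (sp s) n r} := by
      ext v
      rw [Set.mem_ofPred_eq, degGE_succ_iff]
      constructor
      · rintro ⟨r, hr, h⟩; exact ⟨r, h, hr⟩
      · rintro ⟨r, h, hr⟩; exact ⟨r, hr, h⟩
    rw [this]
    exact s.isOpenMap _ (ih (sp s))

/-- **An étale separated morphism all of whose fibres have geometric degree exactly `p` is finite.** -/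
theorem isFinite_of_degEq (p : ℕ) : ∀ {R U : Scheme.{u}} (s : R ⟶ U) [IsSeparated s] [Etale s],
    (∀ (K : Type u) [Field K] (g : Spec (.of K) ⟶ U), (Lifts s g).encard ≤ p) →
    (∀ v, DegGE s p v) → IsFinite s := by
  induction p with
  | zero =>
    intro R U s _ _ hle _
    have : IsEmpty R := by
      constructor
      intro r
      have h := hle (R.residueField r) (R.fromSpecResidueField r ≫ s)
      have hmem : R.fromSpecResidueField r ∈ Lifts s (R.fromSpecResidueField r ≫ s) := rfl
      have h0 : (Lifts s (R.fromSpecResidueField r ≫ s)).encard = 0 :=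
        le_antisymm (by exact_mod_cast h) zero_le
      rw [Set.encard_eq_zero] at h0
      rw [h0] at hmem
      exact hmem
    infer_instance
  | succ p ih =>
    intro R U s _ _ hle hge
    have hsurj : Surjective s := ⟨fun v => by
      obtain ⟨r, hr, -⟩ := (degGE_succ_iff s p v).1 (hge v)
      exact ⟨r, hr⟩⟩
    have hfin' : IsFinite (sp s) := by
      apply ih (sp s)
      · intro K _ ρ
        have h1 := encard_lifts_sp s ρ
        have h2 := hle K (ρ ≫ s)
        rw [← h1] at h2
        push_cast at h2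
        exact (WithTop.add_le_add_iff_right ENat.one_ne_top).1 h2
      · intro r
        obtain ⟨K, hK, g, hg, hn⟩ := hge (s r)
        obtain ⟨Ω, hΩ, e, ρ, hρ, hρe⟩ := exists_ext s g r hg
        refine ⟨Ω, hΩ, ρ, hρ, ?_⟩
        have h1 := encard_lifts_sp s ρ
        rw [hρe] at h1
        have h2 := encard_lifts_le_of_ext s g e
        have h3 : ((p + 1 : ℕ) : ℕ∞) ≤ (Lifts (sp s) ρ).encard + 1 := by
          rw [h1]; exact hn.trans h2
        push_cast at h3
        exact (WithTop.add_le_add_iff_right ENat.one_ne_top).1 h3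
    have hcompl : IsCompl (pullback.diagonal s).opensRange (offDiag s).ι.opensRange := by
      rw [isCompl_iff, disjoint_iff, codisjoint_iff]
      constructor
      · ext x
        simp only [TopologicalSpace.Opens.coe_inf, Scheme.Hom.coe_opensRange, Scheme.Opens.range_ι,
          TopologicalSpace.Opens.coe_bot, Set.mem_inter_iff, Set.mem_empty_iff_false, iff_false,
          not_and]
        intro hx hx'
        exact hx' hx
      · ext x
        simp only [TopologicalSpace.Opens.coe_sup, Scheme.Hom.coe_opensRange, Scheme.Opens.range_ι,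
          TopologicalSpace.Opens.coe_top, Set.mem_union, Set.mem_univ, iff_true]
        by_cases hx : x ∈ Set.range (pullback.diagonal s)
        · exact Or.inl hx
        · exact Or.inr hx
    obtain ⟨hc⟩ := nonempty_isColimit_binaryCofanMk_of_isCompl (pullback.diagonal s) (offDiag s).ι
      hcompl
    have hfst : IsFinite (pullback.fst s s) := by
      let e : R ⨿ (offDiag s).toScheme ≅ pullback s s :=
        (colimit.isColimit _).coconePointUniqueUpToIso hc
      have he1 : coprod.inl ≫ e.hom = pullback.diagonal s :=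
        (colimit.isColimit _).comp_coconePointUniqueUpToIso_hom hc ⟨WalkingPair.left⟩
      have he2 : coprod.inr ≫ e.hom = (offDiag s).ι :=
        (colimit.isColimit _).comp_coconePointUniqueUpToIso_hom hc ⟨WalkingPair.right⟩
      have : pullback.fst s s = e.inv ≫ coprod.desc (𝟙 R) (sp s) := by
        rw [Iso.eq_inv_comp]
        apply coprod.hom_ext
        · rw [reassoc_of% he1, coprod.inl_desc, pullback.diagonal_fst]
        · rw [reassoc_of% he2, coprod.inr_desc]
          rfl
      rw [this]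
      infer_instance
    have hsnd : IsFinite (pullback.snd s s) := by
      have : pullback.snd s s = (pullbackSymmetry s s).hom ≫ pullback.fst s s := by simp
      rw [this]
      infer_instance
    exact Groth.Agent.Lib.Helper4.AffineDescent.isFinite_of_pullback_snd s s


section Restrict

theorem encard_lifts_restrict (s : R ⟶ U) (V : U.Opens) {K : Type u} [Field K]
    (g : Spec (.of K) ⟶ V.toScheme) :
    (Lifts (s ∣_ V) g).encard = (Lifts s (g ≫ V.ι)).encard := by
  have hinj : Set.InjOn (fun ℓ' : Spec (.of K) ⟶ (s ⁻¹ᵁ V).toScheme => ℓ' ≫ (s ⁻¹ᵁ V).ι)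
      (Lifts (s ∣_ V) g) := by
    intro ℓ₁ _ ℓ₂ _ h
    exact (cancel_mono (s ⁻¹ᵁ V).ι).1 h
  rw [← hinj.encard_image]
  congr 1
  ext ℓ
  constructor
  · rintro ⟨ℓ', hℓ', rfl⟩
    have e₁ : ℓ' ≫ (s ∣_ V) = g := hℓ'
    change (ℓ' ≫ (s ⁻¹ᵁ V).ι) ≫ s = g ≫ V.ι
    rw [Category.assoc, ← morphismRestrict_ι, reassoc_of% e₁]
  · intro hℓ
    have hℓ' : ℓ ≫ s = g ≫ V.ι := hℓ
    have hsub : Set.range ℓ ⊆ Set.range (s ⁻¹ᵁ V).ι := by
      rw [Scheme.Opens.range_ι]
      rintro _ ⟨y, rfl⟩
      change s (ℓ y) ∈ V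
      rw [← Scheme.Hom.comp_apply, hℓ', Scheme.Hom.comp_apply]
      exact (g y).2
    refine ⟨IsOpenImmersion.lift (s ⁻¹ᵁ V).ι ℓ hsub, ?_, IsOpenImmersion.lift_fac _ _ _⟩
    change IsOpenImmersion.lift (s ⁻¹ᵁ V).ι ℓ hsub ≫ (s ∣_ V) = g
    rw [← cancel_mono V.ι, Category.assoc, morphismRestrict_ι, IsOpenImmersion.lift_fac_assoc, hℓ']

/-- If the fibres of `s` over the open `V` have geometric degree exactly `p`, then `s` is finite
over `V`. -/
theorem isFinite_restrict_of_degEq (s : R ⟶ U) [IsSeparated s] [Etale s] (p : ℕ) (V : U.Opens)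
    (h1 : ∀ v ∈ V, DegGE s p v) (h2 : ∀ v ∈ V, ¬ DegGE s (p + 1) v) : IsFinite (s ∣_ V) := by
  haveI : IsSeparated (s ∣_ V) := IsZariskiLocalAtTarget.restrict ‹_› V
  haveI : Etale (s ∣_ V) := IsZariskiLocalAtTarget.restrict ‹_› V
  apply isFinite_of_degEq p (s ∣_ V)
  · intro K _ g
    rw [encard_lifts_restrict]
    by_contra hlt
    push Not at hlt
    obtain ⟨y₀⟩ : Nonempty (Spec (.of K)) := inferInstance
    have hsub : Subsingleton (Spec (.of K)) := inferInstanceAs (Subsingleton (PrimeSpectrum K))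
    apply h2 ((g ≫ V.ι) y₀) (by rw [Scheme.Hom.comp_apply]; exact (g y₀).2)
    refine ⟨K, inferInstance, g ≫ V.ι, fun y => by rw [Subsingleton.elim y y₀], ?_⟩
    push_cast
    exact (ENat.add_one_le_iff (ENat.natCast_ne_top p)).2 hlt
  · intro v
    obtain ⟨K, hK, g, hg, hn⟩ := h1 v.1 v.2
    have hsub : Set.range g ⊆ Set.range V.ι := by
      rw [Scheme.Opens.range_ι]
      rintro _ ⟨y, rfl⟩
      rw [hg y]
      exact v.2
    refine ⟨K, hK, IsOpenImmersion.lift V.ι g hsub, ?_, ?_⟩
    · intro y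
      apply V.ι.injective
      rw [← Scheme.Hom.comp_apply, IsOpenImmersion.lift_fac, hg y]
      rfl
    · rw [encard_lifts_restrict, IsOpenImmersion.lift_fac]
      exact hn

end Restrict

end Groth.Agent.H1.FibDeg
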