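import Mathlib

/-!
# Rank of finite flat morphisms to affine schemes and additivity over clopen decompositions (helper1)
-/

set_option autoImplicit false
universe u
open CategoryTheory CategoryTheory.Limits AlgebraicGeometry TopologicalSpace

namespace Groth.Agent.H1.FibRank

variable {Z : Scheme.{u}} {R : CommRingCat.{u}}

/-- The structure homomorphism `R ⟶ Γ(Z, ⊤)` of a scheme over `Spec R`. -/
noncomputable def strHom (p : Z ⟶ Spec R) : R ⟶ Γ(Z, ⊤) := (Scheme.ΓSpecIso R).inv ≫ p.appTop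

theorem isoSpec_inv_comp [IsAffine Z] (p : Z ⟶ Spec R) :
    Z.isoSpec.inv ≫ p = Spec.map (strHom p) := by
  rw [Iso.inv_comp_eq]
  unfold strHom
  rw [Spec.map_comp, Scheme.isoSpec_hom, ← Category.assoc, ← Scheme.toSpecΓ_naturality,
    Category.assoc, toSpecΓ_SpecMap_ΓSpecIso_inv, Category.comp_id]

theorem strHom_finite (p : Z ⟶ Spec R) [IsFinite p] : (strHom p).hom.Finite := by
  haveI : IsAffine Z := isAffine_of_isAffineHom p
  have h2 := isoSpec_inv_comp p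
  have hfin : IsFinite (Spec.map (strHom p)) := by rw [← h2]; infer_instance
  rwa [IsFinite.SpecMap_iff] at hfin

theorem strHom_flat (p : Z ⟶ Spec R) [IsFinite p] [Flat p] : (strHom p).hom.Flat := by
  haveI : IsAffine Z := isAffine_of_isAffineHom p
  have h2 := isoSpec_inv_comp p
  have hflat : Flat (Spec.map (strHom p)) := by rw [← h2]; infer_instance
  rwa [Flat.SpecMap_iff] at hflat

/-- The rank of a finite flat morphism to an affine scheme is the rank of its ring of global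
sections. -/
theorem finrank_eq_rankAtStalk (p : Z ⟶ Spec R) [IsFinite p] [Flat p] (x : ↥(Spec R)) :
    p.finrank x = (strHom p).hom.finrank x := by
  haveI : IsAffine Z := isAffine_of_isAffineHom p
  have h1 : p.finrank = (Z.isoSpec.inv ≫ p).finrank :=
    (Scheme.Hom.finrank_comp_left_of_isIso Z.isoSpec.inv p).symm
  rw [h1]
  have h2 := isoSpec_inv_comp p
  have hfin : IsFinite (Spec.map (strHom p)) := by rw [← h2]; infer_instance
  have hflat : Flat (Spec.map (strHom p)) := by rw [← h2]; infer_instance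
  rw [IsFinite.SpecMap_iff] at hfin
  rw [Flat.SpecMap_iff] at hflat
  have h3 := Scheme.Hom.finrank_SpecMap_eq_finrank hfin hflat
  rw [← h2] at h3
  rw [h3]

theorem strHom_comp {Z' : Scheme.{u}} (j : Z' ⟶ Z) (p : Z ⟶ Spec R) :
    strHom (j ≫ p) = strHom p ≫ j.appTop := by
  unfold strHom
  rw [Scheme.Hom.comp_appTop, Category.assoc]

/-- The two complementary clopen pieces of a scheme are closed subschemes. -/
theorem isClosedImmersion_ι_of_isCompl (Z₁ Z₂ : Z.Opens) (h : IsCompl Z₁ Z₂) :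
    IsClosedImmersion Z₁.ι := by
  have h' : (Z₁ : Set Z) = (↑Z₂)ᶜ :=
    eq_compl_iff_isCompl.mpr (h.map TopologicalSpace.Opens.frameHom)
  exact .of_isPreimmersion _ (by rw [Scheme.Opens.range_ι, h']; exact Z₂.isOpen.isClosed_compl)

/-- Global sections of a scheme which is the disjoint union of two opens. -/
theorem bijective_appTop_prod (Z₁ Z₂ : Z.Opens) (h : IsCompl Z₁ Z₂) :
    Function.Bijective (fun a : Γ(Z, ⊤) => (Z₁.ι.appTop a, Z₂.ι.appTop a)) := by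
  have hdisj : Z₁ ⊓ Z₂ = ⊥ := h.inf_eq_bot
  have hsup : Z₁ ⊔ Z₂ = ⊤ := h.sup_eq_top
  let e : Γ(Z, Z₁ ⊔ Z₂) ≅ CommRingCat.of (Γ(Z, Z₁) × Γ(Z, Z₂)) :=
    (Z.sheaf.isProductOfDisjoint Z₁ Z₂ hdisj).conePointUniqueUpToIso
      (CommRingCat.prodFanIsLimit _ _)
  have he1 : ∀ a, (e.hom a).1 = Z.presheaf.map (homOfLE le_sup_left : Z₁ ⟶ Z₁ ⊔ Z₂).op a := by
    intro a
    have := IsLimit.conePointUniqueUpToIso_hom_comp (Z.sheaf.isProductOfDisjoint Z₁ Z₂ hdisj)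
      (CommRingCat.prodFanIsLimit _ _) ⟨WalkingPair.left⟩
    exact congrArg (fun f => f a) this
  have he2 : ∀ a, (e.hom a).2 = Z.presheaf.map (homOfLE le_sup_right : Z₂ ⟶ Z₁ ⊔ Z₂).op a := by
    intro a
    have := IsLimit.conePointUniqueUpToIso_hom_comp (Z.sheaf.isProductOfDisjoint Z₁ Z₂ hdisj)
      (CommRingCat.prodFanIsLimit _ _) ⟨WalkingPair.right⟩
    exact congrArg (fun f => f a) this
  let r₀ : Γ(Z, ⊤) ≅ Γ(Z, Z₁ ⊔ Z₂) := Z.presheaf.mapIso (eqToIso hsup).op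
  have key1 : Z₁.ι.appTop = r₀.hom ≫ Z.presheaf.map (homOfLE le_sup_left : Z₁ ⟶ Z₁ ⊔ Z₂).op ≫
      Z₁.topIso.inv := by
    change Z.presheaf.map _ = Z.presheaf.map _ ≫ Z.presheaf.map _ ≫ Z.presheaf.map _
    rw [← Functor.map_comp, ← Functor.map_comp]
    rfl
  have key2 : Z₂.ι.appTop = r₀.hom ≫ Z.presheaf.map (homOfLE le_sup_right : Z₂ ⟶ Z₁ ⊔ Z₂).op ≫
      Z₂.topIso.inv := by
    change Z.presheaf.map _ = Z.presheaf.map _ ≫ Z.presheaf.map _ ≫ Z.presheaf.map _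
    rw [← Functor.map_comp, ← Functor.map_comp]
    rfl
  have hF : (fun a : Γ(Z, ⊤) => (Z₁.ι.appTop a, Z₂.ι.appTop a)) =
      (Prod.map Z₁.topIso.inv Z₂.topIso.inv) ∘ e.hom ∘ r₀.hom := by
    funext a
    refine Prod.ext ?_ ?_
    · show Z₁.ι.appTop a = Z₁.topIso.inv ((e.hom (r₀.hom a)).1)
      rw [he1, key1]
      rfl
    · show Z₂.ι.appTop a = Z₂.topIso.inv ((e.hom (r₀.hom a)).2)
      rw [he2, key2]
      rfl
  rw [hF]
  refine Function.Bijective.comp ?_ (Function.Bijective.comp ?_ ?_)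
  · exact Function.Bijective.prodMap (ConcreteCategory.bijective_of_isIso Z₁.topIso.inv)
      (ConcreteCategory.bijective_of_isIso Z₂.topIso.inv)
  · exact ConcreteCategory.bijective_of_isIso e.hom
  · exact ConcreteCategory.bijective_of_isIso r₀.hom

/-- **Additivity of the rank over a clopen decomposition.** -/
theorem finrank_add_of_isCompl (p : Z ⟶ Spec R) [IsFinite p] [Flat p] (Z₁ Z₂ : Z.Opens)
    (h : IsCompl Z₁ Z₂) :
    ∃ (_ : IsFinite (Z₁.ι ≫ p)) (_ : IsFinite (Z₂.ι ≫ p)),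
      ∀ x, p.finrank x = (Z₁.ι ≫ p).finrank x + (Z₂.ι ≫ p).finrank x := by
  haveI h1c : IsClosedImmersion Z₁.ι := isClosedImmersion_ι_of_isCompl Z₁ Z₂ h
  haveI h2c : IsClosedImmersion Z₂.ι := isClosedImmersion_ι_of_isCompl Z₂ Z₁ h.symm
  haveI hf1 : IsFinite (Z₁.ι ≫ p) := inferInstance
  haveI hf2 : IsFinite (Z₂.ι ≫ p) := inferInstance
  refine ⟨hf1, hf2, fun x => ?_⟩
  rw [finrank_eq_rankAtStalk p, finrank_eq_rankAtStalk (Z₁.ι ≫ p),
    finrank_eq_rankAtStalk (Z₂.ι ≫ p)]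
  letI alg : Algebra R Γ(Z, ⊤) := (strHom p).hom.toAlgebra
  letI alg1 : Algebra R Γ(Z₁.toScheme, ⊤) := (strHom (Z₁.ι ≫ p)).hom.toAlgebra
  letI alg2 : Algebra R Γ(Z₂.toScheme, ⊤) := (strHom (Z₂.ι ≫ p)).hom.toAlgebra
  haveI : Module.Finite R Γ(Z, ⊤) := strHom_finite p
  haveI : Module.Finite R Γ(Z₁.toScheme, ⊤) := strHom_finite (Z₁.ι ≫ p)
  haveI : Module.Finite R Γ(Z₂.toScheme, ⊤) := strHom_finite (Z₂.ι ≫ p)
  haveI : Module.Flat R Γ(Z, ⊤) := strHom_flat p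
  haveI : Module.Flat R Γ(Z₁.toScheme, ⊤) := strHom_flat (Z₁.ι ≫ p)
  haveI : Module.Flat R Γ(Z₂.toScheme, ⊤) := strHom_flat (Z₂.ι ≫ p)
  have hs1 : ∀ (r : R) (a : Γ(Z, ⊤)), Z₁.ι.appTop (r • a) = r • Z₁.ι.appTop a := by
    intro r a
    show Z₁.ι.appTop ((strHom p).hom r * a) = (strHom (Z₁.ι ≫ p)).hom r * Z₁.ι.appTop a
    rw [map_mul, strHom_comp]
    rfl
  have hs2 : ∀ (r : R) (a : Γ(Z, ⊤)), Z₂.ι.appTop (r • a) = r • Z₂.ι.appTop a := by
    intro r a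
    show Z₂.ι.appTop ((strHom p).hom r * a) = (strHom (Z₂.ι ≫ p)).hom r * Z₂.ι.appTop a
    rw [map_mul, strHom_comp]
    rfl
  let ψ : Γ(Z, ⊤) →ₗ[R] Γ(Z₁.toScheme, ⊤) × Γ(Z₂.toScheme, ⊤) :=
    { toFun := fun a => (Z₁.ι.appTop a, Z₂.ι.appTop a)
      map_add' := fun a b => by simp
      map_smul' := fun r a => by
        simp only [RingHom.id_apply, Prod.smul_mk]
        rw [hs1, hs2] }
  let E : Γ(Z, ⊤) ≃ₗ[R] Γ(Z₁.toScheme, ⊤) × Γ(Z₂.toScheme, ⊤) :=
    LinearEquiv.ofBijective ψ (bijective_appTop_prod Z₁ Z₂ h)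
  show Module.rankAtStalk (R := R) Γ(Z, ⊤) x =
    Module.rankAtStalk (R := R) Γ(Z₁.toScheme, ⊤) x + Module.rankAtStalk (R := R) Γ(Z₂.toScheme, ⊤) x
  rw [Module.rankAtStalk_eq_of_equiv E, Module.rankAtStalk_prod]
  rfl

end Groth.Agent.H1.FibRank
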