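import Groth.Agent.Lib.Helper1.FibRank1

/-!
# The degree of the fibres of a flat morphism with finite fibres (helper1)
-/

set_option autoImplicit false
universe u
open CategoryTheory CategoryTheory.Limits AlgebraicGeometry TopologicalSpace

namespace Groth.Agent.H1.FibRank

variable {X S : Scheme.{u}}

/-- All fibres of `f` over field valued points are finite. -/
def FinFib (f : X ⟶ S) : Prop :=
  ∀ (K : Type u) [Field K] (g : Spec (.of K) ⟶ S), IsFinite (pullback.snd f g)

/-- The degree of the fibre of `f` over a field valued point. -/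
noncomputable def fdeg (f : X ⟶ S) {K : Type u} [Field K] (g : Spec (.of K) ⟶ S) : ℕ :=
  (pullback.snd f g).finrank (IsLocalRing.closedPoint K)

/-- The degree of the fibre of `f` over a point. -/
noncomputable def deg (f : X ⟶ S) (s : S) : ℕ :=
  fdeg f (K := ↥(S.residueField s)) (S.fromSpecResidueField s)

theorem eq_closedPoint {K : Type u} [Field K] (z : ↥(Spec (.of K))) : z = IsLocalRing.closedPoint K :=
  @Subsingleton.elim _ (inferInstanceAs (Subsingleton (PrimeSpectrum K))) _ _

/-- Any pullback of `f` along a field valued point computes the degree. -/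
theorem finite_and_finrank_of_isPullback (f : X ⟶ S) [Flat f] (hf : FinFib f) {K : Type u} [Field K]
    (g : Spec (.of K) ⟶ S) {Q : Scheme.{u}} (a : Q ⟶ X) (q : Q ⟶ Spec (.of K))
    (sq : IsPullback a q f g) : IsFinite q ∧ q.finrank (IsLocalRing.closedPoint K) = fdeg f g := by
  haveI := hf K g
  have e : q = sq.isoPullback.hom ≫ pullback.snd f g := (sq.isoPullback_hom_snd).symm
  haveI : Flat (pullback.snd f g) := MorphismProperty.pullback_snd (P := @Flat) _ _ inferInstance
  refine ⟨by rw [e]; infer_instance, ?_⟩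
  rw [e, Scheme.Hom.finrank_comp_left_of_isIso]
  rfl

/-- Base change: fibres of a base change of `f` are fibres of `f`. -/
theorem fdeg_of_isPullback (f : X ⟶ S) [Flat f] (hf : FinFib f) {P T : Scheme.{u}} {fst : P ⟶ X}
    {snd : P ⟶ T} {g : T ⟶ S} (sq : IsPullback fst snd f g) {K : Type u} [Field K]
    (h : Spec (.of K) ⟶ T) : IsFinite (pullback.snd snd h) ∧ fdeg snd h = fdeg f (h ≫ g) := by
  have sq1 : IsPullback (pullback.fst snd h) (pullback.snd snd h) snd h := IsPullback.of_hasPullback _ _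
  have big : IsPullback (pullback.fst snd h ≫ fst) (pullback.snd snd h) f (h ≫ g) :=
    (sq1.flip.paste_vert sq.flip).flip
  exact finite_and_finrank_of_isPullback f hf (h ≫ g) _ _ big

theorem finFib_of_isPullback (f : X ⟶ S) [Flat f] (hf : FinFib f) {P T : Scheme.{u}} {fst : P ⟶ X}
    {snd : P ⟶ T} {g : T ⟶ S} (sq : IsPullback fst snd f g) : FinFib snd :=
  fun _ _ h => (fdeg_of_isPullback f hf sq h).1

/-- Invariance of the degree under extension of the field. -/
theorem fdeg_comp (f : X ⟶ S) [Flat f] (hf : FinFib f) {K Ω : Type u} [Field K] [Field Ω]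
    (g : Spec (.of K) ⟶ S) (e : Spec (.of Ω) ⟶ Spec (.of K)) : fdeg f (e ≫ g) = fdeg f g := by
  haveI := hf K g
  haveI : Flat (pullback.snd f g) := MorphismProperty.pullback_snd (P := @Flat) _ _ inferInstance
  have h1 := (fdeg_of_isPullback f hf (IsPullback.of_hasPullback f g) e).2
  rw [← h1]
  unfold fdeg
  rw [Scheme.Hom.finrank_pullback_snd, eq_closedPoint (e _)]

/-- The degree over a field valued point is the degree over its image point. -/
theorem fdeg_eq_deg (f : X ⟶ S) [Flat f] (hf : FinFib f) {K : Type u} [Field K]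
    (g : Spec (.of K) ⟶ S) : fdeg f g = deg f (g (IsLocalRing.closedPoint K)) := by
  have key := Scheme.descResidueField_stalkClosedPointTo_fromSpecResidueField K S g
  have h1 := fdeg_comp f hf (K := ↥(S.residueField (g (IsLocalRing.closedPoint K))))
    (S.fromSpecResidueField (g (IsLocalRing.closedPoint K)))
    (Spec.map (S.descResidueField (K := K) (Scheme.stalkClosedPointTo g)))
  unfold deg
  rw [← h1]
  congr 1
  exact key.symm

/-- Base change invariance of the degree function. -/
theorem deg_of_isPullback (f : X ⟶ S) [Flat f] (hf : FinFib f) {P T : Scheme.{u}} {fst : P ⟶ X}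
    {snd : P ⟶ T} {g : T ⟶ S} (sq : IsPullback fst snd f g) (t : T) :
    deg snd t = deg f (g t) := by
  unfold deg
  rw [(fdeg_of_isPullback f hf sq _).2, fdeg_eq_deg f hf]
  congr 1
  rw [Scheme.Hom.comp_apply, Scheme.fromSpecResidueField_apply]

/-- For a finite flat morphism the degree is the rank. -/
theorem finFib_of_isFinite (f : X ⟶ S) [IsFinite f] : FinFib f :=
  fun _ _ g => MorphismProperty.pullback_snd (P := @IsFinite) _ _ inferInstance

theorem deg_eq_finrank (f : X ⟶ S) [IsFinite f] [Flat f] (s : S) : deg f s = f.finrank s := by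
  unfold deg fdeg
  rw [Scheme.Hom.finrank_pullback_snd, Scheme.fromSpecResidueField_apply]

/-- Converse form: a finite flat pullback of `f` along a field valued point computes `fdeg`. -/
theorem finite_and_fdeg_of_isPullback (f : X ⟶ S) {K : Type u} [Field K]
    (g : Spec (.of K) ⟶ S) {Q : Scheme.{u}} (a : Q ⟶ X) (q : Q ⟶ Spec (.of K))
    (sq : IsPullback a q f g) [IsFinite q] [Flat q] :
    IsFinite (pullback.snd f g) ∧ fdeg f g = q.finrank (IsLocalRing.closedPoint K) := by
  have e : pullback.snd f g = sq.isoPullback.inv ≫ q := (sq.isoPullback_inv_snd).symm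
  refine ⟨by rw [e]; infer_instance, ?_⟩
  unfold fdeg
  rw [e, Scheme.Hom.finrank_comp_left_of_isIso]

/-- **Additivity of the fibre degree over a clopen decomposition of the source.** -/
theorem fdeg_add_of_isCompl (f : X ⟶ S) [Flat f] (hf : FinFib f) (V W : X.Opens)
    (h : IsCompl V W) :
    FinFib (V.ι ≫ f) ∧ FinFib (W.ι ≫ f) ∧ ∀ {K : Type u} [Field K] (g : Spec (.of K) ⟶ S),
      fdeg f g = fdeg (V.ι ≫ f) g + fdeg (W.ι ≫ f) g := by
  have main : ∀ {K : Type u} [Field K] (g : Spec (.of K) ⟶ S),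
      IsFinite (pullback.snd (V.ι ≫ f) g) ∧ IsFinite (pullback.snd (W.ι ≫ f) g) ∧
        fdeg f g = fdeg (V.ι ≫ f) g + fdeg (W.ι ≫ f) g := by
    intro K _ g
    haveI := hf K g
    haveI : Flat (pullback.snd f g) := MorphismProperty.pullback_snd (P := @Flat) _ _ inferInstance
    let φ := pullback.fst f g
    let p := pullback.snd f g
    have hc : IsCompl (φ ⁻¹ᵁ V) (φ ⁻¹ᵁ W) := by
      refine IsCompl.of_eq ?_ ?_
      · rw [← Scheme.Hom.preimage_inf, h.inf_eq_bot, Scheme.Hom.preimage_bot]
      · rw [← Scheme.Hom.preimage_sup, h.sup_eq_top, Scheme.Hom.preimage_top]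
    obtain ⟨fin1, fin2, hadd⟩ := finrank_add_of_isCompl p (φ ⁻¹ᵁ V) (φ ⁻¹ᵁ W) hc
    have sq : IsPullback φ p f g := IsPullback.of_hasPullback f g
    have sqV : IsPullback (φ ∣_ V) ((φ ⁻¹ᵁ V).ι ≫ p) (V.ι ≫ f) g :=
      (isPullback_morphismRestrict φ V).paste_vert sq
    have sqW : IsPullback (φ ∣_ W) ((φ ⁻¹ᵁ W).ι ≫ p) (W.ι ≫ f) g :=
      (isPullback_morphismRestrict φ W).paste_vert sq
    haveI : Flat ((φ ⁻¹ᵁ V).ι ≫ p) := inferInstance
    haveI : Flat ((φ ⁻¹ᵁ W).ι ≫ p) := inferInstance
    obtain ⟨hV1, hV2⟩ := finite_and_fdeg_of_isPullback (V.ι ≫ f) g _ _ sqV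
    obtain ⟨hW1, hW2⟩ := finite_and_fdeg_of_isPullback (W.ι ≫ f) g _ _ sqW
    refine ⟨hV1, hW1, ?_⟩
    rw [hV2, hW2]
    exact hadd _
  exact ⟨fun K _ g => (main g).1, fun K _ g => (main g).2.1, fun g => (main g).2.2⟩

theorem deg_add_of_isCompl (f : X ⟶ S) [Flat f] (hf : FinFib f) (V W : X.Opens)
    (h : IsCompl V W) (s : S) : deg f s = deg (V.ι ≫ f) s + deg (W.ι ≫ f) s :=
  (fdeg_add_of_isCompl f hf V W h).2.2 _

end Groth.Agent.H1.FibRank
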