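import Groth.Agent.Lib.Helper1.FibRank2
import Groth.Agent.Lib.Helper1.FinCover
import Groth.Agent.Lib.Helper13.EL8

/-!
# Étale localization: the finite part containing a whole fibre (helper1)
-/

set_option autoImplicit false
universe u
open CategoryTheory CategoryTheory.Limits AlgebraicGeometry TopologicalSpace

namespace Groth.Agent.H1.FibRank

variable {X S : Scheme.{u}}

/-- Quasi-compactness from a finite jointly surjective family. -/
theorem quasiCompact_of_finite_cover {X Y : Scheme.{u}} (J : X ⟶ Y) {G : Type u} [Finite G]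
    (Xg : G → Scheme.{u}) (ι : ∀ g, Xg g ⟶ X) (hcov : ∀ x : X, ∃ g, x ∈ Set.range (ι g))
    (hJ : ∀ g, QuasiCompact (ι g ≫ J)) : QuasiCompact J := by
  constructor
  intro U hU hUc
  have : J ⁻¹' U = ⋃ g, (ι g) '' ((ι g ≫ J) ⁻¹' U) := by
    ext x
    constructor
    · intro hx
      obtain ⟨g, y, rfl⟩ := hcov x
      exact Set.mem_iUnion.mpr ⟨g, y, hx, rfl⟩
    · intro hx
      obtain ⟨g, y, hy, rfl⟩ := Set.mem_iUnion.mp hx
      exact hy
  rw [this]
  refine isCompact_iUnion fun g => ?_
  exact ((hJ g).1 U hU hUc).image (ι g).continuous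

open Groth.Agent.Lib.helper13.EL in
/-- **Étale localization around a finite fibre.**  After an étale base change which does not
change the residue field, the source splits into a clopen part finite over the base, containing the
whole fibre over the chosen point, and a clopen part missing that fibre. -/
theorem exists_etale_nbhd_clopen_finite (f : X ⟶ S) [LocallyOfFiniteType f] [IsSeparated f]
    [LocallyQuasiFinite f] (s : S) (hfin : (f ⁻¹' {s}).Finite) :
    ∃ (U : Scheme.{u}) (g : U ⟶ S) (u : U), Etale g ∧ g u = s ∧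
      ∃ (V W : (pullback f g).Opens), IsCompl V W ∧ IsFinite (V.ι ≫ pullback.snd f g) ∧
        ∀ w ∈ W, pullback.snd f g w ≠ u := by
  classical
  -- enumerate the fibre
  let n := hfin.toFinset.card
  let e : hfin.toFinset ≃ Fin n := hfin.toFinset.equivFin
  let x : Fin n → X := fun i => (e.symm i : X)
  have hxs : ∀ i, f (x i) = s := fun i => by
    have := (e.symm i).2
    rw [Set.Finite.mem_toFinset] at this
    exact this
  have hxcov : ∀ y : X, f y = s → ∃ i, x i = y := fun y hy => by
    refine ⟨e ⟨y, by rw [Set.Finite.mem_toFinset]; exact hy⟩, ?_⟩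
    show ((e.symm (e _) : hfin.toFinset) : X) = y
    rw [Equiv.symm_apply_apply]
  obtain ⟨U, g, u, hget, hgu, hbij, V, v, hV⟩ :=
    exists_etale_nbhd_of_quasiFiniteAt_finite f s x hxs (fun i => f.quasiFiniteAt (x i))
  let P := pullback f g
  let q : P ⟶ U := pullback.snd f g
  let Vu : P.Opens := ⨆ i, V i
  have hVcl : IsClosed (Vu : Set P) := by
    have : (Vu : Set P) = ⋃ i, (V i : Set P) := by
      simp only [Vu, Opens.coe_iSup]
    rw [this]
    exact isClosed_iUnion_of_finite fun i => (hV i).closed inferInstance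
  let Wu : P.Opens := ⟨(Vu : Set P)ᶜ, hVcl.isOpen_compl⟩
  have hc : IsCompl Vu Wu := by
    refine IsCompl.of_eq ?_ ?_
    · ext y
      simp only [Opens.coe_inf, Opens.coe_bot, Set.mem_inter_iff, Set.mem_empty_iff_false,
        iff_false, not_and]
      intro h1 h2
      exact h2 h1
    · ext y
      simp only [Opens.coe_sup, Opens.coe_top, Set.mem_union, Set.mem_univ, iff_true]
      exact Classical.em _
  refine ⟨U, g, u, hget, hgu, Vu, Wu, hc, ?_, ?_⟩
  · -- finiteness of the union
    let Xg : ULift.{u} (Fin n) → Scheme.{u} := fun i => (V i.down).toScheme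
    let ι : ∀ i, Xg i ⟶ Vu.toScheme := fun i => P.homOfLE (le_iSup V i.down)
    have hι : ∀ i, ι i ≫ Vu.ι = (V i.down).ι := fun i => P.homOfLE_ι _
    have hcov : ∀ y : Vu.toScheme, ∃ i, y ∈ Set.range (ι i) := by
      intro y
      have hy : Vu.ι y ∈ Vu := y.2
      simp only [Vu, Opens.mem_iSup] at hy
      obtain ⟨i, hi⟩ := hy
      refine ⟨⟨i⟩, ⟨⟨Vu.ι y, hi⟩, ?_⟩⟩
      apply Vu.ι.injective
      rw [← Scheme.Hom.comp_apply, hι]
      rfl
    have hfin' : ∀ i, IsFinite (ι i ≫ Vu.ι ≫ q) := fun i => by
      rw [← Category.assoc, hι]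
      exact (hV i.down).finite
    haveI : UniversallyClosed (Vu.ι ≫ q) :=
      Groth.Agent.H1.FinCover.universallyClosed_of_finite_cover (Vu.ι ≫ q) Xg ι hcov
        (fun i => by haveI := hfin' i; infer_instance)
    haveI : QuasiCompact (Vu.ι ≫ q) :=
      quasiCompact_of_finite_cover (Vu.ι ≫ q) Xg ι hcov
        (fun i => by haveI := hfin' i; infer_instance)
    haveI : LocallyQuasiFinite q := MorphismProperty.pullback_snd (P := @LocallyQuasiFinite) _ _ inferInstance
    haveI : LocallyOfFiniteType q := MorphismProperty.pullback_snd (P := @LocallyOfFiniteType) _ _ inferInstance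
    haveI : IsSeparated q := MorphismProperty.pullback_snd (P := @IsSeparated) _ _ inferInstance
    haveI : IsProper (Vu.ι ≫ q) := {}
    exact IsFinite.of_isProper_of_locallyQuasiFinite (Vu.ι ≫ q)
  · intro w hw hwu
    apply hw
    obtain ⟨i, hi⟩ := hxcov (pullback.fst f g w) (by
      rw [← Scheme.Hom.comp_apply, pullback.condition, Scheme.Hom.comp_apply, hwu, hgu])
    have : w = v i := by
      apply eq_of_fst_eq_of_snd_eq
      · rw [hwu]; exact hbij
      · rw [(hV i).fst_eq, hi]
      · rw [(hV i).snd_eq, hwu]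
    show w ∈ Vu
    simp only [Vu, Opens.mem_iSup]
    exact ⟨i, this ▸ (hV i).mem⟩

end Groth.Agent.H1.FibRank
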