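import Groth.Agent.Lib.Helper1.FibRank3
import Groth.Agent.Lib.Helper4.AffineDescent
import Groth.Prelude.Def_Mor2

/-!
# The fibre degree stratification of a flat, separated, locally quasi-finite morphism (helper1)
-/

set_option autoImplicit false
universe u
open CategoryTheory CategoryTheory.Limits AlgebraicGeometry TopologicalSpace

namespace Groth.Agent.H1.FibRank

variable {X S : Scheme.{u}}

theorem range_eq_singleton {K : Type u} [Field K] (g : Spec (.of K) ⟶ S) :
    Set.range g = {g (IsLocalRing.closedPoint K)} := by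
  ext s
  constructor
  · rintro ⟨z, rfl⟩
    rw [eq_closedPoint z]
    rfl
  · rintro rfl
    exact ⟨_, rfl⟩

/-- With finite fibres over field valued points, set-theoretic fibres are finite. -/
theorem finite_fibre (f : X ⟶ S) (hf : FinFib f) (s : S) : (f ⁻¹' {s}).Finite := by
  let g : Spec (.of ↥(S.residueField s)) ⟶ S := S.fromSpecResidueField s
  haveI := hf _ g
  have h1 : f ⁻¹' {s} = Set.range (pullback.fst f g) := by
    rw [Scheme.Pullback.range_fst, range_eq_singleton]
    congr 2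
    exact (Scheme.fromSpecResidueField_apply _ _).symm
  rw [h1]
  have h2 : (Set.univ : Set ↥(pullback f g)).Finite := by
    have := (pullback.snd f g).finite_preimage_singleton (IsLocalRing.closedPoint _)
    convert this using 1
    ext z
    simp only [Set.mem_univ, Set.mem_preimage, Set.mem_singleton_iff, true_iff]
    exact eq_closedPoint _
  rw [← Set.image_univ]
  exact h2.image _

/-- Positive degree over a field valued point hit by a point of the source. -/
theorem one_le_fdeg (f : X ⟶ S) [Flat f] (hf : FinFib f) {K : Type u} [Field K]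
    (g : Spec (.of K) ⟶ S) (x : X) (hx : f x = g (IsLocalRing.closedPoint K)) : 1 ≤ fdeg f g := by
  haveI := hf _ g
  haveI : Flat (pullback.snd f g) := MorphismProperty.pullback_snd (P := @Flat) _ _ inferInstance
  obtain ⟨z, hz1, hz2⟩ := Scheme.Pullback.exists_preimage_pullback (f := f) (g := g) x
    (IsLocalRing.closedPoint _) hx
  have := Scheme.Hom.one_le_finrank_map (pullback.snd f g) z
  rw [hz2] at this
  exact this

theorem one_le_deg_map (f : X ⟶ S) [Flat f] (hf : FinFib f) (x : X) : 1 ≤ deg f (f x) :=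
  one_le_fdeg f hf _ x (Scheme.fromSpecResidueField_apply _ _).symm

/-- The rank of a finite flat morphism with empty source is zero. -/
theorem finrank_eq_zero_of_isEmpty {Z : Scheme.{u}} {R : CommRingCat.{u}} (p : Z ⟶ Spec R)
    [IsFinite p] [Flat p] [IsEmpty Z] (x : ↥(Spec R)) : p.finrank x = 0 := by
  rw [finrank_eq_rankAtStalk]
  letI alg : Algebra R Γ(Z, ⊤) := (strHom p).hom.toAlgebra
  haveI : Subsingleton Γ(Z, ⊤) := by
    have : (⊤ : Z.Opens) = ⊥ := by
      ext z
      exact (IsEmpty.false z).elim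
    rw [this]
    infer_instance
  show Module.rankAtStalk (R := R) Γ(Z, ⊤) x = 0
  rw [Module.rankAtStalk_eq_zero_of_subsingleton]
  rfl

/-- Zero degree over field valued points outside the image. -/
theorem fdeg_eq_zero_of_forall_ne (f : X ⟶ S) [Flat f] (hf : FinFib f) {K : Type u} [Field K]
    (g : Spec (.of K) ⟶ S) (h : ∀ x, f x ≠ g (IsLocalRing.closedPoint K)) : fdeg f g = 0 := by
  haveI := hf _ g
  haveI : Flat (pullback.snd f g) := MorphismProperty.pullback_snd (P := @Flat) _ _ inferInstance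
  haveI : IsEmpty ↥(pullback f g) := by
    constructor
    intro z
    apply h (pullback.fst f _ z)
    rw [← Scheme.Hom.comp_apply, pullback.condition, Scheme.Hom.comp_apply]
    exact congrArg g (eq_closedPoint _)
  exact finrank_eq_zero_of_isEmpty _ _

theorem deg_eq_zero_of_forall_ne (f : X ⟶ S) [Flat f] (hf : FinFib f) (s : S) (h : ∀ x, f x ≠ s) :
    deg f s = 0 :=
  fdeg_eq_zero_of_forall_ne f hf _ (fun x => by
    rw [Scheme.fromSpecResidueField_apply]; exact h x)

theorem isCompl_preimage {P Q : Scheme.{u}} (ρ : P ⟶ Q) (V W : Q.Opens) (h : IsCompl V W) :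
    IsCompl (ρ ⁻¹ᵁ V) (ρ ⁻¹ᵁ W) := by
  refine IsCompl.of_eq ?_ ?_
  · rw [← Scheme.Hom.preimage_inf, h.inf_eq_bot, Scheme.Hom.preimage_bot]
  · rw [← Scheme.Hom.preimage_sup, h.sup_eq_top, Scheme.Hom.preimage_top]

open Groth.Agent.Lib.helper13.EL in
/-- **Étale localization adapted to the degree.**  Étale locally around `s` the source splits into
a clopen part finite locally free of degree `deg f s` and a clopen part whose degree is the excess
`deg f (g u') - deg f s`. -/
theorem exists_etale_nbhd_strat (f : X ⟶ S) [Flat f] [LocallyOfFinitePresentation f]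
    [IsSeparated f] [LocallyQuasiFinite f] (hf : FinFib f) (s : S) :
    ∃ (U : Scheme.{u}) (g : U ⟶ S) (u : U), Etale g ∧ g u = s ∧
      ∃ (V W : (pullback f g).Opens), IsCompl V W ∧ IsFinite (V.ι ≫ pullback.snd f g) ∧
        (∀ u', (V.ι ≫ pullback.snd f g).finrank u' = deg f s) ∧
        FinFib (W.ι ≫ pullback.snd f g) ∧
        ∀ u', deg f (g u') = deg f s + deg (W.ι ≫ pullback.snd f g) u' := by
  obtain ⟨U₀, g₀, u₀, hg₀, hgu₀, V₀, W₀, hc₀, hfin₀, hW₀⟩ :=
    exists_etale_nbhd_clopen_finite f s (finite_fibre f hf s)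
  let q₀ := pullback.snd f g₀
  haveI : Flat q₀ := MorphismProperty.pullback_snd (P := @Flat) _ _ inferInstance
  haveI : LocallyOfFinitePresentation q₀ :=
    MorphismProperty.pullback_snd (P := @LocallyOfFinitePresentation) _ _ inferInstance
  let p₀ := V₀.ι ≫ q₀
  haveI : IsFinite p₀ := hfin₀
  haveI : Flat p₀ := inferInstance
  haveI : LocallyOfFinitePresentation p₀ := inferInstance
  let r₀ := p₀.finrank u₀
  let U' : U₀.Opens := ⟨p₀.finrank ⁻¹' {r₀}, (Scheme.Hom.isLocallyConstant_finrank p₀).isOpen_fiber r₀⟩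
  let g : U'.toScheme ⟶ S := U'.ι ≫ g₀
  haveI : Etale g := inferInstance
  let u : U'.toScheme := ⟨u₀, rfl⟩
  have hgu : g u = s := by
    show (U'.ι ≫ g₀) u = s
    rw [Scheme.Hom.comp_apply]
    exact hgu₀
  let ρ := refineMap f g₀ U'.ι g rfl
  let q := pullback.snd f g
  haveI : Flat q := MorphismProperty.pullback_snd (P := @Flat) _ _ inferInstance
  have hc : IsCompl (ρ ⁻¹ᵁ V₀) (ρ ⁻¹ᵁ W₀) := isCompl_preimage ρ V₀ W₀ hc₀
  haveI hfinV : IsFinite ((ρ ⁻¹ᵁ V₀).ι ≫ q) := isFinite_refine f g₀ U'.ι g rfl V₀ hfin₀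
  have sq : IsPullback (ρ ∣_ V₀) ((ρ ⁻¹ᵁ V₀).ι ≫ q) p₀ U'.ι :=
    (isPullback_morphismRestrict ρ V₀).paste_vert (isPullback_refineMap f g₀ U'.ι g rfl)
  have hrank : ∀ u', ((ρ ⁻¹ᵁ V₀).ι ≫ q).finrank u' = r₀ := by
    intro u'
    rw [Scheme.Hom.finrank_of_isPullback _ _ _ _ sq u']
    exact u'.2
  have hq : FinFib q := finFib_of_isPullback f hf (IsPullback.of_hasPullback f g)
  obtain ⟨hfV, hfW, hadd⟩ := fdeg_add_of_isCompl q hq _ _ hc
  haveI : Flat ((ρ ⁻¹ᵁ V₀).ι ≫ q) := inferInstance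
  haveI : Flat ((ρ ⁻¹ᵁ W₀).ι ≫ q) := inferInstance
  have hdeg : ∀ u', deg f (g u') = r₀ + deg ((ρ ⁻¹ᵁ W₀).ι ≫ q) u' := by
    intro u'
    rw [← deg_of_isPullback f hf (IsPullback.of_hasPullback f g) u',
      deg_add_of_isCompl q hq _ _ hc u', deg_eq_finrank, hrank]
  have hzero : deg ((ρ ⁻¹ᵁ W₀).ι ≫ q) u = 0 := by
    apply deg_eq_zero_of_forall_ne _ hfW
    intro w hw
    apply hW₀ (ρ ((ρ ⁻¹ᵁ W₀).ι w)) w.2
    show pullback.snd f g₀ (ρ ((ρ ⁻¹ᵁ W₀).ι w)) = u₀
    rw [refineMap_snd_apply]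
    rw [Scheme.Hom.comp_apply] at hw
    rw [hw]
    rfl
  have hr₀ : r₀ = deg f s := by
    have := hdeg u
    rw [hzero, hgu, add_zero] at this
    exact this.symm
  refine ⟨U', g, u, inferInstance, hgu, ρ ⁻¹ᵁ V₀, ρ ⁻¹ᵁ W₀, hc, hfinV, ?_, hfW, ?_⟩
  · intro u'
    rw [← hr₀]
    exact hrank u'
  · intro u'
    rw [← hr₀]
    exact hdeg u'

/-- **Lower semicontinuity of the degree.** -/
theorem isOpen_le_deg (f : X ⟶ S) [Flat f] [LocallyOfFinitePresentation f]
    [IsSeparated f] [LocallyQuasiFinite f] (hf : FinFib f) (d : ℕ) :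
    IsOpen {s : S | d ≤ deg f s} := by
  rw [isOpen_iff_forall_mem_open]
  intro s hs
  obtain ⟨U, g, u, hg, hgu, V, W, hc, hfin, hrank, hfW, hdeg⟩ := exists_etale_nbhd_strat f hf s
  refine ⟨Set.range g, ?_, g.isOpenMap.isOpen_range, ⟨u, hgu⟩⟩
  rintro _ ⟨u', rfl⟩
  show d ≤ deg f (g u')
  rw [hdeg u']
  exact le_trans hs (Nat.le_add_right _ _)

/-- If the degree is constant the morphism is finite. -/
theorem isFinite_of_deg_const (f : X ⟶ S) [Flat f] [LocallyOfFinitePresentation f]
    [IsSeparated f] [LocallyQuasiFinite f] (hf : FinFib f) (r : ℕ) (h : ∀ s, deg f s = r) :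
    IsFinite f := by
  apply IsZariskiLocalAtTarget.of_forall_exists_morphismRestrict (P := @IsFinite)
  intro s
  obtain ⟨U, g, u, hg, hgu, V, W, hc, hfin, hrank, hfW, hdeg⟩ := exists_etale_nbhd_strat f hf s
  let q := pullback.snd f g
  haveI : Flat q := MorphismProperty.pullback_snd (P := @Flat) _ _ inferInstance
  haveI : Flat (W.ι ≫ q) := inferInstance
  have hW : W = ⊥ := by
    ext w
    simp only [Opens.coe_bot, Set.mem_empty_iff_false, iff_false]
    intro hw
    have h1 : 1 ≤ deg (W.ι ≫ pullback.snd f g) ((W.ι ≫ pullback.snd f g) ⟨w, hw⟩) :=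
      one_le_deg_map (W.ι ≫ q) hfW ⟨w, hw⟩
    have h2 := hdeg ((W.ι ≫ pullback.snd f g) ⟨w, hw⟩)
    rw [h, h] at h2
    omega
  have hV : V = ⊤ := by
    have := hc.sup_eq_top
    rw [hW, sup_bot_eq] at this
    exact this
  subst hV
  haveI : IsIso (⊤ : (pullback f g).Opens).ι :=
    (inferInstance : IsIso (pullback f g).topIso.hom)
  haveI hq : IsFinite q :=
    (MorphismProperty.cancel_left_of_respectsIso @IsFinite (⊤ : (pullback f g).Opens).ι q).mp hfin
  let O : S.Opens := ⟨Set.range g, g.isOpenMap.isOpen_range⟩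
  have hrange : Set.range g ⊆ Set.range O.ι := by
    rw [Scheme.Opens.range_ι]
    rfl
  let g'' : U ⟶ O.toScheme := IsOpenImmersion.lift O.ι g hrange
  have hg'' : g'' ≫ O.ι = g := IsOpenImmersion.lift_fac _ _ _
  haveI : Etale (g'' ≫ O.ι) := by rw [hg'']; exact hg
  haveI : Etale g'' := Etale.of_comp g'' O.ι
  haveI : Surjective g'' := by
    constructor
    intro o
    obtain ⟨u', hu'⟩ : (O.ι o) ∈ Set.range g := o.2
    refine ⟨u', ?_⟩
    apply O.ι.injective
    rw [← Scheme.Hom.comp_apply, hg'']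
    exact hu'
  have t : IsPullback (f ⁻¹ᵁ O).ι (f ∣_ O) f O.ι := (isPullback_morphismRestrict f O).flip
  let l : pullback f g ⟶ (f ⁻¹ᵁ O).toScheme := t.lift (pullback.fst f g) (q ≫ g'') (by
    rw [Category.assoc, hg'']; exact pullback.condition)
  have hl1 : l ≫ (f ⁻¹ᵁ O).ι = pullback.fst f g := t.lift_fst _ _ _
  have hl2 : l ≫ (f ∣_ O) = q ≫ g'' := t.lift_snd _ _ _
  have big : IsPullback (l ≫ (f ⁻¹ᵁ O).ι) q f (g'' ≫ O.ι) := by
    rw [hl1, hg'']
    exact IsPullback.of_hasPullback f g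
  have sq : IsPullback l q (f ∣_ O) g'' := IsPullback.of_right big hl2 t
  haveI : IsFinite (pullback.snd (f ∣_ O) g'') := by
    rw [← sq.isoPullback_inv_snd]
    infer_instance
  refine ⟨O, (⟨u, hgu⟩ : s ∈ Set.range g), ?_⟩
  exact Groth.Agent.Lib.Helper4.AffineDescent.isFinite_of_pullback_snd (f ∣_ O) g''

/-- **Finite locally free of degree `r` iff the degree is constantly `r`.** -/
theorem isFinLocFreeOfDeg_iff (f : X ⟶ S) [Flat f] [LocallyOfFinitePresentation f]
    [IsSeparated f] [LocallyQuasiFinite f] (hf : FinFib f) (r : ℕ) :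
    Mor2.IsFinLocFreeOfDeg r f ↔ ∀ s, deg f s = r := by
  constructor
  · rintro ⟨⟨h1, h2, h3⟩, hd⟩ s
    rw [deg_eq_finrank, hd]
  · intro h
    haveI := isFinite_of_deg_const f hf r h
    refine ⟨⟨inferInstance, inferInstance, inferInstance⟩, fun s => ?_⟩
    rw [← deg_eq_finrank, h]

/-- The universal property of the degree stratification, for an arbitrary pullback square. -/
theorem isFinLocFreeOfDeg_iff_of_isPullback (f : X ⟶ S) [Flat f] [LocallyOfFinitePresentation f]
    [IsSeparated f] [LocallyQuasiFinite f] (hf : FinFib f) {P T : Scheme.{u}} {fst : P ⟶ X}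
    {snd : P ⟶ T} {g : T ⟶ S} (sq : IsPullback fst snd f g) (r : ℕ) :
    Mor2.IsFinLocFreeOfDeg r snd ↔ ∀ t, deg f (g t) = r := by
  haveI : Flat snd := MorphismProperty.of_isPullback (P := @Flat) sq inferInstance
  haveI : LocallyOfFinitePresentation snd :=
    MorphismProperty.of_isPullback (P := @LocallyOfFinitePresentation) sq inferInstance
  haveI : IsSeparated snd := MorphismProperty.of_isPullback (P := @IsSeparated) sq inferInstance
  haveI : LocallyQuasiFinite snd :=
    MorphismProperty.of_isPullback (P := @LocallyQuasiFinite) sq inferInstance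
  rw [isFinLocFreeOfDeg_iff snd (finFib_of_isPullback f hf sq) r]
  exact forall_congr' fun t => by rw [deg_of_isPullback f hf sq t]

theorem isFinLocFreeOfDeg_snd_iff (f : X ⟶ S) [Flat f] [LocallyOfFinitePresentation f]
    [IsSeparated f] [LocallyQuasiFinite f] (hf : FinFib f) {T : Scheme.{u}} (g : T ⟶ S) (r : ℕ) :
    Mor2.IsFinLocFreeOfDeg r (pullback.snd f g) ↔ ∀ t, deg f (g t) = r :=
  isFinLocFreeOfDeg_iff_of_isPullback f hf (IsPullback.of_hasPullback f g) r

end Groth.Agent.H1.FibRank
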