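import Groth.Agent.Lib.Helper1.FibRank4

/-!
# Fibre degree versus the rank of the ring of global functions of the fibre (helper1)
-/

set_option autoImplicit false
universe u
open CategoryTheory CategoryTheory.Limits AlgebraicGeometry TopologicalSpace

namespace Groth.Agent.H1.FibRank

variable {K : Type u} [Field K] {P : Scheme.{u}}

/-- The rank of the ring of global functions of a finite flat scheme over a field is the value of
Mathlib's rank function. -/
theorem rank_eq_finrank (p : P ⟶ Spec (.of K)) [IsFinite p] [Flat p] :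
    (letI := ((Scheme.ΓSpecIso (CommRingCat.of K)).inv ≫ p.appTop).hom.toAlgebra;
      Module.rank K (Γ(P, ⊤) : Type u)) =
      ((p.finrank (IsLocalRing.closedPoint K) : ℕ) : Cardinal.{u}) := by
  rw [finrank_eq_rankAtStalk p]
  letI alg : Algebra K Γ(P, ⊤) := (strHom p).hom.toAlgebra
  haveI : Module.Finite K Γ(P, ⊤) := strHom_finite p
  show Module.rank K (Γ(P, ⊤) : Type u) =
    ((Module.rankAtStalk (R := K) Γ(P, ⊤) (IsLocalRing.closedPoint K) : ℕ) : Cardinal.{u})
  have h1 : Module.rankAtStalk (R := K) Γ(P, ⊤) (IsLocalRing.closedPoint K) =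
      Module.finrank K Γ(P, ⊤) := by
    rw [Module.rankAtStalk_eq_finrank_of_free]
    rfl
  rw [h1, Module.finrank_eq_rank]

section Idem

variable [DiscreteTopology P]

/-- The open subscheme consisting of one point of a discrete scheme. -/
def ptOpen (x : P) : P.Opens := ⟨{x}, isOpen_discrete _⟩

/-- The complementary open subscheme. -/
def ptCompl (x : P) : P.Opens := ⟨{x}ᶜ, isOpen_discrete _⟩

theorem isCompl_ptOpen (x : P) : IsCompl (ptOpen x) (ptCompl x) := by
  refine IsCompl.of_eq ?_ ?_
  · ext y
    simp only [ptOpen, ptCompl, Opens.coe_inf, Opens.coe_mk, Set.inter_compl_self, Opens.coe_bot]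
  · ext y
    simp only [ptOpen, ptCompl, Opens.coe_sup, Opens.coe_mk, Set.union_compl_self, Opens.coe_top]

theorem exists_idem (x : P) :
    ∃ e : Γ(P, ⊤), (ptOpen x).ι.appTop e = 1 ∧ (ptCompl x).ι.appTop e = 0 := by
  obtain ⟨e, he⟩ := (bijective_appTop_prod _ _ (isCompl_ptOpen x)).2 (1, 0)
  exact ⟨e, congrArg Prod.fst he, congrArg Prod.snd he⟩

/-- The number of points of a discrete scheme over a field is at most the rank of its ring of
global functions. -/
theorem card_le_rank (p : P ⟶ Spec (.of K)) :
    Cardinal.mk ↥P ≤ (letI := ((Scheme.ΓSpecIso (CommRingCat.of K)).inv ≫ p.appTop).hom.toAlgebra;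
      Module.rank K (Γ(P, ⊤) : Type u)) := by
  classical
  letI alg : Algebra K Γ(P, ⊤) := ((Scheme.ΓSpecIso (CommRingCat.of K)).inv ≫ p.appTop).hom.toAlgebra
  choose e he1 he0 using fun x : P => exists_idem x
  have hoff : ∀ x y : P, x ≠ y → (ptOpen y).ι.appTop (e x) = 0 := by
    intro x y hxy
    have hle : ptOpen y ≤ ptCompl x := by
      intro z hz
      have hz' : z = y := hz
      show z ∈ ({x}ᶜ : Set P)
      rw [hz']
      exact fun h => hxy h.symm
    have h1 : (ptOpen y).ι = P.homOfLE hle ≫ (ptCompl x).ι := (P.homOfLE_ι hle).symm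
    rw [h1, Scheme.Hom.comp_appTop]
    show (P.homOfLE hle).appTop ((ptCompl x).ι.appTop (e x)) = 0
    rw [he0, map_zero]
  have hli : LinearIndependent K e := by
    rw [linearIndependent_iff']
    intro s c hsum y hy
    haveI : Nonempty ↥(⊤ : (ptOpen y).toScheme.Opens) := ⟨⟨⟨y, rfl⟩, trivial⟩⟩
    haveI : Nontrivial Γ((ptOpen y).toScheme, ⊤) :=
      @Scheme.component_nontrivial (ptOpen y).toScheme ⊤ this
    have h2 := congrArg (fun a => (ptOpen y).ι.appTop a) hsum
    simp only [map_sum, map_zero] at h2
    rw [Finset.sum_eq_single y] at h2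
    · rw [Algebra.smul_def, map_mul, he1, mul_one] at h2
      exact (map_eq_zero_iff _ (RingHom.injective
        (((ptOpen y).ι.appTop).hom.comp (algebraMap K Γ(P, ⊤))))).mp h2
    · intro x _ hxy
      rw [Algebra.smul_def, map_mul, hoff x y hxy, mul_zero]
    · intro hy'
      exact absurd hy hy'
  exact hli.cardinal_le_rank

end Idem

/-- A locally quasi-finite scheme over a field whose ring of global functions has finite rank is
finite over the field. -/
theorem isFinite_of_rank_lt_aleph0 (p : P ⟶ Spec (.of K)) [LocallyQuasiFinite p]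
    (h : (letI := ((Scheme.ΓSpecIso (CommRingCat.of K)).inv ≫ p.appTop).hom.toAlgebra;
      Module.rank K (Γ(P, ⊤) : Type u)) < Cardinal.aleph0) : IsFinite p := by
  haveI : IsLocallyArtinian P := IsLocallyArtinian.of_locallyQuasiFinite p
  have hlt := lt_of_le_of_lt (card_le_rank p) h
  haveI : Finite ↥P := Cardinal.lt_aleph0_iff_finite.mp hlt
  haveI : CompactSpace ↥P := Finite.compactSpace
  exact IsFinite.of_locallyQuasiFinite p

end Groth.Agent.H1.FibRank
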