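import Groth.Agent.Lib.Helper1.FibRank5

/-!
# Finite fibres, nice opens and monotonicity of the rank of global functions (helper1)
-/

set_option autoImplicit false
universe u
open CategoryTheory CategoryTheory.Limits AlgebraicGeometry TopologicalSpace

namespace Groth.Agent.H1.FibRank

variable {X S : Scheme.{u}}

open Scheme.Pullback Groth.Agent.Lib.helper13.EL in
/-- If the set theoretic fibre is finite, the scheme theoretic fibre over a field valued point is
finite over the field. -/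
theorem isFinite_snd_of_finite_fibre (f : X ⟶ S) [LocallyQuasiFinite f] {K : Type u} [Field K]
    (g : Spec (.of K) ⟶ S) (h : (f ⁻¹' {g (IsLocalRing.closedPoint K)}).Finite) :
    IsFinite (pullback.snd f g) := by
  haveI : Finite (Triplet f g) := by
    let φ : Triplet f g → (f ⁻¹' {g (IsLocalRing.closedPoint K)}) := fun T => ⟨T.x, by
      show f T.x = _
      rw [T.hx, ← T.hy]
      exact congrArg g (eq_closedPoint _)⟩
    have hφ : Function.Injective φ := fun T₁ T₂ h =>
      Triplet.ext (congrArg Subtype.val h) (by rw [eq_closedPoint T₁.y, eq_closedPoint T₂.y])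
    haveI := h.to_subtype
    exact Finite.of_injective φ hφ
  haveI : ∀ T : Triplet f g, Finite ↥(Spec T.tensor) := fun T => by
    haveI := isArtinianRing_tensor T (finite_residueFieldMap_of_quasiFiniteAt (f.quasiFiniteAt T.x))
    exact inferInstanceAs (Finite (PrimeSpectrum T.tensor))
  haveI : Finite ↥(pullback f g) := Finite.of_equiv _ (carrierEquiv (f := f) (g := g)).symm
  haveI : CompactSpace ↥(pullback f g) := Finite.compactSpace
  exact IsFinite.of_locallyQuasiFinite (pullback.snd f g)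

theorem finFib_of_finite_fibres (f : X ⟶ S) [LocallyQuasiFinite f]
    (h : ∀ s, (f ⁻¹' {s}).Finite) : FinFib f :=
  fun _ _ g => isFinite_snd_of_finite_fibre f g (h _)

/-- The fibres of an affine open mapping into an affine open are finite. -/
theorem finite_fibre_of_affine (f : X ⟶ S) [LocallyQuasiFinite f] (V : S.Opens) (U : X.Opens)
    (hV : IsAffineOpen V) (hU : IsAffineOpen U) (e : U ≤ f ⁻¹ᵁ V) (s : S) :
    ((U : Set X) ∩ f ⁻¹' {s}).Finite := by
  haveI : IsAffine V.toScheme := hV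
  haveI : IsAffine U.toScheme := hU
  have h1 : ((f.resLE V U e) ⁻¹' (V.ι ⁻¹' {s})).Finite := by
    apply Scheme.Hom.finite_preimage
    exact Set.Finite.preimage V.ι.injective.injOn (Set.finite_singleton s)
  have h2 : (U : Set X) ∩ f ⁻¹' {s} ⊆ U.ι '' ((f.resLE V U e) ⁻¹' (V.ι ⁻¹' {s})) := by
    rintro x ⟨hxU, hxs⟩
    refine ⟨⟨x, hxU⟩, ?_, rfl⟩
    show V.ι ((f.resLE V U e) ⟨x, hxU⟩) ∈ ({s} : Set S)
    rw [← Scheme.Hom.comp_apply, Scheme.Hom.resLE_comp_ι, Scheme.Hom.comp_apply]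
    exact hxs
  exact (h1.image _).subset h2

/-- **Nice opens.**  Every finite set of points is contained in an open on which `f` has finite
fibres. -/
theorem exists_open_finFib (f : X ⟶ S) [LocallyQuasiFinite f] (E : Set X) (hE : E.Finite) :
    ∃ X' : X.Opens, E ⊆ X' ∧ FinFib (X'.ι ≫ f) := by
  classical
  have hch : ∀ x : X, ∃ (V : S.Opens) (U : X.Opens), IsAffineOpen V ∧ IsAffineOpen U ∧
      U ≤ f ⁻¹ᵁ V ∧ x ∈ U := by
    intro x
    obtain ⟨V, hV, hxV⟩ : ∃ V : S.Opens, IsAffineOpen V ∧ f x ∈ V := by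
      obtain ⟨_, ⟨V, hV, rfl⟩, hxV, -⟩ := S.isBasis_affineOpens.exists_subset_of_mem_open
        (Set.mem_univ (f x)) isOpen_univ
      exact ⟨V, hV, hxV⟩
    obtain ⟨_, ⟨U, hU, rfl⟩, hxU, hUV⟩ := X.isBasis_affineOpens.exists_subset_of_mem_open
      (show x ∈ ((f ⁻¹ᵁ V : X.Opens) : Set X) from hxV) (f ⁻¹ᵁ V).isOpen
    exact ⟨V, U, hV, hU, hUV, hxU⟩
  choose V U hV hU hUV hxU using hch
  let X' : X.Opens := ⨆ x : E, U x
  refine ⟨X', fun x hx => Opens.mem_iSup.mpr ⟨⟨x, hx⟩, hxU x⟩, ?_⟩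
  haveI : LocallyQuasiFinite (X'.ι ≫ f) := inferInstance
  apply finFib_of_finite_fibres
  intro s
  haveI := hE.to_subtype
  have h1 : ((X' : Set X) ∩ f ⁻¹' {s}).Finite := by
    have : (X' : Set X) ∩ f ⁻¹' {s} = ⋃ x : E, ((U x : Set X) ∩ f ⁻¹' {s}) := by
      simp only [X', Opens.coe_iSup, Set.iUnion_inter]
    rw [this]
    exact Set.finite_iUnion fun x => finite_fibre_of_affine f (V x) (U x) (hV x) (hU x) (hUV x) s
  have h2 : ((X'.ι ≫ f) ⁻¹' {s}) ⊆ X'.ι ⁻¹' ((X' : Set X) ∩ f ⁻¹' {s}) := by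
    intro y hy
    refine ⟨y.2, ?_⟩
    show f (X'.ι y) ∈ ({s} : Set S)
    rw [← Scheme.Hom.comp_apply]
    exact hy
  exact (Set.Finite.preimage X'.ι.injective.injOn h1).subset h2

/-- Monotonicity of the rank of the ring of global functions for clopen subschemes. -/
theorem rank_le_of_isCompl {K : Type u} [Field K] {P : Scheme.{u}} (p : P ⟶ Spec (.of K))
    (Q Q' : P.Opens) (h : IsCompl Q Q') :
    (letI := ((Scheme.ΓSpecIso (CommRingCat.of K)).inv ≫ (Q.ι ≫ p).appTop).hom.toAlgebra;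
      Module.rank K (Γ(Q.toScheme, ⊤) : Type u)) ≤
    (letI := ((Scheme.ΓSpecIso (CommRingCat.of K)).inv ≫ p.appTop).hom.toAlgebra;
      Module.rank K (Γ(P, ⊤) : Type u)) := by
  letI alg : Algebra K Γ(P, ⊤) := (strHom p).hom.toAlgebra
  letI alg1 : Algebra K Γ(Q.toScheme, ⊤) := (strHom (Q.ι ≫ p)).hom.toAlgebra
  have hs1 : ∀ (r : K) (a : Γ(P, ⊤)), Q.ι.appTop (r • a) = r • Q.ι.appTop a := by
    intro r a
    show Q.ι.appTop ((strHom p).hom r * a) = (strHom (Q.ι ≫ p)).hom r * Q.ι.appTop a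
    rw [map_mul, strHom_comp]
    rfl
  let ψ : Γ(P, ⊤) →ₗ[K] Γ(Q.toScheme, ⊤) :=
    { toFun := fun a => Q.ι.appTop a
      map_add' := fun a b => by simp
      map_smul' := fun r a => by
        simp only [RingHom.id_apply]
        rw [hs1] }
  have hsurj : Function.Surjective ψ := by
    intro b
    obtain ⟨a, ha⟩ := (bijective_appTop_prod Q Q' h).2 (b, 0)
    exact ⟨a, congrArg Prod.fst ha⟩
  exact LinearMap.rank_le_of_surjective ψ hsurj

theorem finrank_ι_comp_of_eq_top {P T : Scheme.{u}} (p : P ⟶ T) [IsFinite p] [Flat p]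
    (Q : P.Opens) (hQ : Q = ⊤) : (Q.ι ≫ p).finrank = p.finrank := by
  subst hQ
  haveI : IsIso (⊤ : P.Opens).ι := (inferInstance : IsIso P.topIso.hom)
  exact Scheme.Hom.finrank_comp_left_of_isIso _ _

end Groth.Agent.H1.FibRank
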