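import Groth.Agent.Lib.Helper1.FibRank6

/-!
# Retrocompactness of the degree strata for quasi-compact morphisms (helper1)
-/

set_option autoImplicit false
universe u
open CategoryTheory CategoryTheory.Limits AlgebraicGeometry TopologicalSpace

namespace Groth.Agent.H1.FibRank

/-- A quasi-compact locally quasi-finite morphism has finite fibres. -/
theorem finFib_of_quasiCompact {X S : Scheme.{u}} (f : X ⟶ S) [LocallyQuasiFinite f]
    [QuasiCompact f] : FinFib f := by
  intro K _ g
  haveI : QuasiCompact (pullback.snd f g) :=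
    MorphismProperty.pullback_snd (P := @QuasiCompact) _ _ inferInstance
  exact IsFinite.of_locallyQuasiFinite (pullback.snd f g)

/-- Points of positive degree are in the image. -/
theorem mem_range_of_one_le_deg {X S : Scheme.{u}} (f : X ⟶ S) [Flat f] (hf : FinFib f) (s : S)
    (h : 1 ≤ deg f s) : s ∈ Set.range f := by
  by_contra hs
  have := deg_eq_zero_of_forall_ne f hf s (fun x hx => hs ⟨x, hx⟩)
  omega

/-- **The loci `{d ≤ deg}` are quasi-compact over a quasi-compact base.** -/
theorem isCompact_le_deg : ∀ (d : ℕ) {X S : Scheme.{u}} (f : X ⟶ S) [Flat f]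
    [LocallyOfFinitePresentation f] [IsSeparated f] [LocallyQuasiFinite f] [QuasiCompact f]
    [CompactSpace S] (hf : FinFib f), IsCompact {s : S | d ≤ deg f s} := by
  intro d
  induction d using Nat.strong_induction_on with
  | _ d ih =>
  intro X S f _ _ _ _ _ _ hf
  rcases Nat.eq_zero_or_pos d with rfl | hd
  · have : {s : S | 0 ≤ deg f s} = Set.univ := by
      ext s
      simp
    rw [this]
    exact isCompact_univ
  haveI : CompactSpace X := QuasiCompact.compactSpace_of_compactSpace f
  have hrange : IsCompact (Set.range f) := isCompact_range f.continuous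
  have hloc : ∀ s ∈ Set.range f, ∃ N : Set S, IsOpen N ∧ s ∈ N ∧
      IsCompact ({s | d ≤ deg f s} ∩ N) := by
    rintro _ ⟨x, rfl⟩
    obtain ⟨U, g, u, hg, hgu, V, W, hc, hfin, hrank, hfW, hdeg⟩ :=
      exists_etale_nbhd_strat f hf (f x)
    have hr : 1 ≤ deg f (f x) := one_le_deg_map f hf x
    obtain ⟨_, ⟨K', hK, rfl⟩, huK, -⟩ := U.isBasis_affineOpens.exists_subset_of_mem_open
      (Set.mem_univ u) isOpen_univ
    obtain ⟨K, rfl⟩ : ∃ K : U.Opens, K = K' := ⟨K', rfl⟩
    haveI : Flat (pullback.snd f g) := MorphismProperty.pullback_snd (P := @Flat) _ _ inferInstance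
    haveI : LocallyOfFinitePresentation (pullback.snd f g) :=
      MorphismProperty.pullback_snd (P := @LocallyOfFinitePresentation) _ _ inferInstance
    haveI : IsSeparated (pullback.snd f g) :=
      MorphismProperty.pullback_snd (P := @IsSeparated) _ _ inferInstance
    haveI : LocallyQuasiFinite (pullback.snd f g) := inferInstance
    haveI : QuasiCompact (pullback.snd f g) :=
      MorphismProperty.pullback_snd (P := @QuasiCompact) _ _ inferInstance
    haveI : IsClosedImmersion W.ι := isClosedImmersion_ι_of_isCompl W V hc.symm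
    haveI : Flat (W.ι ≫ pullback.snd f g) := inferInstance
    haveI : LocallyOfFinitePresentation (W.ι ≫ pullback.snd f g) := inferInstance
    haveI : IsSeparated (W.ι ≫ pullback.snd f g) := inferInstance
    haveI : LocallyQuasiFinite (W.ι ≫ pullback.snd f g) := inferInstance
    haveI : QuasiCompact (W.ι ≫ pullback.snd f g) := inferInstance
    haveI : Flat ((W.ι ≫ pullback.snd f g) ∣_ K) :=
      IsZariskiLocalAtTarget.restrict (P := @Flat) inferInstance K
    haveI : LocallyOfFinitePresentation ((W.ι ≫ pullback.snd f g) ∣_ K) :=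
      IsZariskiLocalAtTarget.restrict (P := @LocallyOfFinitePresentation) inferInstance K
    haveI : IsSeparated ((W.ι ≫ pullback.snd f g) ∣_ K) :=
      IsZariskiLocalAtTarget.restrict (P := @IsSeparated) inferInstance K
    haveI : LocallyQuasiFinite ((W.ι ≫ pullback.snd f g) ∣_ K) :=
      IsZariskiLocalAtTarget.restrict (P := @LocallyQuasiFinite) inferInstance K
    haveI : QuasiCompact ((W.ι ≫ pullback.snd f g) ∣_ K) :=
      IsZariskiLocalAtTarget.restrict (P := @QuasiCompact) inferInstance K
    haveI : CompactSpace ↥K.toScheme := isCompact_iff_compactSpace.mp hK.isCompact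
    have sqK : IsPullback ((W.ι ≫ pullback.snd f g) ⁻¹ᵁ K).ι ((W.ι ≫ pullback.snd f g) ∣_ K)
        (W.ι ≫ pullback.snd f g) K.ι := (isPullback_morphismRestrict _ K).flip
    have hfK : FinFib ((W.ι ≫ pullback.snd f g) ∣_ K) := finFib_of_isPullback _ hfW sqK
    have hdegK : ∀ k : ↥K.toScheme, deg ((W.ι ≫ pullback.snd f g) ∣_ K) k =
        deg (W.ι ≫ pullback.snd f g) (K.ι k) := fun k => deg_of_isPullback _ hfW sqK k
    have ihK := ih (d - deg f (f x)) (by omega) ((W.ι ≫ pullback.snd f g) ∣_ K) hfK
    refine ⟨g '' (K : Set U), g.isOpenMap _ K.isOpen, ⟨u, huK, hgu⟩, ?_⟩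
    have hEq : {s | d ≤ deg f s} ∩ g '' (K : Set U) = (fun k : ↥K.toScheme => g (K.ι k)) ''
        {k | d - deg f (f x) ≤ deg ((W.ι ≫ pullback.snd f g) ∣_ K) k} := by
      ext s
      constructor
      · rintro ⟨hs, u', hu'K, rfl⟩
        refine ⟨⟨u', hu'K⟩, ?_, rfl⟩
        show d - deg f (f x) ≤ deg ((W.ι ≫ pullback.snd f g) ∣_ K) ⟨u', hu'K⟩
        rw [hdegK]
        have h1 := hdeg u'
        have h2 : d ≤ deg f (g u') := hs
        have h3 : K.ι ⟨u', hu'K⟩ = u' := rfl
        rw [h3]
        omega
      · rintro ⟨k, hk, rfl⟩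
        refine ⟨?_, K.ι k, k.2, rfl⟩
        show d ≤ deg f (g (K.ι k))
        have hk' : d - deg f (f x) ≤ deg ((W.ι ≫ pullback.snd f g) ∣_ K) k := hk
        rw [hdegK] at hk'
        rw [hdeg]
        omega
    rw [hEq]
    exact ihK.image (g.continuous.comp K.ι.continuous)
  choose! N hNo hsN hNc using hloc
  obtain ⟨t, htsub, hcov⟩ := hrange.elim_nhds_subcover N
    (fun s hs => (hNo s hs).mem_nhds (hsN s hs))
  have hEq : {s : S | d ≤ deg f s} = ⋃ s ∈ t, ({s | d ≤ deg f s} ∩ N s) := by
    ext s
    simp only [Set.mem_ofPred_eq, Set.mem_iUnion, Set.mem_inter_iff, exists_and_left, exists_prop]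
    constructor
    · intro hs
      refine ⟨hs, ?_⟩
      have h1 : s ∈ Set.range f := mem_range_of_one_le_deg f hf s (le_trans hd hs)
      have h2 := hcov h1
      simp only [Set.mem_iUnion, exists_prop] at h2
      exact h2
    · rintro ⟨hs, -⟩
      exact hs
  rw [hEq]
  exact t.isCompact_biUnion fun s hs => hNc s (htsub s hs)

end Groth.Agent.H1.FibRank
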