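import Groth.Agent.Lib.Helper1.FibRank4
import Groth.Agent.Lib.Helper5.UBF
import Groth.Agent.Lib.Helper5.AlgSpUnivInj
import Groth.Agent.Lib.Helper11.AlgSpBasic
import Groth.Prelude.Def_W4decUnivBdd
import Groth.Prelude.Def_AlgSpMor5

/-!
# The fibre degree of a morphism from a scheme to a sheaf with universally bounded fibres (helper1)
-/

set_option autoImplicit false
universe u
open CategoryTheory CategoryTheory.Limits AlgebraicGeometry Opposite
open AlgSp

namespace Groth.Agent.H1.FibRank

variable {S : Scheme.{u}} {F : Sp S} {W : Over S}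

/-- Comparison of two represented pullbacks. -/
theorem exists_isPullback_left (w : (yon S).obj W ⟶ F) {T T' V V' : Over S}
    {g : (yon S).obj T ⟶ F} {s : V ⟶ T} {fst : (yon S).obj V ⟶ (yon S).obj W}
    (sq : IsPullback fst ((yon S).map s) w g) (φ : T' ⟶ T) {s' : V' ⟶ T'}
    {fst' : (yon S).obj V' ⟶ (yon S).obj W}
    (sq' : IsPullback fst' ((yon S).map s') w ((yon S).map φ ≫ g)) :
    ∃ ψ : V' ⟶ V, IsPullback ψ.left s'.left s.left φ.left := by
  obtain ⟨ψ, hψ⟩ := (yon S).map_surjective
    (sq.lift fst' ((yon S).map s' ≫ (yon S).map φ) (by rw [Category.assoc]; exact sq'.w))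
  have h1 : (yon S).map ψ ≫ fst = fst' := by rw [hψ]; exact sq.lift_fst _ _ _
  have h2 : (yon S).map ψ ≫ (yon S).map s = (yon S).map s' ≫ (yon S).map φ := by
    rw [hψ]; exact sq.lift_snd _ _ _
  have big : IsPullback ((yon S).map ψ ≫ fst) ((yon S).map s') w ((yon S).map φ ≫ g) := by
    rw [h1]; exact sq'
  have sqY : IsPullback ((yon S).map ψ) ((yon S).map s') ((yon S).map s) ((yon S).map φ) :=
    IsPullback.of_right big h2 sq
  exact ⟨ψ, Groth.Agent.Lib.helper5.AffDesc.isPullback_left_of_yon sqY⟩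

/-- The field valued point of `F` given by a field valued point of a scheme over `F`. -/
noncomputable def fieldPtOf {T : Over S} (g : (yon S).obj T ⟶ F) {K : Type u} [Field K]
    (h : Spec (.of K) ⟶ T.left) : FieldPt F :=
  ⟨K, h ≫ T.hom, (J S).uliftYonedaEquiv
    ((yon S).map (Over.homMk (U := Over.mk (h ≫ T.hom)) (V := T) h rfl) ≫ g)⟩

theorem toHom_fieldPtOf {T : Over S} (g : (yon S).obj T ⟶ F) {K : Type u} [Field K]
    (h : Spec (.of K) ⟶ T.left) :
    (fieldPtOf g h).toHom = (yon S).map (Over.homMk (U := Over.mk (h ≫ T.hom)) (V := T) h rfl) ≫ g :=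
  Equiv.symm_apply_apply _ _

/-- **Bounded fibres at the level of representing schemes.** -/
theorem finFib_of_degFibresLE (w : (yon S).obj W ⟶ F) {n : ℕ} (hb : W4dec.DegFibresLE n w)
    {T V : Over S} {g : (yon S).obj T ⟶ F} {s : V ⟶ T} {fst : (yon S).obj V ⟶ (yon S).obj W}
    (sq : IsPullback fst ((yon S).map s) w g) :
    FinFib s.left ∧ ∀ t, deg s.left t ≤ n := by
  have main : ∀ (K : Type u) [Field K] (h : Spec (.of K) ⟶ T.left),
      IsFinite (pullback.snd s.left h) ∧ fdeg s.left h ≤ n := by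
    intro K _ h
    let ptO : Over S := Over.mk (h ≫ T.hom)
    let hO : ptO ⟶ T := Over.homMk h rfl
    let QO : Over S := Over.mk (pullback.snd s.left h ≫ h ≫ T.hom)
    let c : QO ⟶ ptO := Over.homMk (pullback.snd s.left h) rfl
    let a : QO ⟶ V := Over.homMk (pullback.fst s.left h) (by
      have := Over.w s
      show pullback.fst s.left h ≫ V.hom = pullback.snd s.left h ≫ h ≫ T.hom
      rw [← this, ← Category.assoc, pullback.condition, Category.assoc])
    have sqO : IsPullback a c s hO := by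
      refine IsPullback.of_map (Over.forget S) ?_ (IsPullback.of_hasPullback s.left h)
      apply Over.OverMorphism.ext
      simp [a, c, hO, pullback.condition]
    have sqY := sqO.map (yon S)
    have big : IsPullback ((yon S).map c) ((yon S).map a ≫ fst) ((yon S).map hO ≫ g) w :=
      sqY.flip.paste_vert sq.flip
    rw [← toHom_fieldPtOf g h] at big
    obtain ⟨h1, h2⟩ := hb (fieldPtOf g h) QO c _ big
    exact ⟨h1, h2 _⟩
  exact ⟨fun K _ h => (main K h).1, fun t => (main _ _).2⟩

/-- Compatibility of the degrees of two represented pullbacks. -/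
theorem deg_compat (w : (yon S).obj W ⟶ F) (hfl : RepWith @Flat w) {n : ℕ}
    (hb : W4dec.DegFibresLE n w) {T T' V V' : Over S}
    {g : (yon S).obj T ⟶ F} {s : V ⟶ T} {fst : (yon S).obj V ⟶ (yon S).obj W}
    (sq : IsPullback fst ((yon S).map s) w g) (φ : T' ⟶ T) {s' : V' ⟶ T'}
    {fst' : (yon S).obj V' ⟶ (yon S).obj W}
    (sq' : IsPullback fst' ((yon S).map s') w ((yon S).map φ ≫ g)) (t' : ↥T'.left) :
    deg s'.left t' = deg s.left (φ.left t') := by
  obtain ⟨ψ, hψ⟩ := exists_isPullback_left w sq φ sq'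
  haveI : Flat s.left := hfl.2 g fst s sq
  exact deg_of_isPullback s.left (finFib_of_degFibresLE w hb sq).1 hψ t'

/-- The degree of the fibre over a point of `F` is well defined. -/
theorem exists_degSp (w : (yon S).obj W ⟶ F) (hfl : RepWith @Flat w) {n : ℕ}
    (hb : W4dec.DegFibresLE n w) (x : Points F) :
    ∃ d : ℕ, ∀ (T V : Over S) (g : (yon S).obj T ⟶ F) (s : V ⟶ T)
      (fst : (yon S).obj V ⟶ (yon S).obj W) (t : ↥T.left),
      IsPullback fst ((yon S).map s) w g → Points.ofPt g t = x → deg s.left t = d := by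
  induction x using Points.ind with
  | h q =>
  obtain ⟨Vq, sq_, fstq, hq⟩ := hfl.rep q.toHom
  refine ⟨deg sq_.left (IsLocalRing.closedPoint q.K), ?_⟩
  intro T V g s fst t sq hx
  have hrel : FieldPt.Rel (FieldPt.ofPt g t) q := Points.mk_eq_mk_iff.mp hx
  obtain ⟨Ω, _, wΩ, a, b, hab⟩ := Groth.Agent.Lib.helper5.UnivInj.hom_eq_of_rel hrel
  rw [FieldPt.toHom_ofPt] at hab
  obtain ⟨VΩ, sΩ, fstΩ, hΩ⟩ := hfl.rep ((yon S).map b ≫ q.toHom)
  have e1 := deg_compat w hfl hb hq b hΩ (IsLocalRing.closedPoint Ω)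
  let ι : (FieldPt.ofPt g t).pt ⟶ T := Over.homMk (T.left.fromSpecResidueField t) rfl
  have hΩ' : IsPullback fstΩ ((yon S).map sΩ) w ((yon S).map (a ≫ ι) ≫ g) := by
    rw [Functor.map_comp, Category.assoc, hab]
    exact hΩ
  have e2 := deg_compat w hfl hb sq (a ≫ ι) hΩ' (IsLocalRing.closedPoint Ω)
  have h1 : (a ≫ ι).left (IsLocalRing.closedPoint Ω) = t := by
    rw [Over.comp_left, Scheme.Hom.comp_apply]
    exact Scheme.fromSpecResidueField_apply _ _
  have h2 : b.left (IsLocalRing.closedPoint Ω) = IsLocalRing.closedPoint q.K := eq_closedPoint _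
  rw [h1] at e2
  rw [h2] at e1
  rw [← e2, e1]

/-- The degree of the fibres of `w` as a function on the points of the target. -/
noncomputable def degSp (w : (yon S).obj W ⟶ F) (hfl : RepWith @Flat w) {n : ℕ}
    (hb : W4dec.DegFibresLE n w) (x : Points F) : ℕ :=
  (exists_degSp w hfl hb x).choose

theorem deg_eq_degSp (w : (yon S).obj W ⟶ F) (hfl : RepWith @Flat w) {n : ℕ}
    (hb : W4dec.DegFibresLE n w) {T V : Over S} {g : (yon S).obj T ⟶ F} {s : V ⟶ T}
    {fst : (yon S).obj V ⟶ (yon S).obj W} (sq : IsPullback fst ((yon S).map s) w g) (t : ↥T.left) :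
    deg s.left t = degSp w hfl hb (Points.ofPt g t) :=
  (exists_degSp w hfl hb (Points.ofPt g t)).choose_spec T V g s fst t sq rfl

theorem degSp_le (w : (yon S).obj W ⟶ F) (hfl : RepWith @Flat w) {n : ℕ}
    (hb : W4dec.DegFibresLE n w) (x : Points F) : degSp w hfl hb x ≤ n := by
  induction x using Points.ind with
  | h q =>
  obtain ⟨Vq, sq_, fstq, hq⟩ := hfl.rep q.toHom
  rw [← Points.ofPt_toHom q (IsLocalRing.closedPoint q.K), ← deg_eq_degSp w hfl hb hq]
  exact (finFib_of_degFibresLE w hb hq).2 _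

/-- Lower semicontinuity of the degree on the points of `F`. -/
theorem isOpen_le_degSp (w : (yon S).obj W ⟶ F) (hfl : RepWith @Flat w)
    (hfp : RepWith @LocallyOfFinitePresentation w) (hsep : RepWith @IsSeparated w)
    (hqf : RepWith @LocallyQuasiFinite w) {n : ℕ} (hb : W4dec.DegFibresLE n w) (d : ℕ) :
    IsOpen {x : Points F | d ≤ degSp w hfl hb x} := by
  rw [Points.isOpen_iff]
  intro T g
  obtain ⟨V, s, fst, sq⟩ := hfl.rep g
  haveI : Flat s.left := hfl.2 g fst s sq
  haveI : LocallyOfFinitePresentation s.left := hfp.2 g fst s sq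
  haveI : IsSeparated s.left := hsep.2 g fst s sq
  haveI : LocallyQuasiFinite s.left := hqf.2 g fst s sq
  have : Points.ofPt g ⁻¹' {x : Points F | d ≤ degSp w hfl hb x} = {t | d ≤ deg s.left t} := by
    ext t
    simp only [Set.mem_preimage, Set.mem_ofPred_eq]
    rw [deg_eq_degSp w hfl hb sq t]
  rw [this]
  exact isOpen_le_deg s.left (finFib_of_degFibresLE w hb sq).1 d

/-- **The universal property of the degree strata.** -/
theorem isFinLocFreeOfDegMor_iff (w : (yon S).obj W ⟶ F) (hfl : RepWith @Flat w)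
    (hfp : RepWith @LocallyOfFinitePresentation w) (hsep : RepWith @IsSeparated w)
    (hqf : RepWith @LocallyQuasiFinite w) {n : ℕ} (hb : W4dec.DegFibresLE n w)
    {G P : Sp S} (g : G ⟶ F) (fst : P ⟶ (yon S).obj W) (snd : P ⟶ G)
    (sq : IsPullback fst snd w g) (r : ℕ) :
    IsFinLocFreeOfDegMor r snd ↔ ∀ x : Points G, degSp w hfl hb (Points.map g x) = r := by
  constructor
  · intro hsnd x
    induction x using Points.ind with
    | h q =>
    obtain ⟨V, s', fst', hpb⟩ := hsnd.rep q.toHom
    have big : IsPullback (fst' ≫ fst) ((yon S).map s') w (q.toHom ≫ g) := hpb.paste_horiz sq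
    obtain ⟨⟨h1, h2, h3⟩, h4⟩ := hsnd.2 q.toHom fst' s' hpb
    haveI : IsFinite ((Over.forget S).map s') := h1
    haveI : Flat ((Over.forget S).map s') := h2
    have e := deg_eq_degSp w hfl hb big (IsLocalRing.closedPoint q.K)
    rw [← Points.map_ofPt, Points.ofPt_toHom] at e
    rw [← e]
    show deg ((Over.forget S).map s') _ = r
    rw [deg_eq_finrank]
    exact h4 _
  · intro h
    have hrep : Representable snd := MorphismProperty.of_isPullback sq hfl.1
    refine ⟨hrep, ?_⟩
    intro U V k fst' s' hpb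
    have big : IsPullback (fst' ≫ fst) ((yon S).map s') w (k ≫ g) := hpb.paste_horiz sq
    haveI : Flat s'.left := hfl.2 _ _ s' big
    haveI : LocallyOfFinitePresentation s'.left := hfp.2 _ _ s' big
    haveI : IsSeparated s'.left := hsep.2 _ _ s' big
    haveI : LocallyQuasiFinite s'.left := hqf.2 _ _ s' big
    show Mor2.IsFinLocFreeOfDeg r s'.left
    rw [isFinLocFreeOfDeg_iff s'.left (finFib_of_degFibresLE w hb big).1 r]
    intro u
    rw [deg_eq_degSp w hfl hb big u, ← Points.map_ofPt]
    exact h _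

end Groth.Agent.H1.FibRank
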