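import Mathlib
import Groth.Prelude.Def_W4stkschemesremainderFib

set_option autoImplicit false
universe u
open CategoryTheory CategoryTheory.Limits AlgebraicGeometry TensorProduct

namespace Groth.Agent.Lib.helper1

/-- The algebraic core: in a pushout square of commutative rings, the pushout is the base change,
as a module over the base-changing ring. -/
theorem nonempty_linearEquiv_of_isPushout {K L A A' : CommRingCat.{u}} {f : K ⟶ A} {g : K ⟶ L}
    {a : A ⟶ A'} {b : L ⟶ A'} (H : IsPushout f g a b) :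
    letI := f.hom.toAlgebra
    letI := g.hom.toAlgebra
    letI := b.hom.toAlgebra
    Nonempty (A' ≃ₗ[L] L ⊗[K] A) := by
  let _ := f.hom.toAlgebra
  let _ := g.hom.toAlgebra
  let _ := b.hom.toAlgebra
  let e : CommRingCat.of (L ⊗[K] A) ≅ A' :=
    (CommRingCat.isPushout_tensorProduct K L A).isoIsPushout _ _ H.flip
  have he : ∀ l : L, e.hom (l ⊗ₜ[K] (1 : A)) = b l := by
    intro l
    have := (CommRingCat.isPushout_tensorProduct K L A).inl_isoIsPushout_hom _ _ H.flip
    exact congr($this l)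
  refine ⟨LinearEquiv.symm
    { e.commRingCatIsoToRingEquiv with
      map_smul' := ?_ }⟩
  intro l x
  simp only [RingHom.id_apply]
  change e.hom (l • x) = b l * e.hom x
  rw [← he, ← map_mul]
  congr 1
  rw [Algebra.smul_def]
  rfl

end Groth.Agent.Lib.helper1

namespace Groth.Agent.Lib.helper1

theorem appLE_top_top_eq_appTop {A B : Scheme.{u}} (k : A ⟶ B) (e : (⊤ : A.Opens) ≤ k ⁻¹ᵁ ⊤) :
    k.appLE ⊤ ⊤ e = k.appTop := by
  simp [Scheme.Hom.appLE, Scheme.Hom.appTop]

/-- The pushout square of global sections attached to a pullback square of affine schemes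
over a base change `Spec L ⟶ Spec K`. -/
theorem isPushout_sections {K L : CommRingCat.{u}} (φ : K ⟶ L) {T T' : Scheme.{u}}
    (p : T ⟶ Spec K) (p' : T' ⟶ Spec L) (e : T' ⟶ T)
    (H : IsPullback e p' p (Spec.map φ)) [IsAffine T] :
    IsPushout ((Scheme.ΓSpecIso K).inv ≫ p.appTop) φ e.appTop
      ((Scheme.ΓSpecIso L).inv ≫ p'.appTop) := by
  have h1 := isIso_pushoutSection_of_isAffineOpen H (US := ⊤) (UT := ⊤) (UX := ⊤) (UY := ⊤)
    le_top le_top (by simp) (isAffineOpen_top _) (isAffineOpen_top _) (isAffineOpen_top _)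
  rw [isIso_pushoutSection_iff] at h1
  simp only [appLE_top_top_eq_appTop] at h1
  refine IsPushout.of_iso h1 (Scheme.ΓSpecIso K) (Iso.refl _) (Scheme.ΓSpecIso L) (Iso.refl _)
    ?_ ?_ ?_ ?_
  · simp
  · simp [Scheme.ΓSpecIso_naturality]
  · simp
  · simp

end Groth.Agent.Lib.helper1

namespace Groth.Agent.Lib.helper1

/-- Base change of `FiniteOfDegLE` along a map of nontrivial base rings over which the sections are free
(e.g. fields). -/
theorem finiteOfDegLE_of_isPullback {K L : CommRingCat.{u}} [Nontrivial K] [Nontrivial L]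
    (φ : K ⟶ L) {T T' : Scheme.{u}}
    (p : T ⟶ Spec K) (p' : T' ⟶ Spec L) (e : T' ⟶ T)
    (H : IsPullback e p' p (Spec.map φ)) (n : ℕ)
    (hfree : letI := BddFib.secAlgebra K p; Module.Free K Γ(T, ⊤))
    (h : BddFib.FiniteOfDegLE K p n) : BddFib.FiniteOfDegLE L p' n := by
  obtain ⟨haff, hfin, hrank⟩ := h
  have haff' : IsAffine T' := by
    have : IsAffine (pullback p (Spec.map φ)) := inferInstance
    exact .of_isIso H.isoPullback.hom
  obtain ⟨el⟩ := nonempty_linearEquiv_of_isPushout (isPushout_sections φ p p' e H)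
  let _ : Algebra K Γ(T, ⊤) := ((Scheme.ΓSpecIso K).inv ≫ p.appTop).hom.toAlgebra
  let _ : Algebra K L := φ.hom.toAlgebra
  let _ : Algebra L Γ(T', ⊤) := ((Scheme.ΓSpecIso L).inv ≫ p'.appTop).hom.toAlgebra
  have hfin' : Module.Finite K Γ(T, ⊤) := hfin
  have hfree' : Module.Free K Γ(T, ⊤) := hfree
  refine ⟨haff', ?_, ?_⟩
  · exact Module.Finite.equiv el.symm
  · have h1 : Module.finrank L Γ(T', ⊤) = Module.finrank L (L ⊗[K] Γ(T, ⊤)) := el.finrank_eq
    have h2 : Module.finrank L (L ⊗[K] Γ(T, ⊤)) = Module.finrank K Γ(T, ⊤) :=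
      Module.finrank_baseChange
    change Module.finrank L Γ(T', ⊤) ≤ n
    rw [h1, h2]
    exact hrank

end Groth.Agent.Lib.helper1
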