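import Groth.Agent.Lib.Helper1.FibreDeg
import Groth.Agent.S0082

set_option autoImplicit false
universe u
open CategoryTheory CategoryTheory.Limits AlgebraicGeometry TensorProduct

namespace Groth.Agent.Lib.helper1

/-- Descent of `FiniteOfDegLE` along a field extension (fields given as types). -/
theorem finiteOfDegLE_descent_aux (K L : Type u) [Field K] [Field L]
    (φ : CommRingCat.of K ⟶ CommRingCat.of L) {T T' : Scheme.{u}}
    (p : T ⟶ Spec (CommRingCat.of K)) (p' : T' ⟶ Spec (CommRingCat.of L)) (e : T' ⟶ T)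
    (H : IsPullback e p' p (Spec.map φ)) (n : ℕ)
    (h : BddFib.FiniteOfDegLE (CommRingCat.of L) p' n) :
    BddFib.FiniteOfDegLE (CommRingCat.of K) p n := by
  obtain ⟨haff', hfin', hrank'⟩ := h
  let _ : Algebra K L := φ.hom.toAlgebra
  -- `Spec φ` is flat and surjective
  have hflat : Flat (Spec.map φ) := by
    rw [HasRingHomProperty.Spec_iff (P := @Flat)]
    change Module.Flat K L
    infer_instance
  have hsurj : Surjective (Spec.map φ) := by
    constructor
    intro x
    exact ⟨default, Subsingleton.elim _ _⟩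
  -- affineness descends
  have haff : IsAffine T := by
    refine Groth.Agent.S0082.isAffine_of_isAffine_pullback φ p ⟨hsurj, hflat⟩ ?_
    have : IsAffine (pullback (Spec.map φ) p) := .of_isIso H.flip.isoPullback.inv
    exact (HasAffineProperty.iff_of_isAffine (P := @IsAffineHom)).mpr this
  obtain ⟨el⟩ := nonempty_linearEquiv_of_isPushout (isPushout_sections φ p p' e H)
  let _ : Algebra K Γ(T, ⊤) := ((Scheme.ΓSpecIso (CommRingCat.of K)).inv ≫ p.appTop).hom.toAlgebra
  let _ : Algebra L Γ(T', ⊤) :=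
    ((Scheme.ΓSpecIso (CommRingCat.of L)).inv ≫ p'.appTop).hom.toAlgebra
  have hfin'' : Module.Finite L Γ(T', ⊤) := hfin'
  have hfinT : Module.Finite L (L ⊗[K] Γ(T, ⊤)) := Module.Finite.equiv el
  have hfin : Module.Finite K Γ(T, ⊤) := Module.Finite.of_finite_tensorProduct_of_faithfullyFlat L
  refine ⟨haff, hfin, ?_⟩
  have h1 : Module.finrank L Γ(T', ⊤) = Module.finrank L (L ⊗[K] Γ(T, ⊤)) := el.finrank_eq
  have h2 : Module.finrank L (L ⊗[K] Γ(T, ⊤)) = Module.finrank K Γ(T, ⊤) :=
    Module.finrank_baseChange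
  change Module.finrank K Γ(T, ⊤) ≤ n
  rw [← h2, ← h1]
  exact hrank'

end Groth.Agent.Lib.helper1
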