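import Mathlib
import Groth.Prelude.Def_Flat
import Groth.Prelude.Def_Dual3
import Groth.Prelude.Def_AlgSpDec
import Groth.Agent.Lib.Helper5.ClosedPtField
import Groth.Agent.Lib.Helper5.ResTrdegChart
import Groth.Agent.Lib.Helper11.AlgSpBasic
import Groth.Agent.S10318

/-!
# Algebraic spaces locally of finite type over a field: open, closed and dimension zero points (helper1)
-/

set_option autoImplicit false
universe u
open CategoryTheory CategoryTheory.Limits AlgebraicGeometry Topology TopologicalSpace
open AlgSp

namespace Groth.Agent.H1.FieldDim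


/-- In a Noetherian quasi-sober space a closed point without proper generizations is open. -/
theorem isOpen_singleton_of_noetherianSpace {W : Type*} [TopologicalSpace W] [NoetherianSpace W]
    [QuasiSober W] (u : W) (hcl : IsClosed ({u} : Set W)) (hmax : ∀ u' : W, u' ⤳ u → u' = u) :
    IsOpen ({u} : Set W) := by
  have hfin : (irreducibleComponents W).Finite := NoetherianSpace.finite_irreducibleComponents
  have hcomp : ({u} : Set W)ᶜ = ⋃ Z ∈ {Z ∈ irreducibleComponents W | u ∉ Z}, Z := by
    ext w
    simp only [Set.mem_compl_iff, Set.mem_singleton_iff, Set.mem_ofPred_eq, Set.mem_iUnion,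
      exists_prop]
    constructor
    · intro hw
      refine ⟨irreducibleComponent w, ⟨irreducibleComponent_mem_irreducibleComponents w, ?_⟩,
        mem_irreducibleComponent⟩
      intro hu
      have hirr : IsIrreducible (irreducibleComponent w) := isIrreducible_irreducibleComponent
      have hclc : IsClosed (irreducibleComponent w) := isClosed_irreducibleComponent
      have hg := hirr.isGenericPoint_genericPoint hclc
      have h1 : hirr.genericPoint = u := hmax _ (hg.specializes hu)
      rw [h1] at hg
      have h2 : w ∈ closure ({u} : Set W) := by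
        rw [hg.def]; exact mem_irreducibleComponent
      rw [hcl.closure_eq] at h2
      exact hw h2
    · rintro ⟨Z, ⟨_, huZ⟩, hwZ⟩ rfl
      exact huZ hwZ
  rw [← isClosed_compl_iff, hcomp]
  exact (hfin.subset (fun Z hZ => hZ.1)).isClosed_biUnion
    fun Z hZ => isClosed_of_mem_irreducibleComponents Z hZ.1

/-- In a locally Noetherian scheme a locally closed point without proper generizations is open. -/
theorem isOpen_singleton_of_isLocallyNoetherian {U : Scheme.{u}} [IsLocallyNoetherian U] (u : U)
    (hcl : IsLocallyClosed ({u} : Set U)) (hmax : ∀ u' : U, u' ⤳ u → u' = u) :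
    IsOpen ({u} : Set U) := by
  obtain ⟨O, C, hO, hC, hOC⟩ := hcl
  have huO : u ∈ O := by
    have : u ∈ O ∩ C := hOC ▸ Set.mem_singleton u
    exact this.1
  obtain ⟨_, ⟨(W : U.Opens), hW, rfl⟩, huW, hWO⟩ :=
    (U.isBasis_affineOpens).exists_subset_of_mem_open huO hO
  haveI : IsNoetherianRing Γ(U, W) := IsLocallyNoetherian.component_noetherian ⟨W, hW⟩
  haveI : NoetherianSpace ↥W := noetherianSpace_of_isAffineOpen W hW
  haveI : QuasiSober ↥W := W.isOpen.isOpenEmbedding_subtypeVal.quasiSober
  have h1 : IsClosed ({⟨u, huW⟩} : Set ↥W) := by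
    have : ({⟨u, huW⟩} : Set ↥W) = Subtype.val ⁻¹' C := by
      ext w
      simp only [Set.mem_singleton_iff, Set.mem_preimage]
      constructor
      · rintro rfl
        have : u ∈ O ∩ C := hOC ▸ Set.mem_singleton u
        exact this.2
      · intro hw
        have : (w : U) ∈ ({u} : Set U) := by rw [hOC]; exact ⟨hWO w.2, hw⟩
        exact Subtype.ext this
    rw [this]
    exact hC.preimage continuous_subtype_val
  have h2 : ∀ w : ↥W, w ⤳ ⟨u, huW⟩ → w = ⟨u, huW⟩ := by
    intro w hw
    have := hmax w.1 (hw.map continuous_subtype_val)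
    exact Subtype.ext this
  have h3 := isOpen_singleton_of_noetherianSpace (⟨u, huW⟩ : ↥W) h1 h2
  have h4 := W.isOpen.isOpenEmbedding_subtypeVal.isOpenMap _ h3
  simpa using h4

/-- In a `T0` space of dimension at most zero, specialization is trivial. -/
theorem eq_of_specializes_of_dim_le_zero {T : Type*} [TopologicalSpace T] [T0Space T]
    (h : topologicalKrullDim T ≤ 0) {a b : T} (hab : a ⤳ b) : a = b := by
  by_contra hne
  have hlt : (⟨closure {b}, isIrreducible_singleton.closure, isClosed_closure⟩ : IrreducibleCloseds T) <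
      ⟨closure {a}, isIrreducible_singleton.closure, isClosed_closure⟩ := by
    refine lt_of_le_of_ne ?_ ?_
    · change closure {b} ⊆ closure {a}
      exact closure_minimal (Set.singleton_subset_iff.2 hab.mem_closure) isClosed_closure
    · intro heq
      have h1 : closure ({b} : Set T) = closure {a} := congrArg IrreducibleCloseds.carrier heq
      have : Inseparable b a := by
        rw [inseparable_iff_closure_eq]; exact h1
      exact hne this.eq.symm
  have hpos : 0 < topologicalKrullDim T := Order.krullDim_pos_iff.2 ⟨_, _, hlt⟩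
  exact absurd h (not_le.2 hpos)

/-- An open point has local dimension zero. -/
theorem localDim_eq_zero_of_isOpen_singleton {T : Type*} [TopologicalSpace T] (t : T)
    (h : IsOpen ({t} : Set T)) : FlatMor.localDim T t = 0 := by
  unfold FlatMor.localDim
  apply le_antisymm
  · refine (iInf_le _ (⟨⟨{t}, h⟩, Set.mem_singleton t⟩ : {U : Opens T // t ∈ U})).trans ?_
    change topologicalKrullDim ↥({t} : Set T) ≤ 0
    exact topologicalKrullDim_zero_of_discreteTopology _
  · refine le_iInf fun U => ?_
    haveI : Nonempty (IrreducibleCloseds ↥(U.1 : Set T)) :=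
      ⟨⟨closure {⟨t, U.2⟩}, isIrreducible_singleton.closure, isClosed_closure⟩⟩
    exact Order.krullDim_nonneg

/-- If the local dimension at `t` is zero, some open neighbourhood has dimension zero. -/
theorem exists_open_dim_zero_of_localDim {T : Type*} [TopologicalSpace T] (t : T)
    (h : FlatMor.localDim T t = 0) : ∃ U : Opens T, t ∈ U ∧ topologicalKrullDim ↥(U : Set T) = 0 := by
  unfold FlatMor.localDim at h
  haveI : Nonempty {U : Opens T // t ∈ U} := ⟨⟨⊤, trivial⟩⟩
  obtain ⟨U, hU⟩ := ciInf_mem (fun U : {U : Opens T // t ∈ U} => topologicalKrullDim ↥(U.1 : Set T))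
  exact ⟨U.1, U.2, hU.trans h⟩



/-- In a `T0` space, a point with an open neighbourhood of dimension at most zero is locally closed and has no
proper generization. -/
theorem isLocallyClosed_and_maximal_of_open_dim_le_zero {T : Type*} [TopologicalSpace T] [T0Space T] (t : T)
    (V : Opens T) (htV : t ∈ V) (hV : topologicalKrullDim ↥(V : Set T) ≤ 0) :
    IsLocallyClosed ({t} : Set T) ∧ ∀ t' : T, t' ⤳ t → t' = t := by
  have key : ∀ a b : T, a ∈ V → b ∈ V → a ⤳ b → a = b := by
    intro a b ha hb hab
    have h1 : (⟨a, ha⟩ : ↥(V : Set T)) ⤳ ⟨b, hb⟩ :=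
      (Topology.IsInducing.subtypeVal.specializes_iff).1 hab
    exact congrArg Subtype.val (eq_of_specializes_of_dim_le_zero hV h1)
  refine ⟨⟨V, closure {t}, V.isOpen, isClosed_closure, ?_⟩, ?_⟩
  · ext w
    simp only [Set.mem_singleton_iff, Set.mem_inter_iff, SetLike.mem_coe]
    constructor
    · rintro rfl
      exact ⟨htV, subset_closure rfl⟩
    · rintro ⟨hwV, hw⟩
      exact (key t w htV hwV (specializes_iff_mem_closure.2 hw)).symm
  · intro t' ht'
    exact key t' t (ht'.mem_open V.isOpen htV) htV ht'

/-- In a `T0` space of dimension at most zero all points are closed. -/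
theorem isClosed_singleton_of_dim_le_zero {T : Type*} [TopologicalSpace T] [T0Space T]
    (h : topologicalKrullDim T ≤ 0) (t : T) : IsClosed ({t} : Set T) := by
  rw [← closure_eq_iff_isClosed]
  refine subset_antisymm ?_ subset_closure
  intro w hw
  exact (eq_of_specializes_of_dim_le_zero h (specializes_iff_mem_closure.2 hw)).symm

/-- A point of a scheme over a field whose residue field is algebraic over the base is closed. -/
theorem isClosed_singleton_of_resTrdeg_eq_zero {k : Type u} [Field k] {U : Scheme.{u}}
    (h : U ⟶ Spec (CommRingCat.of k)) (u : U) (ht : Dual3.resTrdeg h u = 0) :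
    IsClosed ({u} : Set U) := by
  have e := Scheme.Hom.SpecMap_residueFieldMap_fromSpecResidueField h u
  haveI h1 : IsIntegralHom (Spec.map (h.residueFieldMap u)) := by
    rw [IsIntegralHom.SpecMap_iff]
    letI := (h.residueFieldMap u).hom.toAlgebra
    have halg : Algebra.IsAlgebraic ((Spec (CommRingCat.of k)).residueField (h u)) (U.residueField u) :=
      trdeg_eq_zero_iff.1 ht
    haveI : Algebra.IsIntegral ((Spec (CommRingCat.of k)).residueField (h u)) (U.residueField u) :=
      Algebra.IsAlgebraic.isIntegral
    exact algebraMap_isIntegral_iff.2 inferInstance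
  haveI h2 : IsIntegralHom ((Spec (CommRingCat.of k)).fromSpecResidueField (h u)) := by
    have hcl : IsClosed ({h u} : Set (Spec (CommRingCat.of k))) := by
      haveI : Subsingleton (Spec (CommRingCat.of k)) :=
        inferInstanceAs (Subsingleton (PrimeSpectrum k))
      exact Set.subsingleton_singleton.isClosed  
    haveI := isClosed_singleton_iff_isClosedImmersion.mp hcl
    infer_instance
  haveI h3 : IsIntegralHom (U.fromSpecResidueField u ≫ h) := by
    rw [← e]; infer_instance
  have := Groth.Agent.Lib.helper5.ClosedPtField.isClosed_singleton_of_isIntegralHom_comp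
    (L := U.residueField u) h (U.fromSpecResidueField u)
  convert this
  exact (Scheme.fromSpecResidueField_apply _ _).symm



open Groth.Agent.Lib.helper11

section
variable {S : Scheme.{u}}

theorem comp_eq_yon_map {F : Sp S} (p : F ⟶ (yon S).obj (Over.mk (𝟙 S))) {U : Over S}
    (a : (yon S).obj U ⟶ F) :
    a ≫ p = (yon S).map (Over.homMk U.hom : U ⟶ Over.mk (𝟙 S)) ≫ 𝟙 _ := by
  obtain ⟨φ, hφ⟩ := (yon S).map_surjective (a ≫ p)
  rw [Category.comp_id, ← hφ]
  congr 1
  exact Over.mkIdTerminal.hom_ext _ _

end

section
variable {k : Type u} [Field k] (X : AlgSp.Space (Spec (CommRingCat.of k)))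
    (p : X.obj ⟶ (AlgSp.yon (Spec (CommRingCat.of k))).obj (Over.mk (𝟙 _)))
    (hp : AlgSp.LocP @LocallyOfFiniteType p)

include hp in
theorem lft_chart {U : Over (Spec (CommRingCat.of k))} (a : (yon _).obj U ⟶ X.obj)
    (hae : RepWith @Etale a) : LocallyOfFiniteType U.hom :=
  hp a (𝟙 _) (Over.homMk U.hom) hae (repWith_id _ _) (comp_eq_yon_map p a)

/-- All chart points over `x` are closed points of their charts. -/
def ClosedChart (x : Points X.obj) : Prop :=
  ∀ ⦃U : Over (Spec (CommRingCat.of k))⦄ (a : (yon _).obj U ⟶ X.obj) (_ : RepWith @Etale a) (u : ↥U.left),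
    Points.ofPt a u = x → IsClosed ({u} : Set ↥U.left)

include hp in
/-- If one chart point over `x` is closed then all are. -/
theorem closedChart_of_isClosed {U : Over (Spec (CommRingCat.of k))} (a : (yon _).obj U ⟶ X.obj)
    (hae : RepWith @Etale a) (u : ↥U.left) (hcl : IsClosed ({u} : Set ↥U.left)) :
    ClosedChart X (Points.ofPt a u) := by
  haveI : LocallyOfFiniteType U.hom := lft_chart X p hp a hae
  have h0 : Dual3.resTrdeg U.hom u = 0 :=
    Groth.Agent.S10318.resTrdeg_eq_zero_of_isClosed U.hom u hcl
  have hall := Groth.Agent.Lib.helper5.ResTrdegChart.locPAt_resTrdeg_of_hasAtMor p (Points.ofPt a u)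
    (fun c => c = 0)
    ⟨U, Over.mk (𝟙 _), a, 𝟙 _, Over.homMk U.hom, u, hae, repWith_id _ _, comp_eq_yon_map p a, rfl, h0⟩
  intro U' a' hae' u' hu'
  have h1 : Dual3.resTrdeg U'.hom u' = 0 :=
    hall a' (𝟙 _) (Over.homMk U'.hom) u' hae' (repWith_id _ _) (comp_eq_yon_map p a') hu'
  exact isClosed_singleton_of_resTrdeg_eq_zero U'.hom u' h1

include hp in
/-- A locally closed point has closed chart points. -/
theorem closedChart_of_isLocallyClosed (x : Points X.obj) (hx : IsLocallyClosed ({x} : Set (Points X.obj))) :
    ClosedChart X x := by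
  obtain ⟨U, a, u, hae, -, hu⟩ := exists_chart_ofPt X x
  haveI : LocallyOfFiniteType U.hom := lft_chart X p hp a hae
  haveI : JacobsonSpace ↥U.left := LocallyOfFiniteType.jacobsonSpace U.hom
  have hT : IsLocallyClosed (Points.ofPt a ⁻¹' {x}) := hx.preimage (Points.continuous_ofPt a)
  obtain ⟨t, ht, htc⟩ := nonempty_inter_closedPoints ⟨u, hu⟩ hT
  have := closedChart_of_isClosed X p hp a hae t htc
  rwa [show Points.ofPt a t = x from ht] at this

include hp in
/-- A point with closed chart points and no proper generization is open. -/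
theorem isOpen_singleton_of_closedChart (x : Points X.obj) (hx : ClosedChart X x)
    (hmax : ∀ x' : Points X.obj, x' ⤳ x → x' = x) : IsOpen ({x} : Set (Points X.obj)) := by
  obtain ⟨U, a, u, hae, -, hu⟩ := exists_chart_ofPt X x
  haveI : LocallyOfFiniteType U.hom := lft_chart X p hp a hae
  haveI : IsLocallyNoetherian U.left := LocallyOfFiniteType.isLocallyNoetherian U.hom
  have hucl : IsClosed ({u} : Set ↥U.left) := hx a hae u hu
  have humax : ∀ u' : ↥U.left, u' ⤳ u → u' = u := by
    intro u' hu'
    have h1 : Points.ofPt a u' ⤳ x := hu ▸ hu'.map (Points.continuous_ofPt a)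
    have h2 : IsClosed ({u'} : Set ↥U.left) := hx a hae u' (hmax _ h1)
    have h3 := hu'.mem_closed h2 rfl
    exact (Set.mem_singleton_iff.1 h3).symm
  have hop := isOpen_singleton_of_isLocallyNoetherian u hucl.isLocallyClosed humax
  have := isOpenMap_ofPt a hae _ hop
  rwa [Set.image_singleton, hu] at this

include hp in
/-- Over an open point all chart points are open. -/
theorem isOpen_chart_of_isOpen_singleton (x : Points X.obj) (hx : IsOpen ({x} : Set (Points X.obj)))
    {U : Over (Spec (CommRingCat.of k))} (a : (yon _).obj U ⟶ X.obj) (hae : RepWith @Etale a) (u : ↥U.left)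
    (hu : Points.ofPt a u = x) : IsOpen ({u} : Set ↥U.left) := by
  haveI : LocallyOfFiniteType U.hom := lft_chart X p hp a hae
  haveI : IsLocallyNoetherian U.left := LocallyOfFiniteType.isLocallyNoetherian U.hom
  have hcc := closedChart_of_isLocallyClosed X p hp x hx.isLocallyClosed
  have hT : IsOpen (Points.ofPt a ⁻¹' {x}) := hx.preimage (Points.continuous_ofPt a)
  have hucl : IsClosed ({u} : Set ↥U.left) := hcc a hae u hu
  have humax : ∀ u' : ↥U.left, u' ⤳ u → u' = u := by
    intro u' hu'
    have h1 : u' ∈ Points.ofPt a ⁻¹' {x} := hu'.mem_open hT hu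
    have h2 : IsClosed ({u'} : Set ↥U.left) := hcc a hae u' h1
    have h3 := hu'.mem_closed h2 rfl
    exact (Set.mem_singleton_iff.1 h3).symm
  exact isOpen_singleton_of_isLocallyNoetherian u hucl.isLocallyClosed humax

include hp in
/-- An open point is closed. -/
theorem isClosed_singleton_of_isOpen_singleton (x : Points X.obj) (hx : IsOpen ({x} : Set (Points X.obj))) :
    IsClosed ({x} : Set (Points X.obj)) := by
  have hcc := closedChart_of_isLocallyClosed X p hp x hx.isLocallyClosed
  rw [← isOpen_compl_iff, isOpen_iff_mem_nhds]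
  intro x' hx'
  obtain ⟨U, a, u', hae, -, hu'⟩ := exists_chart_ofPt X x'
  haveI : LocallyOfFiniteType U.hom := lft_chart X p hp a hae
  haveI : IsLocallyNoetherian U.left := LocallyOfFiniteType.isLocallyNoetherian U.hom
  have hT : IsOpen (Points.ofPt a ⁻¹' {x}) := hx.preimage (Points.continuous_ofPt a)
  have hTcl : IsClosed (Points.ofPt a ⁻¹' {x}) := by
    refine Groth.Agent.Lib.helper5.ClosedPtField.isClosed_of_locally_finite_closed_points _
      (fun z hz => hcc a hae z hz) ?_
    intro W hW
    haveI : IsNoetherianRing Γ(U.left, W) := IsLocallyNoetherian.component_noetherian ⟨W, hW⟩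
    haveI : NoetherianSpace ↥W := noetherianSpace_of_isAffineOpen W hW
    have hcomp : IsCompact ((Points.ofPt a ⁻¹' {x}) ∩ (W : Set ↥U.left)) := by
      have h1 : IsCompact (Subtype.val ⁻¹' (Points.ofPt a ⁻¹' {x}) : Set ↥W) := NoetherianSpace.isCompact _
      have h2 := h1.image continuous_subtype_val
      have h3 : Subtype.val '' (Subtype.val ⁻¹' (Points.ofPt a ⁻¹' {x}) : Set ↥W) =
          (Points.ofPt a ⁻¹' {x}) ∩ (W : Set ↥U.left) := by
        ext z; constructor
        · rintro ⟨w, hw, rfl⟩; exact ⟨hw, w.2⟩
        · rintro ⟨h1, h2⟩; exact ⟨⟨z, h2⟩, h1, rfl⟩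
      rwa [h3] at h2
    refine hcomp.finite ?_
    rw [isDiscrete_iff_discreteTopology, discreteTopology_iff_isOpen_singleton]
    rintro ⟨z, hz⟩
    have hzo : IsOpen ({z} : Set ↥U.left) :=
      isOpen_chart_of_isOpen_singleton X p hp x hx a hae z hz.1
    have : ({⟨z, hz⟩} : Set ↥((Points.ofPt a ⁻¹' {x}) ∩ (W : Set ↥U.left))) = Subtype.val ⁻¹' {z} := by
      ext w
      simp only [Set.mem_singleton_iff, Set.mem_preimage]
      exact ⟨fun h => by rw [h], fun h => Subtype.ext h⟩
    rw [this]
    exact hzo.preimage continuous_subtype_val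
  have hO : IsOpen (Points.ofPt a '' (Points.ofPt a ⁻¹' {x})ᶜ) :=
    isOpenMap_ofPt a hae _ hTcl.isOpen_compl
  refine Filter.mem_of_superset (hO.mem_nhds ⟨u', ?_, hu'⟩) ?_
  · intro h
    exact hx' (by rw [← hu']; exact h)
  · rintro _ ⟨w, hw, rfl⟩ h
    exact hw h

include hp in
/-- If all chart points are closed, the space of points is discrete. -/
theorem discreteTopology_of_closedChart (h : ∀ x : Points X.obj, ClosedChart X x) :
    DiscreteTopology (Points X.obj) := by
  rw [discreteTopology_iff_isOpen_singleton]
  intro x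
  refine isOpen_singleton_of_closedChart X p hp x (h x) ?_
  intro x' hx'
  obtain ⟨U, a, u, hae, -, hu⟩ := exists_chart_ofPt X x
  haveI : LocallyOfFiniteType U.hom := lft_chart X p hp a hae
  haveI : IsLocallyNoetherian U.left := LocallyOfFiniteType.isLocallyNoetherian U.hom
  -- `u` is an open point of `U`
  have hucl : IsClosed ({u} : Set ↥U.left) := h x a hae u hu
  have humax : ∀ u' : ↥U.left, u' ⤳ u → u' = u := by
    intro u' hu'
    have h2 : IsClosed ({u'} : Set ↥U.left) := h _ a hae u' rfl
    have h3 := hu'.mem_closed h2 rfl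
    exact (Set.mem_singleton_iff.1 h3).symm
  have hop := isOpen_singleton_of_isLocallyNoetherian u hucl.isLocallyClosed humax
  have hxo : IsOpen ({x} : Set (Points X.obj)) := by
    have := isOpenMap_ofPt a hae _ hop
    rwa [Set.image_singleton, hu] at this
  exact hx'.mem_open hxo rfl

end

end Groth.Agent.H1.FieldDim
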