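import Groth.Agent.Lib.Helper1.FieldDim
import Groth.Agent.Lib.Helper5.AlgSpLqfLocus
import Groth.Agent.S10338

/-!
# Algebraic spaces locally of finite type over a field-valued point of the base (helper1)

Generalisation of `FieldDim` to `X : Space S` with `p : X ⟶ h_{Spec k}` for `Spec k ⟶ S` arbitrary.
-/

set_option autoImplicit false
universe u
open CategoryTheory CategoryTheory.Limits AlgebraicGeometry Topology TopologicalSpace
open AlgSp

namespace Groth.Agent.H1.FieldDimG

open Groth.Agent.Lib.helper11 Groth.Agent.H1.FieldDim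
open Groth.Agent.Lib.helper5 Groth.Agent.Lib.helper5.NearLocus Groth.Agent.Lib.helper5.LqfLocus

/-- In a finite `T0` space every point is locally closed. -/
theorem isLocallyClosed_singleton_of_finite {T : Type*} [TopologicalSpace T] [T0Space T] [Finite T]
    (x : T) : IsLocallyClosed ({x} : Set T) := by
  refine ⟨(⋃ y ∈ {y : T | x ⤳ y ∧ y ≠ x}, closure {y})ᶜ, closure {x}, ?_, isClosed_closure, ?_⟩
  · rw [isOpen_compl_iff]
    exact (Set.toFinite _).isClosed_biUnion fun _ _ => isClosed_closure
  · ext w
    simp only [Set.mem_singleton_iff, Set.mem_inter_iff, Set.mem_compl_iff, Set.mem_iUnion,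
      Set.mem_ofPred_eq, exists_prop, not_exists, not_and]
    constructor
    · rintro rfl
      refine ⟨fun y hy hw => ?_, subset_closure rfl⟩
      have h1 : y ⤳ w := specializes_iff_mem_closure.2 hw
      exact hy.2 ((hy.1.antisymm h1).eq).symm
    · rintro ⟨h1, h2⟩
      by_contra hne
      exact h1 w ⟨specializes_iff_mem_closure.2 h2, hne⟩ (subset_closure rfl)

section
variable {S : Scheme.{u}} {k : Type u} [Field k] (g : Spec (CommRingCat.of k) ⟶ S) (X : AlgSp.Space S)
    (p : X.obj ⟶ (AlgSp.yon S).obj (Over.mk g))
    (hp : AlgSp.LocP @LocallyOfFiniteType p)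

local instance : JacobsonSpace ↥(Over.mk g).left :=
  inferInstanceAs (JacobsonSpace ↥(Spec (CommRingCat.of k)))

local instance : IsLocallyNoetherian (Over.mk g).left :=
  inferInstanceAs (IsLocallyNoetherian (Spec (CommRingCat.of k)))

/-- The structure morphism of a chart to `Spec k`. -/
noncomputable def chartHom {U : Over S} (a : (yon S).obj U ⟶ X.obj) : U ⟶ Over.mk g :=
  (yon S).preimage (a ≫ p)

theorem chartHom_spec {U : Over S} (a : (yon S).obj U ⟶ X.obj) :
    a ≫ p = (yon S).map (chartHom g X p a) ≫ 𝟙 _ := by
  rw [Category.comp_id, chartHom, Functor.map_preimage]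

include hp in
theorem lft_chart {U : Over S} (a : (yon _).obj U ⟶ X.obj)
    (hae : RepWith @Etale a) : LocallyOfFiniteType (chartHom g X p a).left :=
  hp a (𝟙 _) (chartHom g X p a) hae (repWith_id _ _) (chartHom_spec g X p a)

/-- All chart points over `x` are closed points of their charts. -/
def ClosedChart (x : Points X.obj) : Prop :=
  ∀ ⦃U : Over S⦄ (a : (yon _).obj U ⟶ X.obj) (_ : RepWith @Etale a) (u : ↥U.left),
    Points.ofPt a u = x → IsClosed ({u} : Set ↥U.left)

include hp in
/-- If one chart point over `x` is closed then all are. -/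
theorem closedChart_of_isClosed {U : Over S} (a : (yon _).obj U ⟶ X.obj)
    (hae : RepWith @Etale a) (u : ↥U.left) (hcl : IsClosed ({u} : Set ↥U.left)) :
    ClosedChart X (Points.ofPt a u) := by
  haveI : LocallyOfFiniteType (chartHom g X p a).left := lft_chart g X p hp a hae
  have h0 : Dual3.resTrdeg (chartHom g X p a).left u = 0 :=
    Groth.Agent.S10318.resTrdeg_eq_zero_of_isClosed (chartHom g X p a).left u hcl
  have hall := Groth.Agent.Lib.helper5.ResTrdegChart.locPAt_resTrdeg_of_hasAtMor p (Points.ofPt a u)
    (fun c => c = 0)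
    ⟨U, Over.mk g, a, 𝟙 _, chartHom g X p a, u, hae, repWith_id _ _, chartHom_spec g X p a, rfl, h0⟩
  intro U' a' hae' u' hu'
  have h1 : Dual3.resTrdeg (chartHom g X p a').left u' = 0 :=
    hall a' (𝟙 _) (chartHom g X p a') u' hae' (repWith_id _ _) (chartHom_spec g X p a') hu'
  exact isClosed_singleton_of_resTrdeg_eq_zero (chartHom g X p a').left u' h1

include hp in
/-- A locally closed point has closed chart points. -/
theorem closedChart_of_isLocallyClosed (x : Points X.obj) (hx : IsLocallyClosed ({x} : Set (Points X.obj))) :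
    ClosedChart X x := by
  obtain ⟨U, a, u, hae, -, hu⟩ := exists_chart_ofPt X x
  haveI : LocallyOfFiniteType (chartHom g X p a).left := lft_chart g X p hp a hae
  haveI : JacobsonSpace ↥U.left := LocallyOfFiniteType.jacobsonSpace (chartHom g X p a).left
  have hT : IsLocallyClosed (Points.ofPt a ⁻¹' {x}) := hx.preimage (Points.continuous_ofPt a)
  obtain ⟨t, ht, htc⟩ := nonempty_inter_closedPoints ⟨u, hu⟩ hT
  have := closedChart_of_isClosed g X p hp a hae t htc
  rwa [show Points.ofPt a t = x from ht] at this

include hp in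
/-- A point with closed chart points and no proper generization is open. -/
theorem isOpen_singleton_of_closedChart (x : Points X.obj) (hx : ClosedChart X x)
    (hmax : ∀ x' : Points X.obj, x' ⤳ x → x' = x) : IsOpen ({x} : Set (Points X.obj)) := by
  obtain ⟨U, a, u, hae, -, hu⟩ := exists_chart_ofPt X x
  haveI : LocallyOfFiniteType (chartHom g X p a).left := lft_chart g X p hp a hae
  haveI : IsLocallyNoetherian U.left := LocallyOfFiniteType.isLocallyNoetherian (chartHom g X p a).left
  have hucl : IsClosed ({u} : Set ↥U.left) := hx a hae u hu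
  have humax : ∀ u' : ↥U.left, u' ⤳ u → u' = u := by
    intro u' hu'
    have h1 : Points.ofPt a u' ⤳ x := hu ▸ hu'.map (Points.continuous_ofPt a)
    have h2 : IsClosed ({u'} : Set ↥U.left) := hx a hae u' (hmax _ h1)
    have h3 := hu'.mem_closed h2 rfl
    exact (Set.mem_singleton_iff.1 h3).symm
  have hop := isOpen_singleton_of_isLocallyNoetherian u hucl.isLocallyClosed humax
  have := isOpenMap_ofPt a hae _ hop
  rwa [Set.image_singleton, hu] at this

include hp in
/-- Over an open point all chart points are open. -/
theorem isOpen_chart_of_isOpen_singleton (x : Points X.obj) (hx : IsOpen ({x} : Set (Points X.obj)))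
    {U : Over S} (a : (yon _).obj U ⟶ X.obj) (hae : RepWith @Etale a) (u : ↥U.left)
    (hu : Points.ofPt a u = x) : IsOpen ({u} : Set ↥U.left) := by
  haveI : LocallyOfFiniteType (chartHom g X p a).left := lft_chart g X p hp a hae
  haveI : IsLocallyNoetherian U.left := LocallyOfFiniteType.isLocallyNoetherian (chartHom g X p a).left
  have hcc := closedChart_of_isLocallyClosed g X p hp x hx.isLocallyClosed
  have hT : IsOpen (Points.ofPt a ⁻¹' {x}) := hx.preimage (Points.continuous_ofPt a)
  have hucl : IsClosed ({u} : Set ↥U.left) := hcc a hae u hu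
  have humax : ∀ u' : ↥U.left, u' ⤳ u → u' = u := by
    intro u' hu'
    have h1 : u' ∈ Points.ofPt a ⁻¹' {x} := hu'.mem_open hT hu
    have h2 : IsClosed ({u'} : Set ↥U.left) := hcc a hae u' h1
    have h3 := hu'.mem_closed h2 rfl
    exact (Set.mem_singleton_iff.1 h3).symm
  exact isOpen_singleton_of_isLocallyNoetherian u hucl.isLocallyClosed humax

include hp in
/-- An open point is closed. -/
theorem isClosed_singleton_of_isOpen_singleton (x : Points X.obj) (hx : IsOpen ({x} : Set (Points X.obj))) :
    IsClosed ({x} : Set (Points X.obj)) := by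
  have hcc := closedChart_of_isLocallyClosed g X p hp x hx.isLocallyClosed
  rw [← isOpen_compl_iff, isOpen_iff_mem_nhds]
  intro x' hx'
  obtain ⟨U, a, u', hae, -, hu'⟩ := exists_chart_ofPt X x'
  haveI : LocallyOfFiniteType (chartHom g X p a).left := lft_chart g X p hp a hae
  haveI : IsLocallyNoetherian U.left := LocallyOfFiniteType.isLocallyNoetherian (chartHom g X p a).left
  have hT : IsOpen (Points.ofPt a ⁻¹' {x}) := hx.preimage (Points.continuous_ofPt a)
  have hTcl : IsClosed (Points.ofPt a ⁻¹' {x}) := by
    refine Groth.Agent.Lib.helper5.ClosedPtField.isClosed_of_locally_finite_closed_points _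
      (fun z hz => hcc a hae z hz) ?_
    intro W hW
    haveI : IsNoetherianRing Γ(U.left, W) := IsLocallyNoetherian.component_noetherian ⟨W, hW⟩
    haveI : NoetherianSpace ↥W := noetherianSpace_of_isAffineOpen W hW
    have hcomp : IsCompact ((Points.ofPt a ⁻¹' {x}) ∩ (W : Set ↥U.left)) := by
      have h1 : IsCompact (Subtype.val ⁻¹' (Points.ofPt a ⁻¹' {x}) : Set ↥W) := NoetherianSpace.isCompact _
      have h2 := h1.image continuous_subtype_val
      have h3 : Subtype.val '' (Subtype.val ⁻¹' (Points.ofPt a ⁻¹' {x}) : Set ↥W) =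
          (Points.ofPt a ⁻¹' {x}) ∩ (W : Set ↥U.left) := by
        ext z; constructor
        · rintro ⟨w, hw, rfl⟩; exact ⟨hw, w.2⟩
        · rintro ⟨h1, h2⟩; exact ⟨⟨z, h2⟩, h1, rfl⟩
      rwa [h3] at h2
    refine hcomp.finite ?_
    rw [isDiscrete_iff_discreteTopology, discreteTopology_iff_isOpen_singleton]
    rintro ⟨z, hz⟩
    have hzo : IsOpen ({z} : Set ↥U.left) :=
      isOpen_chart_of_isOpen_singleton g X p hp x hx a hae z hz.1
    have : ({⟨z, hz⟩} : Set ↥((Points.ofPt a ⁻¹' {x}) ∩ (W : Set ↥U.left))) = Subtype.val ⁻¹' {z} := by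
      ext w
      simp only [Set.mem_singleton_iff, Set.mem_preimage]
      exact ⟨fun h => by rw [h], fun h => Subtype.ext h⟩
    rw [this]
    exact hzo.preimage continuous_subtype_val
  have hO : IsOpen (Points.ofPt a '' (Points.ofPt a ⁻¹' {x})ᶜ) :=
    isOpenMap_ofPt a hae _ hTcl.isOpen_compl
  refine Filter.mem_of_superset (hO.mem_nhds ⟨u', ?_, hu'⟩) ?_
  · intro h
    exact hx' (by rw [← hu']; exact h)
  · rintro _ ⟨w, hw, rfl⟩ h
    exact hw h

include hp in
/-- If all chart points are closed, the space of points is discrete. -/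
theorem discreteTopology_of_closedChart (h : ∀ x : Points X.obj, ClosedChart X x) :
    DiscreteTopology (Points X.obj) := by
  rw [discreteTopology_iff_isOpen_singleton]
  intro x
  refine isOpen_singleton_of_closedChart g X p hp x (h x) ?_
  intro x' hx'
  obtain ⟨U, a, u, hae, -, hu⟩ := exists_chart_ofPt X x
  haveI : LocallyOfFiniteType (chartHom g X p a).left := lft_chart g X p hp a hae
  haveI : IsLocallyNoetherian U.left := LocallyOfFiniteType.isLocallyNoetherian (chartHom g X p a).left
  -- `u` is an open point of `U`
  have hucl : IsClosed ({u} : Set ↥U.left) := h x a hae u hu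
  have humax : ∀ u' : ↥U.left, u' ⤳ u → u' = u := by
    intro u' hu'
    have h2 : IsClosed ({u'} : Set ↥U.left) := h _ a hae u' rfl
    have h3 := hu'.mem_closed h2 rfl
    exact (Set.mem_singleton_iff.1 h3).symm
  have hop := isOpen_singleton_of_isLocallyNoetherian u hucl.isLocallyClosed humax
  have hxo : IsOpen ({x} : Set (Points X.obj)) := by
    have := isOpenMap_ofPt a hae _ hop
    rwa [Set.image_singleton, hu] at this
  exact hx'.mem_open hxo rfl

include hp in
/-- At an open point the structure morphism to `Spec k` is quasi-finite. -/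
theorem hasAtMor_lqf_of_isOpen_singleton (x : Points X.obj) (hx : IsOpen ({x} : Set (Points X.obj))) :
    HasAtMor (NearAt Plqf) p x := by
  obtain ⟨U, a, u, hae, -, hu⟩ := exists_chart_ofPt X x
  haveI : LocallyOfFiniteType (chartHom g X p a).left := lft_chart g X p hp a hae
  have huo : IsOpen ({u} : Set ↥U.left) := isOpen_chart_of_isOpen_singleton g X p hp x hx a hae u hu
  set h := (chartHom g X p a).left with hh
  have hqu : h.QuasiFiniteAt u := by
    rw [Scheme.Hom.quasiFiniteAt_iff_isOpen_singleton_asFiber]
    have : ({h.asFiber u} : Set ↥(h.fiber (h u))) = (h.fiberι (h u)) ⁻¹' {u} := by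
      ext w
      simp only [Set.mem_singleton_iff, Set.mem_preimage]
      constructor
      · rintro rfl
        exact h.fiberι_asFiber u
      · intro hw
        apply (h.fiberι (h u)).isEmbedding.injective
        rw [hw, h.fiberι_asFiber u]
    rw [this]
    exact huo.preimage (h.fiberι (h u)).continuous
  exact ⟨U, Over.mk g, a, 𝟙 _, chartHom g X p a, u, hae, repWith_id _ _, chartHom_spec g X p a, hu,
    h.quasiFiniteLocus, hqu, ⟨inferInstance, inferInstance⟩⟩

include hp in
/-- A decent algebraic space locally of finite type over a field with finitely many points is quasi-finite over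
the field at every point. -/
theorem hasAtMor_lqf_of_finite (hdec : IsDecent X.obj) [Finite (Points X.obj)] (x : Points X.obj) :
    HasAtMor (NearAt Plqf) p x := by
  haveI : T0Space (Points X.obj) := Groth.Agent.S10338.main X hdec
  haveI : DiscreteTopology (Points X.obj) :=
    discreteTopology_of_closedChart g X p hp fun x =>
      closedChart_of_isLocallyClosed g X p hp x (isLocallyClosed_singleton_of_finite x)
  exact hasAtMor_lqf_of_isOpen_singleton g X p hp x (isOpen_discrete _)

end

end Groth.Agent.H1.FieldDimG
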