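import Mathlib

/-!
# Dimension shifting for `Ext` along a filtered system of short exact sequences (helper1)

`𝒜` abelian with `Ext`, `Z : 𝒜`, `J` filtered.  For a family `G j ⟶ pt`:
`SurjAt Z n G ι`: every class in `Ext^n(Z, pt)` comes from some `Ext^n(Z, G j)`;
`InjAt Z n G Gm ι`: a class in `Ext^n(Z, G j)` dying in `Ext^n(Z, pt)` dies in some `Ext^n(Z, G k)`.
`step`: for a filtered system of short exact sequences `T_j ⟶ T` with `Ext^{n+1}(Z, -)` vanishing on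
the middle terms, `SurjAt`/`InjAt` in degree `n` for the third terms (and `SurjAt` for the middle terms)
give `SurjAt`/`InjAt` in degree `n + 1` for the first terms.
-/

set_option autoImplicit false
universe w v₁ u₁ v₂ u₂
open CategoryTheory CategoryTheory.Limits CategoryTheory.Abelian

namespace Groth.Agent.H1.FiltExt

variable {𝒜 : Type u₁} [Category.{v₁} 𝒜] [Abelian 𝒜] [HasExt.{w} 𝒜] (Z : 𝒜)

/-- pushforward of `Ext` classes along a morphism -/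
noncomputable def push {A B : 𝒜} (a : A ⟶ B) (n : ℕ) : Ext.{w} Z A n →+ Ext.{w} Z B n :=
  (Ext.mk₀ a).postcomp Z (add_zero n)

lemma push_apply {A B : 𝒜} (a : A ⟶ B) (n : ℕ) (y : Ext.{w} Z A n) :
    push Z a n y = y.comp (Ext.mk₀ a) (add_zero n) := rfl

lemma push_comp {A B C : 𝒜} (a : A ⟶ B) (b : B ⟶ C) (n : ℕ) (y : Ext.{w} Z A n) :
    push Z (a ≫ b) n y = push Z b n (push Z a n y) := by
  rw [push_apply, push_apply, push_apply, ← Ext.mk₀_comp_mk₀, Ext.comp_assoc_of_third_deg_zero]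

/-- the connecting homomorphism -/
noncomputable def del {S : ShortComplex 𝒜} (hS : S.ShortExact) (n : ℕ) :
    Ext.{w} Z S.X₃ n →+ Ext.{w} Z S.X₁ (n + 1) :=
  hS.extClass.postcomp Z rfl

lemma del_apply {S : ShortComplex 𝒜} (hS : S.ShortExact) (n : ℕ) (y : Ext.{w} Z S.X₃ n) :
    del Z hS n y = y.comp hS.extClass rfl := rfl

lemma del_natural {S₁ S₂ : ShortComplex 𝒜} (h₁ : S₁.ShortExact) (h₂ : S₂.ShortExact)
    (φ : S₁ ⟶ S₂) (n : ℕ) (y : Ext.{w} Z S₁.X₃ n) :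
    push Z φ.τ₁ (n + 1) (del Z h₁ n y) = del Z h₂ n (push Z φ.τ₃ n y) := by
  rw [push_apply, del_apply, del_apply, push_apply, Ext.comp_assoc_of_third_deg_zero,
    ShortComplex.ShortExact.extClass_naturality h₁ h₂ φ, Ext.comp_assoc_of_second_deg_zero]

lemma del_push_g {S : ShortComplex 𝒜} (hS : S.ShortExact) (n : ℕ) (v : Ext.{w} Z S.X₂ n) :
    del Z hS n (push Z S.g n v) = 0 := by
  rw [del_apply, push_apply, Ext.comp_assoc_of_second_deg_zero, hS.comp_extClass, Ext.comp_zero]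

lemma exists_del {S : ShortComplex 𝒜} (hS : S.ShortExact) (n : ℕ) (x : Ext.{w} Z S.X₁ (n + 1))
    (hx : push Z S.f (n + 1) x = 0) : ∃ z, del Z hS n z = x :=
  Ext.covariant_sequence_exact₁ Z hS x hx rfl

lemma exists_push_g {S : ShortComplex 𝒜} (hS : S.ShortExact) (n : ℕ) (z : Ext.{w} Z S.X₃ n)
    (hz : del Z hS n z = 0) : ∃ v, push Z S.g n v = z :=
  Ext.covariant_sequence_exact₃ Z hS z rfl hz

variable {J : Type u₂} [Category.{v₂} J]

/-- every class of the target comes from some stage -/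
def SurjAt (n : ℕ) {pt : 𝒜} (G : J → 𝒜) (ι : ∀ j, G j ⟶ pt) : Prop :=
  ∀ x : Ext.{w} Z pt n, ∃ (j : J) (y : Ext.{w} Z (G j) n), push Z (ι j) n y = x

/-- a class dying in the target dies at some later stage -/
def InjAt (n : ℕ) {pt : 𝒜} (G : J → 𝒜) (Gm : ∀ ⦃j k : J⦄, (j ⟶ k) → (G j ⟶ G k))
    (ι : ∀ j, G j ⟶ pt) : Prop :=
  ∀ (j : J) (y : Ext.{w} Z (G j) n), push Z (ι j) n y = 0 →
    ∃ (k : J) (f : j ⟶ k), push Z (Gm f) n y = 0

theorem step [IsFiltered J] (Tf : J ⥤ ShortComplex 𝒜) (cT : Cocone Tf)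
    (hj : ∀ j, (Tf.obj j).ShortExact) (hT : cT.pt.ShortExact) (n : ℕ)
    (hv : ∀ x : Ext.{w} Z cT.pt.X₂ (n + 1), x = 0)
    (hvj : ∀ j (x : Ext.{w} Z (Tf.obj j).X₂ (n + 1)), x = 0)
    (hS3 : SurjAt Z n (pt := cT.pt.X₃) (fun j => (Tf.obj j).X₃) (fun j => (cT.ι.app j).τ₃))
    (hI3 : InjAt Z n (pt := cT.pt.X₃) (fun j => (Tf.obj j).X₃) (fun _ _ f => (Tf.map f).τ₃)
      (fun j => (cT.ι.app j).τ₃))
    (hS2 : SurjAt Z n (pt := cT.pt.X₂) (fun j => (Tf.obj j).X₂) (fun j => (cT.ι.app j).τ₂)) :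
    SurjAt Z (n + 1) (pt := cT.pt.X₁) (fun j => (Tf.obj j).X₁) (fun j => (cT.ι.app j).τ₁) ∧
    InjAt Z (n + 1) (pt := cT.pt.X₁) (fun j => (Tf.obj j).X₁) (fun _ _ f => (Tf.map f).τ₁)
      (fun j => (cT.ι.app j).τ₁) := by
  have hw3 : ∀ {j k : J} (f : j ⟶ k), (Tf.map f).τ₃ ≫ (cT.ι.app k).τ₃ = (cT.ι.app j).τ₃ := by
    intro j k f
    rw [← ShortComplex.comp_τ₃, cT.w f]
  have hw2 : ∀ {j k : J} (f : j ⟶ k), (Tf.map f).τ₂ ≫ (cT.ι.app k).τ₂ = (cT.ι.app j).τ₂ := by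
    intro j k f
    rw [← ShortComplex.comp_τ₂, cT.w f]
  constructor
  · intro x
    obtain ⟨z, rfl⟩ := exists_del Z hT n x (hv _)
    obtain ⟨j, w, rfl⟩ := hS3 z
    exact ⟨j, del Z (hj j) n w, del_natural Z (hj j) hT (cT.ι.app j) n w⟩
  · intro j y hy
    obtain ⟨w, rfl⟩ := exists_del Z (hj j) n y (hvj j _)
    have h1 : del Z hT n (push Z (cT.ι.app j).τ₃ n w) = 0 := by
      rw [← del_natural Z (hj j) hT (cT.ι.app j) n w]
      exact hy
    obtain ⟨v, hv'⟩ := exists_push_g Z hT n _ h1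
    obtain ⟨k, vk, rfl⟩ := hS2 v
    change push Z cT.pt.g n (push Z (cT.ι.app k).τ₂ n vk) = push Z (cT.ι.app j).τ₃ n w at hv'
    obtain ⟨l, f, g, -⟩ : ∃ (l : J) (f : j ⟶ l) (g : k ⟶ l), True :=
      ⟨IsFiltered.max j k, IsFiltered.leftToMax j k, IsFiltered.rightToMax j k, trivial⟩
    obtain ⟨w', hw'd⟩ : ∃ w' : Ext.{w} Z (Tf.obj l).X₃ n,
      w' = push Z (Tf.map f).τ₃ n w - push Z (Tf.obj l).g n (push Z (Tf.map g).τ₂ n vk) := ⟨_, rfl⟩
    have e1 : (Tf.map g).τ₂ ≫ (Tf.obj l).g ≫ (cT.ι.app l).τ₃ = (cT.ι.app k).τ₂ ≫ cT.pt.g := by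
      have := (cT.ι.app l).comm₂₃
      change (cT.ι.app l).τ₂ ≫ cT.pt.g = (Tf.obj l).g ≫ (cT.ι.app l).τ₃ at this
      rw [← this, ← Category.assoc, hw2 g]
    have hw' : push Z (cT.ι.app l).τ₃ n w' = 0 := by
      rw [hw'd, map_sub, sub_eq_zero, ← push_comp, ← push_comp, ← push_comp, hw3 f, ← hv',
        ← push_comp, e1]
    obtain ⟨m, h, hm⟩ := hI3 l w' hw'
    refine ⟨m, f ≫ h, ?_⟩
    have e2 : (Tf.map g).τ₂ ≫ (Tf.obj l).g ≫ (Tf.map h).τ₃ =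
        ((Tf.map g).τ₂ ≫ (Tf.map h).τ₂) ≫ (Tf.obj m).g := by
      rw [← (Tf.map h).comm₂₃, Category.assoc]
    have hm' : push Z (Tf.map (f ≫ h)).τ₃ n w =
        push Z (Tf.obj m).g n (push Z ((Tf.map g).τ₂ ≫ (Tf.map h).τ₂) n vk) := by
      have hm2 : push Z (Tf.map h).τ₃ n w' = 0 := hm
      rw [hw'd, map_sub, sub_eq_zero, ← push_comp, ← push_comp, ← push_comp] at hm2
      rw [Tf.map_comp, ShortComplex.comp_τ₃, hm2, ← push_comp, e2]
    change push Z (Tf.map (f ≫ h)).τ₁ (n + 1) (del Z (hj j) n w) = 0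
    rw [del_natural Z (hj j) (hj m) (Tf.map (f ≫ h)) n w, hm', del_push_g]

end Groth.Agent.H1.FiltExt
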