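import Mathlib

/-!
# Sections of filtered colimits of sheaves over quasi-compact objects (helper1)

Abstract site-theoretic core: if a presheaf `P` is (sectionwise) a filtered colimit of sheaves
`K i`, then `P(U) → P^#(U)` is injective for "quasi-compact" `U` and bijective for
"quasi-compact quasi-separated" `U`.
-/

set_option autoImplicit false

namespace Groth.Agent.H1.FiltSec

open CategoryTheory CategoryTheory.Limits Opposite

universe w₁ w₂ w v₁ u₁ v₂ u₂

section Filtered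

variable {I : Type w₁} [Category.{w₂} I] [IsFiltered I]

theorem fin_sup (i₀ : I) {κ : Type*} [Finite κ] (j : κ → I) (g : ∀ k, i₀ ⟶ j k) :
    ∃ (m : I) (h : i₀ ⟶ m) (u : ∀ k, j k ⟶ m), ∀ k, g k ≫ u k = h := by
  classical
  haveI := Fintype.ofFinite κ
  let O : Finset I := insert i₀ (Finset.univ.image j)
  have m0 : i₀ ∈ O := Finset.mem_insert_self _ _
  have mj : ∀ k, j k ∈ O := fun k =>
    Finset.mem_insert_of_mem (Finset.mem_image_of_mem j (Finset.mem_univ k))
  let H : Finset (Σ' (X Y : I) (_ : X ∈ O) (_ : Y ∈ O), X ⟶ Y) :=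
    Finset.univ.image (fun k => ⟨i₀, j k, m0, mj k, g k⟩)
  obtain ⟨S, T, hT⟩ := IsFiltered.sup_exists O H
  exact ⟨S, T m0, fun k => T (mj k), fun k =>
    hT m0 (mj k) (Finset.mem_image_of_mem _ (Finset.mem_univ k))⟩

theorem fin_obj {κ : Type*} [Finite κ] (i : κ → I) : ∃ (m : I), ∀ k, Nonempty (i k ⟶ m) := by
  classical
  haveI := Fintype.ofFinite κ
  obtain ⟨S, hS⟩ := IsFiltered.sup_objs_exists (Finset.univ.image i)
  exact ⟨S, fun k => hS (Finset.mem_image_of_mem i (Finset.mem_univ k))⟩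

end Filtered

section Site

variable {C : Type u₁} [Category.{v₁} C] (J : GrothendieckTopology C)

/-- every covering sieve of `U` contains a finite covering family -/
def FinCov (U : C) : Prop :=
  ∀ R : Sieve U, R ∈ J U → ∃ (n : ℕ) (V : Fin n → C) (f : ∀ k, V k ⟶ U),
    (∀ k, R (f k)) ∧ Sieve.ofArrows V f ∈ J U

/-- every covering sieve of `U` contains a finite covering family whose pairwise "fibre products"
are quasi-compact -/
def QCQS (U : C) : Prop :=
  ∀ R : Sieve U, R ∈ J U → ∃ (n : ℕ) (V : Fin n → C) (f : ∀ k, V k ⟶ U),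
    (∀ k, R (f k)) ∧ Sieve.ofArrows V f ∈ J U ∧
    ∀ k l, ∃ (W : C) (p₁ : W ⟶ V k) (p₂ : W ⟶ V l), p₁ ≫ f k = p₂ ≫ f l ∧ FinCov J W ∧
      ∀ (Z : C) (g₁ : Z ⟶ V k) (g₂ : Z ⟶ V l), g₁ ≫ f k = g₂ ≫ f l →
        ∃ m : Z ⟶ W, m ≫ p₁ = g₁ ∧ m ≫ p₂ = g₂

theorem QCQS.finCov {U : C} (h : QCQS J U) : FinCov J U := by
  intro R hR
  obtain ⟨n, V, f, h1, h2, -⟩ := h R hR
  exact ⟨n, V, f, h1, h2⟩

variable {A : Type u₂} [Category.{v₂} A] {FA : A → A → Type*} {CA : A → Type w}
  [∀ X Y, FunLike (FA X Y) (CA X) (CA Y)] [ConcreteCategory A FA]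
  [J.HasSheafCompose (forget A)]

variable {J}

/-- separatedness of a sheaf with respect to a covering family -/
theorem sheaf_ext (F : Sheaf J A) {U : C} {n : ℕ} (V : Fin n → C) (f : ∀ k, V k ⟶ U)
    (hf : Sieve.ofArrows V f ∈ J U) (a b : ToType (F.obj.obj (op U)))
    (h : ∀ k, F.obj.map (f k).op a = F.obj.map (f k).op b) : a = b := by
  refine Sheaf.isSeparated F U _ hf a b ?_
  rintro Y g ⟨Z, m, _, ⟨k⟩, rfl⟩
  rw [op_comp, F.obj.map_comp, ConcreteCategory.comp_apply, ConcreteCategory.comp_apply, h k]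

/-- gluing for a sheaf with respect to a covering family with chosen weak fibre products -/
theorem sheaf_glue (F : Sheaf J A) {U : C} {n : ℕ} (V : Fin n → C) (f : ∀ k, V k ⟶ U)
    (hf : Sieve.ofArrows V f ∈ J U) (a : ∀ k, ToType (F.obj.obj (op (V k))))
    (h : ∀ k l (Z : C) (g₁ : Z ⟶ V k) (g₂ : Z ⟶ V l), g₁ ≫ f k = g₂ ≫ f l →
      F.obj.map g₁.op (a k) = F.obj.map g₂.op (a l)) :
    ∃ s : ToType (F.obj.obj (op U)), ∀ k, F.obj.map (f k).op s = a k := by
  have hsh : Presieve.IsSheaf J (F.obj ⋙ forget A) :=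
    (isSheaf_iff_isSheaf_of_type _ _).1 ((sheafCompose J (forget A)).obj F).property
  have hsf : Presieve.IsSheafFor (F.obj ⋙ forget A) (Presieve.ofArrows V f) := by
    rw [Presieve.isSheafFor_iff_generate]
    exact hsh _ hf
  rw [Presieve.isSheafFor_arrows_iff] at hsf
  obtain ⟨s, hs, -⟩ := hsf a (by
    intro k l Z g₁ g₂ hg
    exact h k l Z g₁ g₂ hg)
  exact ⟨s, hs⟩

end Site

end Groth.Agent.H1.FiltSec
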