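import Groth.Agent.Lib.Helper1.FiltSecA

/-!
# Sections of filtered colimits of sheaves over quasi-compact objects, II (helper1)
-/

set_option autoImplicit false
set_option linter.unusedSectionVars false

namespace Groth.Agent.H1.FiltSec

open CategoryTheory CategoryTheory.Limits Opposite

universe w₁ w₂ w v₁ u₁ v₂ u₂

variable {C : Type u₁} [Category.{v₁} C] {J : GrothendieckTopology C}
  {A : Type u₂} [Category.{v₂} A] {FA : A → A → Type*} {CA : A → Type w}
  [∀ X Y, FunLike (FA X Y) (CA X) (CA Y)] [ConcreteCategory A FA]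
  [J.HasSheafCompose (forget A)] [HasWeakSheafify J A] [J.WEqualsLocallyBijective A]
  {I : Type w₁} [Category.{w₂} I] [IsFiltered I]
  (P : Cᵒᵖ ⥤ A) (K : I ⥤ Sheaf J A) (ι : ∀ i, (K.obj i).obj ⟶ P)

/-- the data exhibiting `P` as a sectionwise filtered colimit of the sheaves `K i` -/
structure IsFiltColim : Prop where
  w : ∀ {i j : I} (f : i ⟶ j), (K.map f).hom ≫ ι j = ι i
  rep : ∀ (W : C) (s : ToType (P.obj (op W))),
    ∃ (i : I) (t : ToType ((K.obj i).obj.obj (op W))), (ι i).app (op W) t = s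
  eq : ∀ (W : C) (i : I) (t t' : ToType ((K.obj i).obj.obj (op W))),
    (ι i).app (op W) t = (ι i).app (op W) t' →
      ∃ (j : I) (f : i ⟶ j), (K.map f).hom.app (op W) t = (K.map f).hom.app (op W) t'

variable {P K ι}

namespace IsFiltColim

variable (h : IsFiltColim P K ι)
include h

theorem w_apply {i j : I} (f : i ⟶ j) (W : Cᵒᵖ) (t : ToType ((K.obj i).obj.obj W)) :
    (ι j).app W ((K.map f).hom.app W t) = (ι i).app W t := by
  have h1 : (K.map f).hom.app W ≫ (ι j).app W = (ι i).app W :=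
    congrArg (fun k => k.app W) (h.w f)
  rw [← ConcreteCategory.comp_apply, h1]

omit h in
theorem ι_nat (i : I) {U V : C} (g : V ⟶ U) (t : ToType ((K.obj i).obj.obj (op U))) :
    (ι i).app (op V) ((K.obj i).obj.map g.op t) = P.map g.op ((ι i).app (op U) t) := by
  rw [← ConcreteCategory.comp_apply, ← ConcreteCategory.comp_apply, (ι i).naturality g.op]

omit h in
theorem K_nat {i j : I} (f : i ⟶ j) {U V : C} (g : V ⟶ U)
    (t : ToType ((K.obj i).obj.obj (op U))) :
    (K.map f).hom.app (op V) ((K.obj i).obj.map g.op t) =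
      (K.obj j).obj.map g.op ((K.map f).hom.app (op U) t) := by
  rw [← ConcreteCategory.comp_apply, ← ConcreteCategory.comp_apply,
    (K.map f).hom.naturality g.op]

omit h in
theorem K_comp {i j k : I} (f : i ⟶ j) (g : j ⟶ k) (W : Cᵒᵖ)
    (t : ToType ((K.obj i).obj.obj W)) :
    (K.map (f ≫ g)).hom.app W t = (K.map g).hom.app W ((K.map f).hom.app W t) := by
  rw [K.map_comp, ← ConcreteCategory.comp_apply]
  rfl

/-- finitely many sections come from a common stage -/
theorem fin_rep {κ : Type*} [Finite κ] (W : κ → C) (s : ∀ k, ToType (P.obj (op (W k)))) :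
    ∃ (i : I) (t : ∀ k, ToType ((K.obj i).obj.obj (op (W k)))),
      ∀ k, (ι i).app (op (W k)) (t k) = s k := by
  choose i t ht using fun k => h.rep (W k) (s k)
  obtain ⟨m, hm⟩ := fin_obj i
  refine ⟨m, fun k => (K.map (hm k).some).hom.app _ (t k), fun k => ?_⟩
  rw [h.w_apply, ht]

/-- finitely many equalities hold at a common later stage -/
theorem fin_eq {κ : Type*} [Finite κ] (W : κ → C) (i : I)
    (t t' : ∀ k, ToType ((K.obj i).obj.obj (op (W k))))
    (ht : ∀ k, (ι i).app (op (W k)) (t k) = (ι i).app (op (W k)) (t' k)) :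
    ∃ (j : I) (f : i ⟶ j), ∀ k, (K.map f).hom.app (op (W k)) (t k) =
      (K.map f).hom.app (op (W k)) (t' k) := by
  choose j g hg using fun k => h.eq (W k) i (t k) (t' k) (ht k)
  obtain ⟨m, f, u, hu⟩ := fin_sup i j g
  refine ⟨m, f, fun k => ?_⟩
  rw [← hu k, K_comp, K_comp, hg k]

theorem injective_toSheafify (U : C) (hU : FinCov J U) :
    Function.Injective ((toSheafify J P).app (op U)) := by
  intro x y hxy
  have hR := Presheaf.equalizerSieve_mem J (toSheafify J P) x y hxy
  obtain ⟨n, V, f, hfR, hf⟩ := hU _ hR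
  obtain ⟨i, t, ht⟩ := h.fin_rep (fun _ : Fin 2 => U) ![x, y]
  have hx : (ι i).app (op U) (t 0) = x := ht 0
  have hy : (ι i).app (op U) (t 1) = y := ht 1
  obtain ⟨j, g, hg⟩ := h.fin_eq V i (fun k => (K.obj i).obj.map (f k).op (t 0))
    (fun k => (K.obj i).obj.map (f k).op (t 1)) (fun k => by
      rw [ι_nat, ι_nat, hx, hy]
      exact hfR k)
  have h1 : (K.map g).hom.app (op U) (t 0) = (K.map g).hom.app (op U) (t 1) := by
    apply sheaf_ext (K.obj j) V f hf
    intro k
    rw [← K_nat, ← K_nat]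
    exact hg k
  rw [← hx, ← hy, ← h.w_apply g, ← h.w_apply g (op U) (t 1), h1]

omit h [IsFiltered I] [J.HasSheafCompose (forget A)] [J.WEqualsLocallyBijective A] in
theorem η_nat {U V : C} (g : V ⟶ U) (x : ToType (P.obj (op U))) :
    (toSheafify J P).app (op V) (P.map g.op x) =
      (sheafify J P).map g.op ((toSheafify J P).app (op U) x) := by
  rw [← ConcreteCategory.comp_apply, ← ConcreteCategory.comp_apply,
    (toSheafify J P).naturality g.op]

theorem surjective_toSheafify (U : C) (hU : QCQS J U) :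
    Function.Surjective ((toSheafify J P).app (op U)) := by
  intro σ
  have hR := Presheaf.imageSieve_mem J (toSheafify J P) σ
  obtain ⟨n, V, f, hfR, hf, hpb⟩ := hU _ hR
  choose s hs using hfR
  obtain ⟨i, t, ht⟩ := h.fin_rep V s
  choose W p₁ p₂ hp hW hlift using hpb
  have hxy : ∀ kl : Fin n × Fin n,
      (ι i).app (op (W kl.1 kl.2)) ((K.obj i).obj.map (p₁ kl.1 kl.2).op (t kl.1)) =
        (ι i).app (op (W kl.1 kl.2)) ((K.obj i).obj.map (p₂ kl.1 kl.2).op (t kl.2)) := by
    rintro ⟨k, l⟩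
    apply h.injective_toSheafify (W k l) (hW k l)
    rw [ι_nat, ι_nat, ht, ht, η_nat, η_nat, hs, hs, ← ConcreteCategory.comp_apply,
      ← ConcreteCategory.comp_apply, ← Functor.map_comp, ← Functor.map_comp, ← op_comp,
      ← op_comp, hp]
  obtain ⟨j, g, hg⟩ := h.fin_eq (fun kl : Fin n × Fin n => W kl.1 kl.2) i _ _ hxy
  obtain ⟨a, ha⟩ := sheaf_glue (K.obj j) V f hf (fun k => (K.map g).hom.app _ (t k)) (by
    intro k l Z g₁ g₂ hgg
    obtain ⟨m, hm1, hm2⟩ := hlift k l Z g₁ g₂ hgg
    rw [← hm1, ← hm2, op_comp, op_comp, Functor.map_comp, Functor.map_comp,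
      ConcreteCategory.comp_apply, ConcreteCategory.comp_apply]
    congr 1
    rw [← K_nat, ← K_nat]
    exact hg (k, l))
  refine ⟨(ι j).app (op U) a, ?_⟩
  apply sheaf_ext ((presheafToSheaf J A).obj P) V f hf
  intro k
  have h1 : (sheafify J P).map (f k).op ((toSheafify J P).app (op U) ((ι j).app (op U) a)) =
      (sheafify J P).map (f k).op σ := by
    rw [← η_nat, ← ι_nat, ha, h.w_apply, ht, hs]
  exact h1

theorem bijective_toSheafify (U : C) (hU : QCQS J U) :
    Function.Bijective ((toSheafify J P).app (op U)) :=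
  ⟨h.injective_toSheafify U hU.finCov, h.surjective_toSheafify U hU⟩

end IsFiltColim

end Groth.Agent.H1.FiltSec
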