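import Groth.Agent.Lib.Helper1.FiltSecB

/-!
# Sections of filtered colimits of sheaves over quasi-compact objects, III (helper1)

Categorical packaging: the sections functor over a qcqs object preserves filtered colimits.
-/

set_option autoImplicit false
set_option linter.unusedSectionVars false

namespace Groth.Agent.H1.FiltSec

open CategoryTheory CategoryTheory.Limits Opposite

universe w₁ w₂ w v₁ u₁ v₂ u₂

variable {C : Type u₁} [Category.{v₁} C] {J : GrothendieckTopology C}
  {A : Type u₂} [Category.{v₂} A] {FA : A → A → Type*} {CA : A → Type w}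
  [fl : ∀ X Y, FunLike (FA X Y) (CA X) (CA Y)] [cc : ConcreteCategory A FA]
  [hsc : J.HasSheafCompose (forget A)] [HasWeakSheafify J A] [wlb : J.WEqualsLocallyBijective A]
  {I : Type w₁} [Category.{w₂} I] [IsFiltered I]
  [HasColimitsOfShape I A] [pf : PreservesColimitsOfShape I (forget A)]

/-- a colimit cocone of presheaves over a filtered diagram of sheaves is a sectionwise filtered
colimit -/
theorem isFiltColim_of_isColimit (K : I ⥤ Sheaf J A)
    (E : Cocone (K ⋙ sheafToPresheaf J A)) (hE : IsColimit E) :
    IsFiltColim E.pt K (fun i => E.ι.app i) where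
  w f := E.w f
  rep W s := by
    have hW : IsColimit (((evaluation Cᵒᵖ A).obj (op W)).mapCocone E) :=
      isColimitOfPreserves _ hE
    obtain ⟨i, t, ht⟩ := Concrete.isColimit_exists_rep _ hW s
    exact ⟨i, t, ht⟩
  eq W i t t' htt := by
    have hW : IsColimit (((evaluation Cᵒᵖ A).obj (op W)).mapCocone E) :=
      isColimitOfPreserves _ hE
    obtain ⟨k, f, g, hfg⟩ := Concrete.isColimit_exists_of_rep_eq _ hW t t' htt
    refine ⟨IsFiltered.coeq f g, f ≫ IsFiltered.coeqHom f g, ?_⟩
    have h1 : (K.map (f ≫ IsFiltered.coeqHom f g)).hom.app (op W) t' =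
        (K.map (g ≫ IsFiltered.coeqHom f g)).hom.app (op W) t' := by
      rw [IsFiltered.coeq_condition]
    rw [h1, IsFiltColim.K_comp, IsFiltColim.K_comp]
    exact congrArg _ hfg

variable [ri : (forget A).ReflectsIsomorphisms]
include cc hsc wlb pf ri

/-- sections over a qcqs object commute with filtered colimits of sheaves -/
theorem preservesColimit_sections (K : I ⥤ Sheaf J A) (U : C) (hU : QCQS J U) :
    PreservesColimit K (sheafToPresheaf J A ⋙ (evaluation Cᵒᵖ A).obj (op U)) := by
  let E : Cocone (K ⋙ sheafToPresheaf J A) := colimit.cocone _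
  have hE : IsColimit E := colimit.isColimit _
  have hfc := isFiltColim_of_isColimit K E hE
  have hbij := hfc.bijective_toSheafify U hU
  have hiso : IsIso ((toSheafify J E.pt).app (op U)) :=
    (ConcreteCategory.isIso_iff_bijective _).2 hbij
  let e : E.pt.obj (op U) ≅ (sheafify J E.pt).obj (op U) :=
    @asIso _ _ _ _ ((toSheafify J E.pt).app (op U)) hiso
  have hEU : IsColimit (((evaluation Cᵒᵖ A).obj (op U)).mapCocone E) :=
    isColimitOfPreserves _ hE
  refine preservesColimit_of_preserves_colimit_cocone (Sheaf.isColimitSheafifyCocone E hE) ?_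
  refine IsColimit.ofIsoColimit hEU (Cocone.ext e ?_)
  intro i
  have h1 := congrArg (fun k => k.app (op U)) (Sheaf.sheafifyCocone_ι_app_val E i)
  exact h1.symm

theorem preservesColimitsOfShape_sections (U : C) (hU : QCQS J U) :
    PreservesColimitsOfShape I (sheafToPresheaf J A ⋙ (evaluation Cᵒᵖ A).obj (op U)) :=
  ⟨fun {K} => preservesColimit_sections K U hU⟩

end Groth.Agent.H1.FiltSec
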