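import Mathlib

/-!
# Filtered colimits of flat ring maps are flat (unbundled version)

`flat_of_filtered_approx`: if `B` is the "filtered union" of rings `Bj j` (every element comes from
some stage, elements dying in `B` die at some later stage), and `R → B` is approximated by flat ring maps
`Rj j → Bj j` such that every element of `R` comes from some `Rj j`, then `R → B` is flat.
-/

set_option autoImplicit false
open CategoryTheory

universe v u₁ u₂ u₃ u₄ w

namespace Groth.Agent.Lib.helper1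

/-- In a filtered category, finitely many upward-closed, nonempty conditions hold simultaneously
at some object. -/
theorem exists_common {J : Type w} [Category.{v} J] [IsFiltered J] {ι : Type*} [Finite ι]
    (P : ι → J → Prop) (hP : ∀ i j k (_ : j ⟶ k), P i j → P i k) (h : ∀ i, ∃ j, P i j) :
    ∃ j, ∀ i, P i j := by
  classical
  cases nonempty_fintype ι
  choose j hj using h
  obtain ⟨S, hS⟩ := IsFiltered.sup_objs_exists (Finset.univ.image j)
  refine ⟨S, fun i => ?_⟩
  obtain ⟨f⟩ := hS (Finset.mem_image_of_mem j (Finset.mem_univ i))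
  exact hP i _ _ f (hj i)

/-- Transport of the equational criterion along a semilinear approximation. -/
theorem flat_of_approx {R : Type u₁} {M : Type u₂} [CommRing R] [AddCommGroup M] [Module R M]
    (H : ∀ {l : ℕ} (f : Fin l → R) (x : Fin l → M), ∑ i, f i • x i = 0 →
      ∃ (R' : Type u₃) (M' : Type u₄) (_ : CommRing R') (_ : AddCommGroup M') (_ : Module R' M')
        (_ : Module.Flat R' M') (φ : R' →+* R) (ι : M' →+ M)
        (_ : ∀ (r : R') (m : M'), ι (r • m) = φ r • ι m)
        (f' : Fin l → R') (x' : Fin l → M'),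
        (∀ i, φ (f' i) = f i) ∧ (∀ i, ι (x' i) = x i) ∧ ∑ i, f' i • x' i = 0) :
    Module.Flat R M := by
  refine Module.Flat.of_forall_isTrivialRelation ?_
  intro l f x hfx
  obtain ⟨R', M', _, _, _, _, φ, ι, hι, f', x', hf', hx', h0⟩ := H f x hfx
  obtain ⟨k, a', y', hxy, hfa⟩ := Module.Flat.isTrivialRelation_of_sum_smul_eq_zero h0
  refine ⟨k, fun i j => φ (a' i j), fun j => ι (y' j), fun i => ?_, fun j => ?_⟩
  · rw [← hx', hxy, map_sum]
    exact Finset.sum_congr rfl fun j _ => hι _ _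
  · have := congrArg φ (hfa j)
    rw [map_sum, map_zero] at this
    rw [← this]
    exact Finset.sum_congr rfl fun i _ => by rw [map_mul, hf']

/-- Filtered colimits of flat ring maps are flat, in unbundled form. -/
theorem flat_of_filtered_approx
    {J : Type w} [Category.{v} J] [IsFiltered J]
    (Bj : J → Type u₂) [∀ j, CommRing (Bj j)] (tr : ∀ {j k : J}, (j ⟶ k) → Bj j →+* Bj k)
    {B : Type u₄} [CommRing B] (ι : ∀ j, Bj j →+* B)
    (hι : ∀ {j k : J} (f : j ⟶ k) (x : Bj j), ι k (tr f x) = ι j x)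
    (hsurj : ∀ b : B, ∃ j x, ι j x = b)
    (hinj : ∀ j (x : Bj j), ι j x = 0 → ∃ (k : J) (f : j ⟶ k), tr f x = 0)
    {R : Type u₁} [CommRing R] (ψ : R →+* B)
    (Rj : J → Type u₃) [∀ j, CommRing (Rj j)] (α : ∀ j, Rj j →+* Bj j) (hα : ∀ j, (α j).Flat)
    (φ : ∀ j, Rj j →+* R) (hφ : ∀ j r, ψ (φ j r) = ι j (α j r))
    (trR : ∀ {j k : J}, (j ⟶ k) → Rj j →+* Rj k)
    (htrR : ∀ {j k : J} (f : j ⟶ k) (r : Rj j), φ k (trR f r) = φ j r)
    (hαtr : ∀ {j k : J} (f : j ⟶ k) (r : Rj j), α k (trR f r) = tr f (α j r))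
    (hRsurj : ∀ r : R, ∃ j r', φ j r' = r) : ψ.Flat := by
  rw [RingHom.Flat]
  let _ := ψ.toAlgebra
  apply flat_of_approx.{u₁, u₄, u₃, u₂}
  intro l f x hfx
  obtain ⟨j1, hj1⟩ := exists_common (fun (i : Fin l) j => ∃ r', φ j r' = f i)
    (fun i j k g ⟨r', hr'⟩ => ⟨trR g r', by rw [htrR, hr']⟩) (fun i => hRsurj (f i))
  obtain ⟨j2, hj2⟩ := exists_common (fun (i : Fin l) j => ∃ x', ι j x' = x i)
    (fun i j k g ⟨x', hx'⟩ => ⟨tr g x', by rw [hι, hx']⟩) (fun i => hsurj (x i))
  let j0 := IsFiltered.max j1 j2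
  have h1 : ∀ i, ∃ r' : Rj j0, φ j0 r' = f i := fun i => by
    obtain ⟨r', hr'⟩ := hj1 i
    exact ⟨trR (IsFiltered.leftToMax j1 j2) r', by rw [htrR, hr']⟩
  have h2 : ∀ i, ∃ x' : Bj j0, ι j0 x' = x i := fun i => by
    obtain ⟨x', hx'⟩ := hj2 i
    exact ⟨tr (IsFiltered.rightToMax j1 j2) x', by rw [hι, hx']⟩
  choose f' hf' using h1
  choose x' hx' using h2
  have hz : ι j0 (∑ i, α j0 (f' i) * x' i) = 0 := by
    rw [map_sum, ← hfx]
    refine Finset.sum_congr rfl fun i _ => ?_
    rw [map_mul, ← hφ, hf', hx', Algebra.smul_def, RingHom.algebraMap_toAlgebra]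
  obtain ⟨k, g, hg⟩ := hinj j0 _ hz
  let _ : Algebra (Rj k) (Bj k) := (α k).toAlgebra
  have hflat : Module.Flat (Rj k) (Bj k) := hα k
  refine ⟨Rj k, Bj k, inferInstance, inferInstance, inferInstance, hflat, φ k,
    (ι k).toAddMonoidHom, ?_, fun i => trR g (f' i), fun i => tr g (x' i), ?_, ?_, ?_⟩
  · intro r m
    change ι k (r • m) = φ k r • ι k m
    rw [Algebra.smul_def, Algebra.smul_def, RingHom.algebraMap_toAlgebra,
      RingHom.algebraMap_toAlgebra, map_mul, hφ]
  · intro i
    rw [htrR, hf']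
  · intro i
    change ι k (tr g (x' i)) = x i
    rw [hι, hx']
  · rw [← hg, map_sum]
    refine Finset.sum_congr rfl fun i _ => ?_
    rw [Algebra.smul_def, RingHom.algebraMap_toAlgebra, hαtr, map_mul]

open scoped TensorProduct

section Algebra

variable {A : Type u₁} [CommRing A] {J : Type w} [Category.{v} J] [IsFiltered J]
  (Bj : J → Type u₂) [∀ j, CommRing (Bj j)] [∀ j, Algebra A (Bj j)]
  {B : Type u₃} [CommRing B] [Algebra A B]
  (tr : ∀ {j k : J}, (j ⟶ k) → Bj j →ₐ[A] Bj k) (ι : ∀ j, Bj j →ₐ[A] B)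

theorem lmul'_comp_map {S T : Type*} [CommRing S] [CommRing T] [Algebra A S] [Algebra A T]
    (g : S →ₐ[A] T) :
    (Algebra.TensorProduct.lmul' A (S := T)).comp (Algebra.TensorProduct.map g g) =
      g.comp (Algebra.TensorProduct.lmul' A (S := S)) := by
  ext <;> simp

include tr in
/-- Every element of `B ⊗ B` comes from some stage `Bj j ⊗ Bj j`. -/
theorem tensor_surj_of_filtered
    (hι : ∀ {j k : J} (f : j ⟶ k), (ι k).comp (tr f) = ι j)
    (hsurj : ∀ b : B, ∃ j x, ι j x = b) (r : B ⊗[A] B) :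
    ∃ (j : J) (r' : Bj j ⊗[A] Bj j), Algebra.TensorProduct.map (ι j) (ι j) r' = r := by
  have hmap : ∀ {j k : J} (f : j ⟶ k) (r' : Bj j ⊗[A] Bj j),
      Algebra.TensorProduct.map (ι k) (ι k) (Algebra.TensorProduct.map (tr f) (tr f) r') =
        Algebra.TensorProduct.map (ι j) (ι j) r' := by
    intro j k f r'
    rw [← AlgHom.comp_apply, ← Algebra.TensorProduct.map_comp, hι]
  induction r using TensorProduct.induction_on with
  | zero => exact ⟨Classical.choice IsFiltered.nonempty, 0, map_zero _⟩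
  | tmul b b' =>
    obtain ⟨j1, x1, rfl⟩ := hsurj b
    obtain ⟨j2, x2, rfl⟩ := hsurj b'
    refine ⟨IsFiltered.max j1 j2, tr (IsFiltered.leftToMax j1 j2) x1 ⊗ₜ
      tr (IsFiltered.rightToMax j1 j2) x2, ?_⟩
    rw [Algebra.TensorProduct.map_tmul, ← AlgHom.comp_apply, ← AlgHom.comp_apply, hι, hι]
  | add r1 r2 h1 h2 =>
    obtain ⟨j1, r1', rfl⟩ := h1
    obtain ⟨j2, r2', rfl⟩ := h2
    refine ⟨IsFiltered.max j1 j2,
      Algebra.TensorProduct.map (tr (IsFiltered.leftToMax j1 j2))
        (tr (IsFiltered.leftToMax j1 j2)) r1' +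
      Algebra.TensorProduct.map (tr (IsFiltered.rightToMax j1 j2))
        (tr (IsFiltered.rightToMax j1 j2)) r2', ?_⟩
    rw [map_add, hmap, hmap]

include tr in
/-- A filtered colimit (in elementwise form) of weakly étale algebras is weakly étale. -/
theorem weaklyEtale_of_filtered [∀ j, Algebra.WeaklyEtale A (Bj j)]
    (hι : ∀ {j k : J} (f : j ⟶ k), (ι k).comp (tr f) = ι j)
    (hsurj : ∀ b : B, ∃ j x, ι j x = b)
    (hinj : ∀ j (x : Bj j), ι j x = 0 → ∃ (k : J) (f : j ⟶ k), tr f x = 0) :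
    Algebra.WeaklyEtale A B := by
  have hι' : ∀ {j k : J} (f : j ⟶ k) (x : Bj j), (ι k).toRingHom ((tr f).toRingHom x) =
      (ι j).toRingHom x := fun f x => by
    change ((ι _).comp (tr f)) x = _
    rw [hι]; rfl
  refine ⟨?_, ?_⟩
  · rw [← RingHom.flat_algebraMap_iff]
    refine flat_of_filtered_approx Bj (fun f => (tr f).toRingHom) (fun j => (ι j).toRingHom) hι'
      hsurj hinj (algebraMap A B) (fun _ => A) (fun j => algebraMap A (Bj j))
      (fun j => RingHom.flat_algebraMap_iff.mpr inferInstance) (fun _ => RingHom.id A)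
      (fun j r => ((ι j).commutes r).symm) (fun _ => RingHom.id A) (fun _ _ => rfl)
      (fun f r => ((tr f).commutes r).symm) (fun r => ⟨Classical.choice IsFiltered.nonempty, r, rfl⟩)
  · refine flat_of_filtered_approx Bj (fun f => (tr f).toRingHom) (fun j => (ι j).toRingHom) hι'
      hsurj hinj (Algebra.TensorProduct.lmul' A (S := B)).toRingHom (fun j => Bj j ⊗[A] Bj j)
      (fun j => (Algebra.TensorProduct.lmul' A (S := Bj j)).toRingHom)
      (fun j => Algebra.WeaklyEtale.flat_lmul' A (Bj j))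
      (fun j => (Algebra.TensorProduct.map (ι j) (ι j)).toRingHom)
      (fun j r => DFunLike.congr_fun (lmul'_comp_map (ι j)) r)
      (fun f => (Algebra.TensorProduct.map (tr f) (tr f)).toRingHom)
      (fun {j k} f r => ?_)
      (fun f r => DFunLike.congr_fun (lmul'_comp_map (tr f)) r)
      (tensor_surj_of_filtered Bj tr ι hι hsurj)
    change Algebra.TensorProduct.map (ι k) (ι k) (Algebra.TensorProduct.map (tr f) (tr f) r) =
        Algebra.TensorProduct.map (ι j) (ι j) r
    rw [← AlgHom.comp_apply, ← Algebra.TensorProduct.map_comp, hι]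

end Algebra

end Groth.Agent.Lib.helper1
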