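import Groth.Agent.Lib.Helper1.ExtZeroSect
import Groth.Agent.Lib.Helper18.JCont
import Groth.Prelude.Def_EtDual

/-!
# Sections with support of etale sheaves (helper1)
-/

set_option autoImplicit false
universe u
open CategoryTheory CategoryTheory.Limits AlgebraicGeometry Opposite
open EtShriek

namespace Groth.Agent.H1.SuppSect

open Groth.Agent.H1.EtGerm Groth.Agent.H1.FinPushStalk Groth.Agent.H1.EtStalkPull Groth.Agent.S0728
  Groth.Agent.S0687 Groth.Agent.H1.ExtZeroSect

/-- vanishing on an open immersion only depends on its range -/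
theorem map_eq_zero_iff_of_range_eq {Y : Scheme.{u}} (H : EtCoh.Ab Y) {T A B : Y.Etale}
    (a : A ⟶ T) (b : B ⟶ T) [IsOpenImmersion a.left] [IsOpenImmersion b.left]
    (h : Set.range a.left.base = Set.range b.left.base) (s : H.obj.obj (op T)) :
    H.obj.map a.op s = 0 ↔ H.obj.map b.op s = 0 := by
  constructor
  · intro hs
    exact map_eq_zero_of_fac' H a s hs b (fun x => h ▸ ⟨x, rfl⟩)
  · intro hs
    exact map_eq_zero_of_fac' H b s hs a (fun x => h ▸ ⟨x, rfl⟩)


section General

variable {X : Scheme.{u}}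

theorem injective_app_of_mono {F G : EtCoh.Ab X} (a : F ⟶ G) [Mono a] (T : X.Etale) :
    Function.Injective (a.hom.app (op T)) := by
  have h1 : Mono a.hom := inferInstance
  have h2 : Mono (a.hom.app (op T)) := inferInstance
  exact (AddCommGrpCat.mono_iff_injective _).1 h2

/-- the sections functor at `T` -/
noncomputable abbrev ΓT (T : X.Etale) : EtCoh.Ab X ⥤ AddCommGrpCat.{u + 1} :=
  sheafToPresheaf X.smallEtaleTopology AddCommGrpCat.{u + 1} ⋙
    (evaluation X.Etaleᵒᵖ AddCommGrpCat.{u + 1}).obj (op T)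

/-- left exactness of sections, elementwise -/
theorem exists_app_eq_of_exact (S : ShortComplex (EtCoh.Ab X)) (hS : S.Exact) [Mono S.f]
    (T : X.Etale) (b : S.X₂.obj.obj (op T)) (hb : S.g.hom.app (op T) b = 0) :
    ∃ a : S.X₁.obj.obj (op T), S.f.hom.app (op T) a = b := by
  have hp : PreservesFiniteLimits (ΓT T) := inferInstance
  have hm : Mono S.f := inferInstance
  have h0 : PreservesFiniteLimits (ΓT T) ↔ ∀ (S : ShortComplex (EtCoh.Ab X)), S.Exact ∧ Mono S.f →
      (S.map (ΓT T)).Exact ∧ Mono ((ΓT T).map S.f) :=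
    (Functor.preservesFiniteLimits_tfae (ΓT T)).out 3 1
  have h := h0.mp hp S ⟨hS, hm⟩
  exact (ShortComplex.ab_exact_iff (S.map (ΓT T))).1 h.1 b hb

/-- sections over `T` vanishing on the open `V` -/
noncomputable def K (T : X.Etale) (V : T.left.Opens) : EtCoh.Ab X ⥤ AddCommGrpCat.{u + 1} where
  obj F := AddCommGrpCat.of (F.obj.map (restrictOpenι T V).op).hom.ker
  map {F F'} α := AddCommGrpCat.ofHom
    (((α.hom.app (op T)).hom.comp (AddSubgroup.subtype _)).codRestrict _ (fun s => by
      have h := congrArg (fun m => (ConcreteCategory.hom m) s.1)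
        (α.hom.naturality (restrictOpenι T V).op)
      have hs : F.obj.map (restrictOpenι T V).op s.1 = 0 := s.2
      change F'.obj.map (restrictOpenι T V).op (α.hom.app (op T) s.1) = 0
      have h' : F'.obj.map (restrictOpenι T V).op (α.hom.app (op T) s.1) =
          α.hom.app (op (restrictOpen T V)) (F.obj.map (restrictOpenι T V).op s.1) := h.symm
      rw [h', hs, map_zero]))
  map_id F := by
    ext ⟨s, hs⟩
    rfl
  map_comp α β := by
    ext ⟨s, hs⟩
    rfl

theorem K_map_val (T : X.Etale) (V : T.left.Opens) {F F' : EtCoh.Ab X} (α : F ⟶ F')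
    (s : (K T V).obj F) : ((K T V).map α s).1 = α.hom.app (op T) s.1 := rfl

theorem mem_K_iff (T : X.Etale) (V : T.left.Opens) (F : EtCoh.Ab X) (s : F.obj.obj (op T)) :
    s ∈ (F.obj.map (restrictOpenι T V).op).hom.ker ↔ F.obj.map (restrictOpenι T V).op s = 0 :=
  Iff.rfl


instance K_additive (T : X.Etale) (V : T.left.Opens) : (K T V).Additive where
  map_add {F F' α β} := by
    ext ⟨s, hs⟩
    apply Subtype.ext
    rfl

theorem K_preservesFiniteLimits (T : X.Etale) (V : T.left.Opens) :
    PreservesFiniteLimits (K T V) := by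
  have h0 : (∀ (S : ShortComplex (EtCoh.Ab X)), S.ShortExact →
      (S.map (K T V)).Exact ∧ Mono ((K T V).map S.f)) ↔ PreservesFiniteLimits (K T V) :=
    (Functor.preservesFiniteLimits_tfae (K T V)).out 0 3
  apply h0.mp
  intro S hS
  have hm : Mono S.f := hS.mono_f
  constructor
  · apply (ShortComplex.ab_exact_iff (S.map (K T V))).2
    rintro ⟨b, hb⟩ hg
    have hg' : S.g.hom.app (op T) b = 0 := congrArg Subtype.val hg
    obtain ⟨a, ha⟩ := exists_app_eq_of_exact S hS.exact T b hg'
    have ha0 : S.X₁.obj.map (restrictOpenι T V).op a = 0 := by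
      apply injective_app_of_mono S.f (restrictOpen T V)
      have h := congrArg (fun m => (ConcreteCategory.hom m) a)
        (S.f.hom.naturality (restrictOpenι T V).op)
      have h' : S.f.hom.app (op (restrictOpen T V)) (S.X₁.obj.map (restrictOpenι T V).op a) =
          S.X₂.obj.map (restrictOpenι T V).op (S.f.hom.app (op T) a) := h
      rw [h', ha, map_zero]
      exact hb
    exact ⟨⟨a, ha0⟩, Subtype.ext ha⟩
  · apply (AddCommGrpCat.mono_iff_injective _).2
    rintro ⟨a, ha⟩ ⟨a', ha'⟩ h
    apply Subtype.ext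
    apply injective_app_of_mono S.f T
    exact congrArg Subtype.val h

end General

section

variable {U X : Scheme.{u}} (j : U ⟶ X) [IsOpenImmersion j] (F : EtCoh.Ab X)

theorem adj3_unit_app (T : X.Etale) :
    ((Groth.Agent.S0651.adj3 j).unit.app F).hom.app (op T) =
      F.obj.map ((Groth.Agent.S0651.adj0 j).counit.app T).op := by
  simp [Groth.Agent.S0651.adj3]


theorem counit_left (T : X.Etale) :
    ((Groth.Agent.S0651.adj0 j).counit.app T).left = pullback.fst T.hom j := by
  simp [Groth.Agent.S0651.adj0]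

/-- the comparison `j^* ≅ restriction` for an open immersion -/
noncomputable def pullIsoRestr : EtCoh.pull j ≅ EtShriek.restrAlong j :=
  (EtCoh.pullPushAdj j).leftAdjointUniq (Groth.Agent.S0651.adj3 j)

theorem unit_comp_pullIsoRestr :
    EtDual.unitApp j F ≫ (EtCoh.push j).map ((pullIsoRestr j).hom.app F) =
      (Groth.Agent.S0651.adj3 j).unit.app F :=
  Adjunction.unit_leftAdjointUniq_hom_app _ _ F

/-- a global section is killed by the unit `F → j_* j^* F` iff it vanishes on `U` -/
theorem unitApp_app_eq_zero_iff (t : F.obj.obj (op (EtCoh.top X))) :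
    (EtDual.unitApp j F).hom.app (op (EtCoh.top X)) t = 0 ↔
      F.obj.map (restrictOpenι (EtCoh.top X) j.opensRange).op t = 0 := by
  have h1 := unit_comp_pullIsoRestr j F
  have h2 : ((Groth.Agent.S0651.adj3 j).unit.app F).hom.app (op (EtCoh.top X)) t =
      ((EtCoh.push j).map ((pullIsoRestr j).hom.app F)).hom.app (op (EtCoh.top X))
        ((EtDual.unitApp j F).hom.app (op (EtCoh.top X)) t) := by
    rw [← h1]
    rfl
  have h3 : Function.Injective
      (((EtCoh.push j).map ((pullIsoRestr j).hom.app F)).hom.app (op (EtCoh.top X))) := by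
    have i1 : IsIso ((EtCoh.push j).map ((pullIsoRestr j).hom.app F)) := inferInstance
    have i2 : IsIso ((sheafToPresheaf _ _).map ((EtCoh.push j).map ((pullIsoRestr j).hom.app F))) :=
      inferInstance
    have i3 : IsIso (((EtCoh.push j).map ((pullIsoRestr j).hom.app F)).hom.app
        (op (EtCoh.top X))) :=
      NatIso.isIso_app_of_isIso
        ((sheafToPresheaf _ _).map ((EtCoh.push j).map ((pullIsoRestr j).hom.app F))) _
    exact ((ConcreteCategory.isIso_iff_bijective _).mp i3).1
  have h4 : (EtDual.unitApp j F).hom.app (op (EtCoh.top X)) t = 0 ↔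
      ((Groth.Agent.S0651.adj3 j).unit.app F).hom.app (op (EtCoh.top X)) t = 0 := by
    rw [h2]
    constructor
    · intro h
      rw [h, map_zero]
    · intro h
      apply h3
      rw [h, map_zero]
  rw [h4, adj3_unit_app]
  have : IsOpenImmersion ((Groth.Agent.S0651.adj0 j).counit.app (EtCoh.top X)).left := by
    rw [counit_left]
    change IsOpenImmersion (pullback.fst (𝟙 X) j)
    infer_instance
  have : IsOpenImmersion (restrictOpenι (EtCoh.top X) j.opensRange).left := by
    change IsOpenImmersion (j.opensRange).ι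
    infer_instance
  apply map_eq_zero_iff_of_range_eq
  rw [counit_left]
  change Set.range (pullback.fst (𝟙 X) j).base = Set.range (j.opensRange).ι.base
  rw [Scheme.Pullback.range_fst, Scheme.Opens.range_ι]
  simp


/-- the comparison `Γ_Z(X, F) → {s ∈ F(X) | s|_U = 0}` -/
noncomputable def aHom : (EtDual.gammaSupp j).obj F ⟶ (K (EtCoh.top X) j.opensRange).obj F :=
  AddCommGrpCat.ofHom (((kernel.ι (EtDual.unitApp j F)).hom.app (op (EtCoh.top X))).hom.codRestrict _
    (fun s => by
      apply (unitApp_app_eq_zero_iff j F _).1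
      have h := kernel.condition (EtDual.unitApp j F)
      have h2 := congrArg (fun m => (ConcreteCategory.hom (m.hom.app (op (EtCoh.top X)))) s) h
      exact h2))

theorem aHom_val (s : (EtDual.gammaSupp j).obj F) :
    (aHom j F s).1 = (kernel.ι (EtDual.unitApp j F)).hom.app (op (EtCoh.top X)) s := rfl

theorem aHom_bijective : Function.Bijective (aHom j F) := by
  constructor
  · intro s s' h
    apply injective_app_of_mono (kernel.ι (EtDual.unitApp j F)) (EtCoh.top X)
    exact congrArg Subtype.val h
  · rintro ⟨t, ht⟩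
    have ht' : (EtDual.unitApp j F).hom.app (op (EtCoh.top X)) t = 0 :=
      (unitApp_app_eq_zero_iff j F t).2 ht
    obtain ⟨s, hs⟩ := exists_app_eq_of_exact
      (ShortComplex.mk (kernel.ι (EtDual.unitApp j F)) (EtDual.unitApp j F)
        (kernel.condition _)) (ShortComplex.exact_kernel _) (EtCoh.top X) t ht'
    exact ⟨s, Subtype.ext hs⟩

theorem aHom_naturality {F F' : EtCoh.Ab X} (α : F ⟶ F') :
    (EtDual.gammaSupp j).map α ≫ aHom j F' = aHom j F ≫ (K (EtCoh.top X) j.opensRange).map α := by
  ext s
  apply Subtype.ext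
  have h : (EtDual.secSupp j).map α ≫ kernel.ι (EtDual.unitApp j F') =
      kernel.ι (EtDual.unitApp j F) ≫ α := kernel.lift_ι _ _ _
  exact congrArg (fun m => (ConcreteCategory.hom (m.hom.app (op (EtCoh.top X)))) s) h

/-- `Γ_Z(X, -) ≅ {s ∈ -(X) | s|_U = 0}` -/
noncomputable def aIso : EtDual.gammaSupp j ≅ K (EtCoh.top X) j.opensRange :=
  NatIso.ofComponents (fun F => @asIso _ _ _ _ (aHom j F)
    ((ConcreteCategory.isIso_iff_bijective _).mpr (aHom_bijective j F)))
    (fun α => aHom_naturality j α)

end


section Excision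

open Groth.Agent.Lib.Helper18.JCont

variable {X X' : Scheme.{u}} (f : X' ⟶ X) [AlgebraicGeometry.Etale f]

/-- the morphism `(X' → X) → X` of the small etale site of `X` -/
noncomputable def φe : (EtShriek.compEtale f).obj (EtCoh.top X') ⟶ EtCoh.top X :=
  MorphismProperty.Over.homMk f (by
    change f ≫ 𝟙 X = 𝟙 X' ≫ f
    rw [Category.comp_id, Category.id_comp]) trivial

variable (V : (EtCoh.top X).left.Opens) (V' : (EtCoh.top X').left.Opens)

theorem range_eq (hV' : ∀ x : X', x ∈ V' ↔ f.base x ∈ V) :
    Set.range ((EtShriek.compEtale f).map (restrictOpenι (EtCoh.top X') V')).left.base =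
      Set.range (restrictOpenι ((EtShriek.compEtale f).obj (EtCoh.top X'))
        ((φe f).left ⁻¹ᵁ V)).left.base := by
  change Set.range V'.ι.base = Set.range ((φe f).left ⁻¹ᵁ V).ι.base
  rw [Scheme.Opens.range_ι, Scheme.Opens.range_ι]
  ext x
  exact hV' x

theorem map_comp_eq_zero_iff (hV' : ∀ x : X', x ∈ V' ↔ f.base x ∈ V) (F : EtCoh.Ab X)
    (s' : F.obj.obj (op ((EtShriek.compEtale f).obj (EtCoh.top X')))) :
    F.obj.map ((EtShriek.compEtale f).map (restrictOpenι (EtCoh.top X') V')).op s' = 0 ↔
      F.obj.map (restrictOpenι ((EtShriek.compEtale f).obj (EtCoh.top X'))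
        ((φe f).left ⁻¹ᵁ V)).op s' = 0 := by
  have h1 : IsOpenImmersion
      ((EtShriek.compEtale f).map (restrictOpenι (EtCoh.top X') V')).left := by
    change IsOpenImmersion V'.ι
    infer_instance
  have h2 : IsOpenImmersion (restrictOpenι ((EtShriek.compEtale f).obj (EtCoh.top X'))
      ((φe f).left ⁻¹ᵁ V)).left := by
    change IsOpenImmersion ((φe f).left ⁻¹ᵁ V).ι
    infer_instance
  exact map_eq_zero_iff_of_range_eq F _ _ (range_eq f V V' hV') s'

variable (hV' : ∀ x : X', x ∈ V' ↔ f.base x ∈ V)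
  (hinj : ∀ a b : X', f.base a ∉ V → f.base a = f.base b → a = b)
  (hsurj : ∀ x : X, x ∉ V → x ∈ Set.range f.base)
  (hres : ∀ x : X', f.base x ∉ V → Function.Bijective (f.residueFieldMap x))

include hinj hsurj hres in
theorem bijOn (F : EtCoh.Ab X) :
    Set.BijOn (F.obj.map (φe f).op) {s | F.obj.map (restrictOpenι (EtCoh.top X) V).op s = 0}
      {s' | F.obj.map (restrictOpenι ((EtShriek.compEtale f).obj (EtCoh.top X'))
        ((φe f).left ⁻¹ᵁ V)).op s' = 0} :=
  main_aux F (φe f) V hinj hsurj hres

include hV' hinj hsurj hres in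
/-- excision on sections with support: restriction along `f` -/
noncomputable def bHom (F : EtCoh.Ab X) :
    (K (EtCoh.top X) V).obj F ⟶ (K (EtCoh.top X') V').obj ((EtShriek.restrAlong f).obj F) :=
  AddCommGrpCat.ofHom (((F.obj.map (φe f).op).hom.comp (AddSubgroup.subtype _)).codRestrict _
    (fun s => by
      have h := (bijOn f V hinj hsurj hres F).mapsTo s.2
      exact (map_comp_eq_zero_iff f V V' hV' F _).2 h))


include hV' hinj hsurj hres in
theorem bHom_val (F : EtCoh.Ab X) (s : (K (EtCoh.top X) V).obj F) :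
    (bHom f V V' hV' hinj hsurj hres F s).1 = F.obj.map (φe f).op s.1 := rfl

include hV' hinj hsurj hres in
theorem bHom_bijective (F : EtCoh.Ab X) :
    Function.Bijective (bHom f V V' hV' hinj hsurj hres F) := by
  have hb := bijOn f V hinj hsurj hres F
  constructor
  · rintro ⟨s, hs⟩ ⟨t, ht⟩ h
    apply Subtype.ext
    exact hb.injOn hs ht (congrArg Subtype.val h)
  · rintro ⟨s', hs'⟩
    have hs'' := (map_comp_eq_zero_iff f V V' hV' F s').1 hs'
    obtain ⟨s, hs, hss'⟩ := hb.surjOn hs''
    exact ⟨⟨s, hs⟩, Subtype.ext hss'⟩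

include hV' hinj hsurj hres in
theorem bHom_naturality {F F' : EtCoh.Ab X} (α : F ⟶ F') :
    (K (EtCoh.top X) V).map α ≫ bHom f V V' hV' hinj hsurj hres F' =
      bHom f V V' hV' hinj hsurj hres F ≫
        (EtShriek.restrAlong f ⋙ K (EtCoh.top X') V').map α := by
  ext s
  apply Subtype.ext
  have h := congrArg (fun m => (ConcreteCategory.hom m) s.1) (α.hom.naturality (φe f).op)
  exact h.symm

include hV' hinj hsurj hres in
/-- excision for sections with support, as a natural isomorphism -/
noncomputable def bIso :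
    K (EtCoh.top X) V ≅ EtShriek.restrAlong f ⋙ K (EtCoh.top X') V' :=
  NatIso.ofComponents (fun F => @asIso _ _ _ _ (bHom f V V' hV' hinj hsurj hres F)
    ((ConcreteCategory.isIso_iff_bijective _).mpr (bHom_bijective f V V' hV' hinj hsurj hres F)))
    (fun α => bHom_naturality f V V' hV' hinj hsurj hres α)

end Excision

end Groth.Agent.H1.SuppSect
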