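import Groth.Agent.S0649
import Groth.Agent.Lib.Helper1.SuppSect
import Groth.Agent.Lib.Helper1.FinStalk
import Groth.Agent.Lib.Helper1.EtLocTors
import Groth.Agent.Lib.Helper18.JCont

/-!
# Pushforward and clopen decompositions; étale base change of pushforward (helper1)
-/

set_option autoImplicit false
universe u
open CategoryTheory CategoryTheory.Limits AlgebraicGeometry Opposite

namespace Groth.Agent.H1.FinEtPush

open Groth.Agent.Lib.Helper18.JCont

section BaseChange

variable {V' V Y X : Scheme.{u}} (j : V ⟶ X) [AlgebraicGeometry.Etale j]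
    (f : Y ⟶ X) (j' : V' ⟶ Y) [AlgebraicGeometry.Etale j'] (f' : V' ⟶ V)

/-- **étale base change for direct images**: `(f_* F)|_V ≅ f'_* (F|_{V'})` -/
noncomputable def pushRestrIso (h : IsPullback j' f' f j) :
    EtCoh.push f ⋙ EtShriek.restrAlong j ≅ EtShriek.restrAlong j' ⋙ EtCoh.push f' := by
  let K : V.Etale ⥤ Y.Etale := EtCoh.bc f' ⋙ EtShriek.compEtale j'
  have : K.IsContinuous V.smallEtaleTopology Y.smallEtaleTopology :=
    Functor.isContinuous_comp _ _ _ V'.smallEtaleTopology _
  let e1 : EtShriek.restrAlong j' ⋙ EtCoh.push f' ≅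
      K.sheafPushforwardContinuous AddCommGrpCat.{u + 1} V.smallEtaleTopology
        Y.smallEtaleTopology :=
    Functor.sheafPushforwardContinuousComp' (Iso.refl K) _ _ _ _
  let e2 : EtCoh.push f ⋙ EtShriek.restrAlong j ≅
      K.sheafPushforwardContinuous AddCommGrpCat.{u + 1} V.smallEtaleTopology
        Y.smallEtaleTopology :=
    Functor.sheafPushforwardContinuousComp' (Groth.Agent.S0649.eK j f j' f' h).symm _ _ _ _
  exact e2 ≪≫ e1.symm

end BaseChange

section Decomp

variable {Z A B : Scheme.{u}} (a : A ⟶ Z) (b : B ⟶ Z) [IsOpenImmersion a] [IsOpenImmersion b]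
  (G : EtCoh.Ab Z)

/-- the two restriction-extension pieces -/
noncomputable abbrev piece {A : Scheme.{u}} (a : A ⟶ Z) [IsOpenImmersion a] (G : EtCoh.Ab Z) :
    EtCoh.Ab Z :=
  (EtCoh.push a).obj ((EtShriek.restrAlong a).obj G)

/-- the canonical map `G ⟶ a_* a^* G ⊞ b_* b^* G` -/
noncomputable def decompMap : G ⟶ piece a G ⊞ piece b G :=
  biprod.lift ((Groth.Agent.S0651.adj3 a).unit.app G) ((Groth.Agent.S0651.adj3 b).unit.app G)

/-- the open piece of `T` over `A` -/
noncomputable abbrev cMap {A : Scheme.{u}} (a : A ⟶ Z) [IsOpenImmersion a] (T : Z.Etale) :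
    (EtShriek.compEtale a).obj ((EtCoh.bc a).obj T) ⟶ T :=
  (Groth.Agent.S0651.adj0 a).counit.app T

theorem range_cMap {A : Scheme.{u}} (a : A ⟶ Z) [IsOpenImmersion a] (T : Z.Etale) :
    Set.range (cMap a T).left.base = T.hom.base ⁻¹' Set.range a.base := by
  rw [Groth.Agent.H1.SuppSect.counit_left]
  exact Scheme.Pullback.range_fst T.hom a

theorem isOpenImmersion_cMap {A : Scheme.{u}} (a : A ⟶ Z) [IsOpenImmersion a] (T : Z.Etale) :
    IsOpenImmersion (cMap a T).left := by
  rw [Groth.Agent.H1.SuppSect.counit_left]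
  exact MorphismProperty.pullback_fst (P := @IsOpenImmersion) _ _ inferInstance

variable (hdisj : Disjoint (Set.range a.base) (Set.range b.base))
  (hcov : Set.range a.base ∪ Set.range b.base = Set.univ)

include hdisj hcov in
/-- gluing along the two pieces -/
theorem existsUnique_glue₂ (T : Z.Etale)
    (ta : G.obj.obj (op ((EtShriek.compEtale a).obj ((EtCoh.bc a).obj T))))
    (tb : G.obj.obj (op ((EtShriek.compEtale b).obj ((EtCoh.bc b).obj T)))) :
    ∃! s : G.obj.obj (op T), G.obj.map (cMap a T).op s = ta ∧ G.obj.map (cMap b T).op s = tb := by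
  let W : Bool → Z.Etale := fun i =>
    cond i ((EtShriek.compEtale a).obj ((EtCoh.bc a).obj T))
      ((EtShriek.compEtale b).obj ((EtCoh.bc b).obj T))
  let jj : ∀ i, W i ⟶ T := fun i => Bool.rec (motive := fun i => W i ⟶ T) (cMap b T) (cMap a T) i
  let t : ∀ i, G.obj.obj (op (W i)) := fun i =>
    Bool.rec (motive := fun i => G.obj.obj (op (W i))) tb ta i
  have hoi : ∀ i, IsOpenImmersion (jj i).left := by
    intro i
    cases i
    · exact isOpenImmersion_cMap b T
    · exact isOpenImmersion_cMap a T
  have hab : Disjoint (Set.range (cMap a T).left.base) (Set.range (cMap b T).left.base) := by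
    rw [range_cMap, range_cMap]
    exact hdisj.preimage _
  have hd : ∀ i k, i ≠ k → Disjoint (Set.range (jj i).left.base) (Set.range (jj k).left.base) := by
    intro i k hik
    cases i <;> cases k
    · exact absurd rfl hik
    · exact hab.symm
    · exact hab
    · exact absurd rfl hik
  have hc : ∀ x : T.left, ∃ i, x ∈ Set.range (jj i).left.base := by
    intro x
    have hx : T.hom.base x ∈ Set.range a.base ∪ Set.range b.base := by
      rw [hcov]
      trivial
    rcases hx with hx | hx
    · refine ⟨true, ?_⟩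
      change x ∈ Set.range (cMap a T).left.base
      rw [range_cMap]
      exact hx
    · refine ⟨false, ?_⟩
      change x ∈ Set.range (cMap b T).left.base
      rw [range_cMap]
      exact hx
  obtain ⟨s, hs, hu⟩ := Groth.Agent.H1.FinStalk.existsUnique_glue (F := G) T W jj hoi hd hc t
  refine ⟨s, ⟨hs true, hs false⟩, ?_⟩
  intro s' hs'
  apply hu
  intro i
  cases i
  · exact hs'.2
  · exact hs'.1

include hdisj hcov in
/-- **clopen decomposition**: `G ≅ a_* a^* G ⊞ b_* b^* G` for complementary open immersions -/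
theorem isIso_decompMap : IsIso (decompMap a b G) := by
  apply Groth.Agent.H1.EtFiltH.isIso_of_bijective_affine
  intro T _
  have hfst : ∀ s : G.obj.obj (op T),
      (biprod.fst : piece a G ⊞ piece b G ⟶ piece a G).hom.app (op T)
        ((decompMap a b G).hom.app (op T) s) = G.obj.map (cMap a T).op s := by
    intro s
    have h1 : decompMap a b G ≫ biprod.fst = (Groth.Agent.S0651.adj3 a).unit.app G :=
      biprod.lift_fst _ _
    have h2 := congrArg (fun m => m.hom.app (op T) s) h1
    refine h2.trans ?_
    exact congrArg (fun m => (ConcreteCategory.hom m) s)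
      (Groth.Agent.H1.SuppSect.adj3_unit_app a G T)
  have hsnd : ∀ s : G.obj.obj (op T),
      (biprod.snd : piece a G ⊞ piece b G ⟶ piece b G).hom.app (op T)
        ((decompMap a b G).hom.app (op T) s) = G.obj.map (cMap b T).op s := by
    intro s
    have h1 : decompMap a b G ≫ biprod.snd = (Groth.Agent.S0651.adj3 b).unit.app G :=
      biprod.lift_snd _ _
    have h2 := congrArg (fun m => m.hom.app (op T) s) h1
    refine h2.trans ?_
    exact congrArg (fun m => (ConcreteCategory.hom m) s)
      (Groth.Agent.H1.SuppSect.adj3_unit_app b G T)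
  have hjoint : ∀ z : (piece a G ⊞ piece b G).obj.obj (op T),
      (biprod.fst : piece a G ⊞ piece b G ⟶ piece a G).hom.app (op T) z = 0 →
      (biprod.snd : piece a G ⊞ piece b G ⟶ piece b G).hom.app (op T) z = 0 → z = 0 := by
    intro z h1 h2
    have ht : (biprod.fst : piece a G ⊞ piece b G ⟶ piece a G) ≫ biprod.inl +
        (biprod.snd : piece a G ⊞ piece b G ⟶ piece b G) ≫ biprod.inr = 𝟙 _ := biprod.total
    have h3 := congrArg (fun m => m.hom.app (op T) z) ht
    have h4 : ((biprod.fst : piece a G ⊞ piece b G ⟶ piece a G) ≫ biprod.inl +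
        (biprod.snd : piece a G ⊞ piece b G ⟶ piece b G) ≫ biprod.inr).hom.app (op T) z =
        (biprod.inl : piece a G ⟶ piece a G ⊞ piece b G).hom.app (op T)
          ((biprod.fst : piece a G ⊞ piece b G ⟶ piece a G).hom.app (op T) z) +
        (biprod.inr : piece b G ⟶ piece a G ⊞ piece b G).hom.app (op T)
          ((biprod.snd : piece a G ⊞ piece b G ⟶ piece b G).hom.app (op T) z) := rfl
    rw [h1, h2, map_zero, map_zero, add_zero] at h4
    exact (h3.symm.trans h4)
  constructor
  · rw [injective_iff_map_eq_zero]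
    intro s hs
    have ha : G.obj.map (cMap a T).op s = 0 :=
      (hfst s).symm.trans ((congrArg _ hs).trans (map_zero _))
    have hb : G.obj.map (cMap b T).op s = 0 :=
      (hsnd s).symm.trans ((congrArg _ hs).trans (map_zero _))
    obtain ⟨s0, -, hu⟩ := existsUnique_glue₂ a b G hdisj hcov T 0 0
    rw [hu s ⟨ha, hb⟩, hu 0 ⟨map_zero _, map_zero _⟩]
  · intro z
    obtain ⟨s, ⟨hsa, hsb⟩, -⟩ := existsUnique_glue₂ a b G hdisj hcov T
      ((biprod.fst : piece a G ⊞ piece b G ⟶ piece a G).hom.app (op T) z)
      ((biprod.snd : piece a G ⊞ piece b G ⟶ piece b G).hom.app (op T) z)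
    refine ⟨s, ?_⟩
    rw [← sub_eq_zero]
    apply hjoint
    · rw [map_sub, hfst, hsa, sub_self]
    · rw [map_sub, hsnd, hsb, sub_self]

end Decomp

end Groth.Agent.H1.FinEtPush
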