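import Groth.Agent.Lib.Helper1.FinEtPushA
import Groth.Agent.Lib.Helper1.EtSplit
import Groth.Agent.Lib.Helper1.EtStalkPull
import Groth.Agent.Lib.Helper27.PullFunEt

/-!
# Direct images along finite étale morphisms: induction on the degree (helper1)
-/

set_option autoImplicit false
universe u
open CategoryTheory CategoryTheory.Limits AlgebraicGeometry Opposite TopologicalSpace

namespace Groth.Agent.H1.FinEtPush

open Groth.Agent.Lib.Helper18.JCont Groth.Agent.H1.FibRank Groth.Agent.H1.EtStalkPull

/-- the properties of sheaves to which the induction on the degree applies -/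
structure GoodProp (P : ∀ {X : Scheme.{u}}, EtCoh.Ab X → Prop) : Prop where
  iso : ∀ {X : Scheme.{u}} {F G : EtCoh.Ab X}, (F ≅ G) → P F → P G
  pull : ∀ {X Y : Scheme.{u}} (f : X ⟶ Y) (F : EtCoh.Ab Y), P F → P ((EtCoh.pull f).obj F)
  zero : ∀ {X : Scheme.{u}} [CompactSpace X] [QuasiSeparatedSpace X] (F : EtCoh.Ab X),
    IsZero F → P F
  biprod : ∀ {X : Scheme.{u}} (F G : EtCoh.Ab X), P F → P G → P (F ⊞ G)
  descent : ∀ {X Y : Scheme.{u}} [CompactSpace X] [QuasiSeparatedSpace X] [CompactSpace Y]
    [QuasiSeparatedSpace Y] (f : X ⟶ Y) [Surjective f] [Etale f] [IsFinite f] (F : EtCoh.Ab Y),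
    P ((EtCoh.pull f).obj F) → P F

variable {P : ∀ {X : Scheme.{u}}, EtCoh.Ab X → Prop}

theorem GoodProp.restr (hP : GoodProp @P) {U X : Scheme.{u}} (j : U ⟶ X) [Etale j]
    (F : EtCoh.Ab X) (hF : P F) : P ((EtShriek.restrAlong j).obj F) :=
  hP.iso ((restrIsoPull j).app F).symm (hP.pull j F hF)

theorem isZero_push_of_isEmpty {U T : Scheme.{u}} (p : U ⟶ T) [IsEmpty U] (F : EtCoh.Ab U) :
    IsZero ((EtCoh.push p).obj F) := by
  apply Groth.Agent.H1.EtFiltH.isZero_of_sections
  intro W _ s
  haveI : IsEmpty ((EtCoh.bc p).obj W).left :=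
    ⟨fun x => IsEmpty.false ((pullback.snd W.hom p).base x)⟩
  exact (Groth.Agent.H1.EtGerm.subsingleton_of_isEmpty F ((EtCoh.bc p).obj W)).elim _ _

theorem push_of_deg (hP : GoodProp @P) : ∀ (r : ℕ) {U T : Scheme.{u}} [CompactSpace T]
    [QuasiSeparatedSpace T] (p : U ⟶ T) [IsFinite p] [Etale p] (_ : ∀ t, deg p t = r)
    (F : EtCoh.Ab U), P F → P ((EtCoh.push p).obj F) := by
  intro r
  induction r with
  | zero =>
    intro U T _ _ p _ _ hdeg F _
    have hf := finFib_of_isFinite p
    haveI : IsEmpty U := ⟨fun x => by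
      have h1 := one_le_deg_map p hf x
      rw [hdeg] at h1
      omega⟩
    exact hP.zero _ (isZero_push_of_isEmpty p F)
  | succ r ih =>
    intro U T _ _ p _ _ hdeg F hF
    have hf := finFib_of_isFinite p
    haveI : CompactSpace U := QuasiCompact.compactSpace_of_compactSpace p
    haveI : QuasiSeparatedSpace U := quasiSeparatedSpace_of_quasiSeparated p
    haveI : Surjective p := ⟨fun t =>
      mem_range_of_one_le_deg p hf t (by rw [hdeg]; omega)⟩
    apply hP.descent p
    let q : pullback p p ⟶ U := pullback.snd p p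
    let Δ : U ⟶ pullback p p := pullback.diagonal p
    haveI : IsOpenImmersion Δ := inferInstance
    haveI : IsClosedImmersion Δ := inferInstance
    let D : (pullback p p).Opens := Δ.opensRange
    let D' : (pullback p p).Opens :=
      ⟨(Set.range Δ)ᶜ, Δ.isClosedEmbedding.isClosed_range.isOpen_compl⟩
    have hc : IsCompl D D' := by
      refine IsCompl.of_eq ?_ ?_
      · ext x
        simp only [D, D', Opens.coe_inf, Scheme.Hom.coe_opensRange, Opens.coe_mk, Opens.coe_bot,
          Set.inter_compl_self]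
      · ext x
        simp only [D, D', Opens.coe_sup, Scheme.Hom.coe_opensRange, Opens.coe_mk, Opens.coe_top,
          Set.union_compl_self]
    have sq : IsPullback (pullback.fst p p) q p p := IsPullback.of_hasPullback p p
    have hq : FinFib q := finFib_of_isPullback p hf sq
    have hdq : ∀ u', deg q u' = r + 1 := fun u' => by rw [deg_of_isPullback p hf sq, hdeg]
    have hΔq : Δ ≫ q = 𝟙 _ := pullback.diagonal_snd p
    have hDq : D.ι ≫ q = Δ.isoOpensRange.inv := by
      rw [← cancel_epi Δ.isoOpensRange.hom, Iso.hom_inv_id, ← Category.assoc,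
        Scheme.Hom.isoOpensRange_hom_ι, hΔq]
    haveI : IsIso (D.ι ≫ q) := by rw [hDq]; infer_instance
    have hd1 : ∀ u', deg (D.ι ≫ q) u' = 1 := by
      intro u'
      rw [deg_eq_finrank, Scheme.Hom.finrank_eq_one_of_isIso]
      rfl
    have hd' : ∀ u', deg (D'.ι ≫ q) u' = r := by
      intro u'
      have := deg_add_of_isCompl q hq D D' hc u'
      rw [hdq, hd1] at this
      omega
    haveI : IsClosedImmersion D'.ι := isClosedImmersion_ι_of_isCompl D' D hc.symm
    haveI : IsFinite (D'.ι ≫ q) := inferInstance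
    -- the sheaf upstairs
    let G : EtCoh.Ab (pullback p p) := (EtShriek.restrAlong (pullback.fst p p)).obj F
    have hG : P G := hP.restr (pullback.fst p p) F hF
    -- base change
    have e0 : (EtCoh.pull p).obj ((EtCoh.push p).obj F) ≅ (EtCoh.push q).obj G :=
      ((restrIsoPull p).app _).symm ≪≫ (pushRestrIso p p (pullback.fst p p) q sq).app F
    refine hP.iso e0.symm ?_
    -- decomposition
    have hdisj : Disjoint (Set.range Δ.base) (Set.range D'.ι.base) := by
      rw [Scheme.Opens.range_ι]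
      exact disjoint_compl_right
    have hcov : Set.range Δ.base ∪ Set.range D'.ι.base = Set.univ := by
      rw [Scheme.Opens.range_ι]
      exact Set.union_compl_self _
    haveI := isIso_decompMap Δ D'.ι G hdisj hcov
    have e1 : G ≅ piece Δ G ⊞ piece D'.ι G := asIso (decompMap Δ D'.ι G)
    haveI : PreservesBinaryBiproducts (EtCoh.push q) :=
      preservesBinaryBiproducts_of_preservesBinaryProducts _
    have e2 : (EtCoh.push q).obj G ≅
        (EtCoh.push q).obj (piece Δ G) ⊞ (EtCoh.push q).obj (piece D'.ι G) :=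
      (EtCoh.push q).mapIso e1 ≪≫ (EtCoh.push q).mapBiprod _ _
    refine hP.iso e2.symm (hP.biprod _ _ ?_ ?_)
    · -- the diagonal piece
      have e3 : (EtCoh.push q).obj (piece Δ G) ≅ (EtShriek.restrAlong Δ).obj G :=
        (EtCoh.pushComp q Δ).app _ ≪≫ (EtCoh.pushCongr hΔq).app _ ≪≫
          (Groth.Agent.Lib.helper27.PullFunEt.pushIdIso U).app _
      exact hP.iso e3.symm (hP.restr Δ G hG)
    · -- the complement
      have e4 : (EtCoh.push q).obj (piece D'.ι G) ≅
          (EtCoh.push (D'.ι ≫ q)).obj ((EtShriek.restrAlong D'.ι).obj G) :=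
        (EtCoh.pushComp q D'.ι).app _
      exact hP.iso e4.symm (ih (D'.ι ≫ q) hd' _ (hP.restr D'.ι G hG))

end Groth.Agent.H1.FinEtPush
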