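import Mathlib.AlgebraicGeometry.AffineScheme
import Mathlib.Topology.Sheaves.SheafCondition.UniqueGluing

set_option autoImplicit false
universe u

namespace Groth.Agent.H1.GlueAff

open CategoryTheory CategoryTheory.Limits AlgebraicGeometry Opposite TopologicalSpace

/-- sections of the structure sheaf glue from a compatible family on affine opens -/
theorem exists_glue_affine (X : Scheme.{u}) (Ω : X.Opens)
    (b : ∀ V : X.Opens, IsAffineOpen V → V ≤ Ω → Γ(X, V))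
    (hb : ∀ (V V' : X.Opens) (hV : IsAffineOpen V) (hV' : IsAffineOpen V') (hVΩ : V ≤ Ω)
      (hV'Ω : V' ≤ Ω) (h : V' ≤ V),
      X.presheaf.map (homOfLE h).op (b V hV hVΩ) = b V' hV' hV'Ω) :
    ∃ s : Γ(X, Ω), ∀ (V : X.Opens) (hV : IsAffineOpen V) (hVΩ : V ≤ Ω),
      X.presheaf.map (homOfLE hVΩ).op s = b V hV hVΩ := by
  let ι := {V : X.Opens // IsAffineOpen V ∧ V ≤ Ω}
  let Uf : ι → X.Opens := fun i => i.1
  have hcover : Ω ≤ iSup Uf := by
    intro x hx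
    obtain ⟨_, ⟨V, hV, rfl⟩, hxV, hVΩ⟩ :=
      X.isBasis_affineOpens.exists_subset_of_mem_open hx Ω.isOpen
    exact Opens.mem_iSup.mpr ⟨⟨V, hV, hVΩ⟩, hxV⟩
  have hcompat : TopCat.Presheaf.IsCompatible X.presheaf Uf (fun i => b i.1 i.2.1 i.2.2) := by
    intro i j
    refine X.IsSheaf.section_ext fun x hx => ?_
    obtain ⟨_, ⟨V, hV, rfl⟩, hxV, hVij⟩ :=
      X.isBasis_affineOpens.exists_subset_of_mem_open hx (Uf i ⊓ Uf j).isOpen
    refine ⟨V, hVij, hxV, ?_⟩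
    have h1 : V ≤ i.1 := hVij.trans inf_le_left
    have h2 : V ≤ j.1 := hVij.trans inf_le_right
    rw [← ConcreteCategory.comp_apply, ← ConcreteCategory.comp_apply, ← Functor.map_comp,
      ← Functor.map_comp]
    exact (hb i.1 V i.2.1 hV i.2.2 (h1.trans i.2.2) h1).trans
      (hb j.1 V j.2.1 hV j.2.2 (h1.trans i.2.2) h2).symm
  obtain ⟨s, hs, -⟩ := X.sheaf.existsUnique_gluing' Uf Ω (fun i => homOfLE i.2.2) hcover
    (fun i => b i.1 i.2.1 i.2.2) hcompat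
  exact ⟨s, fun V hV hVΩ => hs ⟨V, hV, hVΩ⟩⟩

/-- a section vanishing on all affine opens vanishes -/
theorem eq_zero_of_affine (X : Scheme.{u}) (Ω : X.Opens) (s : Γ(X, Ω))
    (hs : ∀ (V : X.Opens) (_ : IsAffineOpen V) (hVΩ : V ≤ Ω),
      X.presheaf.map (homOfLE hVΩ).op s = 0) : s = 0 := by
  refine X.IsSheaf.section_ext fun x hx => ?_
  obtain ⟨_, ⟨V, hV, rfl⟩, hxV, hVΩ⟩ :=
    X.isBasis_affineOpens.exists_subset_of_mem_open hx Ω.isOpen
  exact ⟨V, hVΩ, hxV, by rw [hs V hV hVΩ, map_zero]⟩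

end Groth.Agent.H1.GlueAff
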