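import Mathlib.RingTheory.IsTensorProduct
import Mathlib.Algebra.Category.Ring.Constructions

/-!
# Coefficients in a pushout of commutative rings (helper1)
-/

set_option autoImplicit false
set_option linter.style.haveILetI false
universe u

namespace Groth.Agent.H1.PushCoef

open CategoryTheory CategoryTheory.Limits

variable {R A B C : Type u} [CommRing R] [CommRing A] [CommRing B] [CommRing C]
  (α : R →+* A) (β : R →+* B) (b' : B →+* C) (a' : A →+* C)
  (h : IsPushout (CommRingCat.ofHom β) (CommRingCat.ofHom α) (CommRingCat.ofHom b')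
    (CommRingCat.ofHom a'))

include h in
theorem algebra_isPushout :
    letI := α.toAlgebra
    letI := β.toAlgebra
    letI := b'.toAlgebra
    letI := a'.toAlgebra
    letI := (b'.comp β).toAlgebra
    haveI : IsScalarTower R B C := .of_algebraMap_eq' rfl
    haveI : IsScalarTower R A C := .of_algebraMap_eq' (by
      have := congrArg (fun t => t.hom) h.w
      exact this)
    Algebra.IsPushout R B A C := by
  letI := α.toAlgebra
  letI := β.toAlgebra
  letI := b'.toAlgebra
  letI := a'.toAlgebra
  letI := (b'.comp β).toAlgebra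
  haveI : IsScalarTower R B C := .of_algebraMap_eq' rfl
  haveI : IsScalarTower R A C := .of_algebraMap_eq' (by
    have := congrArg (fun t => t.hom) h.w
    exact this)
  exact (CommRingCat.isPushout_iff_isPushout (R := R) (S := A) (R' := B) (S' := C)).mp h

include h in
/-- induction principle for elements of a pushout -/
theorem pushout_induction (motive : C → Prop) (zero : motive 0) (ha : ∀ a, motive (a' a))
    (hb : ∀ b c, motive c → motive (b' b * c))
    (hadd : ∀ c₁ c₂, motive c₁ → motive c₂ → motive (c₁ + c₂)) (c : C) : motive c := by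
  letI := α.toAlgebra
  letI := β.toAlgebra
  letI := b'.toAlgebra
  letI := a'.toAlgebra
  letI := (b'.comp β).toAlgebra
  haveI : IsScalarTower R B C := .of_algebraMap_eq' rfl
  haveI : IsScalarTower R A C := .of_algebraMap_eq' (by
    have := congrArg (fun t => t.hom) h.w
    exact this)
  have hp : Algebra.IsPushout R B A C := algebra_isPushout α β b' a' h
  refine hp.out.inductionOn c motive zero ha ?_ hadd
  intro s n hn
  rw [Algebra.smul_def]
  exact hb s n hn

include h in
/-- existence of the coefficient map -/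
theorem exists_coef (φ : A →+ R) (hφ : ∀ r a, φ (α r * a) = r * φ a) :
    ∃ ψ : C →+ B, (∀ b c, ψ (b' b * c) = b * ψ c) ∧ (∀ a, ψ (a' a) = β (φ a)) := by
  letI := α.toAlgebra
  letI := β.toAlgebra
  letI := b'.toAlgebra
  letI := a'.toAlgebra
  letI := (b'.comp β).toAlgebra
  haveI : IsScalarTower R B C := .of_algebraMap_eq' rfl
  haveI : IsScalarTower R A C := .of_algebraMap_eq' (by
    have := congrArg (fun t => t.hom) h.w
    exact this)
  have hp : Algebra.IsPushout R B A C := algebra_isPushout α β b' a' h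
  let φl : A →ₗ[R] R :=
    { toFun := φ
      map_add' := map_add φ
      map_smul' := fun r a => by
        rw [Algebra.smul_def]
        exact hφ r a }
  let ψ : C →ₗ[B] B := hp.out.lift ((Algebra.linearMap R B).comp φl)
  refine ⟨ψ.toAddMonoidHom, ?_, ?_⟩
  · intro b c
    change ψ (b' b * c) = b * ψ c
    rw [← smul_eq_mul (a := b), ← map_smul, Algebra.smul_def]
    rfl
  · intro a
    exact hp.out.lift_eq _ a

include h in
/-- reconstruction of an element from its coefficients -/
theorem reconstruct {n : ℕ} (e : Fin n → A) (φ : Fin n → (A →+ R))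
    (hφe : ∀ a : A, a = ∑ k, α (φ k a) * e k)
    (ψ : Fin n → (C →+ B)) (hψb : ∀ k b c, ψ k (b' b * c) = b * ψ k c)
    (hψa : ∀ k a, ψ k (a' a) = β (φ k a)) (c : C) :
    c = ∑ k, a' (e k) * b' (ψ k c) := by
  have hw : ∀ r, a' (α r) = b' (β r) := fun r =>
    (congrArg (fun t => t.hom r) h.w).symm
  refine pushout_induction α β b' a' h (fun c => c = ∑ k, a' (e k) * b' (ψ k c)) ?_ ?_ ?_ ?_ c
  · simp
  · intro a
    conv_lhs => rw [hφe a]
    rw [map_sum]
    refine Finset.sum_congr rfl fun k _ => ?_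
    rw [map_mul, hψa, hw, mul_comm]
  · intro b c hc
    conv_lhs => rw [hc]
    rw [Finset.mul_sum]
    refine Finset.sum_congr rfl fun k _ => ?_
    rw [hψb, map_mul]
    ring
  · intro c₁ c₂ h₁ h₂
    conv_lhs => rw [h₁, h₂]
    rw [← Finset.sum_add_distrib]
    refine Finset.sum_congr rfl fun k _ => ?_
    rw [map_add, map_add, mul_add]

include h in
/-- compatibility of coefficient maps with a morphism of squares -/
theorem coef_compat {B₂ C₂ : Type u} [CommRing B₂] [CommRing C₂]
    (β₂ : R →+* B₂) (b₂' : B₂ →+* C₂) (a₂' : A →+* C₂)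
    (rB : B →+* B₂) (rC : C →+* C₂)
    (hR : ∀ r, rB (β r) = β₂ r) (hA : ∀ a, rC (a' a) = a₂' a)
    (hB : ∀ b, rC (b' b) = b₂' (rB b))
    (φ : A →+ R) (ψ : C →+ B) (ψ₂ : C₂ →+ B₂)
    (hψb : ∀ b c, ψ (b' b * c) = b * ψ c) (hψa : ∀ a, ψ (a' a) = β (φ a))
    (hψ₂b : ∀ b c, ψ₂ (b₂' b * c) = b * ψ₂ c) (hψ₂a : ∀ a, ψ₂ (a₂' a) = β₂ (φ a)) (c : C) :
    ψ₂ (rC c) = rB (ψ c) := by
  refine pushout_induction α β b' a' h (fun c => ψ₂ (rC c) = rB (ψ c)) ?_ ?_ ?_ ?_ c
  · simp
  · intro a
    rw [hA, hψ₂a, hψa, hR]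
  · intro b c hc
    rw [map_mul, hB, hψ₂b, hc, hψb, map_mul]
  · intro c₁ c₂ h₁ h₂
    rw [map_add, map_add, h₁, h₂, map_add, map_add]

end Groth.Agent.H1.PushCoef
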