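import Mathlib.AlgebraicGeometry.Morphisms.Flat
import Mathlib.RingTheory.Finiteness.Projective
import Mathlib.RingTheory.Flat.EquationalCriterion
import Mathlib.RingTheory.Finiteness.ModuleFinitePresentation
import Mathlib.AlgebraicGeometry.Morphisms.Finite
import Mathlib.AlgebraicGeometry.Morphisms.FinitePresentation
import Groth.Agent.Lib.Helper1.PushCoef
import Groth.Agent.Lib.Helper1.GlueAff

set_option autoImplicit false
universe u

namespace Groth.Agent.H1.FinProjSec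

open CategoryTheory CategoryTheory.Limits AlgebraicGeometry Opposite TopologicalSpace
open Groth.Agent.H1.PushCoef Groth.Agent.H1.GlueAff

variable {W X Y S : Scheme.{u}} {ρ : W ⟶ X} {π : W ⟶ Y} {f : X ⟶ S} {p : Y ⟶ S}
  (H : IsPullback ρ π f p)

include H in
theorem isPushout_sections [IsAffineHom p] {U : S.Opens} (hU : IsAffineOpen U) {V : X.Opens}
    (hV : IsAffineOpen V) (hVU : V ≤ f ⁻¹ᵁ U) :
    IsPushout (CommRingCat.ofHom (f.appLE U V hVU).hom) (CommRingCat.ofHom (p.app U).hom)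
      (CommRingCat.ofHom (ρ.appLE V (ρ ⁻¹ᵁ V ⊓ π ⁻¹ᵁ p ⁻¹ᵁ U) inf_le_left).hom)
      (CommRingCat.ofHom (π.appLE (p ⁻¹ᵁ U) (ρ ⁻¹ᵁ V ⊓ π ⁻¹ᵁ p ⁻¹ᵁ U) inf_le_right).hom) := by
  have h1 := isIso_pushoutSection_of_isAffineOpen H (US := U) (UT := p ⁻¹ᵁ U) (UX := V)
    le_rfl hVU rfl hU (hU.preimage p) hV
  have h2 := (isIso_pushoutSection_iff H le_rfl hVU rfl).mp h1
  rw [Scheme.Hom.app_eq_appLE]
  simpa only [CommRingCat.ofHom_hom] using h2

theorem appLE_apply {X Y : Scheme.{u}} (g : X ⟶ Y) (U : Y.Opens) (V : X.Opens) (e : V ≤ g ⁻¹ᵁ U)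
    (x : Γ(Y, U)) : g.appLE U V e x = X.presheaf.map (homOfLE e).op (g.app U x) := rfl

theorem map_map_apply {X : Scheme.{u}} {U V W : X.Opens} (h₁ : V ≤ U) (h₂ : W ≤ V) (x : Γ(X, U)) :
    X.presheaf.map (homOfLE h₂).op (X.presheaf.map (homOfLE h₁).op x) =
      X.presheaf.map (homOfLE (h₂.trans h₁)).op x := by
  rw [← ConcreteCategory.comp_apply, ← Functor.map_comp]
  rfl

include H in
theorem preimage_eq (U : S.Opens) : π ⁻¹ᵁ p ⁻¹ᵁ U = ρ ⁻¹ᵁ f ⁻¹ᵁ U := by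
  rw [← Scheme.Hom.comp_preimage, ← Scheme.Hom.comp_preimage, H.w]

include H in
theorem app_injective [IsAffineHom p] (U : S.Opens) (hU : IsAffineOpen U)
    (hf : Function.Injective (f.app U))
    {n : ℕ} (e : Fin n → Γ(Y, p ⁻¹ᵁ U)) (φ : Fin n → (Γ(Y, p ⁻¹ᵁ U) →+ Γ(S, U)))
    (hφ : ∀ k r a, φ k (p.app U r * a) = r * φ k a)
    (hφe : ∀ a, a = ∑ k, p.app U (φ k a) * e k) :
    Function.Injective (π.app (p ⁻¹ᵁ U)) := by
  refine (injective_iff_map_eq_zero (π.app (p ⁻¹ᵁ U)).hom).mpr fun a ha => ?_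
  have hk : ∀ k, φ k a = 0 := by
    intro k
    apply hf
    rw [map_zero]
    refine eq_zero_of_affine X (f ⁻¹ᵁ U) _ fun V hV hVU => ?_
    obtain ⟨ψ, -, hψa⟩ := exists_coef _ _ _ _ (isPushout_sections H hU hV hVU) (φ k) (hφ k)
    have h1 := hψa a
    have h2 : (π.appLE (p ⁻¹ᵁ U) (ρ ⁻¹ᵁ V ⊓ π ⁻¹ᵁ p ⁻¹ᵁ U) inf_le_right).hom a = 0 := by
      change W.presheaf.map (homOfLE _).op (π.app (p ⁻¹ᵁ U) a) = 0
      have : π.app (p ⁻¹ᵁ U) a = 0 := ha
      rw [this, map_zero]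
    rw [h2, map_zero] at h1
    exact h1.symm
  rw [hφe a]
  refine Finset.sum_eq_zero fun k _ => ?_
  rw [hk k, map_zero, zero_mul]

include H in
theorem app_surjective [IsAffineHom p] (U : S.Opens) (hU : IsAffineOpen U)
    (hf : Function.Surjective (f.app U))
    {n : ℕ} (e : Fin n → Γ(Y, p ⁻¹ᵁ U)) (φ : Fin n → (Γ(Y, p ⁻¹ᵁ U) →+ Γ(S, U)))
    (hφ : ∀ k r a, φ k (p.app U r * a) = r * φ k a)
    (hφe : ∀ a, a = ∑ k, p.app U (φ k a) * e k) :
    Function.Surjective (π.app (p ⁻¹ᵁ U)) := by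
  intro c
  -- the coefficient maps
  have hex := fun (V : X.Opens) (hV : IsAffineOpen V) (hVU : V ≤ f ⁻¹ᵁ U) (k : Fin n) =>
    exists_coef _ _ _ _ (isPushout_sections H hU hV hVU) (φ k) (hφ k)
  choose ψ hψb hψa using hex
  -- the local coefficients of `c`
  let cV : ∀ V : X.Opens, Γ(W, ρ ⁻¹ᵁ V ⊓ π ⁻¹ᵁ p ⁻¹ᵁ U) := fun V =>
    W.presheaf.map (homOfLE (inf_le_right : ρ ⁻¹ᵁ V ⊓ π ⁻¹ᵁ p ⁻¹ᵁ U ≤ π ⁻¹ᵁ p ⁻¹ᵁ U)).op c
  have hglue : ∀ k : Fin n, ∃ s : Γ(X, f ⁻¹ᵁ U), ∀ (V : X.Opens) (hV : IsAffineOpen V)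
      (hVU : V ≤ f ⁻¹ᵁ U), X.presheaf.map (homOfLE hVU).op s = ψ V hV hVU k (cV V) := by
    intro k
    refine exists_glue_affine X (f ⁻¹ᵁ U) (fun V hV hVU => ψ V hV hVU k (cV V)) ?_
    intro V V' hV hV' hVU hV'U hle
    have hle' : ρ ⁻¹ᵁ V' ⊓ π ⁻¹ᵁ p ⁻¹ᵁ U ≤ ρ ⁻¹ᵁ V ⊓ π ⁻¹ᵁ p ⁻¹ᵁ U :=
      inf_le_inf_right _ (ρ.preimage_mono hle)
    have := coef_compat _ _ _ _ (isPushout_sections H hU hV hVU)
      (f.appLE U V' hV'U).hom (ρ.appLE V' (ρ ⁻¹ᵁ V' ⊓ π ⁻¹ᵁ p ⁻¹ᵁ U) inf_le_left).hom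
      (π.appLE (p ⁻¹ᵁ U) (ρ ⁻¹ᵁ V' ⊓ π ⁻¹ᵁ p ⁻¹ᵁ U) inf_le_right).hom
      (X.presheaf.map (homOfLE hle).op).hom (W.presheaf.map (homOfLE hle').op).hom
      ?_ ?_ ?_ (φ k) (ψ V hV hVU k) (ψ V' hV' hV'U k) (hψb V hV hVU k) (hψa V hV hVU k)
      (hψb V' hV' hV'U k) (hψa V' hV' hV'U k) (cV V)
    · exact this.symm.trans (congrArg (ψ V' hV' hV'U k) (map_map_apply _ _ c))
    · intro r
      exact map_map_apply _ _ _
    · intro a
      exact map_map_apply _ _ _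
    · intro b
      change W.presheaf.map (homOfLE hle').op (ρ.appLE V _ _ b) =
        ρ.appLE V' _ _ (X.presheaf.map (homOfLE hle).op b)
      rw [← ConcreteCategory.comp_apply, ← ConcreteCategory.comp_apply, Scheme.Hom.appLE_map,
        Scheme.Hom.map_appLE]
  choose s hs using hglue
  choose r hr using fun k => hf (s k)
  refine ⟨∑ k, p.app U (r k) * e k, ?_⟩
  refine W.IsSheaf.section_ext fun x hx => ?_
  have hx' : ρ x ∈ f ⁻¹ᵁ U := by
    have : x ∈ ρ ⁻¹ᵁ f ⁻¹ᵁ U := (preimage_eq H U) ▸ hx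
    exact this
  obtain ⟨_, ⟨V, hV, rfl⟩, hxV, hVU⟩ :=
    X.isBasis_affineOpens.exists_subset_of_mem_open hx' (f ⁻¹ᵁ U).isOpen
  refine ⟨ρ ⁻¹ᵁ V ⊓ π ⁻¹ᵁ p ⁻¹ᵁ U, inf_le_right, ⟨hxV, hx⟩, ?_⟩
  have hrec := reconstruct _ _ _ _ (isPushout_sections H hU hV hVU) e φ hφe
    (fun k => ψ V hV hVU k) (fun k => hψb V hV hVU k) (fun k => hψa V hV hVU k) (cV V)
  refine Eq.trans ?_ hrec.symm
  change (π.appLE (p ⁻¹ᵁ U) (ρ ⁻¹ᵁ V ⊓ π ⁻¹ᵁ p ⁻¹ᵁ U) inf_le_right).hom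
    (∑ k, p.app U (r k) * e k) = _
  rw [map_sum]
  refine Finset.sum_congr rfl fun k _ => ?_
  rw [map_mul, mul_comm]
  congr 1
  rw [← hs k V hV hVU, ← hr k]
  have hw := (isPushout_sections H hU hV hVU).w
  have := congrArg (fun t => t.hom (r k)) hw
  exact this.symm

/-- a dual basis of a finite projective algebra, in elementary form -/
theorem exists_dual_basis_of_ringHom {R A : Type u} [CommRing R] [CommRing A] (α : R →+* A)
    (h1 : α.Finite) (h2 : α.Flat) (h3 : α.FinitePresentation) :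
    ∃ (n : ℕ) (e : Fin n → A) (φ : Fin n → (A →+ R)),
      (∀ k r a, φ k (α r * a) = r * φ k a) ∧ (∀ a, a = ∑ k, α (φ k a) * e k) := by
  algebraize [α]
  have hfp : Module.FinitePresentation R A :=
    (Module.FinitePresentation.iff_finitePresentation_of_finite (R := R) (S := A)).mpr
      inferInstance
  have hproj : Module.Projective R A := Module.Flat.projective_of_finitePresentation
  obtain ⟨n, F, G, -, -, hFG⟩ := Module.Finite.exists_comp_eq_id_of_projective R A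
  refine ⟨n, fun k => F (Pi.single k 1),
    fun k => ((LinearMap.proj k).comp G).toAddMonoidHom, ?_, ?_⟩
  · intro k r a
    change G (α r * a) k = r * G a k
    have : α r * a = r • a := (Algebra.smul_def r a).symm
    rw [this, map_smul]
    rfl
  · intro a
    have h1 : a = F (G a) := (LinearMap.congr_fun hFG a).symm
    conv_lhs => rw [h1]
    have h2 : G a = ∑ k, G a k • (Pi.single k (1 : R) : Fin n → R) := by
      ext j
      simp [Finset.sum_apply, Pi.single_apply]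
    conv_lhs => rw [h2]
    rw [map_sum]
    refine Finset.sum_congr rfl fun k _ => ?_
    rw [map_smul, Algebra.smul_def]
    rfl

include H in
/-- **Sections of a finite locally free base change**: if `p` is finite, flat and locally of finite
presentation and `𝒪_S(U) → 𝒪_X(f⁻¹U)` is bijective, then so is `𝒪_Y(p⁻¹U) → 𝒪_W(π⁻¹p⁻¹U)`. -/
theorem app_bijective [IsFinite p] [Flat p] [LocallyOfFinitePresentation p] (U : S.Opens)
    (hU : IsAffineOpen U) (hf : Function.Bijective (f.app U)) :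
    Function.Bijective (π.app (p ⁻¹ᵁ U)) := by
  have h1 : (p.app U).hom.Finite := p.finite_app U hU
  have h2 : (p.app U).hom.Flat := by
    rw [Scheme.Hom.app_eq_appLE]
    exact p.flat_appLE hU (hU.preimage p) le_rfl
  have h3 : (p.app U).hom.FinitePresentation := by
    rw [Scheme.Hom.app_eq_appLE]
    exact p.finitePresentation_appLE hU (hU.preimage p) le_rfl
  obtain ⟨n, e, φ, hφ, hφe⟩ := exists_dual_basis_of_ringHom (p.app U).hom h1 h2 h3
  exact ⟨app_injective H U hU hf.1 e φ hφ hφe, app_surjective H U hU hf.2 e φ hφ hφe⟩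

end Groth.Agent.H1.FinProjSec
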