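import Groth.Agent.Lib.Helper1.ClosedDense
import Groth.Agent.Lib.Helper1.EtStalkPull
import Groth.Agent.S0649

set_option autoImplicit false
universe u

namespace Groth.Agent.H1.FinPushStalk

open CategoryTheory CategoryTheory.Limits Opposite GrothendieckTopology AlgebraicGeometry
open Groth.Agent.H1.EtStalk Groth.Agent.H1.EtGerm Groth.Agent.H1.EtStalkPull

/-- a section which vanishes etale locally around every point is zero -/
theorem eq_zero_of_locally {X : Scheme.{u}} (G : EtCoh.Ab X) (E : X.Etale) (s : G.obj.obj (op E))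
    (h : ∀ e : E.left, ∃ (N : X.Etale) (n : N ⟶ E), e ∈ Set.range n.left.base ∧
      G.obj.map n.op s = 0) : s = 0 := by
  let S : Sieve E :=
    { arrows := fun N n => G.obj.map n.op s = 0
      downward_closed := by
        intro N N' n hn k
        rw [op_comp, Functor.map_comp]
        change G.obj.map k.op (G.obj.map n.op s) = 0
        rw [hn, map_zero] }
  have hcov : S ∈ X.smallEtaleTopology E := by
    apply Groth.Agent.H1.ClosedDense.mem_smallEtaleTopology
    intro e
    obtain ⟨N, n, ⟨y, hy⟩, hn⟩ := h e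
    exact ⟨N, n, y, hn, hy⟩
  refine Sheaf.isSeparated G E S hcov s 0 (fun N n hn => ?_)
  change G.obj.map n.op s = G.obj.map n.op 0
  rw [map_zero]
  exact hn

/-- the open locus where a section vanishes etale locally -/
def vanishLocus {X : Scheme.{u}} (G : EtCoh.Ab X) (T : X.Etale) (s : G.obj.obj (op T)) :
    Set T.left :=
  {t | ∃ (N : X.Etale) (n : N ⟶ T), t ∈ Set.range n.left.base ∧ G.obj.map n.op s = 0}

theorem isOpen_vanishLocus {X : Scheme.{u}} (G : EtCoh.Ab X) (T : X.Etale)
    (s : G.obj.obj (op T)) : IsOpen (vanishLocus G T s) := by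
  rw [isOpen_iff_forall_mem_open]
  rintro t ⟨N, n, ht, hn⟩
  have := etale_left n
  refine ⟨Set.range n.left.base, ?_, n.left.isOpenMap.isOpen_range, ht⟩
  intro t' ht'
  exact ⟨N, n, ht', hn⟩

/-- the vanishing locus as an open subscheme -/
def vanishOpen {X : Scheme.{u}} (G : EtCoh.Ab X) (T : X.Etale) (s : G.obj.obj (op T)) :
    T.left.Opens := ⟨vanishLocus G T s, isOpen_vanishLocus G T s⟩

theorem map_restrictOpenι_vanishOpen {X : Scheme.{u}} (G : EtCoh.Ab X) (T : X.Etale)
    (s : G.obj.obj (op T)) :
    G.obj.map (restrictOpenι T (vanishOpen G T s)).op s = 0 := by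
  apply eq_zero_of_locally
  intro e
  obtain ⟨N, n, ⟨x, hx⟩, hn⟩ : (vanishOpen G T s).ι.base e ∈ vanishLocus G T s := by
    have := e.2
    simp
  have hr : Set.range n.left.base ⊆ Set.range (vanishOpen G T s).ι.base := by
    rw [Scheme.Opens.range_ι]
    intro t' ht'
    exact ⟨N, n, ht', hn⟩
  let l : N.left ⟶ (vanishOpen G T s).toScheme := IsOpenImmersion.lift (vanishOpen G T s).ι n.left hr
  have hl : l ≫ (vanishOpen G T s).ι = n.left := IsOpenImmersion.lift_fac _ _ hr
  let n' : N ⟶ restrictOpen T (vanishOpen G T s) :=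
    MorphismProperty.Over.homMk l (by
      change l ≫ (vanishOpen G T s).ι ≫ T.hom = N.hom
      rw [← Category.assoc, hl]
      exact MorphismProperty.Over.w n) trivial
  have hn' : n' ≫ restrictOpenι T (vanishOpen G T s) = n :=
    MorphismProperty.Over.Hom.ext hl
  refine ⟨N, n', ⟨x, ?_⟩, ?_⟩
  · apply (vanishOpen G T s).ι.isOpenEmbedding.injective
    rw [← hx, ← hl]
    rfl
  · change (G.obj.map (restrictOpenι T (vanishOpen G T s)).op ≫ G.obj.map n'.op) s = 0
    rw [← Functor.map_comp, ← op_comp, hn']
    exact hn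


/-- **Stalks of a finite direct image**: the stalk of `f_* G` at `ξ` vanishes as soon as the stalks
of `G` vanish at all geometric points of `X` over the point of `ξ` -/
theorem isZero_stalk_push_of_finite {X Y : Scheme.{u}} (f : X ⟶ Y) [IsFinite f] (G : EtCoh.Ab X)
    {Ω : Type u} [Field Ω] [IsSepClosed Ω] (ξ : Spec (CommRingCat.of Ω) ⟶ Y)
    (hG : ∀ (Ω' : Type u) [Field Ω'] [IsSepClosed Ω'] (x : Spec (CommRingCat.of Ω') ⟶ X),
      (x ≫ f).base default = ξ.base default → IsZero ((EtCoh.stalk x).obj G)) :
    IsZero ((EtCoh.stalk ξ).obj ((EtCoh.push f).obj G)) := by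
  have hsub : Subsingleton ((EtCoh.stalk ξ).obj ((EtCoh.push f).obj G)) := by
    suffices h : ∀ p : (EtCoh.stalk ξ).obj ((EtCoh.push f).obj G), p = 0 from
      ⟨fun a b => (h a).trans (h b).symm⟩
    intro p
    obtain ⟨W, w, s, rfl⟩ := germ_surjective ((EtCoh.push f).obj G) p
    rw [germ_eq_zero_iff]
    -- the section `s` lives over `T = X ×_Y W`
    obtain ⟨T, hT⟩ : ∃ T : X.Etale, T = (EtCoh.bc f).obj W := ⟨_, rfl⟩
    obtain ⟨s', hs'⟩ : ∃ s' : G.obj.obj (op ((EtCoh.bc f).obj W)), s' = s := ⟨s, rfl⟩
    let π : ((EtCoh.bc f).obj W).left ⟶ W.left := pullback.fst W.hom f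
    have hπ : IsFinite π := inferInstanceAs (IsFinite (pullback.fst W.hom f))
    have hcond : π ≫ W.hom = ((EtCoh.bc f).obj W).hom ≫ f := pullback.condition
    let O := vanishOpen G ((EtCoh.bc f).obj W) s'
    -- the fibre over the point of `w` lies in the vanishing locus
    have hfib : ∀ t : ((EtCoh.bc f).obj W).left, π.base t = w.hom.base default → t ∈ O := by
      intro t ht
      let tb := geomPt ((EtCoh.bc f).obj W).left t
      let y : Lift (tb ≫ ((EtCoh.bc f).obj W).hom) ((EtCoh.bc f).obj W) := Lift.mk _ tb rfl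
      have hz : IsZero ((EtCoh.stalk (tb ≫ ((EtCoh.bc f).obj W).hom)).obj G) := by
        apply hG
        rw [Category.assoc, ← hcond, ← Category.assoc, Scheme.Hom.comp_base, TopCat.comp_app,
          Scheme.Hom.comp_base, TopCat.comp_app]
        have e1 : tb.base default = t := geomPt_default _ t
        rw [e1, ht, ← TopCat.comp_app, ← Scheme.Hom.comp_base, w.hom_comp]
      have hg : germ _ G _ y s' = 0 := (AddCommGrpCat.subsingleton_of_isZero hz).elim _ _
      rw [germ_eq_zero_iff] at hg
      obtain ⟨N, n, yN, hyN, hn⟩ := hg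
      refine ⟨N, n, ⟨yN.hom.base default, ?_⟩, hn⟩
      have e1 : tb.base default = t := geomPt_default _ t
      refine Eq.trans ?_ e1
      have e2 : (Lift.map n yN).hom = y.hom := congrArg Lift.hom hyN
      rw [Lift.map_hom] at e2
      exact congrArg (fun g : Spec _ ⟶ ((EtCoh.bc f).obj W).left => g.base default) e2
    -- the image of the complement is closed and misses the point
    let C : Set W.left := π.base '' (O : Set ((EtCoh.bc f).obj W).left)ᶜ
    have hC : IsClosed C := π.isClosedMap _ O.isOpen.isClosed_compl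
    have hw : w.hom.base default ∉ C := by
      rintro ⟨t, ht, hπt⟩
      exact ht (hfib t hπt)
    let W'o : W.left.Opens := ⟨Cᶜ, hC.isOpen_compl⟩
    obtain ⟨w', hw'⟩ := exists_lift_restrictOpen W'o w hw
    refine ⟨restrictOpen W W'o, restrictOpenι W W'o, w', hw', ?_⟩
    -- the restriction of `s` to `X ×_Y W'` factors through the vanishing locus
    have hr : Set.range ((EtCoh.bc f).map (restrictOpenι W W'o)).left.base ⊆
        Set.range O.ι.base := by
      rw [Scheme.Opens.range_ι]
      rintro _ ⟨t', rfl⟩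
      by_contra hcon
      have h1 : π.base (((EtCoh.bc f).map (restrictOpenι W W'o)).left.base t') ∈ C :=
        ⟨_, hcon, rfl⟩
      have h2 := Groth.Agent.S0649.bc_map_fst f (restrictOpenι W W'o)
      have h3 : π.base (((EtCoh.bc f).map (restrictOpenι W W'o)).left.base t') =
          (restrictOpenι W W'o).left.base
            ((pullback.fst (restrictOpen W W'o).hom f).base t') := by
        rw [← TopCat.comp_app, ← Scheme.Hom.comp_base, h2]
        rfl
      rw [h3] at h1
      have h4 : (restrictOpenι W W'o).left.base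
          ((pullback.fst (restrictOpen W W'o).hom f).base t') ∈ W'o := by
        change W'o.ι.base _ ∈ W'o
        exact ((pullback.fst (restrictOpen W W'o).hom f).base t').2
      exact h4 h1
    let l := IsOpenImmersion.lift O.ι ((EtCoh.bc f).map (restrictOpenι W W'o)).left hr
    have hl : l ≫ O.ι = ((EtCoh.bc f).map (restrictOpenι W W'o)).left :=
      IsOpenImmersion.lift_fac _ _ hr
    let m : (EtCoh.bc f).obj (restrictOpen W W'o) ⟶ restrictOpen ((EtCoh.bc f).obj W) O :=
      MorphismProperty.Over.homMk l (by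
        change l ≫ O.ι ≫ ((EtCoh.bc f).obj W).hom = _
        rw [← Category.assoc, hl]
        exact MorphismProperty.Over.w ((EtCoh.bc f).map (restrictOpenι W W'o))) trivial
    have hm : m ≫ restrictOpenι ((EtCoh.bc f).obj W) O = (EtCoh.bc f).map (restrictOpenι W W'o) :=
      MorphismProperty.Over.Hom.ext hl
    change G.obj.map ((EtCoh.bc f).map (restrictOpenι W W'o)).op s = 0
    rw [← hs', ← hm, op_comp, Functor.map_comp]
    change G.obj.map m.op (G.obj.map (restrictOpenι ((EtCoh.bc f).obj W) O).op s') = 0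
    rw [map_restrictOpenι_vanishOpen, map_zero]
  exact AddCommGrpCat.isZero_of_subsingleton _

end Groth.Agent.H1.FinPushStalk
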