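import Groth.Agent.Lib.Helper1.FinStalk
import Groth.Prelude.Def_SGA4b

/-!
# Stalks of the direct image of a sheaf of sets along a finite morphism (helper1)
-/

set_option autoImplicit false
universe u

namespace Groth.Agent.H1.FinStalkSh

open CategoryTheory CategoryTheory.Limits Opposite GrothendieckTopology AlgebraicGeometry
open Groth.Agent.H1.EtStalk Groth.Agent.H1.EtGerm Groth.Agent.H1.PullGerm
  Groth.Agent.H1.FinStalkGeom Groth.Agent.H1.FinStalk

variable {X : Scheme.{u}}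

section Germ

variable {Ω : Type u} [Field Ω] [IsSepClosed Ω] (ξ : Spec (CommRingCat.of Ω) ⟶ X)

/-- the stalk functor on sheaves of sets -/
noncomputable abbrev stalkS : EtDesc.Sh X ⥤ Type (u + 1) :=
  (Scheme.pointSmallEtale ξ).sheafFiber (A := Type (u + 1))

/-- the germ map for sheaves of sets -/
noncomputable def germS (F : EtDesc.Sh X) (U : X.Etale) (x : Lift ξ U) :
    F.obj.obj (op U) → (stalkS ξ).obj F :=
  (Scheme.pointSmallEtale ξ).toPresheafFiber U x F.obj

variable {ξ}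

theorem germS_surjective (F : EtDesc.Sh X) (p : (stalkS ξ).obj F) :
    ∃ (U : X.Etale) (x : Lift ξ U) (s : F.obj.obj (op U)), germS ξ F U x s = p := by
  obtain ⟨U, x, s, h⟩ :=
    (Scheme.pointSmallEtale ξ).toPresheafFiber_jointly_surjective (P := F.obj) p
  exact ⟨U, x, s, h⟩

theorem germS_res (F : EtDesc.Sh X) {U V : X.Etale} (g : V ⟶ U) (y : Lift ξ V)
    (s : F.obj.obj (op U)) :
    germS ξ F V y (F.obj.map g.op s) = germS ξ F U (Lift.map g y) s :=
  (Scheme.pointSmallEtale ξ).toPresheafFiber_w_apply g y F.obj s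

theorem germS_eq_iff (F : EtDesc.Sh X) (U : X.Etale) (x : Lift ξ U) (s t : F.obj.obj (op U)) :
    germS ξ F U x s = germS ξ F U x t ↔
      ∃ (V : X.Etale) (g : V ⟶ U) (y : Lift ξ V), Lift.map g y = x ∧
        F.obj.map g.op s = F.obj.map g.op t :=
  (Scheme.pointSmallEtale ξ).toPresheafFiber_eq_iff' (P := F.obj) U x s t

theorem stalkS_map_germS {F G : EtDesc.Sh X} (a : F ⟶ G) (U : X.Etale) (x : Lift ξ U)
    (s : F.obj.obj (op U)) :
    (stalkS ξ).map a (germS ξ F U x s) = germS ξ G U x (a.hom.app (op U) s) :=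
  (Scheme.pointSmallEtale ξ).toPresheafFiber_naturality_apply a.hom U x s

end Germ

section Glue

variable (F : EtDesc.Sh X)

theorem isSheafType : Presieve.IsSheaf X.smallEtaleTopology F.obj :=
  (isSheaf_iff_isSheaf_of_type _ _).1 F.property

/-- sections of a sheaf of sets over an empty etale scheme are unique -/
theorem subsingleton_of_isEmptyS (E : X.Etale) [IsEmpty E.left] :
    Subsingleton (F.obj.obj (op E)) := by
  constructor
  intro a b
  have hcov : (⊥ : Sieve E) ∈ X.smallEtaleTopology E := by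
    have eX : X.smallEtaleTopology =
        (X.smallPretopology (P := EtCoh.etaleMP) (Q := EtCoh.etaleMP)).toGrothendieck :=
      Scheme.smallGrothendieckTopology_eq_toGrothendieck_smallPretopology X le_rfl
    rw [eX]
    refine (Scheme.mem_toGrothendieck_smallPretopology E _).2 ?_
    intro x
    exact (IsEmpty.false x).elim
  exact ((isSheafType F).isSeparated _ hcov).ext (fun _ _ hf => hf.elim)

/-- gluing sections over a family of pairwise disjoint open immersions covering `T` -/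
theorem existsUnique_glueS (T : X.Etale) {A : Type*} (W : A → X.Etale) (j : ∀ a, W a ⟶ T)
    (hoi : ∀ a, IsOpenImmersion (j a).left)
    (hdisj : ∀ a b, a ≠ b → Disjoint (Set.range (j a).left.base) (Set.range (j b).left.base))
    (hcov : ∀ x : T.left, ∃ a, x ∈ Set.range (j a).left.base)
    (t : ∀ a, F.obj.obj (op (W a))) :
    ∃! s : F.obj.obj (op T), ∀ a, F.obj.map (j a).op s = t a := by
  classical
  have hmem : Sieve.generate (Presieve.ofArrows W j) ∈ X.smallEtaleTopology T := by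
    apply Groth.Agent.H1.ClosedDense.mem_smallEtaleTopology
    intro x
    obtain ⟨a, y, hy⟩ := hcov x
    exact ⟨W a, j a, y, ⟨_, 𝟙 _, j a, Presieve.ofArrows.mk a, Category.id_comp _⟩, hy⟩
  have hsh : Presieve.IsSheafFor F.obj (Presieve.ofArrows W j) := by
    rw [Presieve.isSheafFor_iff_generate]
    exact isSheafType F _ hmem
  rw [Presieve.isSheafFor_arrows_iff] at hsh
  have hx : Presieve.Arrows.Compatible F.obj j t := by
    intro a b Z ga gb hg
    by_cases hab : a = b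
    · subst hab
      have := hoi a
      rw [mono_of_isOpenImmersion (j a) ga gb hg]
    · have : IsEmpty Z.left := by
        constructor
        intro z
        have h' : ga.left ≫ (j a).left = gb.left ≫ (j b).left := congrArg (fun k => k.left) hg
        have h1 : (ga.left ≫ (j a).left).base z ∈ Set.range (j a).left.base :=
          ⟨ga.left.base z, rfl⟩
        have h2 : (ga.left ≫ (j a).left).base z ∈ Set.range (j b).left.base := by
          rw [h']
          exact ⟨gb.left.base z, rfl⟩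
        exact (Set.disjoint_left.mp (hdisj a b hab)) h1 h2
      exact (subsingleton_of_isEmptyS F Z).elim _ _
  obtain ⟨s, hs, hsu⟩ := hsh t hx
  exact ⟨s, hs, fun s' hs' => hsu s' hs'⟩

theorem eq_of_coverS (T : X.Etale) {A : Type*} (W : A → X.Etale) (j : ∀ a, W a ⟶ T)
    (hoi : ∀ a, IsOpenImmersion (j a).left)
    (hdisj : ∀ a b, a ≠ b → Disjoint (Set.range (j a).left.base) (Set.range (j b).left.base))
    (hcov : ∀ x : T.left, ∃ a, x ∈ Set.range (j a).left.base)
    (s s' : F.obj.obj (op T)) (hs : ∀ a, F.obj.map (j a).op s = F.obj.map (j a).op s') :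
    s = s' := by
  obtain ⟨s₀, -, hu⟩ := existsUnique_glueS F T W j hoi hdisj hcov (fun a => F.obj.map (j a).op s')
  rw [hu s hs, hu s' (fun a => rfl)]

theorem map_map_applyS {U V W : X.Etale} (g : V ⟶ U) (k : W ⟶ V) (s : F.obj.obj (op U)) :
    F.obj.map k.op (F.obj.map g.op s) = F.obj.map (k ≫ g).op s := by
  rw [op_comp, Functor.map_comp]
  rfl

end Glue

section InjSurj

variable {Y : Scheme.{u}} (f : X ⟶ Y) [IsFinite f] {Ω : Type u} [Field Ω] [IsAlgClosed Ω]
  (η : Spec (CommRingCat.of Ω) ⟶ Y) (F : EtDesc.Sh X)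

/-- **Injectivity** of `(f_* F)_η ⟶ ∏_ξ F_ξ` in section form, for sheaves of sets. -/
theorem injS (V₀ : Y.Etale) (v₀ : Lift η V₀) (s t : F.obj.obj (op ((EtCoh.bc f).obj V₀)))
    (hs : ∀ ξ : {ξ : Spec (CommRingCat.of Ω) ⟶ X // ξ ≫ f = η},
      germS ξ.1 F ((EtCoh.bc f).obj V₀) (liftBc f ξ.1 ξ.2 v₀) s =
        germS ξ.1 F ((EtCoh.bc f).obj V₀) (liftBc f ξ.1 ξ.2 v₀) t) :
    ∃ (V₁ : Y.Etale) (g : V₁ ⟶ V₀) (v₁ : Lift η V₁), Lift.map g v₁ = v₀ ∧
      F.obj.map ((EtCoh.bc f).map g).op s = F.obj.map ((EtCoh.bc f).map g).op t := by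
  have h1 : ∀ ξ : {ξ : Spec (CommRingCat.of Ω) ⟶ X // ξ ≫ f = η},
      ∃ (U : X.Etale) (a : U ⟶ (EtCoh.bc f).obj V₀) (y : Lift ξ.1 U),
        Lift.map a y = liftBc f ξ.1 ξ.2 v₀ ∧ F.obj.map a.op s = F.obj.map a.op t :=
    fun ξ => (germS_eq_iff F _ _ s t).1 (hs ξ)
  choose U a y hy hz using h1
  obtain ⟨S, inc, b, hb, hoi, hdisj, hcov⟩ := exists_coprod ((EtCoh.bc f).obj V₀) U a
  have hbs : F.obj.map b.op s = F.obj.map b.op t := by
    apply eq_of_coverS F S U inc hoi hdisj hcov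
    intro ξ
    rw [map_map_applyS, map_map_applyS, hb]
    exact hz ξ
  obtain ⟨V₁, g, v₁, hv₁, A, hA, W, j, hh, hoi', hdisj', hcov', hhg, -⟩ :=
    exists_split_etale f η V₀ v₀ S b (fun ξ => Lift.map (inc ξ) (y ξ)) (by
      intro ξ
      rw [lift_map_comp, hb]
      exact hy ξ)
  refine ⟨V₁, g, v₁, hv₁, ?_⟩
  apply eq_of_coverS F _ W j hoi' hdisj' hcov'
  intro k
  rw [map_map_applyS, map_map_applyS, ← hhg, ← map_map_applyS, ← map_map_applyS, hbs]

/-- **Surjectivity** of `(f_* F)_η ⟶ ∏_ξ F_ξ` in section form, for sheaves of sets. -/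
theorem surjS (p : ∀ ξ : {ξ : Spec (CommRingCat.of Ω) ⟶ X // ξ ≫ f = η}, (stalkS ξ.1).obj F) :
    ∃ (V : Y.Etale) (v : Lift η V) (s : F.obj.obj (op ((EtCoh.bc f).obj V))),
      ∀ ξ : {ξ : Spec (CommRingCat.of Ω) ⟶ X // ξ ≫ f = η},
        germS ξ.1 F ((EtCoh.bc f).obj V) (liftBc f ξ.1 ξ.2 v) s = p ξ := by
  have h1 : ∀ ξ : {ξ : Spec (CommRingCat.of Ω) ⟶ X // ξ ≫ f = η},
      ∃ (U : X.Etale) (y : Lift ξ.1 U) (σ : F.obj.obj (op U)), germS ξ.1 F U y σ = p ξ :=
    fun ξ => germS_surjective F (p ξ)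
  choose U y σ hσ using h1
  obtain ⟨S, inc, b, hb, hoi, hdisj, hcov⟩ :=
    exists_coprod ((EtCoh.bc f).obj (EtCoh.top Y)) U (fun ξ => toBcTop f (U ξ))
  obtain ⟨τ, hτ, -⟩ := existsUnique_glueS F S U inc hoi hdisj hcov σ
  obtain ⟨V₁, g, v₁, hv₁, A, hA, W, j, hh, hoi', hdisj', hcov', hhg, hpt⟩ :=
    exists_split_etale f η (EtCoh.top Y) (topLift η) S b (fun ξ => Lift.map (inc ξ) (y ξ)) (by
      intro ξ
      rw [lift_map_comp, hb]
      exact map_toBcTop f η ξ.2 (U ξ) (y ξ))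
  obtain ⟨s, hs, -⟩ := existsUnique_glueS F _ W j hoi' hdisj' hcov' (fun k => F.obj.map (hh k).op τ)
  refine ⟨V₁, v₁, s, ?_⟩
  intro ξ
  obtain ⟨k, w, hw1, hw2⟩ := hpt ξ
  rw [← hw1, ← germS_res, hs, germS_res, hw2, ← germS_res, hτ]
  exact hσ ξ

end InjSurj

end Groth.Agent.H1.FinStalkSh
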