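import Mathlib

set_option autoImplicit false
set_option linter.unusedSectionVars false

open CategoryTheory Category Limits

namespace Groth.Agent.H1.FiveHom

variable {C C' : Type*} [Category C] [Category C'] [Preadditive C] [Preadditive C']
  (L : C ⥤ C') [L.Additive]

/-- `L` is bijective on `Hom(K, N)` -/
def BF (K N : C) : Prop := Function.Bijective (fun φ : K ⟶ N => L.map φ)

variable {L}

lemma BF.of_iso_right {K N N' : C} (e : N ≅ N') (h : BF L K N) : BF L K N' := by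
  constructor
  · intro φ ψ hφψ
    have h1 : L.map (φ ≫ e.inv) = L.map (ψ ≫ e.inv) := by
      simp only [Functor.map_comp]; dsimp at hφψ; rw [hφψ]
    have := h.1 h1
    simpa using this =≫ e.hom
  · intro χ
    obtain ⟨φ, hφ⟩ := h.2 (χ ≫ L.map e.inv)
    refine ⟨φ ≫ e.hom, ?_⟩
    dsimp at hφ ⊢
    rw [Functor.map_comp, hφ, assoc, ← Functor.map_comp, e.inv_hom_id, L.map_id, comp_id]

lemma BF.of_iso_left {K K' N : C} (e : K ≅ K') (h : BF L K N) : BF L K' N := by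
  constructor
  · intro φ ψ hφψ
    have h1 : L.map (e.hom ≫ φ) = L.map (e.hom ≫ ψ) := by
      simp only [Functor.map_comp]; dsimp at hφψ; rw [hφψ]
    have := h.1 h1
    simpa using e.inv ≫= this
  · intro χ
    obtain ⟨φ, hφ⟩ := h.2 (L.map e.hom ≫ χ)
    refine ⟨e.inv ≫ φ, ?_⟩
    dsimp at hφ ⊢
    rw [Functor.map_comp, hφ, ← assoc, ← Functor.map_comp, e.inv_hom_id, L.map_id, id_comp]

/-- covariant five lemma for `Hom(K, -)` -/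
lemma BF.five_right {K N₁ N₂ N₃ N₄ N₅ : C} (a : N₁ ⟶ N₂) (b : N₂ ⟶ N₃) (c : N₃ ⟶ N₄)
    (d : N₄ ⟶ N₅) (hab : a ≫ b = 0) (hcd : c ≫ d = 0)
    (e3 : ∀ f : K ⟶ N₃, f ≫ c = 0 → ∃ g : K ⟶ N₂, f = g ≫ b)
    (e4 : ∀ f : K ⟶ N₄, f ≫ d = 0 → ∃ g : K ⟶ N₃, f = g ≫ c)
    (e2' : ∀ f : L.obj K ⟶ L.obj N₂, f ≫ L.map b = 0 → ∃ g : L.obj K ⟶ L.obj N₁, f = g ≫ L.map a)
    (e3' : ∀ f : L.obj K ⟶ L.obj N₃, f ≫ L.map c = 0 → ∃ g : L.obj K ⟶ L.obj N₂, f = g ≫ L.map b)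
    (h₁ : Function.Surjective (fun φ : K ⟶ N₁ => L.map φ)) (h₂ : BF L K N₂) (h₄ : BF L K N₄)
    (h₅ : Function.Injective (fun φ : K ⟶ N₅ => L.map φ)) : BF L K N₃ := by
  constructor
  · intro φ₁ φ₂ h12
    dsimp at h12
    suffices H : ∀ φ : K ⟶ N₃, L.map φ = 0 → φ = 0 by
      have := H (φ₁ - φ₂) (by rw [Functor.map_sub, h12, sub_self])
      exact sub_eq_zero.1 this
    intro φ hφ
    have h1 : φ ≫ c = 0 := h₄.1 (by dsimp; rw [Functor.map_comp, hφ, zero_comp, Functor.map_zero])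
    obtain ⟨ψ, rfl⟩ := e3 φ h1
    have h2 : L.map ψ ≫ L.map b = 0 := by rw [← Functor.map_comp, hφ]
    obtain ⟨θ', hθ'⟩ := e2' _ h2
    obtain ⟨θ, rfl⟩ := h₁ θ'
    dsimp at hθ'
    have h3 : ψ = θ ≫ a := h₂.1 (by dsimp; rw [hθ', Functor.map_comp])
    rw [h3, assoc, hab, comp_zero]
  · intro χ
    obtain ⟨ω, hω⟩ := h₄.2 (χ ≫ L.map c)
    dsimp at hω
    have h1 : ω ≫ d = 0 := h₅ (by
      dsimp
      rw [Functor.map_comp, hω, assoc, ← Functor.map_comp, hcd, Functor.map_zero, comp_zero,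
        Functor.map_zero])
    obtain ⟨ρ, rfl⟩ := e4 ω h1
    have h2 : (χ - L.map ρ) ≫ L.map c = 0 := by
      rw [Preadditive.sub_comp, ← hω, Functor.map_comp, sub_self]
    obtain ⟨σ', hσ'⟩ := e3' _ h2
    obtain ⟨σ, rfl⟩ := h₂.2 σ'
    dsimp at hσ'
    refine ⟨ρ + σ ≫ b, ?_⟩
    dsimp
    rw [Functor.map_add, Functor.map_comp, ← hσ']
    abel

/-- contravariant five lemma for `Hom(-, M)` -/
lemma BF.five_left {M N₁ N₂ N₃ N₄ N₅ : C} (a : N₁ ⟶ N₂) (b : N₂ ⟶ N₃) (c : N₃ ⟶ N₄)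
    (d : N₄ ⟶ N₅) (hab : a ≫ b = 0) (hcd : c ≫ d = 0)
    (y2 : ∀ ω : N₂ ⟶ M, a ≫ ω = 0 → ∃ ρ : N₃ ⟶ M, ω = b ≫ ρ)
    (y3 : ∀ φ : N₃ ⟶ M, b ≫ φ = 0 → ∃ ψ : N₄ ⟶ M, φ = c ≫ ψ)
    (y3' : ∀ χ : L.obj N₃ ⟶ L.obj M, L.map b ≫ χ = 0 → ∃ σ' : L.obj N₄ ⟶ L.obj M, χ = L.map c ≫ σ')
    (y4' : ∀ ψ' : L.obj N₄ ⟶ L.obj M, L.map c ≫ ψ' = 0 →
      ∃ θ' : L.obj N₅ ⟶ L.obj M, ψ' = L.map d ≫ θ')
    (h₅ : Function.Surjective (fun φ : N₅ ⟶ M => L.map φ)) (h₄ : BF L N₄ M) (h₂ : BF L N₂ M)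
    (h₁ : Function.Injective (fun φ : N₁ ⟶ M => L.map φ)) : BF L N₃ M := by
  constructor
  · intro φ₁ φ₂ h12
    dsimp at h12
    suffices H : ∀ φ : N₃ ⟶ M, L.map φ = 0 → φ = 0 by
      have := H (φ₁ - φ₂) (by rw [Functor.map_sub, h12, sub_self])
      exact sub_eq_zero.1 this
    intro φ hφ
    have h1 : b ≫ φ = 0 := h₂.1 (by dsimp; rw [Functor.map_comp, hφ, comp_zero, Functor.map_zero])
    obtain ⟨ψ, rfl⟩ := y3 φ h1
    have h2 : L.map c ≫ L.map ψ = 0 := by rw [← Functor.map_comp, hφ]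
    obtain ⟨θ', hθ'⟩ := y4' _ h2
    obtain ⟨θ, rfl⟩ := h₅ θ'
    dsimp at hθ'
    have h3 : ψ = d ≫ θ := h₄.1 (by dsimp; rw [hθ', Functor.map_comp])
    rw [h3, ← assoc, hcd, zero_comp]
  · intro χ
    obtain ⟨ω, hω⟩ := h₂.2 (L.map b ≫ χ)
    dsimp at hω
    have h1 : a ≫ ω = 0 := h₁ (by
      dsimp
      rw [Functor.map_comp, hω, ← assoc, ← Functor.map_comp, hab, Functor.map_zero, zero_comp,
        Functor.map_zero])
    obtain ⟨ρ, rfl⟩ := y2 ω h1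
    have h2 : L.map b ≫ (χ - L.map ρ) = 0 := by
      rw [Preadditive.comp_sub, ← hω, Functor.map_comp, sub_self]
    obtain ⟨σ', hσ'⟩ := y3' _ h2
    obtain ⟨σ, rfl⟩ := h₄.2 σ'
    dsimp at hσ'
    refine ⟨ρ + c ≫ σ, ?_⟩
    dsimp
    rw [Functor.map_add, Functor.map_comp, ← hσ']
    abel

end Groth.Agent.H1.FiveHom
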