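import Mathlib

/-!
# Flasque abelian sheaves on a topological space, coefficients in any universe (helper1)

`IsFl A`: all restriction maps of `A` are surjective.  For maps `f : A ⟶ B`, `g : B ⟶ C` of abelian
sheaves (values in `AddCommGrpCat.{w}`, `X : TopCat.{u}`) such that sections of `B` killed by `g` come
from `A`, `g` is locally surjective, and `A` is flasque: `B(U) → C(U)` is surjective
(`surjective_of_isFl`).  (Universe-polymorphic version of Mathlib's
`TopCat.Sheaf.IsFlasque.epi_of_shortExact`.)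
-/

set_option autoImplicit false

namespace Groth.Agent.H1.FlasqueU

open CategoryTheory CategoryTheory.Limits TopologicalSpace Opposite TopCat

universe w u

variable {X : TopCat.{u}}

/-- flasque sheaves -/
def IsFl (A : TopCat.Sheaf AddCommGrpCat.{w} X) : Prop :=
  ∀ ⦃U V : Opens X⦄ (h : U ≤ V), Function.Surjective (A.obj.map (homOfLE h).op)

/-- restriction of sections -/
abbrev res (F : TopCat.Sheaf AddCommGrpCat.{w} X) {U V : Opens X} (h : U ≤ V)
    (s : F.obj.obj (op V)) : F.obj.obj (op U) := F.obj.map (homOfLE h).op s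

theorem map_eq_res (F : TopCat.Sheaf AddCommGrpCat.{w} X) {U V : Opens X} (i : U ⟶ V)
    (s : F.obj.obj (op V)) : F.obj.map i.op s = res F (leOfHom i) s := rfl

theorem res_res (F : TopCat.Sheaf AddCommGrpCat.{w} X) {U V W : Opens X} (h1 : U ≤ V) (h2 : V ≤ W)
    (s : F.obj.obj (op W)) : res F h1 (res F h2 s) = res F (h1.trans h2) s := by
  change (F.obj.map (homOfLE h2).op ≫ F.obj.map (homOfLE h1).op) s = _
  rw [← Functor.map_comp]
  rfl

theorem res_self (F : TopCat.Sheaf AddCommGrpCat.{w} X) {U : Opens X} (s : F.obj.obj (op U)) :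
    res F (le_refl U) s = s := by
  change F.obj.map (𝟙 (op U)) s = s
  rw [F.obj.map_id]
  rfl

theorem hom_res {F G : TopCat.Sheaf AddCommGrpCat.{w} X} (φ : F ⟶ G) {U V : Opens X} (h : U ≤ V)
    (s : F.obj.obj (op V)) : φ.hom.app (op U) (res F h s) = res G h (φ.hom.app (op V) s) :=
  ConcreteCategory.congr_hom (φ.hom.naturality (homOfLE h).op) s

variable [HasLimitsOfSize.{u, u} AddCommGrpCat.{w}]
  [PreservesLimitsOfSize.{u, u} (forget AddCommGrpCat.{w})]

section Zorn

variable {A B C : TopCat.Sheaf AddCommGrpCat.{w} X} (f : A ⟶ B) {g : B ⟶ C}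

variable (g) in
/-- partial lifts of a section of `C` -/
structure Lift (U : Opens X) (c : C.obj.obj (op U)) where
  V : Opens X
  le : V ≤ U
  b : B.obj.obj (op V)
  hb : g.hom.app (op V) b = res C le c

variable {U : Opens X} {c : C.obj.obj (op U)}

instance : Preorder (Lift g U c) where
  le p q := ∃ h : p.V ≤ q.V, res B h q.b = p.b
  le_refl p := ⟨le_refl _, res_self B p.b⟩
  le_trans p q r := by
    rintro ⟨h1, e1⟩ ⟨h2, e2⟩
    exact ⟨h1.trans h2, by rw [← res_res B h1 h2, e2, e1]⟩

theorem bddAbove_of_isChain (K : Set (Lift g U c)) (hK : IsChain (· ≤ ·) K) : BddAbove K := by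
  let Uf : K → Opens X := fun k => k.1.V
  let sf : ∀ k : K, ToType (B.1.obj (op (Uf k))) := fun k => k.1.b
  have hcomp : TopCat.Presheaf.IsCompatible B.1 Uf sf := by
    intro i j
    rcases hK.total i.2 j.2 with ⟨h, e⟩ | ⟨h, e⟩
    · change res B inf_le_left i.1.b = res B inf_le_right j.1.b
      rw [← e, res_res]
    · change res B inf_le_left i.1.b = res B inf_le_right j.1.b
      rw [← e, res_res]
  obtain ⟨s, hs, -⟩ := TopCat.Sheaf.existsUnique_gluing B Uf sf hcomp
  have hle : iSup Uf ≤ U := iSup_le fun k => k.1.le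
  have hgs : g.hom.app (op (iSup Uf)) s = res C hle c := by
    refine TopCat.Sheaf.eq_of_locally_eq C Uf _ _ (fun k => ?_)
    change res C (le_iSup Uf k) (g.hom.app _ s) = res C (le_iSup Uf k) (res C hle c)
    rw [← hom_res, res_res]
    have : res B (le_iSup Uf k) s = k.1.b := hs k
    rw [this, k.1.hb]
  refine ⟨⟨iSup Uf, hle, s, hgs⟩, ?_⟩
  intro k hk
  exact ⟨le_iSup Uf ⟨k, hk⟩, hs ⟨k, hk⟩⟩

/-- **Sections lift along a locally surjective map with flasque kernel.** -/
theorem surjective_of_isFl (hA : IsFl A)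
    (hzero : ∀ (V : Opens X) (a : A.obj.obj (op V)), g.hom.app (op V) (f.hom.app (op V) a) = 0)
    (hex : ∀ (V : Opens X) (b : B.obj.obj (op V)), g.hom.app (op V) b = 0 →
      ∃ a : A.obj.obj (op V), f.hom.app (op V) a = b)
    (hloc : ∀ (V : Opens X) (c : C.obj.obj (op V)) (x : X), x ∈ V →
      ∃ (W : Opens X) (hW : W ≤ V), x ∈ W ∧ ∃ b : B.obj.obj (op W), g.hom.app (op W) b = res C hW c)
    (U : Opens X) : Function.Surjective (g.hom.app (op U)) := by
  intro c
  obtain ⟨m, hm⟩ := zorn_le (α := Lift g U c) (fun K hK => bddAbove_of_isChain K hK)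
  have hU : U ≤ m.V := by
    intro x hx
    obtain ⟨W, hW, hxW, b₁, hb₁⟩ := hloc U c x hx
    -- difference on the overlap
    have hd : g.hom.app (op (m.V ⊓ W)) (res B inf_le_left m.b - res B inf_le_right b₁) = 0 := by
      rw [map_sub, hom_res, hom_res, m.hb, hb₁, res_res, res_res, sub_self]
    obtain ⟨a, ha⟩ := hex _ _ hd
    obtain ⟨a', ha'⟩ := hA (inf_le_right : m.V ⊓ W ≤ W) a
    let b₁' : B.obj.obj (op W) := b₁ + f.hom.app (op W) a'
    have hb₁' : g.hom.app (op W) b₁' = res C hW c := by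
      change g.hom.app (op W) (b₁ + f.hom.app (op W) a') = _
      rw [map_add, hzero, add_zero, hb₁]
    have hov : res B (inf_le_right : m.V ⊓ W ≤ W) b₁' = res B (inf_le_left : m.V ⊓ W ≤ m.V) m.b := by
      change res B _ (b₁ + f.hom.app (op W) a') = _
      have h1 : res B (inf_le_right : m.V ⊓ W ≤ W) (f.hom.app (op W) a') =
          f.hom.app (op (m.V ⊓ W)) a := by
        rw [← hom_res]
        exact congrArg _ ha'
      have h2 : res B (inf_le_right : m.V ⊓ W ≤ W) (b₁ + f.hom.app (op W) a') =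
          res B inf_le_right b₁ + res B inf_le_right (f.hom.app (op W) a') := map_add _ _ _
      rw [h2, h1, ha]
      abel
    let Uf : Fin 2 → Opens X := ![m.V, W]
    let sf : ∀ i : Fin 2, ToType (B.1.obj (op (Uf i)))
      | 0 => m.b
      | 1 => b₁'
    have hcomp : TopCat.Presheaf.IsCompatible B.1 Uf sf := by
      intro i j
      fin_cases i <;> fin_cases j
      · rfl
      · exact hov.symm
      · change res B (inf_le_left : W ⊓ m.V ≤ W) b₁' = res B (inf_le_right : W ⊓ m.V ≤ m.V) m.b
        have e : W ⊓ m.V ≤ m.V ⊓ W := le_of_eq (inf_comm _ _)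
        have := congrArg (res B e) hov
        rw [res_res, res_res] at this
        exact this
      · rfl
    obtain ⟨s₂, hs₂, -⟩ := TopCat.Sheaf.existsUnique_gluing B Uf sf hcomp
    have hle : iSup Uf ≤ U := iSup_le (by
      intro i
      fin_cases i
      · exact m.le
      · exact hW)
    have hgs : g.hom.app (op (iSup Uf)) s₂ = res C hle c := by
      refine TopCat.Sheaf.eq_of_locally_eq C Uf _ _ (fun i => ?_)
      change res C (le_iSup Uf i) (g.hom.app _ s₂) = res C (le_iSup Uf i) (res C hle c)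
      rw [← hom_res, res_res]
      have h3 : res B (le_iSup Uf i) s₂ = sf i := hs₂ i
      rw [h3]
      fin_cases i
      · exact m.hb
      · exact hb₁'
    let m' : Lift g U c := ⟨iSup Uf, hle, s₂, hgs⟩
    have hmm' : m ≤ m' := ⟨le_iSup Uf 0, hs₂ 0⟩
    obtain ⟨h4, -⟩ := hm hmm'
    exact h4 (le_iSup Uf 1 hxW)
  exact ⟨res B hU m.b, by rw [hom_res, m.hb, res_res, res_self]⟩

end Zorn

end Groth.Agent.H1.FlasqueU
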