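import Groth.Agent.Lib.Helper1.FppfDescA

/-!
# Descent along finite surjective morphisms for "locally constant" big étale sheaves, part B (helper1)

The two properties `LC` (every section is étale locally pulled back from the small étale site of
the base) and `EQ` (a section from the small site whose pullback vanishes, vanishes near the image
of every geometric point), and their first consequences: injectivity of restriction along morphisms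
surjective on geometric points, and comparison of the local presentations along two maps.
-/

set_option autoImplicit false
universe u
open CategoryTheory CategoryTheory.Limits AlgebraicGeometry Opposite

namespace Groth.Agent.H1.FppfDesc

local notation "Et" => Scheme.etalePrecoverage

variable {S : Scheme.{u}} (G : BigSite.Ab Et S)

/-- every section is, étale locally around any geometric point, the pullback of a section over an
étale `S`-scheme -/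
def LC : Prop := ∀ (T : Over S) (x : G.obj.obj (op T)) (Ω : Type u) [Field Ω] [IsAlgClosed Ω]
    (ξ : Spec (.of Ω) ⟶ T.left),
    ∃ (T₁ : Over S) (e : T₁ ⟶ T) (t₁ : Spec (.of Ω) ⟶ T₁.left) (U₀ : S.Etale)
      (m : T₁ ⟶ (EtFppf.a S).obj U₀) (s : G.obj.obj (op ((EtFppf.a S).obj U₀))),
      Etale e.left ∧ t₁ ≫ e.left = ξ ∧ G.obj.map e.op x = G.obj.map m.op s

/-- a section over an étale `S`-scheme whose pullback vanishes, vanishes near the image of every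
geometric point -/
def EQ : Prop := ∀ (U₀ : S.Etale) (s : G.obj.obj (op ((EtFppf.a S).obj U₀))) (T : Over S)
    (m : T ⟶ (EtFppf.a S).obj U₀), G.obj.map m.op s = 0 →
    ∀ (Ω : Type u) [Field Ω] [IsAlgClosed Ω] (ξ : Spec (.of Ω) ⟶ T.left),
    ∃ (U₁ : S.Etale) (k : U₁ ⟶ U₀) (l : Spec (.of Ω) ⟶ U₁.left),
      l ≫ k.left = ξ ≫ m.left ∧ G.obj.map ((EtFppf.a S).map k).op s = 0

/-- a geometric point with algebraically closed field at a point of a scheme -/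
noncomputable def geomPtAC (X : Scheme.{u}) (x : X) :
    Spec (.of (AlgebraicClosure (X.residueField x))) ⟶ X :=
  Spec.map (CommRingCat.ofHom (algebraMap (X.residueField x) (AlgebraicClosure (X.residueField x)))) ≫
    X.fromSpecResidueField x

theorem geomPtAC_apply (X : Scheme.{u}) (x : X) (a) : geomPtAC X x a = x := by
  unfold geomPtAC
  rw [Scheme.Hom.comp_apply]
  exact Scheme.fromSpecResidueField_apply _ _

theorem comp_comp_eq {A B C D : Scheme.{u}} (z : A ⟶ B) (f : B ⟶ C) (g : C ⟶ D) {y : A ⟶ C}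
    {t : A ⟶ D} (h1 : z ≫ f = y) (h2 : y ≫ g = t) : z ≫ f ≫ g = t := by
  rw [← Category.assoc, h1, h2]

theorem pt_comp {A B C D E F : Scheme.{u}} (l : A ⟶ B) (k : B ⟶ C) (pr : C ⟶ D) (z : A ⟶ E)
    (μ : E ⟶ C) (α : E ⟶ F) (m : F ⟶ D) (t : A ⟶ F) (hl : l ≫ k = z ≫ μ) (hμ : μ ≫ pr = α ≫ m)
    (hz : z ≫ α = t) : l ≫ k ≫ pr = t ≫ m := by
  rw [← Category.assoc, hl, Category.assoc, hμ, ← Category.assoc, hz]

variable {G}

theorem inj_of_points (hLC : LC G) (hEQ : EQ G) {V Y : Over S} (p : V ⟶ Y)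
    (hp : ∀ (Ω : Type u) [Field Ω] [IsAlgClosed Ω] (η : Spec (.of Ω) ⟶ Y.left),
      ∃ ξ : Spec (.of Ω) ⟶ V.left, ξ ≫ p.left = η)
    (σ : G.obj.obj (op Y)) (h : G.obj.map p.op σ = 0) : σ = 0 := by
  apply eq_zero_of_etale_local
  intro y
  let Ω := AlgebraicClosure (Y.left.residueField y)
  let η : Spec (.of Ω) ⟶ Y.left := geomPtAC Y.left y
  obtain ⟨Y₁, e₁, y₁, U₀, m, s, he, hy, hx⟩ := hLC Y σ Ω η
  obtain ⟨ξ, hξ⟩ := hp Ω η
  obtain ⟨z, -, hz2⟩ : ∃ z : Spec (.of Ω) ⟶ (pb p e₁).left,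
      z ≫ pullback.fst p.left e₁.left = ξ ∧ z ≫ pullback.snd p.left e₁.left = y₁ :=
    ⟨pullback.lift ξ y₁ (by rw [hξ, hy]), pullback.lift_fst _ _ _, pullback.lift_snd _ _ _⟩
  have hz : G.obj.map (pbSnd p e₁ ≫ m).op s = 0 := by
    rw [← map_map, ← hx, map_map, ← pb_condition, ← map_map, h, map_zero]
  obtain ⟨U₁, k, l, hl, hk⟩ := hEQ U₀ s (pb p e₁) (pbSnd p e₁ ≫ m) hz Ω z
  haveI : Etale ((EtFppf.a S).map k).left := Groth.Agent.H1.EtGerm.etale_left k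
  haveI : Etale e₁.left := he
  have e1 : z ≫ (pbSnd p e₁ ≫ m).left = y₁ ≫ m.left := by
    change z ≫ pullback.snd p.left e₁.left ≫ m.left = y₁ ≫ m.left
    rw [← Category.assoc, hz2]
  have hl' : y₁ ≫ m.left = l ≫ ((EtFppf.a S).map k).left := (hl.trans e1).symm
  obtain ⟨y₂, hy₂, -⟩ : ∃ y₂ : Spec (.of Ω) ⟶ (pb m ((EtFppf.a S).map k)).left,
      y₂ ≫ pullback.fst m.left ((EtFppf.a S).map k).left = y₁ ∧
        y₂ ≫ pullback.snd m.left ((EtFppf.a S).map k).left = l :=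
    ⟨pullback.lift y₁ l hl', pullback.lift_fst _ _ _, pullback.lift_snd _ _ _⟩
  refine ⟨pb m ((EtFppf.a S).map k), pbFst m ((EtFppf.a S).map k) ≫ e₁, ?_, ?_, ?_⟩
  · change Etale (pullback.fst m.left ((EtFppf.a S).map k).left ≫ e₁.left)
    infer_instance
  · refine ⟨y₂ default, ?_⟩
    have h1 : (pullback.fst m.left ((EtFppf.a S).map k).left ≫ e₁.left) (y₂ default) =
        (y₂ ≫ pullback.fst m.left ((EtFppf.a S).map k).left ≫ e₁.left) default :=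
      (Scheme.Hom.comp_apply y₂ _ default).symm
    refine h1.trans ?_
    rw [← Category.assoc, hy₂, hy]
    exact geomPtAC_apply _ _ _
  · rw [← map_map, hx, map_map, pb_condition, ← map_map, hk, map_zero]

/-- comparison of two local presentations of a section along two maps equalized on the section -/
theorem key (hEQ : EQ G) {T Z : Over S} (q₁ q₂ : Z ⟶ T) (x : G.obj.obj (op T))
    (hq : G.obj.map q₁.op x = G.obj.map q₂.op x) {Ω : Type u} [Field Ω] [IsAlgClosed Ω]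
    (ζ : Spec (.of Ω) ⟶ Z.left)
    {T₁ : Over S} (e₁ : T₁ ⟶ T) (t₁ : Spec (.of Ω) ⟶ T₁.left) (U₁ : S.Etale)
    (m₁ : T₁ ⟶ (EtFppf.a S).obj U₁) (s₁ : G.obj.obj (op ((EtFppf.a S).obj U₁)))
    (h1 : t₁ ≫ e₁.left = ζ ≫ q₁.left) (hx1 : G.obj.map e₁.op x = G.obj.map m₁.op s₁)
    {T₂ : Over S} (e₂ : T₂ ⟶ T) (t₂ : Spec (.of Ω) ⟶ T₂.left) (U₂ : S.Etale)
    (m₂ : T₂ ⟶ (EtFppf.a S).obj U₂) (s₂ : G.obj.obj (op ((EtFppf.a S).obj U₂)))
    (h2 : t₂ ≫ e₂.left = ζ ≫ q₂.left) (hx2 : G.obj.map e₂.op x = G.obj.map m₂.op s₂) :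
    ∃ (U₃ : S.Etale) (k₁ : U₃ ⟶ U₁) (k₂ : U₃ ⟶ U₂) (l : Spec (.of Ω) ⟶ U₃.left),
      l ≫ k₁.left = t₁ ≫ m₁.left ∧ l ≫ k₂.left = t₂ ≫ m₂.left ∧
        G.obj.map ((EtFppf.a S).map k₁).op s₁ = G.obj.map ((EtFppf.a S).map k₂).op s₂ := by
  -- the fibre products
  let Z₁ := pb q₁ e₁
  let Z₂ := pb q₂ e₂
  let Z₁₂ := pb (pbFst q₁ e₁) (pbFst q₂ e₂)
  obtain ⟨α₁, hα₁d⟩ : ∃ α₁ : Z₁₂ ⟶ T₁, α₁ = pbFst (pbFst q₁ e₁) (pbFst q₂ e₂) ≫ pbSnd q₁ e₁ :=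
    ⟨_, rfl⟩
  obtain ⟨α₂, hα₂d⟩ : ∃ α₂ : Z₁₂ ⟶ T₂, α₂ = pbSnd (pbFst q₁ e₁) (pbFst q₂ e₂) ≫ pbSnd q₂ e₂ :=
    ⟨_, rfl⟩
  obtain ⟨β, hβd⟩ : ∃ β : Z₁₂ ⟶ Z, β = pbFst (pbFst q₁ e₁) (pbFst q₂ e₂) ≫ pbFst q₁ e₁ :=
    ⟨_, rfl⟩
  have hβd' : β = pbSnd (pbFst q₁ e₁) (pbFst q₂ e₂) ≫ pbFst q₂ e₂ :=
    hβd.trans (pb_condition _ _)
  have hα₁ : α₁ ≫ e₁ = β ≫ q₁ := by
    rw [hα₁d, hβd, Category.assoc, Category.assoc, pb_condition q₁ e₁]
  have hα₂ : α₂ ≫ e₂ = β ≫ q₂ := by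
    rw [hα₂d, hβd', Category.assoc, Category.assoc, pb_condition q₂ e₂]
  have hα₁l : α₁.left = pullback.fst (pbFst q₁ e₁).left (pbFst q₂ e₂).left ≫
      pullback.snd q₁.left e₁.left := by rw [hα₁d]; rfl
  have hα₂l : α₂.left = pullback.snd (pbFst q₁ e₁).left (pbFst q₂ e₂).left ≫
      pullback.snd q₂.left e₂.left := by rw [hα₂d]; rfl
  clear hα₁d hα₂d hβd hβd'
  obtain ⟨μ, hμd⟩ : ∃ μ : Z₁₂ ⟶ (EtFppf.a S).obj (prodEt U₁ U₂),
      μ = prodEtLift (α₁ ≫ m₁) (α₂ ≫ m₂) := ⟨_, rfl⟩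
  have hμf : μ ≫ (EtFppf.a S).map (prodEtFst U₁ U₂) = α₁ ≫ m₁ := by
    rw [hμd]; exact prodEtLift_fst _ _
  have hμs : μ ≫ (EtFppf.a S).map (prodEtSnd U₁ U₂) = α₂ ≫ m₂ := by
    rw [hμd]; exact prodEtLift_snd _ _
  clear hμd
  have hA : G.obj.map (α₁ ≫ m₁).op s₁ = G.obj.map (β ≫ q₁).op x :=
    calc _ = G.obj.map α₁.op (G.obj.map m₁.op s₁) := (map_map G m₁ α₁ s₁).symm
      _ = G.obj.map α₁.op (G.obj.map e₁.op x) := by rw [hx1]
      _ = G.obj.map (α₁ ≫ e₁).op x := map_map G e₁ α₁ x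
      _ = _ := by rw [hα₁]
  have hB : G.obj.map (α₂ ≫ m₂).op s₂ = G.obj.map (β ≫ q₂).op x :=
    calc _ = G.obj.map α₂.op (G.obj.map m₂.op s₂) := (map_map G m₂ α₂ s₂).symm
      _ = G.obj.map α₂.op (G.obj.map e₂.op x) := by rw [hx2]
      _ = G.obj.map (α₂ ≫ e₂).op x := map_map G e₂ α₂ x
      _ = _ := by rw [hα₂]
  have hC : G.obj.map (β ≫ q₁).op x = G.obj.map (β ≫ q₂).op x := by
    rw [← map_map G q₁ β x, ← map_map G q₂ β x, hq]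
  obtain ⟨s₁₂, hs₁₂⟩ : ∃ s₁₂ : G.obj.obj (op ((EtFppf.a S).obj (prodEt U₁ U₂))), s₁₂ =
    G.obj.map ((EtFppf.a S).map (prodEtFst U₁ U₂)).op s₁ -
      G.obj.map ((EtFppf.a S).map (prodEtSnd U₁ U₂)).op s₂ := ⟨_, rfl⟩
  have hμ : G.obj.map μ.op s₁₂ = 0 := by
    rw [hs₁₂, map_sub, map_map, map_map, hμf, hμs, hA, hB, hC, sub_self]
  -- the point
  obtain ⟨z₁, hz₁a, hz₁b⟩ : ∃ z₁ : Spec (.of Ω) ⟶ Z₁.left,
      z₁ ≫ pullback.fst q₁.left e₁.left = ζ ∧ z₁ ≫ pullback.snd q₁.left e₁.left = t₁ :=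
    ⟨pullback.lift ζ t₁ h1.symm, pullback.lift_fst _ _ _, pullback.lift_snd _ _ _⟩
  obtain ⟨z₂, hz₂a, hz₂b⟩ : ∃ z₂ : Spec (.of Ω) ⟶ Z₂.left,
      z₂ ≫ pullback.fst q₂.left e₂.left = ζ ∧ z₂ ≫ pullback.snd q₂.left e₂.left = t₂ :=
    ⟨pullback.lift ζ t₂ h2.symm, pullback.lift_fst _ _ _, pullback.lift_snd _ _ _⟩
  obtain ⟨z, hza, hzb⟩ : ∃ z : Spec (.of Ω) ⟶ Z₁₂.left,
      z ≫ pullback.fst (pbFst q₁ e₁).left (pbFst q₂ e₂).left = z₁ ∧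
        z ≫ pullback.snd (pbFst q₁ e₁).left (pbFst q₂ e₂).left = z₂ :=
    ⟨pullback.lift z₁ z₂ (hz₁a.trans hz₂a.symm), pullback.lift_fst _ _ _, pullback.lift_snd _ _ _⟩
  obtain ⟨U₃, k, l, hl, hk⟩ := hEQ (prodEt U₁ U₂) s₁₂ Z₁₂ μ hμ Ω z
  have hzα₁ : z ≫ α₁.left = t₁ := by
    rw [hα₁l]
    exact comp_comp_eq z _ _ hza hz₁b
  have hzα₂ : z ≫ α₂.left = t₂ := by
    rw [hα₂l]
    exact comp_comp_eq z _ _ hzb hz₂b
  have hμ1 : μ.left ≫ (prodEtFst U₁ U₂).left = α₁.left ≫ m₁.left :=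
    congrArg (fun k => k.left) hμf
  have hμ2 : μ.left ≫ (prodEtSnd U₁ U₂).left = α₂.left ≫ m₂.left :=
    congrArg (fun k => k.left) hμs
  refine ⟨U₃, k ≫ prodEtFst U₁ U₂, k ≫ prodEtSnd U₁ U₂, l, ?_, ?_, ?_⟩
  · exact pt_comp l k.left (prodEtFst U₁ U₂).left z μ.left α₁.left m₁.left t₁ hl hμ1 hzα₁
  · exact pt_comp l k.left (prodEtSnd U₁ U₂).left z μ.left α₂.left m₂.left t₂ hl hμ2 hzα₂
  · have h3 : G.obj.map ((EtFppf.a S).map k).op s₁₂ = 0 := hk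
    rw [hs₁₂, map_sub, map_map, map_map, ← Functor.map_comp, ← Functor.map_comp] at h3
    exact sub_eq_zero.mp h3

end Groth.Agent.H1.FppfDesc
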