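import Groth.Agent.Lib.Helper1.FppfDescB

/-!
# Descent along finite surjective morphisms for "locally constant" big étale sheaves, part C (helper1)

Local vanishing of the obstruction.
-/

set_option autoImplicit false
universe u
open CategoryTheory CategoryTheory.Limits AlgebraicGeometry Opposite

namespace Groth.Agent.H1.FppfDesc

local notation "Et" => Scheme.etalePrecoverage

variable {S : Scheme.{u}}

/-- geometric points lift along finite surjective morphisms -/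
theorem exists_pt_lift {X Y : Scheme.{u}} (f : X ⟶ Y) [IsFinite f] [Surjective f] (Ω : Type u)
    [Field Ω] [IsAlgClosed Ω] (η : Spec (.of Ω) ⟶ Y) : ∃ ξ : Spec (.of Ω) ⟶ X, ξ ≫ f = η := by
  obtain ⟨x, hx⟩ := f.surjective (η default)
  have hfin : (f.residueFieldMap x).hom.Finite :=
    Groth.Agent.Lib.helper13.EL.finite_residueFieldMap_of_quasiFiniteAt
      (Scheme.Hom.quasiFiniteAt _ _)
  obtain ⟨ζ, h1, -⟩ := Groth.Agent.H1.FinStalkGeom.exists_geomPt_of_isIntegral f η x hx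
    hfin.to_isIntegral
  exact ⟨ζ, h1⟩

/-- the pairing of two morphisms of étale `S`-schemes -/
noncomputable def prodEtLiftEt {U₁ U₂ U₃ : S.Etale} (k₁ : U₃ ⟶ U₁) (k₂ : U₃ ⟶ U₂) :
    U₃ ⟶ prodEt U₁ U₂ :=
  MorphismProperty.Over.homMk (pullback.lift k₁.left k₂.left
    ((MorphismProperty.Over.w k₁).trans (MorphismProperty.Over.w k₂).symm))
    ((Category.assoc _ _ _).symm.trans
      ((congrArg (fun k => k ≫ U₁.hom) (pullback.lift_fst _ _ _)).trans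
        (MorphismProperty.Over.w k₁))) trivial

theorem prodEtLiftEt_fst {U₁ U₂ U₃ : S.Etale} (k₁ : U₃ ⟶ U₁) (k₂ : U₃ ⟶ U₂) :
    prodEtLiftEt k₁ k₂ ≫ prodEtFst U₁ U₂ = k₁ := by
  apply MorphismProperty.Over.Hom.ext
  exact pullback.lift_fst _ _ _

theorem prodEtLiftEt_snd {U₁ U₂ U₃ : S.Etale} (k₁ : U₃ ⟶ U₁) (k₂ : U₃ ⟶ U₂) :
    prodEtLiftEt k₁ k₂ ≫ prodEtSnd U₁ U₂ = k₂ := by
  apply MorphismProperty.Over.Hom.ext
  exact pullback.lift_snd _ _ _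

/-- `Y ×_S U₀` -/
noncomputable def prodOE (Y : Over S) (U₀ : S.Etale) : Over S :=
  Over.mk (pullback.fst Y.hom U₀.hom ≫ Y.hom)

noncomputable def prodOEFst (Y : Over S) (U₀ : S.Etale) : prodOE Y U₀ ⟶ Y :=
  Over.homMk (pullback.fst Y.hom U₀.hom) rfl

noncomputable def prodOESnd (Y : Over S) (U₀ : S.Etale) : prodOE Y U₀ ⟶ (EtFppf.a S).obj U₀ :=
  Over.homMk (pullback.snd Y.hom U₀.hom) pullback.condition.symm

instance (Y : Over S) (U₀ : S.Etale) : Etale (prodOEFst Y U₀).left := by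
  haveI : Etale U₀.hom := U₀.prop
  change Etale (pullback.fst Y.hom U₀.hom)
  infer_instance

theorem c3 {A B C D E : Scheme.{u}} (z : A ⟶ B) (f : B ⟶ C) (g : C ⟶ D) (h : D ⟶ E) {y : A ⟶ C}
    {t : A ⟶ D} (h1 : z ≫ f = y) (h2 : y ≫ g = t) : z ≫ f ≫ g ≫ h = t ≫ h := by
  rw [← Category.assoc, h1, ← Category.assoc, h2]

theorem c2 {A B C D : Scheme.{u}} (z : A ⟶ B) (f : B ⟶ C) (g : C ⟶ D) {y : A ⟶ C}
    (h1 : z ≫ f = y) : z ≫ f ≫ g = y ≫ g := by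
  rw [← Category.assoc, h1]

theorem hom_ext_aux {A B C D E : Scheme.{u}} (w : A ⟶ B) (ν : B ⟶ C) (pr : C ⟶ D) (l : A ⟶ E)
    (κ : E ⟶ C) (a : B ⟶ D) (k : E ⟶ D) (h1 : ν ≫ pr = a) (h2 : κ ≫ pr = k)
    (h3 : w ≫ a = l ≫ k) : (w ≫ ν) ≫ pr = (l ≫ κ) ≫ pr := by
  rw [Category.assoc, Category.assoc, h1, h2, h3]

variable {G : BigSite.Ab Et S}

theorem local_vanish (hLC : LC G) (hEQ : EQ G) {V Y : Over S} (p : V ⟶ Y)
    (x : G.obj.obj (op V))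
    (hx : ∀ {Z : Over S} (q₁ q₂ : Z ⟶ V), q₁ ≫ p = q₂ ≫ p →
      G.obj.map q₁.op x = G.obj.map q₂.op x)
    {Ω : Type u} [Field Ω] [IsAlgClosed Ω] (ξ₀ : Spec (.of Ω) ⟶ V.left)
    {V₁ : Over S} (e₁ : V₁ ⟶ V) (v₁ : Spec (.of Ω) ⟶ V₁.left) (U₀ : S.Etale)
    (m : V₁ ⟶ (EtFppf.a S).obj U₀) (s : G.obj.obj (op ((EtFppf.a S).obj U₀)))
    (hv₁ : v₁ ≫ e₁.left = ξ₀) (hx₀ : G.obj.map e₁.op x = G.obj.map m.op s)
    (y₁ : Spec (.of Ω) ⟶ (prodOE Y U₀).left)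
    (hy₁b : y₁ ≫ pullback.snd Y.hom U₀.hom = v₁ ≫ m.left)
    (ξ : Spec (.of Ω) ⟶ V.left) (hξ : ξ ≫ p.left = ξ₀ ≫ p.left)
    (ξ' : Spec (.of Ω) ⟶ (pb (prodOEFst Y U₀) p).left)
    (hξ'a : ξ' ≫ pullback.fst (prodOEFst Y U₀).left p.left = y₁)
    (hξ'b : ξ' ≫ pullback.snd (prodOEFst Y U₀).left p.left = ξ) :
    ∃ (W : Over S) (c : W ⟶ pb (prodOEFst Y U₀) p) (w : Spec (.of Ω) ⟶ W.left),
      Etale c.left ∧ w ≫ c.left = ξ' ∧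
        G.obj.map c.op (G.obj.map (pbSnd (prodOEFst Y U₀) p).op x -
          G.obj.map (pbFst (prodOEFst Y U₀) p).op (G.obj.map (prodOESnd Y U₀).op s)) = 0 := by
  obtain ⟨V₂, e₂, v₂, U₀', m', s', he₂, hv₂, hx'⟩ := hLC V x Ω ξ
  haveI : Etale e₂.left := he₂
  obtain ⟨ζ, hζa, hζb⟩ : ∃ ζ : Spec (.of Ω) ⟶ (pb p p).left,
      ζ ≫ pullback.fst p.left p.left = ξ₀ ∧ ζ ≫ pullback.snd p.left p.left = ξ :=
    ⟨pullback.lift ξ₀ ξ hξ.symm, pullback.lift_fst _ _ _, pullback.lift_snd _ _ _⟩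
  obtain ⟨U₃, k₁, k₂, l, hl1, hl2, hk⟩ := key hEQ (pbFst p p) (pbSnd p p) x
    (hx _ _ (pb_condition p p)) ζ e₁ v₁ U₀ m s (hv₁.trans hζa.symm) hx₀ e₂ v₂ U₀' m' s'
    (hv₂.trans hζb.symm) hx'
  -- the neighbourhood
  obtain ⟨eY, heY⟩ : ∃ eY : prodOE Y U₀ ⟶ Y, eY = prodOEFst Y U₀ := ⟨_, rfl⟩
  obtain ⟨a₁, ha₁⟩ : ∃ a₁ : pb (pbSnd (prodOEFst Y U₀) p) e₂ ⟶ (EtFppf.a S).obj U₀,
      a₁ = pbFst (pbSnd (prodOEFst Y U₀) p) e₂ ≫ pbFst (prodOEFst Y U₀) p ≫ prodOESnd Y U₀ :=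
    ⟨_, rfl⟩
  obtain ⟨b₁, hb₁⟩ : ∃ b₁ : pb (pbSnd (prodOEFst Y U₀) p) e₂ ⟶ (EtFppf.a S).obj U₀',
      b₁ = pbSnd (pbSnd (prodOEFst Y U₀) p) e₂ ≫ m' := ⟨_, rfl⟩
  obtain ⟨ν, hνa, hνb⟩ : ∃ ν : pb (pbSnd (prodOEFst Y U₀) p) e₂ ⟶
      (EtFppf.a S).obj (prodEt U₀ U₀'), ν ≫ (EtFppf.a S).map (prodEtFst U₀ U₀') = a₁ ∧
        ν ≫ (EtFppf.a S).map (prodEtSnd U₀ U₀') = b₁ :=
    ⟨prodEtLift a₁ b₁, prodEtLift_fst _ _, prodEtLift_snd _ _⟩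
  obtain ⟨κ, hκa, hκb⟩ : ∃ κ : U₃ ⟶ prodEt U₀ U₀', κ ≫ prodEtFst U₀ U₀' = k₁ ∧
      κ ≫ prodEtSnd U₀ U₀' = k₂ := ⟨prodEtLiftEt k₁ k₂, prodEtLiftEt_fst _ _, prodEtLiftEt_snd _ _⟩
  haveI : Etale ((EtFppf.a S).map κ).left := Groth.Agent.H1.EtGerm.etale_left κ
  -- points
  obtain ⟨w₁, hw₁a, hw₁b⟩ : ∃ w₁ : Spec (.of Ω) ⟶ (pb (pbSnd (prodOEFst Y U₀) p) e₂).left,
      w₁ ≫ pullback.fst (pbSnd (prodOEFst Y U₀) p).left e₂.left = ξ' ∧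
        w₁ ≫ pullback.snd (pbSnd (prodOEFst Y U₀) p).left e₂.left = v₂ :=
    ⟨pullback.lift ξ' v₂ (hξ'b.trans hv₂.symm), pullback.lift_fst _ _ _, pullback.lift_snd _ _ _⟩
  have hνa' : ν.left ≫ pullback.fst U₀.hom U₀'.hom = a₁.left := congrArg (fun k => k.left) hνa
  have hνb' : ν.left ≫ pullback.snd U₀.hom U₀'.hom = b₁.left := congrArg (fun k => k.left) hνb
  have hκa' : κ.left ≫ pullback.fst U₀.hom U₀'.hom = k₁.left := congrArg (fun k => k.left) hκa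
  have hκb' : κ.left ≫ pullback.snd U₀.hom U₀'.hom = k₂.left := congrArg (fun k => k.left) hκb
  have hwa : w₁ ≫ a₁.left = v₁ ≫ m.left := by
    rw [ha₁]
    change w₁ ≫ pullback.fst (pbSnd (prodOEFst Y U₀) p).left e₂.left ≫
      pullback.fst (prodOEFst Y U₀).left p.left ≫ pullback.snd Y.hom U₀.hom = _
    rw [c3 w₁ _ _ _ hw₁a hξ'a, hy₁b]
  have hwb : w₁ ≫ b₁.left = v₂ ≫ m'.left := by
    rw [hb₁]
    exact c2 w₁ _ _ hw₁b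
  have hwν : w₁ ≫ ν.left = l ≫ ((EtFppf.a S).map κ).left := by
    apply pullback.hom_ext
    · exact hom_ext_aux w₁ ν.left _ l _ a₁.left k₁.left hνa' hκa' (hwa.trans hl1.symm)
    · exact hom_ext_aux w₁ ν.left _ l _ b₁.left k₂.left hνb' hκb' (hwb.trans hl2.symm)
  obtain ⟨w, hwa', -⟩ : ∃ w : Spec (.of Ω) ⟶ (pb ν ((EtFppf.a S).map κ)).left,
      w ≫ pullback.fst ν.left ((EtFppf.a S).map κ).left = w₁ ∧
        w ≫ pullback.snd ν.left ((EtFppf.a S).map κ).left = l :=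
    ⟨pullback.lift w₁ l hwν, pullback.lift_fst _ _ _, pullback.lift_snd _ _ _⟩
  refine ⟨pb ν ((EtFppf.a S).map κ), pbFst ν ((EtFppf.a S).map κ) ≫
    pbFst (pbSnd (prodOEFst Y U₀) p) e₂, w, ?_, ?_, ?_⟩
  · have h1 : Etale (pullback.fst ν.left ((EtFppf.a S).map κ).left) := inferInstance
    have h2 : Etale (pullback.fst (pbSnd (prodOEFst Y U₀) p).left e₂.left) := inferInstance
    exact MorphismProperty.comp_mem (W := @Etale) _ _ h1 h2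
  · change w ≫ pullback.fst ν.left ((EtFppf.a S).map κ).left ≫
      pullback.fst (pbSnd (prodOEFst Y U₀) p).left e₂.left = ξ'
    rw [c2 w _ _ hwa', hw₁a]
  · -- morphism identities
    obtain ⟨γ, hγ⟩ : ∃ γ : pb ν ((EtFppf.a S).map κ) ⟶ pb (pbSnd (prodOEFst Y U₀) p) e₂,
        γ = pbFst ν ((EtFppf.a S).map κ) := ⟨_, rfl⟩
    obtain ⟨δ, hδ⟩ : ∃ δ : pb ν ((EtFppf.a S).map κ) ⟶ (EtFppf.a S).obj U₃,
        δ = pbSnd ν ((EtFppf.a S).map κ) := ⟨_, rfl⟩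
    have hγδ : γ ≫ ν = δ ≫ (EtFppf.a S).map κ := by rw [hγ, hδ]; exact pb_condition _ _
    rw [← hγ]
    have e1 : (γ ≫ pbFst (pbSnd (prodOEFst Y U₀) p) e₂) ≫ pbSnd (prodOEFst Y U₀) p =
        (γ ≫ pbSnd (pbSnd (prodOEFst Y U₀) p) e₂) ≫ e₂ := by
      rw [Category.assoc, Category.assoc, pb_condition]
    have e2 : (γ ≫ pbSnd (pbSnd (prodOEFst Y U₀) p) e₂) ≫ m' = δ ≫ (EtFppf.a S).map k₂ := by
      rw [Category.assoc, ← hb₁, ← hνb, ← Category.assoc, hγδ, Category.assoc,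
        ← Functor.map_comp, hκb]
    have e3 : (γ ≫ pbFst (pbSnd (prodOEFst Y U₀) p) e₂) ≫ pbFst (prodOEFst Y U₀) p ≫
        prodOESnd Y U₀ = δ ≫ (EtFppf.a S).map k₁ := by
      rw [Category.assoc, ← ha₁, ← hνa, ← Category.assoc, hγδ, Category.assoc,
        ← Functor.map_comp, hκa]
    have t1 : G.obj.map (γ ≫ pbFst (pbSnd (prodOEFst Y U₀) p) e₂).op
        (G.obj.map (pbSnd (prodOEFst Y U₀) p).op x) =
        G.obj.map δ.op (G.obj.map ((EtFppf.a S).map k₂).op s') := by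
      rw [map_map, e1, ← map_map, hx', map_map, e2, ← map_map]
    have t2 : G.obj.map (γ ≫ pbFst (pbSnd (prodOEFst Y U₀) p) e₂).op
        (G.obj.map (pbFst (prodOEFst Y U₀) p).op (G.obj.map (prodOESnd Y U₀).op s)) =
        G.obj.map δ.op (G.obj.map ((EtFppf.a S).map k₁).op s) := by
      rw [map_map G (prodOESnd Y U₀), map_map, e3, ← map_map]
    rw [map_sub, t1, t2, hk, sub_self]

end Groth.Agent.H1.FppfDesc
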