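import Groth.Agent.Lib.Helper1.FppfDescC

/-!
# Descent along finite surjective morphisms for "locally constant" big étale sheaves, part D (helper1)

Local existence of the descended section, via the stalk formula for finite morphisms.
-/

set_option autoImplicit false
universe u
open CategoryTheory CategoryTheory.Limits AlgebraicGeometry Opposite

namespace Groth.Agent.H1.FppfDesc

open Groth.Agent.H1.EtGerm Groth.Agent.H1.PullGerm Groth.Agent.H1.BigSmall

local notation "Et" => Scheme.etalePrecoverage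

variable {S : Scheme.{u}} {G : BigSite.Ab Et S}

theorem exists_local_descent (hLC : LC G) (hEQ : EQ G) {V Y : Over S} (p : V ⟶ Y)
    [IsFinite p.left] [Surjective p.left] (x : G.obj.obj (op V))
    (hx : ∀ {Z : Over S} (q₁ q₂ : Z ⟶ V), q₁ ≫ p = q₂ ≫ p →
      G.obj.map q₁.op x = G.obj.map q₂.op x)
    {Ω : Type u} [Field Ω] [IsAlgClosed Ω] (η : Spec (.of Ω) ⟶ Y.left) :
    ∃ (Y₂ : Over S) (e₂ : Y₂ ⟶ Y) (y₂ : Spec (.of Ω) ⟶ Y₂.left) (σ : G.obj.obj (op Y₂)),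
      Etale e₂.left ∧ y₂ ≫ e₂.left = η ∧
        G.obj.map (pbSnd e₂ p).op x = G.obj.map (pbFst e₂ p).op σ := by
  obtain ⟨ξ₀, hξ₀⟩ := exists_pt_lift p.left Ω η
  obtain ⟨V₁, e₁, v₁, U₀, m, s, he₁, hv₁, hx₀⟩ := hLC V x Ω ξ₀
  have hw : η ≫ Y.hom = (v₁ ≫ m.left) ≫ U₀.hom := by
    have h1 : m.left ≫ U₀.hom = V₁.hom := Over.w m
    have h2 : e₁.left ≫ V.hom = V₁.hom := Over.w e₁
    have h3 : p.left ≫ Y.hom = V.hom := Over.w p
    rw [Category.assoc, h1, ← h2, ← Category.assoc, hv₁, ← h3, ← Category.assoc, hξ₀]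
  obtain ⟨y₁, hy₁a, hy₁b⟩ : ∃ y₁ : Spec (.of Ω) ⟶ (prodOE Y U₀).left,
      y₁ ≫ pullback.fst Y.hom U₀.hom = η ∧ y₁ ≫ pullback.snd Y.hom U₀.hom = v₁ ≫ m.left :=
    ⟨pullback.lift η (v₁ ≫ m.left) hw, pullback.lift_fst _ _ _, pullback.lift_snd _ _ _⟩
  let F : EtCoh.Ab V.left := (rho V.hom).obj G
  let V₀ : Y.left.Etale := Scheme.Etale.mk (prodOEFst Y U₀).left
  let v₀ : Lift η V₀ := Lift.mk η y₁ hy₁a
  obtain ⟨d, hd⟩ : ∃ d : G.obj.obj (op (pb (prodOEFst Y U₀) p)), d =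
      G.obj.map (pbSnd (prodOEFst Y U₀) p).op x -
        G.obj.map (pbFst (prodOEFst Y U₀) p).op (G.obj.map (prodOESnd Y U₀).op s) := ⟨_, rfl⟩
  have hs : ∀ ξ : {ξ : Spec (.of Ω) ⟶ V.left // ξ ≫ p.left = η},
      germ ξ.1 F ((EtCoh.bc p.left).obj V₀) (liftBc p.left ξ.1 ξ.2 v₀) d = 0 := by
    rintro ⟨ξ, hξ⟩
    obtain ⟨ξ', hξ'a, hξ'b⟩ : ∃ ξ' : Spec (.of Ω) ⟶ (pb (prodOEFst Y U₀) p).left,
        ξ' ≫ pullback.fst (prodOEFst Y U₀).left p.left = y₁ ∧
          ξ' ≫ pullback.snd (prodOEFst Y U₀).left p.left = ξ :=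
      ⟨pullback.lift y₁ ξ (hy₁a.trans hξ.symm), pullback.lift_fst _ _ _, pullback.lift_snd _ _ _⟩
    obtain ⟨W, c, w, hc, hwc, hcd⟩ := local_vanish hLC hEQ p x hx ξ₀ e₁ v₁ U₀ m s hv₁ hx₀ y₁ hy₁b
      ξ (hξ.trans hξ₀.symm) ξ' hξ'a hξ'b
    rw [← hd] at hcd
    haveI : Etale c.left := hc
    have hU : Etale (c.left ≫ pullback.snd (prodOEFst Y U₀).left p.left) :=
      MorphismProperty.comp_mem (W := @Etale) _ _ hc
        (MorphismProperty.pullback_snd (P := @Etale) _ _ inferInstance)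
    let U : V.left.Etale := Scheme.Etale.mk (c.left ≫ pullback.snd (prodOEFst Y U₀).left p.left)
    let cl : U.left ⟶ ((EtCoh.bc p.left).obj V₀).left := c.left
    let a : U ⟶ (EtCoh.bc p.left).obj V₀ := MorphismProperty.Over.homMk cl rfl trivial
    have hwU : w ≫ c.left ≫ pullback.snd (prodOEFst Y U₀).left p.left = ξ := by
      rw [← Category.assoc, hwc, hξ'b]
    let y : Lift ξ U := Lift.mk ξ w hwU
    rw [germ_eq_zero_iff]
    refine ⟨U, a, y, ?_, ?_⟩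
    · apply Lift.ext
      change w ≫ c.left = pullback.lift y₁ ξ _
      rw [hwc]
      apply pullback.hom_ext
      · rw [pullback.lift_fst]; exact hξ'a
      · rw [pullback.lift_snd]; exact hξ'b
    · let θ : Over.mk ((c.left ≫ pullback.snd (prodOEFst Y U₀).left p.left) ≫ V.hom) ⟶ W :=
        Over.homMk (𝟙 W.left) (by
          have := Over.w c
          change 𝟙 W.left ≫ W.hom = (c.left ≫ pullback.snd (prodOEFst Y U₀).left p.left) ≫ V.hom
          rw [Category.id_comp, ← this, Category.assoc]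
          rfl)
      have hθ : (Over.map V.hom).map ((EtFppf.a V.left).map a) = θ ≫ c := by
        apply Over.OverMorphism.ext
        change c.left = 𝟙 W.left ≫ c.left
        rw [Category.id_comp]
      change G.obj.map ((Over.map V.hom).map ((EtFppf.a V.left).map a)).op d = 0
      rw [hθ]
      exact (map_map G c θ d).symm.trans (by rw [hcd]; exact map_zero _)
  obtain ⟨V₁', g, v₁', hv, hdz⟩ := Groth.Agent.H1.FinStalk.inj p.left η F V₀ v₀ d hs
  have hV₁' : Etale V₁'.hom := V₁'.prop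
  have hg : g.left ≫ (prodOEFst Y U₀).left = V₁'.hom := MorphismProperty.Over.w g
  let Y₂ : Over S := Over.mk (V₁'.hom ≫ Y.hom)
  let e₂ : Y₂ ⟶ Y := Over.homMk V₁'.hom rfl
  let g' : Y₂ ⟶ prodOE Y U₀ := Over.homMk g.left (by
    change g.left ≫ pullback.fst Y.hom U₀.hom ≫ Y.hom = V₁'.hom ≫ Y.hom
    rw [← Category.assoc]
    exact congrArg (fun k => k ≫ Y.hom) hg)
  refine ⟨Y₂, e₂, v₁'.hom, G.obj.map g'.op (G.obj.map (prodOESnd Y U₀).op s), hV₁', v₁'.hom_comp,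
    ?_⟩
  let β : pb e₂ p ⟶ pb (prodOEFst Y U₀) p :=
    (Over.map V.hom).map ((EtFppf.a V.left).map ((EtCoh.bc p.left).map g))
  have hβ : G.obj.map β.op d = 0 := hdz
  have hβ1 : β ≫ pbSnd (prodOEFst Y U₀) p = pbSnd e₂ p := by
    apply Over.OverMorphism.ext
    exact bc_map_left_snd p.left g
  have hβ2 : β ≫ pbFst (prodOEFst Y U₀) p = pbFst e₂ p ≫ g' := by
    apply Over.OverMorphism.ext
    exact bc_map_left_fst p.left g
  rw [hd, map_sub, map_map, map_map, hβ1, hβ2, sub_eq_zero] at hβ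
  rw [hβ]
  exact (map_map G g' (pbFst e₂ p) _).symm

end Groth.Agent.H1.FppfDesc
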