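import Groth.Agent.Lib.Helper1.FppfDescD

/-!
# Descent along finite surjective morphisms for "locally constant" big étale sheaves, part E (helper1)

The sheaf condition for a single finite surjective morphism, and the fppf sheaf property.
-/

set_option autoImplicit false
universe u
open CategoryTheory CategoryTheory.Limits AlgebraicGeometry Opposite

namespace Groth.Agent.H1.FppfDesc

local notation "Et" => Scheme.etalePrecoverage

variable {S : Scheme.{u}} {G : BigSite.Ab Et S}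

theorem inj_of_finite (hLC : LC G) (hEQ : EQ G) {V Y : Over S} (p : V ⟶ Y) [IsFinite p.left]
    [Surjective p.left] (σ : G.obj.obj (op Y)) (h : G.obj.map p.op σ = 0) : σ = 0 :=
  inj_of_points hLC hEQ p (fun Ω _ _ η => exists_pt_lift p.left Ω η) σ h

theorem isSheafFor_singleton (hLC : LC G) (hEQ : EQ G) {V Y : Over S} (p : V ⟶ Y)
    (h1 : IsFinite p.left) (h2 : Surjective p.left) :
    Presieve.IsSheafFor (G.obj ⋙ forget AddCommGrpCat) (Presieve.singleton p) := by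
  rw [Presieve.isSheafFor_singleton]
  intro x hx
  change G.obj.obj (op V) at x
  have hx' : ∀ {Z : Over S} (q₁ q₂ : Z ⟶ V), q₁ ≫ p = q₂ ≫ p →
      G.obj.map q₁.op x = G.obj.map q₂.op x := fun q₁ q₂ h => hx q₁ q₂ h
  have hloc : ∀ y : Y.left, ∃ (Y₂ : Over S) (e₂ : Y₂ ⟶ Y) (σ : G.obj.obj (op Y₂)),
      Etale e₂.left ∧ y ∈ Set.range e₂.left ∧
        G.obj.map (pbSnd e₂ p).op x = G.obj.map (pbFst e₂ p).op σ := by
    intro y
    obtain ⟨Y₂, e₂, y₂, σ, he, hy, hσ⟩ :=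
      exists_local_descent hLC hEQ p x hx' (geomPtAC Y.left y)
    refine ⟨Y₂, e₂, σ, he, ⟨y₂ default, ?_⟩, hσ⟩
    exact (Scheme.Hom.comp_apply y₂ _ default).symm.trans
      (by rw [hy]; exact geomPtAC_apply _ _ _)
  choose Y₂ e₂ σ he hy hσ using hloc
  have hcompat : ∀ (i j : Y.left) (Z : Over S) (a : Z ⟶ Y₂ i) (b : Z ⟶ Y₂ j),
      a ≫ e₂ i = b ≫ e₂ j → G.obj.map a.op (σ i) = G.obj.map b.op (σ j) := by
    intro i j Z a b hab
    haveI : IsFinite (pbFst (a ≫ e₂ i) p).left :=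
      (inferInstance : IsFinite (pullback.fst (a ≫ e₂ i).left p.left))
    haveI : Surjective (pbFst (a ≫ e₂ i) p).left :=
      (inferInstance : Surjective (pullback.fst (a ≫ e₂ i).left p.left))
    obtain ⟨li, hli1, hli2⟩ : ∃ li : pb (a ≫ e₂ i) p ⟶ pb (e₂ i) p,
        li ≫ pbFst (e₂ i) p = pbFst (a ≫ e₂ i) p ≫ a ∧
          li ≫ pbSnd (e₂ i) p = pbSnd (a ≫ e₂ i) p :=
      ⟨pbLift (pbFst (a ≫ e₂ i) p ≫ a) (pbSnd (a ≫ e₂ i) p)
        (by rw [Category.assoc]; exact pb_condition _ _), pbLift_fst _ _ _, pbLift_snd _ _ _⟩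
    obtain ⟨lj, hlj1, hlj2⟩ : ∃ lj : pb (a ≫ e₂ i) p ⟶ pb (e₂ j) p,
        lj ≫ pbFst (e₂ j) p = pbFst (a ≫ e₂ i) p ≫ b ∧
          lj ≫ pbSnd (e₂ j) p = pbSnd (a ≫ e₂ i) p :=
      ⟨pbLift (pbFst (a ≫ e₂ i) p ≫ b) (pbSnd (a ≫ e₂ i) p)
        (by rw [Category.assoc, ← hab]; exact pb_condition _ _), pbLift_fst _ _ _, pbLift_snd _ _ _⟩
    have ti : G.obj.map (pbFst (a ≫ e₂ i) p).op (G.obj.map a.op (σ i)) =
        G.obj.map (pbSnd (a ≫ e₂ i) p).op x := by
      rw [map_map, ← hli1, ← map_map, ← hσ i, map_map, hli2]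
    have tj : G.obj.map (pbFst (a ≫ e₂ i) p).op (G.obj.map b.op (σ j)) =
        G.obj.map (pbSnd (a ≫ e₂ i) p).op x := by
      rw [map_map, ← hlj1, ← map_map, ← hσ j, map_map, hlj2]
    have hdiff : G.obj.map (pbFst (a ≫ e₂ i) p).op
        (G.obj.map a.op (σ i) - G.obj.map b.op (σ j)) = 0 := by
      rw [map_sub, ti, tj, sub_self]
    exact sub_eq_zero.mp (inj_of_finite hLC hEQ (pbFst (a ≫ e₂ i) p) _ hdiff)
  obtain ⟨τ, hτ⟩ := exists_glue G Y₂ e₂ he (fun y => ⟨y, hy y⟩) σ hcompat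
  haveI := h1
  haveI := h2
  have hτx : G.obj.map p.op τ = x := by
    have h0 : G.obj.map p.op τ - x = 0 := by
      apply eq_zero_of_etale_local
      intro v
      haveI : Etale (e₂ (p.left v)).left := he _
      refine ⟨pb (e₂ (p.left v)) p, pbSnd (e₂ (p.left v)) p, ?_, ?_, ?_⟩
      · exact (inferInstance : Etale (pullback.snd (e₂ (p.left v)).left p.left))
      · obtain ⟨y', hy'⟩ := hy (p.left v)
        obtain ⟨z, -, hz⟩ := Scheme.Pullback.exists_preimage_pullback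
          (f := (e₂ (p.left v)).left) (g := p.left) y' v hy'
        exact ⟨z, hz⟩
      · rw [map_sub, map_map, ← pb_condition, ← map_map, hτ, hσ, sub_self]
    exact sub_eq_zero.mp h0
  refine ⟨τ, hτx, ?_⟩
  intro τ' hτ'
  change G.obj.obj (op Y) at τ'
  have hτ'' : G.obj.map p.op τ' = x := hτ'
  have h0 : τ' - τ = 0 := inj_of_finite hLC hEQ p _ (by rw [map_sub, hτ'', hτx, sub_self])
  exact sub_eq_zero.mp h0

/-- **A locally constant big étale sheaf is an fppf sheaf.** -/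
theorem isSheaf_fppf (hLC : LC G) (hEQ : EQ G) : Presheaf.IsSheaf (EtFppf.J S) G.obj := by
  rw [Presheaf.isSheaf_iff_isSheaf_forget _ _ (forget AddCommGrpCat), isSheaf_iff_isSheaf_of_type]
  exact FppfRed.isSheaf_fppf _ (isSheaf_type G)
    (fun Y V p h1 h2 => isSheafFor_singleton hLC hEQ p h1 h2)

end Groth.Agent.H1.FppfDesc
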