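import Groth.Agent.Lib.Helper1.CechFinal
import Groth.Agent.Lib.Helper1.BigPushEpi
import Groth.Agent.Lib.Helper1.SheafExactLoc

/-!
# Vanishing of `R^q f_big,*` on the big fppf site for finite `f` on étale-locally Čech exact
sheaves (helper1)
-/

set_option autoImplicit false
universe u
open CategoryTheory CategoryTheory.Limits AlgebraicGeometry Opposite

namespace Groth.Agent.H1.FppfFinPush

open Groth.Agent.H1.CechK Groth.Agent.H1.CechRep Groth.Agent.H1.CechPts Groth.Agent.H1.FppfDesc
  Groth.Agent.H1.CechCE Groth.Agent.H1.FppfPull Groth.Agent.H1.SheafExactLoc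

local notation "Et" => Scheme.etalePrecoverage

variable {S : Scheme.{u}} [EtFppf.ACont S]

/-- `ε` on morphisms -/
noncomputable def epsMap {A B : EtFppf.AbF S} (m : A ⟶ B) : epsObj S A ⟶ epsObj S B :=
  ObjectProperty.homMk m.hom

theorem epsMap_comp {A B C : EtFppf.AbF S} (m : A ⟶ B) (k : B ⟶ C) :
    epsMap m ≫ epsMap k = epsMap (m ≫ k) := rfl

theorem epsMap_zero {A B : EtFppf.AbF S} : epsMap (0 : A ⟶ B) = 0 := rfl

/-- pointwise criterion for a sieve to be covering for the big étale topology -/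
theorem mem_bigEtale_of_pointwise {W : Over S} (R : Sieve W)
    (h : ∀ w : W.left, ∃ (W' : Over S) (c : W' ⟶ W), Etale c.left ∧ w ∈ Set.range c.left ∧ R c) :
    R ∈ QuotSh.J Et S W := by
  choose U ε h1 h2 h3 using h
  refine (QuotSh.J Et S).superset_covering ?_
    (Groth.Agent.H1.FppfRed.ofArrows_mem_etale_over U ε h1 (fun t => ⟨t, h2 t⟩))
  rintro Z g ⟨Z', a, b, ⟨w⟩, rfl⟩
  exact R.downward_closed (h3 w) a

/-- the sieve of `W`-schemes over which a section becomes a coboundary -/
noncomputable def bigSieve {A B : EtFppf.AbF S} (δ : A ⟶ B) (W : Over S)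
    (x : B.obj.obj (op W)) : Sieve W where
  arrows V g := ∃ y : A.obj.obj (op V), δ.hom.app (op V) y = B.obj.map g.op x
  downward_closed := by
    rintro V V' g ⟨y, hy⟩ h
    refine ⟨A.obj.map h.op y, ?_⟩
    rw [map_app_apply, hy, pmap_map]

theorem bigSieve_mem {G : EtFppf.AbF S} (R : InjectiveResolution G) (hG : CE G.obj) (n : ℕ)
    (W : Over S) (x : (R.cocomplex.X (n + 1)).obj.obj (op W))
    (hx : (R.cocomplex.d (n + 1) (n + 2)).hom.app (op W) x = 0) :
    bigSieve (R.cocomplex.d n (n + 1)) W x ∈ QuotSh.J Et S W := by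
  apply mem_bigEtale_of_pointwise
  intro w
  obtain ⟨W', c, z', y, hc, hz', hy⟩ := exists_local_primitive R hG n W x hx
    (AlgebraicClosure (W.left.residueField w)) (geomPtAC W.left w ≫ W.hom)
    (mkPt (geomPtAC W.left w) rfl)
  obtain ⟨zl, hzl⟩ : ∃ zl : Spec (.of (AlgebraicClosure (W.left.residueField w))) ⟶ W'.left,
      zl = z'.left := ⟨_, rfl⟩
  refine ⟨W', c, hc, ⟨zl default, ?_⟩, ⟨y, hy⟩⟩
  have h1 : zl ≫ c.left = geomPtAC W.left w := by
    rw [hzl]
    exact congrArg (fun k => k.left) hz'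
  rw [← Scheme.Hom.comp_apply, h1]
  exact geomPtAC_apply _ _ _

/-- the sections of an injective resolution of an étale-locally Čech exact sheaf form an exact
complex of sheaves on the big étale site -/
theorem exact_eps_resolution {G : EtFppf.AbF S} (R : InjectiveResolution G) (hG : CE G.obj)
    (n : ℕ) :
    (ShortComplex.mk (epsMap (R.cocomplex.d n (n + 1))) (epsMap (R.cocomplex.d (n + 1) (n + 2)))
      (by rw [epsMap_comp, R.cocomplex.d_comp_d, epsMap_zero])).Exact := by
  apply SheafExactLoc.exact_of_locally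
  intro W x hx
  exact ⟨bigSieve (R.cocomplex.d n (n + 1)) W x, bigSieve_mem R @hG n W x hx, fun g hg => hg⟩

section Push

variable {X Y : Scheme.{u}} [EtFppf.ACont X] [EtFppf.ACont Y] (f : X ⟶ Y) [IsFinite f]

theorem exact_pushBig_resolution {G : EtFppf.AbF X} (R : InjectiveResolution G) (hG : CE G.obj)
    (n : ℕ) :
    (ShortComplex.mk ((EtFppf.pushBig f).map (R.cocomplex.d n (n + 1)))
      ((EtFppf.pushBig f).map (R.cocomplex.d (n + 1) (n + 2)))
      (by rw [← Functor.map_comp, R.cocomplex.d_comp_d, Functor.map_zero])).Exact := by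
  have h1 := exact_eps_resolution R @hG n
  haveI := Groth.Agent.H1.BigPushEpi.preservesHomology_pushBig f
  have h2 := h1.map (BigSite.pushBig Et f AddCommGrpCat.{u + 1})
  apply SheafExactLoc.exact_of_locally
  intro U x hx
  obtain ⟨Rs, hRs, hl⟩ := SheafExactLoc.locally_of_exact _ h2 U x hx
  exact ⟨Rs, BigSite.J_mono BigSite.etalePrecoverage_le_fppfPrecoverage Y _ hRs,
    fun g hg => hl g hg⟩

/-- **Vanishing of `R^q f_big,*`** (big fppf site, `f` finite) on étale-locally Čech exact
sheaves. -/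
theorem isZero_RpushBig_of_ce (G : EtFppf.AbF X) (hG : CE G.obj) (n : ℕ) :
    IsZero ((EtFppf.RpushBig f (n + 1)).obj G) := by
  let R : InjectiveResolution G := InjectiveResolution.of G
  refine IsZero.of_iso ?_ (R.isoRightDerivedObj (EtFppf.pushBig f) (n + 1))
  change IsZero ((((EtFppf.pushBig f).mapHomologicalComplex _).obj R.cocomplex).homology (n + 1))
  rw [← HomologicalComplex.exactAt_iff_isZero_homology,
    HomologicalComplex.exactAt_iff' _ n (n + 1) (n + 2) (by simp) (by simp)]
  exact exact_pushBig_resolution f R @hG n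

end Push

end Groth.Agent.H1.FppfFinPush
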