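import Groth.Agent.Lib.Helper1.FppfDescE

/-!
# The pullback to the big site of a small étale sheaf is an fppf sheaf (helper1)

`G₀ = π_S⁻¹ F` satisfies the two properties `LC` and `EQ` of `FppfDesc`, hence is an fppf sheaf.
-/

set_option autoImplicit false
universe u
open CategoryTheory CategoryTheory.Limits AlgebraicGeometry Opposite

namespace Groth.Agent.H1.FppfLC

open Groth.Agent.H1.EtGerm Groth.Agent.H1.PullGerm Groth.Agent.H1.BigSmall Groth.Agent.H1.FppfDesc

local notation "Et" => Scheme.etalePrecoverage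

variable {S : Scheme.{u}} (F : EtCoh.Ab S)

/-- `π_S⁻¹ F` -/
noncomputable abbrev G₀ : BigSite.Ab Et S := (BigSite.piEtPull Et S).obj F

theorem unitS_bijective (U₀ : S.Etale) : Function.Bijective (unitS F U₀) := by
  haveI := (Groth.Agent.S6184.main S).2 F
  have h1 : IsIso ((BigSite.piEtAdj Et S).unit.app F) := inferInstance
  have h2 : IsIso ((sheafToPresheaf _ _).map ((BigSite.piEtAdj Et S).unit.app F)) := inferInstance
  have h3 : IsIso (((BigSite.piEtAdj Et S).unit.app F).hom.app (op U₀)) :=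
    inferInstanceAs (IsIso (((sheafToPresheaf _ _).map
      ((BigSite.piEtAdj Et S).unit.app F)).app (op U₀)))
  exact ConcreteCategory.bijective_of_isIso _

theorem unitS_res {U₀ U₁ : S.Etale} (k : U₁ ⟶ U₀) (s : F.obj.obj (op U₀)) :
    unitS F U₁ (F.obj.map k.op s) = (G₀ F).obj.map ((EtFppf.a S).map k).op (unitS F U₀ s) :=
  NatTrans.naturality_apply ((BigSite.piEtAdj Et S).unit.app F).hom k.op s

/-- the canonical isomorphism `(T.left → T.left → S) ≅ T` in `Over S` -/
noncomputable def topIso (T : Over S) :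
    (Over.map T.hom).obj ((EtFppf.a T.left).obj (EtCoh.top T.left)) ≅ T :=
  Over.isoMk (Iso.refl T.left) (by
    change 𝟙 T.left ≫ T.hom = 𝟙 T.left ≫ T.hom
    rfl)

/-- the tautological lift of a geometric point to the top object -/
noncomputable def tl {X : Scheme.{u}} {Ω : Type u} [Field Ω] [IsAlgClosed Ω]
    (ξ : Spec (.of Ω) ⟶ X) : Lift ξ (EtCoh.top X) := Lift.mk ξ ξ (Category.comp_id _)

theorem omega_nat {T : Over S} {U W : T.left.Etale} (g : W ⟶ U)
    (z : ((EtCoh.pull T.hom).obj F).obj.obj (op U)) :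
    (omega T.hom F).hom.hom.app (op W) (((EtCoh.pull T.hom).obj F).obj.map g.op z) =
      (G₀ F).obj.map ((Over.map T.hom).map ((EtFppf.a T.left).map g)).op
        ((omega T.hom F).hom.hom.app (op U) z) :=
  NatTrans.naturality_apply (omega T.hom F).hom.hom g.op z

theorem omega_injective {T : Over S} (U : T.left.Etale) :
    Function.Injective ((omega T.hom F).hom.hom.app (op U)) := by
  have h2 : IsIso ((sheafToPresheaf _ _).map (omega T.hom F).hom) := inferInstance
  have h3 : IsIso ((omega T.hom F).hom.hom.app (op U)) :=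
    inferInstanceAs (IsIso (((sheafToPresheaf _ _).map (omega T.hom F).hom).app (op U)))
  exact (ConcreteCategory.bijective_of_isIso _).1

theorem omega_surjective {T : Over S} (U : T.left.Etale) :
    Function.Surjective ((omega T.hom F).hom.hom.app (op U)) := by
  have h2 : IsIso ((sheafToPresheaf _ _).map (omega T.hom F).hom) := inferInstance
  have h3 : IsIso ((omega T.hom F).hom.hom.app (op U)) :=
    inferInstanceAs (IsIso (((sheafToPresheaf _ _).map (omega T.hom F).hom).app (op U)))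
  exact (ConcreteCategory.bijective_of_isIso _).2

theorem chainF {A B C D E F' : Scheme.{u}} (w : A ⟶ B) (f : B ⟶ C) (g : C ⟶ D) (b : B ⟶ E)
    (p : E ⟶ D) (ξ : A ⟶ F') (γ : F' ⟶ E) (m : F' ⟶ D) (h1 : b ≫ p = f ≫ g)
    (h3 : w ≫ b = ξ ≫ γ) (h4 : γ ≫ p = m) : (w ≫ f) ≫ g = ξ ≫ m := by
  rw [Category.assoc, ← h1, ← Category.assoc, h3, Category.assoc, h4]

theorem eq_G₀ : EQ (G₀ F) := by
  intro U₀ s₀ T m h Ω _ _ ξ
  obtain ⟨s, rfl⟩ := (unitS_bijective F U₀).2 s₀
  let γ : EtCoh.top T.left ⟶ (EtCoh.bc T.hom).obj U₀ :=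
    MorphismProperty.Over.homMk (pullback.lift m.left (𝟙 T.left)
      ((Over.w m).trans (Category.id_comp _).symm)) (pullback.lift_snd _ _ _) trivial
  have hγ : γ.left ≫ pullback.fst U₀.hom T.hom = m.left := pullback.lift_fst _ _ _
  have h1 : ((EtCoh.pull T.hom).obj F).obj.map γ.op (usec T.hom F U₀ s) = 0 := by
    apply omega_injective F (EtCoh.top T.left)
    rw [omega_nat, omega_usec, map_zero]
    have e : (Over.map T.hom).map ((EtFppf.a T.left).map γ) ≫ mproj T.hom U₀ =
        (topIso T).hom ≫ m := by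
      apply Over.OverMorphism.ext
      change γ.left ≫ pullback.fst U₀.hom T.hom = 𝟙 T.left ≫ m.left
      rw [hγ, Category.id_comp]
    rw [FppfDesc.map_map, e, ← FppfDesc.map_map, h]
    exact map_zero _
  have h2 : pgerm T.hom ξ F U₀ (Lift.map γ (tl ξ)) s = 0 := by
    change germ ξ _ _ (Lift.map γ (tl ξ)) (usec T.hom F U₀ s) = 0
    rw [← germ_res, h1, map_zero]
  obtain ⟨W, g, w, hw, hg⟩ := pgerm_eq_zero T.hom ξ F U₀ _ s h2
  refine ⟨W, g, w.hom ≫ pullback.fst W.hom T.hom, ?_, ?_⟩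
  · have h3 : (Lift.map ((EtCoh.bc T.hom).map g) w).hom = (Lift.map γ (tl ξ)).hom :=
      congrArg Lift.hom hw
    exact chainF w.hom (pullback.fst W.hom T.hom) g.left ((EtCoh.bc T.hom).map g).left
      (pullback.fst U₀.hom T.hom) ξ γ.left m.left (bc_map_left_fst T.hom g) h3 hγ
  · rw [← unitS_res, hg, map_zero]

theorem lc_G₀ : LC (G₀ F) := by
  intro T x Ω _ _ ξ
  obtain ⟨x₂, hx₂⟩ := omega_surjective F (EtCoh.top T.left)
    ((G₀ F).obj.map (topIso T).hom.op x)
  obtain ⟨U₀, y, s, hs⟩ := pgerm_surjective T.hom ξ F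
    (germ ξ ((EtCoh.pull T.hom).obj F) (EtCoh.top T.left) (tl ξ) x₂)
  let t : (EtCoh.bc T.hom).obj U₀ ⟶ EtCoh.top T.left :=
    MorphismProperty.Over.homMk ((EtCoh.bc T.hom).obj U₀).hom (Category.comp_id _) trivial
  have ht : Lift.map t y = tl ξ := Lift.ext y.hom_comp
  have h1 : germ ξ ((EtCoh.pull T.hom).obj F) _ y (usec T.hom F U₀ s) =
      germ ξ ((EtCoh.pull T.hom).obj F) _ y (((EtCoh.pull T.hom).obj F).obj.map t.op x₂) := by
    rw [germ_res, ht]
    exact hs
  obtain ⟨W, g, w, hw, hg⟩ := (germ_eq_iff _ _ _ _ _).1 h1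
  have h2 := congrArg ((omega T.hom F).hom.hom.app (op W)) hg
  rw [omega_nat, omega_nat, omega_nat, omega_usec, hx₂] at h2
  have hleft : ((Over.map T.hom).map ((EtFppf.a T.left).map g) ≫
      (Over.map T.hom).map ((EtFppf.a T.left).map t) ≫ (topIso T).hom).left = W.hom := by
    change g.left ≫ ((EtCoh.bc T.hom).obj U₀).hom ≫ 𝟙 T.left = W.hom
    exact (congrArg (fun k => g.left ≫ k) (Category.comp_id _)).trans (MorphismProperty.Over.w g)
  refine ⟨(Over.map T.hom).obj ((EtFppf.a T.left).obj W),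
    (Over.map T.hom).map ((EtFppf.a T.left).map g) ≫
      (Over.map T.hom).map ((EtFppf.a T.left).map t) ≫ (topIso T).hom, w.hom, U₀,
    (Over.map T.hom).map ((EtFppf.a T.left).map g) ≫ mproj T.hom U₀, unitS F U₀ s, ?_, ?_, ?_⟩
  · rw [hleft]
    exact W.prop
  · rw [hleft]
    exact w.hom_comp
  · rw [← FppfDesc.map_map, ← FppfDesc.map_map, ← FppfDesc.map_map]
    exact h2.symm

/-- **`π_S⁻¹ F` is an fppf sheaf.** -/
theorem isSheaf_fppf_G₀ : Presheaf.IsSheaf (EtFppf.J S) (G₀ F).obj :=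
  FppfDesc.isSheaf_fppf (lc_G₀ F) (eq_G₀ F)

end Groth.Agent.H1.FppfLC
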