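import Groth.Agent.Lib.Helper21.ModFree

/-!
Helper library (helper1): on a ringed site with a terminal object `T`, `freeOn O T ≅ O` (the unit
module).
-/

set_option autoImplicit false
universe u
open CategoryTheory CategoryTheory.Limits Opposite

namespace Groth.Agent.H1.FreeOnTop

open Groth.Agent.Lib.Helper21.ModFree

variable {C : Type u} [SmallCategory C] {J : GrothendieckTopology C} (O : Sheaf J CommRingCat.{u})
  {T : C} (hT : IsTerminal T)

/-- sections are the sections over a terminal object -/
noncomputable def secT (M : ModSite.Mod O) : M.sections ≃ M.val.obj (op T) where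
  toFun s := s.1 (op T)
  invFun t := PresheafOfModules.sectionsMk (M := M.val)
    (fun U => M.val.map (hT.from U.unop).op t) (by
      intro U V f
      have := map_map_apply O M (hT.from U.unop) f.unop t
      refine this.trans ?_
      have e : f.unop ≫ hT.from U.unop = hT.from V.unop := hT.hom_ext _ _
      rw [e])
  left_inv s := by
    apply PresheafOfModules.sections_ext
    intro U
    exact s.2 (hT.from U.unop).op
  right_inv t := by
    show M.val.map (hT.from T).op t = t
    have : hT.from T = 𝟙 T := hT.hom_ext _ _
    rw [this]
    exact map_id_apply O M t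

/-- maps out of `freeOn O T` are maps out of the unit module -/
noncomputable def eqv (M : ModSite.Mod O) :
    (ModSite.freeOn O T ⟶ M) ≃ (SheafOfModules.unit (ModSite.ringSh O) ⟶ M) :=
  (freeOnHomEquiv O T M).trans ((secT O hT M).symm.trans (SheafOfModules.unitHomEquiv M).symm)

lemma eqv_comp {M N : ModSite.Mod O} (h : ModSite.freeOn O T ⟶ M) (f : M ⟶ N) :
    eqv O hT N (h ≫ f) = eqv O hT M h ≫ f := by
  unfold eqv
  simp only [Equiv.trans_apply]
  rw [freeOnHomEquiv_comp, SheafOfModules.unitHomEquiv_symm_comp]
  congr 1
  apply (secT O hT N).injective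
  rw [Equiv.apply_symm_apply]
  change f.val.app (op T) _ = f.val.app (op T) ((secT O hT M) ((secT O hT M).symm _))
  rw [Equiv.apply_symm_apply]

/-- `freeOn O T ≅ O` for a terminal object `T` -/
noncomputable def iso : ModSite.freeOn O T ≅ SheafOfModules.unit (ModSite.ringSh O) where
  hom := (eqv O hT _).symm (𝟙 _)
  inv := eqv O hT _ (𝟙 _)
  hom_inv_id := by
    apply (eqv O hT _).injective
    rw [eqv_comp, Equiv.apply_symm_apply, Category.id_comp]
  inv_hom_id := by
    rw [← eqv_comp, Category.id_comp, Equiv.apply_symm_apply]

end Groth.Agent.H1.FreeOnTop
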