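import Mathlib

/-!
# `Hom(ℤ_U, F) ≃ F(U)` for the free abelian sheaf on a representable, coefficients in a larger
universe (helper1; universe-lifted version of helper7's `FreeYoneda`)
-/

set_option autoImplicit false

universe w v₁ u₁

namespace Groth.Agent.H1.FreeYonedaU

open CategoryTheory Opposite

variable {C : Type u₁} [Category.{v₁} C] (J : GrothendieckTopology C)
  [HasSheafify J AddCommGrpCat.{max w v₁}]

/-- The free abelian sheaf functor `U ↦ ℤ_U`, with values in `AddCommGrpCat.{max w v₁}`. -/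
noncomputable abbrev freeSheaf : C ⥤ Sheaf J AddCommGrpCat.{max w v₁} :=
  uliftYoneda.{w} ⋙ (Functor.whiskeringRight _ _ _).obj AddCommGrpCat.free ⋙ presheafToSheaf J _

/-- `Hom(ℤ_U, F) ≃ F(U)`. -/
noncomputable def homEquiv (U : C) (F : Sheaf J AddCommGrpCat.{max w v₁}) :
    ((freeSheaf.{w} J).obj U ⟶ F) ≃ F.obj.obj (op U) :=
  ((sheafificationAdjunction J AddCommGrpCat.{max w v₁}).homEquiv _ _).trans
    (((AddCommGrpCat.adj.whiskerRight Cᵒᵖ).homEquiv (uliftYoneda.{w}.obj U) F.obj).trans
      uliftYonedaEquiv.{w})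

lemma homEquiv_naturality_left {U V : C} (i : V ⟶ U) (F : Sheaf J AddCommGrpCat.{max w v₁})
    (b : (freeSheaf.{w} J).obj U ⟶ F) :
    homEquiv.{w} J V F ((freeSheaf.{w} J).map i ≫ b) = F.obj.map i.op (homEquiv.{w} J U F b) := by
  dsimp only [homEquiv, Equiv.trans_apply, freeSheaf, Functor.comp_map]
  rw [Adjunction.homEquiv_naturality_left, Adjunction.homEquiv_naturality_left]
  exact (uliftYonedaEquiv_naturality _ i.op).symm

instance mono_freeSheaf_map {U V : C} (i : V ⟶ U) [Mono i] :
    Mono ((freeSheaf.{w} J).map i) := by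
  dsimp only [freeSheaf, Functor.comp_map]
  infer_instance

end Groth.Agent.H1.FreeYonedaU
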