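import Mathlib.RingTheory.Jacobson.Ring
import Mathlib.RingTheory.Localization.Integral
import Mathlib.RingTheory.Algebraic.Integral
import Mathlib.RingTheory.Localization.Away.Basic
import Mathlib.RingTheory.FiniteType
import Mathlib.AlgebraicGeometry.Morphisms.Finite
import Mathlib.AlgebraicGeometry.Morphisms.FiniteType
import Mathlib.AlgebraicGeometry.AffineScheme
import Mathlib.AlgebraicGeometry.ResidueField

set_option autoImplicit false
universe u

namespace Groth.Agent.H1.FtPts

/-- domain case: `B ⊆ K` finitely generated, `K` a field: some `B[1/y]` is a field, so primes of `B` avoiding `y` vanish -/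
theorem artin_tate_domain {B K : Type u} [CommRing B] [IsDomain B] [Field K] [Algebra B K]
    [Algebra.FiniteType B K] (hinj : Function.Injective (algebraMap B K)) :
    ∃ y : B, y ≠ 0 ∧ ∀ q : Ideal B, q.IsPrime → y ∉ q → q = ⊥ := by
  have : FaithfulSMul B K := (faithfulSMul_iff_algebraMap_injective B K).mpr hinj
  let F := FractionRing B
  let _ : Algebra F K := FractionRing.liftAlgebra B K
  have : Algebra.FiniteType F K := Algebra.FiniteType.of_restrictScalars_finiteType B F K
  have : Module.Finite F K := finite_of_finite_type_of_isJacobsonRing F K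
  have : Algebra.IsAlgebraic F K := Algebra.IsAlgebraic.of_finite F K
  have halg : Algebra.IsAlgebraic B K := (IsFractionRing.comap_isAlgebraic_iff (K := F)).mpr this
  obtain ⟨s, hs⟩ := (Algebra.FiniteType.out : (⊤ : Subalgebra B K).FG)
  obtain ⟨y, hy0, hint⟩ := Algebra.IsAlgebraic.exists_integral_multiples B s
  refine ⟨y, hy0, fun q hq hyq => ?_⟩
  -- the localization `B' = B[1/y]`
  let B' := Localization.Away y
  have hyK : IsUnit (algebraMap B K y) := by
    rw [isUnit_iff_ne_zero]
    exact fun h => hy0 (hinj (h.trans (map_zero _).symm))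
  let ψ : B' →+* K := IsLocalization.Away.lift y hyK
  let _ : Algebra B' K := ψ.toAlgebra
  have hψ : ∀ b : B, ψ (algebraMap B B' b) = algebraMap B K b := fun b => IsLocalization.Away.lift_eq y hyK b
  have : IsScalarTower B B' K := IsScalarTower.of_algebraMap_eq fun b => (hψ b).symm
  -- `K` is integral over `B'`
  have hint' : ∀ z ∈ s, IsIntegral B' z := by
    intro z hz
    have h1 : IsIntegral B' (y • z) := (hint z hz).tower_top
    have hu : IsUnit (algebraMap B B' y) := IsLocalization.Away.algebraMap_isUnit y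
    obtain ⟨u, hu'⟩ := hu
    have h2 : z = (↑u⁻¹ : B') • (y • z) := by
      rw [← algebraMap_smul B' y z, smul_smul, ← hu', Units.inv_mul, one_smul]
    rw [h2]
    exact h1.smul _
  have hK : Algebra.IsIntegral B' K := by
    refine ⟨fun x => ?_⟩
    have hx : x ∈ Algebra.adjoin B (s : Set K) := by rw [hs]; trivial
    have hle : Algebra.adjoin B (s : Set K) ≤ (integralClosure B' K).restrictScalars B := by
      refine Algebra.adjoin_le ?_
      intro z hz
      exact hint' z hz
    exact hle hx
  have hinj' : Function.Injective (algebraMap B' K) := by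
    have : Function.Injective ψ := by
      rw [injective_iff_map_eq_zero]
      intro x hx
      obtain ⟨⟨b, m⟩, hbm⟩ := IsLocalization.surj (Submonoid.powers y) x
      have h1 : algebraMap B K b = 0 := by
        rw [← hψ, ← hbm, map_mul, hx, zero_mul]
      have hb : b = 0 := hinj (h1.trans (map_zero _).symm)
      have hu : IsUnit (algebraMap B B' m) := IsLocalization.map_units B' m
      rw [hb, map_zero] at hbm
      exact (hu.mul_left_eq_zero).mp hbm
    exact this
  have hfield : IsField B' := isField_of_isIntegral_of_isField hinj' (Field.toIsField K)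
  have hdisj : Disjoint (Submonoid.powers y : Set B) (q : Set B) := by
    rw [Set.disjoint_left]
    rintro _ ⟨n, rfl⟩ hn
    exact hyq (hq.mem_of_pow_mem n hn)
  have hcm : (q.map (algebraMap B B')).comap (algebraMap B B') = q :=
    IsLocalization.under_map_of_isPrime_disjoint (Submonoid.powers y) B' hq hdisj
  have hB'inj : Function.Injective (algebraMap B B') :=
    IsLocalization.injective B' (powers_le_nonZeroDivisors_of_noZeroDivisors hy0)
  let _ := hfield.toField
  rcases Ideal.eq_bot_or_top (q.map (algebraMap B B')) with h | h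
  · rw [h] at hcm
    rw [← hcm]
    exact (RingHom.injective_iff_ker_eq_bot _).mp hB'inj
  · rw [h, Ideal.comap_top] at hcm
    exact absurd hcm.symm hq.ne_top

/-- Artin–Tate: a finite type ring map to a field has kernel a closed point of some basic open -/
theorem artin_tate {A K : Type u} [CommRing A] [Field K] (φ : A →+* K) (hφ : φ.FiniteType) :
    ∃ f : A, φ f ≠ 0 ∧ ∀ q : Ideal A, q.IsPrime → RingHom.ker φ ≤ q → f ∉ q → q = RingHom.ker φ := by
  have hp : (RingHom.ker φ).IsPrime := RingHom.ker_isPrime φ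
  let ψ : A ⧸ RingHom.ker φ →+* K := RingHom.kerLift φ
  have hψinj : Function.Injective ψ := RingHom.kerLift_injective φ
  have hcomp : ψ.comp (Ideal.Quotient.mk (RingHom.ker φ)) = φ := by
    ext a
    exact RingHom.kerLift_mk φ a
  have hψft : ψ.FiniteType :=
    RingHom.FiniteType.of_comp_finiteType (f := Ideal.Quotient.mk (RingHom.ker φ)) (by rw [hcomp]; exact hφ)
  let _ : Algebra (A ⧸ RingHom.ker φ) K := ψ.toAlgebra
  have : Algebra.FiniteType (A ⧸ RingHom.ker φ) K := hψft
  obtain ⟨y, hy0, hy⟩ := artin_tate_domain (B := A ⧸ RingHom.ker φ) (K := K) hψinj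
  obtain ⟨f, rfl⟩ := Ideal.Quotient.mk_surjective y
  refine ⟨f, ?_, fun q hq hpq hfq => ?_⟩
  · intro h
    apply hy0
    apply hψinj
    rw [map_zero]
    exact (RingHom.kerLift_mk φ f).trans h
  · have hq' : (q.map (Ideal.Quotient.mk (RingHom.ker φ))).IsPrime :=
      Ideal.map_isPrime_of_surjective Ideal.Quotient.mk_surjective (by rwa [Ideal.mk_ker])
    have hfq' : Ideal.Quotient.mk (RingHom.ker φ) f ∉ q.map (Ideal.Quotient.mk (RingHom.ker φ)) := by
      intro h
      obtain ⟨a, ha, hae⟩ := (Ideal.mem_map_iff_of_surjective _ Ideal.Quotient.mk_surjective).mp h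
      have h1 : a - f ∈ RingHom.ker φ := Ideal.Quotient.eq.mp hae
      have h2 : a - (a - f) ∈ q := q.sub_mem ha (hpq h1)
      rw [sub_sub_cancel] at h2
      exact hfq h2
    have h0 := hy _ hq' hfq'
    refine le_antisymm ?_ hpq
    intro a ha
    have h3 : Ideal.Quotient.mk (RingHom.ker φ) a ∈ q.map (Ideal.Quotient.mk (RingHom.ker φ)) :=
      Ideal.mem_map_of_mem _ ha
    rw [h0] at h3
    exact Ideal.Quotient.eq_zero_iff_mem.mp h3

open AlgebraicGeometry CategoryTheory IsLocalRing

theorem isClosed_singleton_subtype {X : Type*} [TopologicalSpace X] (U : Set X) (s : X) (hs : s ∈ U)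
    (h : ∀ s' ∈ U, s ⤳ s' → s' = s) : IsClosed ({⟨s, hs⟩} : Set U) := by
  refine isClosed_of_closure_subset fun x' hx' => ?_
  have h1 : (⟨s, hs⟩ : U) ⤳ x' := specializes_iff_mem_closure.mpr hx'
  have h2 : s ⤳ x'.1 := (Topology.IsInducing.subtypeVal.specializes_iff (x := ⟨s, hs⟩) (y := x')).mpr h1
  exact Subtype.ext (h x'.1 x'.2 h2)

theorem specializes_of_isClosed_singleton_subtype {X : Type*} [TopologicalSpace X] (U : Set X) (s : X)
    (hs : s ∈ U) (hc : IsClosed ({⟨s, hs⟩} : Set U)) (s' : X) (hs' : s' ∈ U) (h : s ⤳ s') : s' = s := by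
  have h1 : (⟨s, hs⟩ : U) ⤳ ⟨s', hs'⟩ :=
    (Topology.IsInducing.subtypeVal.specializes_iff (x := ⟨s, hs⟩) (y := ⟨s', hs'⟩)).mp h
  have h2 : (⟨s', hs'⟩ : U) ∈ closure {(⟨s, hs⟩ : U)} := specializes_iff_mem_closure.mp h1
  rw [hc.closure_eq] at h2
  exact congrArg Subtype.val h2

/-- Spec-level: the image point of a finite type `Spec K ⟶ Spec A` is closed in a basic open -/
theorem spec_closed_in_basicOpen {A : CommRingCat.{u}} {K : Type u} [Field K] (φ : A ⟶ .of K)
    (hφ : φ.hom.FiniteType) :
    ∃ f : A, Spec.map φ (closedPoint K) ∈ PrimeSpectrum.basicOpen f ∧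
      ∀ x' ∈ PrimeSpectrum.basicOpen f, Spec.map φ (closedPoint K) ⤳ x' → x' = Spec.map φ (closedPoint K) := by
  obtain ⟨f, hf0, hf⟩ := artin_tate φ.hom hφ
  have hker : (Spec.map φ (closedPoint K)).asIdeal = RingHom.ker φ.hom := by
    rw [Spec.map_apply]
    ext a
    simp only [PrimeSpectrum.comap_asIdeal, Ideal.mem_comap, RingHom.mem_ker]
    show φ.hom a ∈ IsLocalRing.maximalIdeal K ↔ _
    rw [IsLocalRing.maximalIdeal_eq_bot, Ideal.mem_bot]
  refine ⟨f, ?_, fun x' hx' hsp => ?_⟩
  · show f ∉ (Spec.map φ (closedPoint K)).asIdeal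
    rw [hker, RingHom.mem_ker]
    exact hf0
  · have hle : (Spec.map φ (closedPoint K)).asIdeal ≤ x'.asIdeal := (PrimeSpectrum.le_iff_specializes _ _).mpr hsp
    rw [hker] at hle
    have := hf x'.asIdeal x'.isPrime hle hx'
    exact PrimeSpectrum.ext (this.trans hker.symm)

/-- the image point of a locally finite type morphism from the spectrum of a field is closed in some affine open -/
theorem exists_affineOpen_isClosed {S : Scheme.{u}} {K : Type u} [Field K] (g : Spec (.of K) ⟶ S)
    [LocallyOfFiniteType g] (s : S) (hs : g (closedPoint K) = s) :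
    ∃ U : S.Opens, IsAffineOpen U ∧ ∃ hs : s ∈ U, IsClosed ({⟨s, hs⟩} : Set ↥U) := by
  subst hs
  obtain ⟨U₀, hU₀, hsU₀, -⟩ := exists_isAffineOpen_mem_and_subset (X := S) (x := g (closedPoint K)) (U := ⊤) trivial
  have hrange : Set.range g ⊆ Set.range hU₀.fromSpec := by
    rw [hU₀.range_fromSpec]
    rintro _ ⟨z, rfl⟩
    have : z = closedPoint K := Subsingleton.elim _ _
    rw [this]
    exact hsU₀
  let g' := IsOpenImmersion.lift hU₀.fromSpec g hrange
  have hg' : g' ≫ hU₀.fromSpec = g := IsOpenImmersion.lift_fac _ _ _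
  obtain ⟨φ, hφ⟩ := Spec.map_surjective g'
  have hlft : LocallyOfFiniteType (g' ≫ hU₀.fromSpec) := by rw [hg']; infer_instance
  have hlft' : LocallyOfFiniteType g' := locallyOfFiniteType_of_comp g' hU₀.fromSpec
  rw [← hφ] at hlft'
  have hφft : φ.hom.FiniteType := HasRingHomProperty.Spec_iff.mp hlft'
  obtain ⟨f, hf1, hf2⟩ := spec_closed_in_basicOpen φ hφft
  rw [hφ] at hf1 hf2
  have hgx : g (closedPoint K) = hU₀.fromSpec (g' (closedPoint K)) := by
    rw [← hg']
    rfl
  have hmem : ∀ x : Spec Γ(S, U₀), hU₀.fromSpec x ∈ S.basicOpen f ↔ x ∈ PrimeSpectrum.basicOpen f := by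
    intro x
    have := hU₀.fromSpec_preimage_basicOpen f
    rw [← this]
    rfl
  have hsU : g (closedPoint K) ∈ S.basicOpen f := by
    rw [hgx, hmem]
    exact hf1
  refine ⟨S.basicOpen f, hU₀.basicOpen f, hsU, ?_⟩
  refine isClosed_singleton_subtype _ _ hsU fun s' hs' hsp => ?_
  have hs'U₀ : s' ∈ (U₀ : Set S) := S.basicOpen_le f hs'
  rw [← hU₀.range_fromSpec] at hs'U₀
  obtain ⟨x', rfl⟩ := hs'U₀
  rw [hgx] at hsp ⊢
  have hsp' : g' (closedPoint K) ⤳ x' :=
    (hU₀.fromSpec.isOpenEmbedding.toIsInducing.specializes_iff).mp hsp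
  rw [hf2 x' ((hmem x').mp hs') hsp']

/-- (after helper11, S9341) a point closed in an open subset is a finite type point -/
theorem ft_of_closed_in_open (S : Scheme.{u}) (U : S.Opens) (s' : U) (hs : IsClosed ({s'} : Set ↥U)) :
    LocallyOfFiniteType (S.fromSpecResidueField (s' : S)) := by
  have hci : IsClosedImmersion ((U : Scheme.{u}).fromSpecResidueField s') :=
    isClosed_singleton_iff_isClosedImmersion.mp hs
  have e := Scheme.Hom.SpecMap_residueFieldMap_fromSpecResidueField U.ι s'
  have e' : S.fromSpecResidueField (U.ι s') =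
      inv (Spec.map (U.ι.residueFieldMap s')) ≫ (U : Scheme.{u}).fromSpecResidueField s' ≫ U.ι := by
    rw [← e, IsIso.inv_hom_id_assoc]
  have : LocallyOfFiniteType (S.fromSpecResidueField (U.ι s')) := by
    rw [e']
    infer_instance
  exact this

/-- finite type points are the points closed in some affine open -/
theorem ft_iff (S : Scheme.{u}) (s : S) :
    LocallyOfFiniteType (S.fromSpecResidueField s) ↔
      ∃ U : S.Opens, IsAffineOpen U ∧ ∃ hs : s ∈ U, IsClosed ({⟨s, hs⟩} : Set ↥U) := by
  constructor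
  · intro h
    exact exists_affineOpen_isClosed (K := S.residueField s) (S.fromSpecResidueField s) s
      (Scheme.fromSpecResidueField_apply _ _)
  · rintro ⟨U, -, hs, hc⟩
    exact ft_of_closed_in_open S U ⟨s, hs⟩ hc

/-- a locally finite type morphism maps finite type points to finite type points -/
theorem ft_map {T S : Scheme.{u}} (f : T ⟶ S) [LocallyOfFiniteType f] (t : T)
    (ht : LocallyOfFiniteType (T.fromSpecResidueField t)) :
    LocallyOfFiniteType (S.fromSpecResidueField (f t)) := by
  have hg : LocallyOfFiniteType (T.fromSpecResidueField t ≫ f) := inferInstance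
  obtain ⟨U, -, hs, hc⟩ := exists_affineOpen_isClosed (K := T.residueField t)
    (T.fromSpecResidueField t ≫ f) (f t) (by
      rw [Scheme.Hom.comp_apply, Scheme.fromSpecResidueField_apply])
  exact ft_of_closed_in_open S U ⟨f t, hs⟩ hc

end Groth.Agent.H1.FtPts
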