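import Groth.Agent.Lib.Helper1.CechK

/-!
# Representing objects for the Čech tuples in a category with pullbacks; abstract Cartan steps
(helper1)

General-category version of `CechRep` / `AffCartanA`.  `C` has pullbacks; `Eobj π e n` is the iterated
fibre product `T₁ ×_T V ×_T ⋯ ×_T V`; cochains `K π e n ⟶ P` correspond to sections of `P` over it.
For abstract predicates `good` on objects and `GC` on morphisms ("good covers"):
`surj_of_cex` and `cex_of_step` are the two steps of Cartan's dimension shifting.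
-/

set_option autoImplicit false
set_option linter.unusedVariables false
set_option linter.unusedSectionVars false

namespace Groth.Agent.H1.GCech

open CategoryTheory CategoryTheory.Limits Opposite Groth.Agent.H1.CechK

universe v₁ u₁

variable {C : Type u₁} [Category.{v₁} C] [HasPullbacks C]

section Rep

variable {V T T₁ : C} (π : V ⟶ T) (e : T₁ ⟶ T)

/-- the iterated fibre products `T₁ ×_T V ×_T ⋯ ×_T V`, with their projection to `T₁` -/
noncomputable def EE : ℕ → Σ Y : C, (Y ⟶ T₁)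
  | 0 => ⟨T₁, 𝟙 T₁⟩
  | n + 1 => ⟨pullback ((EE n).2 ≫ e) π, pullback.fst ((EE n).2 ≫ e) π ≫ (EE n).2⟩

noncomputable def Eobj (n : ℕ) : C := (EE π e n).1

noncomputable def Eto (n : ℕ) : Eobj π e n ⟶ T₁ := (EE π e n).2

theorem Eobj_succ (n : ℕ) : Eobj π e (n + 1) = pullback (Eto π e n ≫ e) π := rfl

theorem Eto_zero : Eto π e 0 = 𝟙 T₁ := rfl

theorem Eto_succ (n : ℕ) :
    Eto π e (n + 1) = pullback.fst (Eto π e n ≫ e) π ≫ Eto π e n := rfl

/-- the universal tuple, with the computation of its base -/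
noncomputable def univ' : ∀ n, {x : Tup π e n (Eobj π e n) // x.base = Eto π e n}
  | 0 => ⟨⟨𝟙 T₁, Fin.elim0, fun k => k.elim0⟩, rfl⟩
  | n + 1 => ⟨⟨Eto π e (n + 1),
      Fin.cons (pullback.snd (Eto π e n ≫ e) π)
        (fun k => pullback.fst (Eto π e n ≫ e) π ≫ (univ' n).1.sec k),
      fun k => by
        refine Fin.cases ?_ (fun k => ?_) k
        · change pullback.snd (Eto π e n ≫ e) π ≫ π =
            (pullback.fst (Eto π e n ≫ e) π ≫ Eto π e n) ≫ e
          rw [Category.assoc]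
          exact pullback.condition.symm
        · change (pullback.fst (Eto π e n ≫ e) π ≫ (univ' n).1.sec k) ≫ π =
            (pullback.fst (Eto π e n ≫ e) π ≫ Eto π e n) ≫ e
          rw [Category.assoc, (univ' n).1.comm k, (univ' n).2, Category.assoc]⟩, rfl⟩

noncomputable def univ (n : ℕ) : Tup π e n (Eobj π e n) := (univ' π e n).1

theorem univ_base (n : ℕ) : (univ π e n).base = Eto π e n := (univ' π e n).2

theorem univ_sec_zero (n : ℕ) :
    (univ π e (n + 1)).sec 0 = pullback.snd (Eto π e n ≫ e) π := rfl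

theorem univ_sec_succ (n : ℕ) (k : Fin n) :
    (univ π e (n + 1)).sec k.succ =
      pullback.fst (Eto π e n ≫ e) π ≫ (univ π e n).sec k := rfl

variable {π e}

/-- the classifying morphism of a tuple -/
noncomputable def liftE' : ∀ (n : ℕ) {W : C} (x : Tup π e n W),
    {g : W ⟶ Eobj π e n // Tup.map g (univ π e n) = x}
  | 0, W, x => ⟨x.base, by
      apply Tup.ext
      · exact Category.comp_id _
      · funext k
        exact k.elim0⟩
  | n + 1, W, x =>
    let y : Tup π e n W := Tup.reindex Fin.succ x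
    let g' := liftE' n y
    have hb : g'.1 ≫ Eto π e n = x.base := by
      have := congrArg Tup.base g'.2
      change g'.1 ≫ (univ π e n).base = x.base at this
      rwa [univ_base] at this
    have h : g'.1 ≫ (Eto π e n ≫ e) = x.sec 0 ≫ π := by
      rw [← Category.assoc, hb]
      exact (x.comm 0).symm
    ⟨pullback.lift g'.1 (x.sec 0) h, by
      apply Tup.ext
      · change pullback.lift g'.1 (x.sec 0) h ≫ (univ π e (n + 1)).base = x.base
        rw [univ_base, Eto_succ, ← Category.assoc, pullback.lift_fst, hb]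
      · funext k
        refine Fin.cases ?_ (fun k => ?_) k
        · change pullback.lift g'.1 (x.sec 0) h ≫ pullback.snd (Eto π e n ≫ e) π = x.sec 0
          exact pullback.lift_snd _ _ _
        · change pullback.lift g'.1 (x.sec 0) h ≫
            pullback.fst (Eto π e n ≫ e) π ≫ (univ π e n).sec k = x.sec k.succ
          rw [← Category.assoc, pullback.lift_fst]
          exact congrFun (congrArg Tup.sec g'.2) k⟩

noncomputable def liftE (n : ℕ) {W : C} (x : Tup π e n W) : W ⟶ Eobj π e n := (liftE' n x).1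

theorem map_liftE (n : ℕ) {W : C} (x : Tup π e n W) :
    Tup.map (liftE n x) (univ π e n) = x := (liftE' n x).2

theorem liftE_Eto (n : ℕ) {W : C} (x : Tup π e n W) : liftE n x ≫ Eto π e n = x.base := by
  have := congrArg Tup.base (map_liftE n x)
  change liftE n x ≫ (univ π e n).base = x.base at this
  rwa [univ_base] at this

theorem comp_id_cancel {A B : C} (g g' : A ⟶ B) (h : g ≫ 𝟙 B = g' ≫ 𝟙 B) : g = g' := by
  rwa [Category.comp_id, Category.comp_id] at h

theorem assoc_eq {A B C' D : C} (g g' : A ⟶ B) (f : B ⟶ C') (k : C' ⟶ D)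
    (h : g ≫ f ≫ k = g' ≫ f ≫ k) : (g ≫ f) ≫ k = (g' ≫ f) ≫ k := by
  rwa [Category.assoc, Category.assoc]

theorem hom_ext_E : ∀ (n : ℕ) {W : C} (g g' : W ⟶ Eobj π e n),
    Tup.map g (univ π e n) = Tup.map g' (univ π e n) → g = g'
  | 0, W, g, g', h => comp_id_cancel (B := T₁) g g' (congrArg Tup.base h)
  | n + 1, W, g, g', h => by
    have hb : (g ≫ pullback.fst (Eto π e n ≫ e) π) ≫ Eto π e n =
        (g' ≫ pullback.fst (Eto π e n ≫ e) π) ≫ Eto π e n :=
      assoc_eq (B := pullback (Eto π e n ≫ e) π) g g' _ _ (congrArg Tup.base h)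
    have hs := congrArg Tup.sec h
    apply pullback.hom_ext (f := Eto π e n ≫ e) (g := π)
    · apply hom_ext_E n
      apply Tup.ext
      · exact (congrArg (fun t => (g ≫ pullback.fst (Eto π e n ≫ e) π) ≫ t)
          (univ_base π e n)).trans
          (hb.trans (congrArg (fun t => (g' ≫ pullback.fst (Eto π e n ≫ e) π) ≫ t)
            (univ_base π e n)).symm)
      · funext k
        exact (assoc_eq (B := pullback (Eto π e n ≫ e) π) g g' _ ((univ π e n).sec k)
          (congrFun hs k.succ))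
    · exact congrFun hs 0

theorem liftE_map (n : ℕ) {W W' : C} (g : W' ⟶ W) (x : Tup π e n W) :
    liftE n (Tup.map g x) = g ≫ liftE n x := by
  apply hom_ext_E
  rw [map_liftE, Tup.map_comp, map_liftE]

theorem liftE_univ (n : ℕ) : liftE n (univ π e n) = 𝟙 _ := by
  apply hom_ext_E
  rw [map_liftE, Tup.map_id]

theorem liftE_map_univ (n : ℕ) {W : C} (g : W ⟶ Eobj π e n) :
    liftE n (Tup.map g (univ π e n)) = g := by
  rw [liftE_map, liftE_univ, Category.comp_id]

end Rep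

section Yoneda

variable {V T T₁ : C} {π : V ⟶ T} {e : T₁ ⟶ T} (P : Cᵒᵖ ⥤ AddCommGrpCat.{max u₁ v₁})

/-- the value of a cochain on the universal tuple -/
noncomputable def toSec {n : ℕ} (c : K π e n ⟶ P) : P.obj (op (Eobj π e n)) :=
  c.app (op (Eobj π e n)) (gen (univ π e n))

variable {P}

theorem app_gen_eq {n : ℕ} (c : K π e n ⟶ P) {W : C} (x : Tup π e n W) :
    c.app (op W) (gen x) = P.map (liftE n x).op (toSec P c) := by
  rw [toSec, ← app_map_gen, map_liftE]

theorem ofSec_aux (n : ℕ) (σ : P.obj (op (Eobj π e n))) {W W' : C} (g : W' ⟶ W)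
    (x : Tup π e n W) :
    P.map (liftE n (Tup.map g x)).op σ = P.map g.op (P.map (liftE n x).op σ) := by
  rw [liftE_map, op_comp, Functor.map_comp]
  rfl

variable (π e)

/-- the cochain defined by a section over the representing object -/
noncomputable def ofSec (n : ℕ) (σ : P.obj (op (Eobj π e n))) : K π e n ⟶ P :=
  lift P (fun W x => P.map (liftE n x).op σ) (fun g x => ofSec_aux n σ g x)

theorem ofSec_gen (n : ℕ) (σ : P.obj (op (Eobj π e n))) {W : C} (x : Tup π e n W) :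
    (ofSec π e n σ).app (op W) (gen x) = P.map (liftE n x).op σ :=
  lift_gen P (fun W x => P.map (liftE n x).op σ) (fun g x => ofSec_aux n σ g x) x

theorem toSec_ofSec (n : ℕ) (σ : P.obj (op (Eobj π e n))) : toSec P (ofSec π e n σ) = σ := by
  rw [toSec, ofSec_gen, liftE_univ]
  change P.map (𝟙 _) σ = σ
  rw [P.map_id]
  rfl

theorem ofSec_toSec (n : ℕ) (c : K π e n ⟶ P) : ofSec π e n (toSec P c) = c := by
  apply hom_ext_gen
  intro W x
  rw [ofSec_gen, app_gen_eq]

end Yoneda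

section Alg

variable {V T T₁ : C} {π : V ⟶ T} {e : T₁ ⟶ T} {P : Cᵒᵖ ⥤ AddCommGrpCat.{max u₁ v₁}}

theorem sub_app_apply {A B : Cᵒᵖ ⥤ AddCommGrpCat.{max u₁ v₁}} (α β : A ⟶ B) (W : Cᵒᵖ)
    (z : A.obj W) : (α - β).app W z = α.app W z - β.app W z := rfl

theorem comp_app_apply {A B D : Cᵒᵖ ⥤ AddCommGrpCat.{max u₁ v₁}} (α : A ⟶ B) (β : B ⟶ D)
    (W : Cᵒᵖ) (z : A.obj W) : (α ≫ β).app W z = β.app W (α.app W z) := rfl

theorem zero_app_apply {A B : Cᵒᵖ ⥤ AddCommGrpCat.{max u₁ v₁}} (W : Cᵒᵖ) (z : A.obj W) :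
    (0 : A ⟶ B).app W z = 0 := rfl

theorem map_app_apply {A B : Cᵒᵖ ⥤ AddCommGrpCat.{max u₁ v₁}} (α : A ⟶ B) {W W' : C}
    (g : W' ⟶ W) (x : A.obj (op W)) :
    α.app (op W') (A.map g.op x) = B.map g.op (α.app (op W) x) :=
  ConcreteCategory.congr_hom (α.naturality g.op) x

theorem pmap_map {W W' W'' : C} (a : W' ⟶ W) (b : W'' ⟶ W') (x : P.obj (op W)) :
    P.map b.op (P.map a.op x) = P.map (b ≫ a).op x := by
  rw [op_comp, Functor.map_comp]
  rfl

theorem d_comp_app_gen {n : ℕ} (b : K π e n ⟶ P) {W : C} (x : Tup π e (n + 1) W) :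
    (d n ≫ b).app (op W) (gen x) =
      ∑ i : Fin (n + 1), (-1 : ℤ) ^ (i : ℕ) •
        b.app (op W) (gen (Tup.reindex (Fin.succAbove i) x)) := by
  rw [comp_app_apply, d_gen, map_sum]
  refine Finset.sum_congr rfl (fun i _ => ?_)
  rw [map_zsmul]

theorem cons_congr {n : ℕ} {W : C} (v : W ⟶ V) {x x' : Tup π e n W} (hx : x = x')
    (hv : v ≫ π = x.base ≫ e) (hv' : v ≫ π = x'.base ≫ e) :
    Tup.cons v x hv = Tup.cons v x' hv' := by
  subst hx
  rfl

/-- the contracting homotopy identity on a cocycle -/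
theorem cocycle_cons {n : ℕ} (c : K π e (n + 1) ⟶ P) (hc : d (n + 1) ≫ c = 0) {W : C}
    (x : Tup π e (n + 1) W) (v : W ⟶ V) (hv : v ≫ π = x.base ≫ e) :
    c.app (op W) (gen x) = ∑ i : Fin (n + 1), (-1 : ℤ) ^ (i : ℕ) •
      c.app (op W) (gen (Tup.cons v (Tup.reindex (Fin.succAbove i) x) hv)) := by
  have h0 : (d (n + 1) ≫ c).app (op W) (gen (Tup.cons v x hv)) = 0 := by
    rw [hc]
    rfl
  rw [d_comp_app_gen, Fin.sum_univ_succ] at h0
  simp only [Tup.reindex_zero_cons, Tup.reindex_succ_cons, Fin.val_zero, pow_zero, one_smul,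
    Fin.val_succ, pow_succ, mul_neg, mul_one, neg_smul, Finset.sum_neg_distrib] at h0
  exact add_neg_eq_zero.mp h0

variable (π e)

/-- the `0`-cochain defined by a section over `V` -/
noncomputable def cochainOfSec (P : Cᵒᵖ ⥤ AddCommGrpCat.{max u₁ v₁}) (r : P.obj (op V)) :
    K π e 1 ⟶ P :=
  lift P (fun W x => P.map (x.sec 0).op r) (fun g x => (pmap_map (x.sec 0) g r).symm)

theorem cochainOfSec_gen (P : Cᵒᵖ ⥤ AddCommGrpCat.{max u₁ v₁}) (r : P.obj (op V)) {W : C}
    (x : Tup π e 1 W) : (cochainOfSec π e P r).app (op W) (gen x) = P.map (x.sec 0).op r :=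
  lift_gen P (fun W x => P.map (x.sec 0).op r) (fun g x => (pmap_map (x.sec 0) g r).symm) x

end Alg

section Cartan

variable (good : C → Prop) (GC : ∀ ⦃V T : C⦄, (V ⟶ T) → Prop)

/-- global Čech exactness in positive degrees for all good covers -/
def CEx (P : Cᵒᵖ ⥤ AddCommGrpCat.{max u₁ v₁}) : Prop :=
  ∀ ⦃V T : C⦄ (π : V ⟶ T), GC π → ∀ (p : ℕ) (c : K π (𝟙 T) (p + 2) ⟶ P),
    d (p + 2) ≫ c = 0 → ∃ b : K π (𝟙 T) (p + 1) ⟶ P, d (p + 1) ≫ b = c

/-- the stability property of good covers used in the argument -/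
structure Ax : Prop where
  eto : ∀ ⦃V T : C⦄ (π : V ⟶ T), GC π → ∀ n, GC (Eto π (𝟙 T) n)
  src : ∀ ⦃V T : C⦄ (π : V ⟶ T), GC π → good V

/-- the elementwise data of a short exact sequence of sheaves -/
structure GData {A I Q : Cᵒᵖ ⥤ AddCommGrpCat.{max u₁ v₁}} (ι : A ⟶ I) (q : I ⟶ Q) : Prop where
  inj : ∀ W, Function.Injective (ι.app W)
  exact : ∀ W (x : I.obj W), q.app W x = 0 → ∃ a, ι.app W a = x
  zero : ι ≫ q = 0
  glueI : ∀ ⦃V Y : C⦄ (p : V ⟶ Y), GC p → ∀ x : I.obj (op V),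
      (∀ ⦃Z : C⦄ (p₁ p₂ : Z ⟶ V), p₁ ≫ p = p₂ ≫ p → I.map p₁.op x = I.map p₂.op x) →
      ∃ y : I.obj (op Y), I.map p.op y = x
  sepQ : ∀ ⦃V Y : C⦄ (p : V ⟶ Y), GC p → ∀ y y' : Q.obj (op Y),
      Q.map p.op y = Q.map p.op y' → y = y'
  loc : ∀ (T : C), good T → ∀ s : Q.obj (op T),
    ∃ (V : C) (π : V ⟶ T) (r : I.obj (op V)), GC π ∧ q.app (op V) r = Q.map π.op s

variable {good GC}

section Factor

variable {A I Q : Cᵒᵖ ⥤ AddCommGrpCat.{max u₁ v₁}} {ι : A ⟶ I} {q : I ⟶ Q}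
  {V T T₁ : C} {π : V ⟶ T} {e : T₁ ⟶ T}

theorem exists_factor_cochain (D : GData good GC ι q) {n : ℕ} (c : K π e n ⟶ I)
    (hc : c ≫ q = 0) : ∃ g : K π e n ⟶ A, g ≫ ι = c := by
  have h1 : ∀ (W : C) (x : Tup π e n W), ∃ a : A.obj (op W),
      ι.app (op W) a = c.app (op W) (gen x) := by
    intro W x
    apply D.exact
    have := congrArg (fun α => α.app (op W)) hc
    exact ConcreteCategory.congr_hom this (gen x)
  choose a ha using h1
  refine ⟨lift A a ?_, ?_⟩
  · intro W W' g x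
    apply D.inj
    rw [ha, map_app_apply, ha, app_map_gen]
  · apply hom_ext_gen
    intro W x
    rw [comp_app_apply, lift_gen, ha]

theorem cancel_inj (D : GData good GC ι q) {n : ℕ} (g g' : K π e n ⟶ A)
    (h : g ≫ ι = g' ≫ ι) : g = g' := by
  apply hom_ext_gen
  intro W x
  apply D.inj
  have := congrArg (fun α => α.app (op W)) h
  exact ConcreteCategory.congr_hom this (gen x)

end Factor

variable {A I Q : Cᵒᵖ ⥤ AddCommGrpCat.{max u₁ v₁}} {ι : A ⟶ I} {q : I ⟶ Q}

/-- **Step (a)**: sections of the quotient over good objects lift. -/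
theorem surj_of_cex (hax : Ax good GC) (D : GData good GC ι q) (hA : CEx GC A) (T : C)
    (hT : good T) (s : Q.obj (op T)) : ∃ σ : I.obj (op T), q.app (op T) σ = s := by
  obtain ⟨V, π, r₁, hπ, hr₁⟩ := D.loc T hT s
  obtain ⟨rc, hrcd⟩ : ∃ rc : K π (𝟙 T) 1 ⟶ I, rc = cochainOfSec π (𝟙 T) I r₁ := ⟨_, rfl⟩
  have hqrc : ∀ {W' : C} (x : Tup π (𝟙 T) 1 W'),
      q.app (op W') (rc.app (op W') (gen x)) = Q.map x.base.op s := by
    intro W' x
    rw [hrcd, cochainOfSec_gen, map_app_apply, hr₁, pmap_map, x.comm 0, Category.comp_id]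
  have h1 : (d 1 ≫ rc) ≫ q = 0 := by
    apply hom_ext_gen
    intro W' x
    rw [comp_app_apply, d_comp_app_gen, map_sum, Fin.sum_univ_two, map_zsmul, map_zsmul, hqrc,
      hqrc, zero_app_apply]
    change (-1 : ℤ) ^ ((0 : Fin 2) : ℕ) • Q.map x.base.op s +
      (-1 : ℤ) ^ ((1 : Fin 2) : ℕ) • Q.map x.base.op s = 0
    simp
  obtain ⟨g, hg⟩ := exists_factor_cochain D (d 1 ≫ rc) h1
  have hg2 : d 2 ≫ g = 0 := by
    apply cancel_inj D
    rw [Category.assoc, hg, ← Category.assoc, d_comp_d 0, zero_comp, zero_comp]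
  obtain ⟨b, hb⟩ := hA π hπ 0 g hg2
  obtain ⟨r', hr'd⟩ : ∃ r' : K π (𝟙 T) 1 ⟶ I, r' = rc - b ≫ ι := ⟨_, rfl⟩
  have hr' : d 1 ≫ r' = 0 := by
    rw [hr'd, Preadditive.comp_sub, sub_eq_zero, ← hg, ← hb, Category.assoc]
  have hcompat : ∀ ⦃Z : C⦄ (p₁ p₂ : Z ⟶ Eobj π (𝟙 T) 1),
      p₁ ≫ Eto π (𝟙 T) 1 = p₂ ≫ Eto π (𝟙 T) 1 →
      I.map p₁.op (toSec I r') = I.map p₂.op (toSec I r') := by
    intro Z p₁ p₂ hp
    have hbase : (Tup.map p₁ (univ π (𝟙 T) 1)).base = (Tup.map p₂ (univ π (𝟙 T) 1)).base := by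
      change p₁ ≫ (univ π (𝟙 T) 1).base = p₂ ≫ (univ π (𝟙 T) 1).base
      rw [univ_base]
      exact hp
    have hv : (Tup.map p₂ (univ π (𝟙 T) 1)).sec 0 ≫ π =
        (Tup.map p₁ (univ π (𝟙 T) 1)).base ≫ 𝟙 T := by
      rw [hbase]
      exact (Tup.map p₂ (univ π (𝟙 T) 1)).comm 0
    rw [toSec, ← app_map_gen, ← app_map_gen,
      cocycle_cons r' hr' (Tup.map p₁ (univ π (𝟙 T) 1)) _ hv, Fin.sum_univ_one]
    simp only [Fin.val_zero, pow_zero, one_smul]
    congr 2
    apply Tup.ext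
    · exact hbase
    · funext j
      obtain rfl : j = 0 := Fin.fin_one_eq_zero j
      rfl
  have hgc := hax.eto π hπ 1
  obtain ⟨σ, hσ⟩ := D.glueI (Eto π (𝟙 T) 1) hgc (toSec I r') hcompat
  refine ⟨σ, ?_⟩
  apply D.sepQ (Eto π (𝟙 T) 1) hgc
  rw [← map_app_apply, hσ, toSec, hr'd, sub_app_apply, map_sub, comp_app_apply, hqrc]
  have hz : q.app _ (ι.app _ (b.app (op (Eobj π (𝟙 T) 1)) (gen (univ π (𝟙 T) 1)))) = 0 := by
    have := congrArg (fun α => α.app (op (Eobj π (𝟙 T) 1))) D.zero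
    exact ConcreteCategory.congr_hom this _
  rw [hz, sub_zero, univ_base]

/-- **Step (b)**: the quotient is globally Čech exact. -/
theorem cex_of_step (hax : Ax good GC) (D : GData good GC ι q) (hA : CEx GC A)
    (hI : CEx GC I) : CEx GC Q := by
  intro V T π hπ p c hc
  have hE : good (Eobj π (𝟙 T) (p + 2)) := hax.src _ (hax.eto π hπ (p + 2))
  obtain ⟨τ, hτ⟩ := surj_of_cex hax D hA (Eobj π (𝟙 T) (p + 2)) hE (toSec Q c)
  obtain ⟨ch, hchd⟩ : ∃ ch : K π (𝟙 T) (p + 2) ⟶ I, ch = ofSec π (𝟙 T) (p + 2) τ := ⟨_, rfl⟩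
  have hch : ch ≫ q = c := by
    apply hom_ext_gen
    intro W x
    rw [comp_app_apply, hchd, ofSec_gen, map_app_apply, hτ, app_gen_eq]
  have h5 : (d (p + 2) ≫ ch) ≫ q = 0 := by
    rw [Category.assoc, hch, hc]
  obtain ⟨a, ha⟩ := exists_factor_cochain D (d (p + 2) ≫ ch) h5
  have ha2 : d (p + 3) ≫ a = 0 := by
    apply cancel_inj D
    rw [Category.assoc, ha, ← Category.assoc, d_comp_d (p + 1), zero_comp, zero_comp]
  obtain ⟨g, hg⟩ := hA π hπ (p + 1) a ha2
  obtain ⟨ct, hctd⟩ : ∃ ct : K π (𝟙 T) (p + 2) ⟶ I, ct = ch - g ≫ ι := ⟨_, rfl⟩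
  have hct : d (p + 2) ≫ ct = 0 := by
    rw [hctd, Preadditive.comp_sub, sub_eq_zero, ← ha, ← hg, Category.assoc]
  obtain ⟨bh, hbh⟩ := hI π hπ p ct hct
  refine ⟨bh ≫ q, ?_⟩
  rw [← Category.assoc, hbh, hctd, Preadditive.sub_comp, Category.assoc, D.zero, comp_zero,
    sub_zero, hch]

/-- injective presheaves are Čech exact for all morphisms -/
theorem cex_of_injective (I : Cᵒᵖ ⥤ AddCommGrpCat.{max u₁ v₁}) [Injective I] : CEx GC I :=
  fun _ _ π _ p c hc => exists_primitive I p c hc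

end Cartan

end Groth.Agent.H1.GCech
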