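import Mathlib.CategoryTheory.Limits.Shapes.Diagonal
import Mathlib.CategoryTheory.MorphismProperty.Limits

/-!
# Categorical lemmas on charts and kernel pairs — helper1

Setting: `c : W ⟶ Z` ("chart"), `g : Z ⟶ V`, `R` the kernel pair of `c`, `PV` the kernel pair of `c ≫ g`.
* `isPullback_diag_chart`: `R = PV ×_{Z ×_V Z} Z`.
* `prop_diagChart`: the morphism `PV ⟶ Z ×_V Z` has every property of `c` stable under base change and
  composition.
* `ChartBC`: base change of the whole situation along `j : V' ⟶ V`.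
-/

set_option autoImplicit false
universe v u
open CategoryTheory CategoryTheory.Limits

namespace Groth.Agent.H1.GenFin

section Cat

variable {C : Type u} [Category.{v} C] [HasPullbacks C]

/-- The morphism `PV ⟶ Z ×_V Z` induced by a chart. -/
noncomputable def diagChart {W Z V PV : C} (c : W ⟶ Z) (g : Z ⟶ V) {p₁ p₂ : PV ⟶ W}
    (hPV : IsPullback p₁ p₂ (c ≫ g) (c ≫ g)) : PV ⟶ pullback g g :=
  pullback.lift (p₁ ≫ c) (p₂ ≫ c) (by simp only [Category.assoc]; exact hPV.w)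

@[reassoc (attr := simp)]
theorem diagChart_fst {W Z V PV : C} (c : W ⟶ Z) (g : Z ⟶ V) {p₁ p₂ : PV ⟶ W}
    (hPV : IsPullback p₁ p₂ (c ≫ g) (c ≫ g)) : diagChart c g hPV ≫ pullback.fst g g = p₁ ≫ c :=
  pullback.lift_fst _ _ _

@[reassoc (attr := simp)]
theorem diagChart_snd {W Z V PV : C} (c : W ⟶ Z) (g : Z ⟶ V) {p₁ p₂ : PV ⟶ W}
    (hPV : IsPullback p₁ p₂ (c ≫ g) (c ≫ g)) : diagChart c g hPV ≫ pullback.snd g g = p₂ ≫ c :=
  pullback.lift_snd _ _ _

/-- `R = PV ×_{Z ×_V Z} Z`. -/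
theorem isPullback_diag_chart {W Z V R PV : C} {c : W ⟶ Z} {g : Z ⟶ V} {r₁ r₂ : R ⟶ W}
    (hR : IsPullback r₁ r₂ c c) {p₁ p₂ : PV ⟶ W} (hPV : IsPullback p₁ p₂ (c ≫ g) (c ≫ g))
    (m : R ⟶ PV) (hm₁ : m ≫ p₁ = r₁) (hm₂ : m ≫ p₂ = r₂) :
    IsPullback (r₁ ≫ c) m (pullback.diagonal g) (diagChart c g hPV) := by
  refine IsPullback.mk' ?_ ?_ ?_
  · apply pullback.hom_ext
    · simp only [Category.assoc, pullback.diagonal_fst, Category.comp_id, diagChart_fst]
      rw [← Category.assoc, hm₁]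
    · simp only [Category.assoc, pullback.diagonal_snd, Category.comp_id, diagChart_snd]
      rw [← Category.assoc, hm₂, hR.w]
  · intro T φ φ' _ e2
    apply hR.hom_ext
    · rw [← hm₁, ← Category.assoc, e2, Category.assoc]
    · rw [← hm₂, ← Category.assoc, e2, Category.assoc]
  · intro T a b e
    have e1 := congrArg (fun k => k ≫ pullback.fst g g) e
    have e2 := congrArg (fun k => k ≫ pullback.snd g g) e
    simp only [Category.assoc, pullback.diagonal_fst, pullback.diagonal_snd, Category.comp_id,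
      diagChart_fst, diagChart_snd] at e1 e2
    have hw : (b ≫ p₁) ≫ c = (b ≫ p₂) ≫ c := by
      rw [Category.assoc, Category.assoc, ← e1, ← e2]
    refine ⟨hR.lift (b ≫ p₁) (b ≫ p₂) hw, ?_, ?_⟩
    · rw [← Category.assoc, hR.lift_fst, Category.assoc, ← e1]
    · apply hPV.hom_ext
      · rw [Category.assoc, hm₁, hR.lift_fst]
      · rw [Category.assoc, hm₂, hR.lift_snd]

/-- The morphism `PV ⟶ Z ×_V Z` has every property of `c` stable under base change and composition. -/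
theorem prop_diagChart (P : MorphismProperty C) [P.IsStableUnderBaseChange]
    [P.IsStableUnderComposition] {W Z V PV : C} {c : W ⟶ Z} {g : Z ⟶ V} (hc : P c)
    {p₁ p₂ : PV ⟶ W} (hPV : IsPullback p₁ p₂ (c ≫ g) (c ≫ g)) : P (diagChart c g hPV) := by
  have h1 : P (pullback.map (c ≫ g) (c ≫ g) g g c c (𝟙 _) ((Category.comp_id _).trans rfl)
      ((Category.comp_id _).trans rfl)) := MorphismProperty.pullbackMap hc hc rfl rfl
  have h2 : diagChart c g hPV = hPV.isoPullback.hom ≫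
      pullback.map (c ≫ g) (c ≫ g) g g c c (𝟙 _) ((Category.comp_id _).trans rfl)
        ((Category.comp_id _).trans rfl) := by
    apply pullback.hom_ext
    · rw [diagChart_fst, Category.assoc, pullback.lift_fst, ← Category.assoc,
        hPV.isoPullback_hom_fst]
    · rw [diagChart_snd, Category.assoc, pullback.lift_snd, ← Category.assoc,
        hPV.isoPullback_hom_snd]
  rw [h2]
  exact (P.cancel_left_of_respectsIso _ _).2 h1

/-- Base change of a chart with its kernel pair along `j : V' ⟶ V`. -/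
theorem chart_baseChange {W Z V R V' Z' W' R' : C} {c : W ⟶ Z} {g : Z ⟶ V} {r₁ r₂ : R ⟶ W}
    (hR : IsPullback r₁ r₂ c c) {j : V' ⟶ V} {k : Z' ⟶ Z} {g' : Z' ⟶ V'}
    (sqZ : IsPullback k g' g j) {iW : W' ⟶ W} {h' : W' ⟶ V'}
    (sqW : IsPullback iW h' (c ≫ g) j) {iR : R' ⟶ R} {ρ' : R' ⟶ V'}
    (sqR : IsPullback iR ρ' (r₁ ≫ c ≫ g) j) :
    ∃ (c' : W' ⟶ Z') (r₁' r₂' : R' ⟶ W'), c' ≫ g' = h' ∧ IsPullback iW c' c k ∧
      r₁' ≫ iW = iR ≫ r₁ ∧ r₂' ≫ iW = iR ≫ r₂ ∧ r₁' ≫ h' = ρ' ∧ r₂' ≫ h' = ρ' ∧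
      IsPullback r₁' r₂' c' c' := by
  have hr : r₁ ≫ c ≫ g = r₂ ≫ c ≫ g := by rw [← Category.assoc, hR.w, Category.assoc]
  -- the chart
  have hw1 : (iW ≫ c) ≫ g = h' ≫ j := by rw [Category.assoc]; exact sqW.w
  let c' : W' ⟶ Z' := sqZ.lift (iW ≫ c) h' hw1
  have hc'k : c' ≫ k = iW ≫ c := sqZ.lift_fst _ _ _
  have hc'g : c' ≫ g' = h' := sqZ.lift_snd _ _ _
  have sqtop : IsPullback iW c' c k := by
    have outer : IsPullback iW (c' ≫ g') (c ≫ g) j := by rw [hc'g]; exact sqW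
    exact IsPullback.of_bot outer hc'k.symm sqZ
  -- the maps `R' ⟶ W'`
  have hw2 : (iR ≫ r₁) ≫ c ≫ g = ρ' ≫ j := by rw [Category.assoc]; exact sqR.w
  have hw3 : (iR ≫ r₂) ≫ c ≫ g = ρ' ≫ j := by rw [Category.assoc, ← hr]; exact sqR.w
  let r₁' : R' ⟶ W' := sqW.lift (iR ≫ r₁) ρ' hw2
  let r₂' : R' ⟶ W' := sqW.lift (iR ≫ r₂) ρ' hw3
  have h11 : r₁' ≫ iW = iR ≫ r₁ := sqW.lift_fst _ _ _
  have h12 : r₁' ≫ h' = ρ' := sqW.lift_snd _ _ _
  have h21 : r₂' ≫ iW = iR ≫ r₂ := sqW.lift_fst _ _ _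
  have h22 : r₂' ≫ h' = ρ' := sqW.lift_snd _ _ _
  -- `R' = R ×_Z Z'`
  have hw4 : (iR ≫ r₁ ≫ c) ≫ g = ρ' ≫ j := by simp only [Category.assoc]; exact sqR.w
  let q : R' ⟶ Z' := sqZ.lift (iR ≫ r₁ ≫ c) ρ' hw4
  have hqk : q ≫ k = iR ≫ r₁ ≫ c := sqZ.lift_fst _ _ _
  have hqg : q ≫ g' = ρ' := sqZ.lift_snd _ _ _
  have sqRZ : IsPullback iR q (r₁ ≫ c) k := by
    have outer : IsPullback iR (q ≫ g') ((r₁ ≫ c) ≫ g) j := by
      rw [hqg, Category.assoc]; exact sqR
    exact IsPullback.of_bot outer (by rw [hqk]) sqZ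
  have e1' : r₁' ≫ c' = q := by
    apply sqZ.hom_ext
    · rw [Category.assoc, hc'k, ← Category.assoc, h11, Category.assoc, hqk]
    · rw [Category.assoc, hc'g, h12, hqg]
  have e2' : r₂' ≫ c' = q := by
    apply sqZ.hom_ext
    · rw [Category.assoc, hc'k, ← Category.assoc, h21, Category.assoc, hqk, hR.w]
    · rw [Category.assoc, hc'g, h22, hqg]
  refine ⟨c', r₁', r₂', hc'g, sqtop, h11, h21, h12, h22, ?_⟩
  -- kernel pair base change
  have hw : r₁' ≫ c' = r₂' ≫ c' := by rw [e1', e2']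
  refine IsPullback.mk' hw ?_ ?_
  · intro T φ φ' ha hb
    apply sqRZ.hom_ext
    · apply hR.hom_ext
      · rw [Category.assoc, Category.assoc, ← h11, ← Category.assoc, ha, Category.assoc]
      · rw [Category.assoc, Category.assoc, ← h21, ← Category.assoc, hb, Category.assoc]
    · rw [← e1', ← Category.assoc, ha, Category.assoc]
  · intro T a b hab
    have hs : (a ≫ iW) ≫ c = (b ≫ iW) ≫ c := by
      rw [Category.assoc, ← hc'k, ← Category.assoc, hab, Category.assoc, hc'k, Category.assoc]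
    have hl : hR.lift (a ≫ iW) (b ≫ iW) hs ≫ r₁ ≫ c = (a ≫ c') ≫ k := by
      rw [← Category.assoc, hR.lift_fst, Category.assoc, Category.assoc, hc'k]
    refine ⟨sqRZ.lift (hR.lift (a ≫ iW) (b ≫ iW) hs) (a ≫ c') hl, ?_, ?_⟩
    · apply sqtop.hom_ext
      · rw [Category.assoc, h11, ← Category.assoc, sqRZ.lift_fst, hR.lift_fst]
      · rw [Category.assoc, e1', sqRZ.lift_snd]
    · apply sqtop.hom_ext
      · rw [Category.assoc, h21, ← Category.assoc, sqRZ.lift_fst, hR.lift_snd]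
      · rw [Category.assoc, e2', sqRZ.lift_snd, hab]

end Cat

end Groth.Agent.H1.GenFin
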