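import Groth.Agent.Lib.Helper1.QLocD
import Groth.Agent.Lib.Helper5.AlgSpLqfLocus
import Groth.Agent.Lib.Helper7.AlgSpMono

/-!
# Étale-local splitting of the finite part of a separated quasi-finite morphism (helper1), part A

* `exists_lqf_scheme`: for `f : X ⟶ Y` separated and locally of finite type and an étale chart `h_T ⟶ Y`,
  the quasi-finite locus `X' ⊂ X` base-changed to `T` is a scheme `W'`, separated, locally quasi-finite
  and locally of finite type over `T`.
* `isFiniteMor_yon_map`: `h_m` is a finite morphism of sheaves if `m` is a finite morphism of schemes.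
* `repWith_isClosedImmersion_of_finite_comp`: an open immersion `h_A ⟶ P` with `P ⟶ h_B` separated and
  `A ⟶ B` finite is a closed immersion.
-/

set_option autoImplicit false
universe u
open CategoryTheory CategoryTheory.Limits AlgebraicGeometry Opposite

namespace Groth.Agent.H1.ZSplit

open AlgSp Groth.Agent.Lib.helper5 Groth.Agent.Lib.helper5.OpenSub Groth.Agent.Lib.helper5.NearLocus
  Groth.Agent.Lib.helper5.LqfLocus

variable {S : Scheme.{u}}

/-- The quasi-finite locus, base-changed to an étale chart of the target, is a scheme. -/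
theorem exists_lqf_scheme {X Y : Space S} (f : X ⟶ Y) (hf2 : IsSeparatedMor f.hom)
    {T : Over S} (b₀ : (yon S).obj T ⟶ Y.obj) :
    ∃ (X' : Space S) (j : X' ⟶ X) (W' : Over S) (w' : W' ⟶ T) (c' : (yon S).obj W' ⟶ X'.obj),
      RepWith @IsOpenImmersion j.hom ∧
      Set.range (Points.map j.hom) = {x | HasAtMor (NearAt Plqf) f.hom x} ∧
      IsSeparated w'.left ∧ LocallyQuasiFinite w'.left ∧ LocallyOfFiniteType w'.left ∧
      IsPullback c' ((yon S).map w') (j.hom ≫ f.hom) b₀ := by
  obtain ⟨X', j, hj, hr, hq⟩ := exists_lqf_openSub f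
  haveI hmono : Mono j.hom :=
    Groth.Agent.Lib.helper7.mono_of_repWith (P := @IsOpenImmersion)
      (fun _ _ g hg => by have : IsOpenImmersion g := hg; exact MorphismProperty.monomorphisms.infer_property g) hj
  have hsep : IsSeparatedMor (j.hom ≫ f.hom) := QDesc.isSeparatedMor_comp_mono j.hom f.hom hf2
  have hq' : LocP Plqf (j.hom ≫ f.hom) := hq
  have sq := IsPullback.of_hasPullback (j.hom ≫ f.hom) b₀
  have hXT : IsAlgSpace (pullback (j.hom ≫ f.hom) b₀) :=
    isAlgSpace_of_isPullback Y.property.diag X'.property (IsAlgSpace.yon_obj T) sq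
  have hs := QDesc.isSeparatedMor_of_isPullback sq hsep
  have hql := LocPBC.locP_of_isPullback LocPBC.locPData_lqf X'.property Y.property
    (IsAlgSpace.yon_obj T) sq hq'
  obtain ⟨W', α, hα⟩ := QLoc.exists_iso_of_lqf_separated hXT _ hs hql
  obtain ⟨w', hw'⟩ := (yon S).map_surjective (α ≫ pullback.snd (j.hom ≫ f.hom) b₀)
  have h1 : IsPullback α (α ≫ pullback.snd (j.hom ≫ f.hom) b₀)
      (pullback.snd (j.hom ≫ f.hom) b₀) (𝟙 _) :=
    IsPullback.of_horiz_isIso ⟨by rw [Category.comp_id]⟩
  have h2 := h1.paste_horiz sq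
  rw [Category.id_comp, ← hw'] at h2
  have hs' : IsSeparatedMor ((yon S).map w') := by
    rw [hw']
    exact QDesc.isSeparatedMor_of_isPullback h1 hs
  have hq'' : LocP Plqf ((yon S).map w') := by
    rw [hw']
    exact LocPBC.locP_of_isPullback LocPBC.locPData_lqf hXT (IsAlgSpace.yon_obj T)
      (IsAlgSpace.yon_obj T) h1 hql
  have h3 : Plqf w'.left := locP_yon_map hq''
  exact ⟨X', j, W', w', α ≫ pullback.fst (j.hom ≫ f.hom) b₀, hj, hr,
    (isSeparatedMor_yon_map_iff w').1 hs', h3.1, h3.2, h2⟩

/-- `h_m` is finite if `m` is. -/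
theorem isFiniteMor_yon_map {A B : Over S} (m : A ⟶ B) [IsFinite m.left] :
    IsFiniteMor ((yon S).map m) := by
  intro Z hZ g
  obtain ⟨ζ, rfl⟩ := (yon S).map_surjective g
  have sq0 : IsPullback (pullback.fst m ζ) (pullback.snd m ζ) m ζ := IsPullback.of_hasPullback m ζ
  have sqL := sq0.map (Over.forget S)
  have hfin : IsFinite (pullback.snd m ζ).left :=
    MorphismProperty.of_isPullback (P := @IsFinite) sqL (inferInstanceAs (IsFinite m.left))
  haveI : IsAffine Z.left := hZ
  refine ⟨pullback m ζ, pullback.snd m ζ, (yon S).map (pullback.fst m ζ), sq0.map (yon S), ?_, hfin⟩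
  exact isAffine_of_isAffineHom (pullback.snd m ζ).left

/-- An open immersion from a scheme finite over the base into a space separated over the base is a
closed immersion. -/
theorem repWith_isClosedImmersion_of_finite_comp {P : Sp S} {A B : Over S}
    (jV : (yon S).obj A ⟶ P) (hj : RepWith @IsOpenImmersion jV) (p : P ⟶ (yon S).obj B)
    (hp : IsSeparatedMor p) (m : A ⟶ B) (hm : jV ≫ p = (yon S).map m) [IsFinite m.left] :
    RepWith @IsClosedImmersion jV := by
  refine ⟨hj.1, ?_⟩
  intro Z Z' z fst i sq
  show IsClosedImmersion i.left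
  haveI hoi : IsOpenImmersion i.left := hj.2 z fst i sq
  obtain ⟨φ, rfl⟩ := (yon S).map_surjective fst
  obtain ⟨ζ, hζ⟩ := (yon S).map_surjective (z ≫ p)
  -- the scheme `Q = Z ×_B A`
  have sq0 : IsPullback (pullback.fst ζ m) (pullback.snd ζ m) ζ m := IsPullback.of_hasPullback ζ m
  have sqY := sq0.map (yon S)
  have hcomm : i ≫ ζ = φ ≫ m := by
    apply (yon S).map_injective
    rw [Functor.map_comp, Functor.map_comp, hζ, ← hm, ← Category.assoc, ← sq.w, Category.assoc]
  let c : Z' ⟶ pullback ζ m := pullback.lift i φ hcomm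
  have hc1 : c ≫ pullback.fst ζ m = i := pullback.lift_fst _ _ _
  have hc2 : c ≫ pullback.snd ζ m = φ := pullback.lift_snd _ _ _
  have hxy : ((yon S).map (pullback.fst ζ m) ≫ z) ≫ p = ((yon S).map (pullback.snd ζ m) ≫ jV) ≫ p := by
    rw [Category.assoc, Category.assoc, hm, ← hζ]
    exact sqY.w
  have key : IsPullback ((yon S).map c ≫ (yon S).map (pullback.fst ζ m) ≫ z) ((yon S).map c)
      (pullback.diagonal p)
      (pullback.lift ((yon S).map (pullback.fst ζ m) ≫ z) ((yon S).map (pullback.snd ζ m) ≫ jV) hxy) := by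
    apply Groth.Agent.Lib.helper5.isPullback_of_exists_lift
    · apply pullback.hom_ext
      · rw [Category.assoc, pullback.diagonal_fst, Category.comp_id, Category.assoc, pullback.lift_fst]
      · rw [Category.assoc, pullback.diagonal_snd, Category.comp_id, Category.assoc, pullback.lift_snd,
          ← Functor.map_comp_assoc, hc1, ← Functor.map_comp_assoc, hc2]
        exact sq.w.symm
    · intro T a b hab
      have e1 : a = b ≫ (yon S).map (pullback.fst ζ m) ≫ z := by
        have := congrArg (· ≫ pullback.fst p p) hab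
        simpa only [Category.assoc, pullback.diagonal_fst, Category.comp_id, pullback.lift_fst] using this
      have e2 : a = b ≫ (yon S).map (pullback.snd ζ m) ≫ jV := by
        have := congrArg (· ≫ pullback.snd p p) hab
        simpa only [Category.assoc, pullback.diagonal_snd, Category.comp_id, pullback.lift_snd] using this
      have hl : (b ≫ (yon S).map (pullback.snd ζ m)) ≫ jV = (b ≫ (yon S).map (pullback.fst ζ m)) ≫ z := by
        rw [Category.assoc, Category.assoc, ← e1, ← e2]
      refine ⟨sq.lift _ _ hl, ?_, ?_⟩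
      · rw [← Functor.map_comp_assoc, hc1, ← Category.assoc, sq.lift_snd, Category.assoc, ← e1]
      · apply sqY.hom_ext
        · rw [Category.assoc, ← Functor.map_comp, hc1, sq.lift_snd]
        · rw [Category.assoc, ← Functor.map_comp, hc2, sq.lift_fst]
    · intro T l l' _ hl2
      apply sq.hom_ext
      · have := congrArg (· ≫ (yon S).map (pullback.snd ζ m)) hl2
        simpa only [Category.assoc, ← Functor.map_comp, hc2] using this
      · have := congrArg (· ≫ (yon S).map (pullback.fst ζ m)) hl2
        simpa only [Category.assoc, ← Functor.map_comp, hc1] using this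
  have hci : IsClosedImmersion c.left := hp.2 _ _ c key
  have sqL := sq0.map (Over.forget S)
  have hfin : IsFinite (pullback.fst ζ m).left :=
    MorphismProperty.of_isPullback (P := @IsFinite) sqL.flip (inferInstanceAs (IsFinite m.left))
  have hil : i.left = c.left ≫ (pullback.fst ζ m).left := by
    rw [← Over.comp_left, hc1]
  haveI : IsFinite i.left := by
    rw [hil]
    infer_instance
  exact (IsClosedImmersion.iff_isFinite_and_mono _).2 ⟨inferInstance, inferInstance⟩

end Groth.Agent.H1.ZSplit
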