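import Groth.Agent.Lib.Helper1.QLocD
import Groth.Agent.Lib.Helper1.Diagonal
import Groth.Agent.S10269

/-!
# Proper and locally quasi-finite morphisms of algebraic spaces are finite (helper1)
-/

set_option autoImplicit false
universe u
open CategoryTheory CategoryTheory.Limits AlgebraicGeometry Opposite

namespace Groth.Agent.H1.QFin

open AlgSp Groth.Agent.Lib.helper5 Groth.Agent.Lib.helper5.OpenSub

variable {S : Scheme.{u}}

/-- A separated, locally quasi-finite, universally closed morphism of algebraic spaces is finite. -/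
theorem isFiniteMor_of_sep_lqf_univClosed {X Y : Sp S} (hX : IsAlgSpace X) (hY : IsAlgSpace Y)
    (f : X ⟶ Y) (hfs : IsSeparatedMor f)
    (hfq : LocP (@LocallyQuasiFinite ⊓ @LocallyOfFiniteType) f) (hfc : IsUnivClosedMor f) :
    IsFiniteMor f := by
  intro Z hZ g
  have sq : IsPullback (pullback.fst f g) (pullback.snd f g) f g := IsPullback.of_hasPullback _ _
  have hXZ : IsAlgSpace (pullback f g) :=
    isAlgSpace_of_isPullback hY.diag hX (IsAlgSpace.yon_obj _) sq
  have hs := Groth.Agent.H1.QDesc.isSeparatedMor_of_isPullback sq hfs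
  have hq := LocPBC.locP_of_isPullback LocPBC.locPData_lqf hX hY (IsAlgSpace.yon_obj _) sq hfq
  obtain ⟨W, α, hα⟩ := Groth.Agent.H1.QLoc.exists_iso_of_lqf_separated hXZ _ hs hq
  obtain ⟨w, hw⟩ := (yon S).map_surjective (α ≫ pullback.snd f g)
  have sq' : IsPullback (α ≫ pullback.fst f g) ((yon S).map w) f g := by
    rw [hw]
    have h1 : IsPullback α (α ≫ pullback.snd f g) (pullback.snd f g) (𝟙 _) :=
      IsPullback.of_horiz_isIso ⟨by rw [Category.comp_id]⟩
    have h2 := h1.paste_horiz sq
    rwa [Category.id_comp] at h2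
  haveI h1 : UniversallyClosed w.left :=
    Groth.Agent.H1.Diagonal.universallyClosed_of_isPullback f hfc g w _ sq'
  have h2 : (@LocallyQuasiFinite ⊓ @LocallyOfFiniteType) w.left :=
    Groth.Agent.S10269.prop_of_isPullback LocPBC.locPData_lqf hX hY f hfq g _ w sq'
  haveI : LocallyQuasiFinite w.left := h2.1
  haveI : LocallyOfFiniteType w.left := h2.2
  haveI : IsSeparated w.left := by
    have h3 : IsSeparatedMor ((yon S).map w) := Groth.Agent.H1.QDesc.isSeparatedMor_of_isPullback sq' hfs
    exact (isSeparatedMor_yon_map_iff w).1 h3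
  haveI : IsProper w.left := {}
  haveI : IsFinite w.left := IsFinite.of_isProper_of_locallyQuasiFinite w.left
  haveI : IsAffine Z.left := hZ
  exact ⟨W, w, _, sq', isAffine_of_isAffineHom w.left, inferInstance⟩

end Groth.Agent.H1.QFin
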