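import Groth.Agent.Lib.Helper1.GenFinB
import Groth.Agent.Lib.Helper15.AlgSpDiag
import Groth.Agent.Lib.Helper1.ZSplitA
import Groth.Agent.S16833
import Groth.Prelude.Def_AlgSpEt

/-!
# Finiteness of a morphism from an algebraic space to a scheme via a chart — helper1

* `isSeparatedMor_of_chart`: `g : Z ⟶ h_V` is separated if, for a chart `c : h_W ⟶ Z` with kernel pair
  `R`, the morphism `R ⟶ W ×_V W` is universally closed.
* `isFiniteMor_of_chart`: if moreover `W ⟶ V` is finite, then `g` is finite.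
-/

set_option autoImplicit false
universe u
open CategoryTheory CategoryTheory.Limits AlgebraicGeometry
open AlgSp

namespace Groth.Agent.H1.GenFin

variable {S : Scheme.{u}}

open Groth.Agent.Lib.helper15.AlgSpDiag in
theorem isSeparatedMor_of_chart {Z : Sp S} (hZ : IsAlgSpace Z) {V W R PV : Over S}
    (g : Z ⟶ (yon S).obj V) (c : (yon S).obj W ⟶ Z) (hce : RepWith @Etale c)
    (hcs : RepWith @Surjective c) (h : W ⟶ V) (hh : (yon S).map h = c ≫ g)
    {r₁ r₂ : R ⟶ W} (hR : IsPullback ((yon S).map r₁) ((yon S).map r₂) c c)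
    {p₁ p₂ : PV ⟶ W} (hPV : IsPullback p₁ p₂ h h) (m : R ⟶ PV) (hm₁ : m ≫ p₁ = r₁)
    (hm₂ : m ≫ p₂ = r₂) (hm : UniversallyClosed m.left) : IsSeparatedMor g := by
  have hPV' : IsPullback ((yon S).map p₁) ((yon S).map p₂) (c ≫ g) (c ≫ g) := by
    rw [← hh]; exact hPV.map (yon S)
  have sq := isPullback_diag_chart hR hPV' ((yon S).map m)
    (by rw [← Functor.map_comp, hm₁]) (by rw [← Functor.map_comp, hm₂])
  have hζe : RepWith @Etale (diagChart c g hPV') :=
    prop_diagChart (RepWith (S := S) @Etale) hce hPV'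
  have hζs : RepWith @Surjective (diagChart c g hPV') :=
    prop_diagChart (RepWith (S := S) @Surjective) hcs hPV'
  obtain ⟨hrep, hlft, hmono, hsep, -⟩ := repWith_diagonal_properties hZ g
  have huc : RepWith @UniversallyClosed (pullback.diagonal g) :=
    repWith_of_chart (pullback.diagonal g) hrep (diagChart c g hPV') hζe hζs
      ((yon S).map r₁ ≫ c) m sq @UniversallyClosed hm
  refine ⟨hrep, ?_⟩
  intro T E ζ fst snd sqE
  haveI : Mono snd.left := hmono.2 ζ fst snd sqE
  haveI : LocallyOfFiniteType snd.left := hlft.2 ζ fst snd sqE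
  haveI : IsSeparated snd.left := hsep.2 ζ fst snd sqE
  haveI : UniversallyClosed snd.left := huc.2 ζ fst snd sqE
  haveI : IsProper snd.left := {}
  exact (IsClosedImmersion.iff_isProper_and_mono snd.left).2 ⟨inferInstance, inferInstance⟩

theorem isFiniteMor_of_chart {Z : Sp S} (hZ : IsAlgSpace Z) {V W R PV : Over S}
    (g : Z ⟶ (yon S).obj V) (c : (yon S).obj W ⟶ Z) (hce : RepWith @Etale c)
    (hcs : RepWith @Surjective c) (h : W ⟶ V) (hh : (yon S).map h = c ≫ g)
    {r₁ r₂ : R ⟶ W} (hR : IsPullback ((yon S).map r₁) ((yon S).map r₂) c c)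
    {p₁ p₂ : PV ⟶ W} (hPV : IsPullback p₁ p₂ h h) (m : R ⟶ PV) (hm₁ : m ≫ p₁ = r₁)
    (hm₂ : m ≫ p₂ = r₂) (hm : UniversallyClosed m.left) (hfin : IsFinite h.left) :
    IsFiniteMor g := by
  have hsep := isSeparatedMor_of_chart hZ g c hce hcs h hh hR hPV m hm₁ hm₂ hm
  let Us : Space S := ⟨(yon S).obj W, IsAlgSpace.yon_obj W⟩
  let Zs : Space S := ⟨Z, hZ⟩
  let Vs : Space S := ⟨(yon S).obj V, IsAlgSpace.yon_obj V⟩
  let p : Us ⟶ Zs := ObjectProperty.homMk c
  let f : Zs ⟶ Vs := ObjectProperty.homMk g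
  have hfinm : IsFiniteMor (p ≫ f).hom := by
    show IsFiniteMor (c ≫ g)
    rw [← hh]
    exact Groth.Agent.H1.ZSplit.isFiniteMor_yon_map h
  exact Groth.Agent.S16833.result p f (isEtaleMor_of_repWith c hce)
    (Groth.Agent.Lib.helper5.surjective_map_of_repWith_surjective c hcs) hsep hfinm

end Groth.Agent.H1.GenFin
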