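import Groth.Agent.Lib.Helper5.AlgSpOpenSub
import Groth.Agent.Lib.Helper5.AlgSpEtFpqc
import Groth.Agent.Lib.Helper15.AlgSpDiag
import Groth.Agent.S10540
import Groth.Agent.S9888

/-!
# Finite over the open image of an étale chart — helper1

If the base change of `f : X ⟶ Y` to an étale chart `b' : h_{V'} ⟶ Y` is finite, then `f` is finite over the
open subspace of `Y` which is the image of `V'`.
-/

set_option autoImplicit false
universe u
open CategoryTheory CategoryTheory.Limits AlgebraicGeometry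
open AlgSp

namespace Groth.Agent.H1.GenFin

variable {S : Scheme.{u}}

open Groth.Agent.Lib.helper5 Groth.Agent.Lib.helper5.OpenSub Groth.Agent.Lib.helper15.AlgSpDiag in
theorem exists_openSub_finite {X Y : Space S} (f : X ⟶ Y) {V' : Over S}
    (b' : (yon S).obj V' ⟶ Y.obj) (hb'e : RepWith @Etale b') {Z' : Sp S} {k : Z' ⟶ X.obj}
    {g' : Z' ⟶ (yon S).obj V'} (sqZ' : IsPullback k g' f.hom b') (hfin : IsFiniteMor g') :
    ∃ (Y' X' : Space S) (j : Y' ⟶ Y) (fst : X' ⟶ Y') (snd : X' ⟶ X),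
      RepWith @IsOpenImmersion j.hom ∧
      Set.range (Points.ofPt b') ⊆ Set.range (Points.map j.hom) ∧
      IsPullback fst.hom snd.hom j.hom f.hom ∧ IsFiniteMor fst.hom := by
  set Ω : Set (Points Y.obj) := Set.range (Points.ofPt b') with hΩdef
  have hΩ : IsOpen Ω := by
    rw [hΩdef, ← Set.image_univ]
    exact Groth.Agent.Lib.helper11.isOpenMap_ofPt b' hb'e _ isOpen_univ
  have hY' : IsAlgSpace (sub Y.obj Ω) := isAlgSpace_sub Y.property hΩ
  let Y' : Space S := ⟨sub Y.obj Ω, hY'⟩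
  let j : Y' ⟶ Y := ObjectProperty.homMk (ι Y.obj Ω)
  have hj : RepWith @IsOpenImmersion j.hom := repWith_ι Y.obj hΩ
  have sqX' : IsPullback (pullback.fst f.hom (ι Y.obj Ω)) (pullback.snd f.hom (ι Y.obj Ω)) f.hom
      (ι Y.obj Ω) := IsPullback.of_hasPullback _ _
  have hX' : IsAlgSpace (pullback f.hom (ι Y.obj Ω)) :=
    isAlgSpace_of_isPullback Y.property.diag X.property hY' sqX'
  let X' : Space S := ⟨pullback f.hom (ι Y.obj Ω), hX'⟩
  let fst : X' ⟶ Y' := ObjectProperty.homMk (pullback.snd f.hom (ι Y.obj Ω))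
  let snd : X' ⟶ X := ObjectProperty.homMk (pullback.fst f.hom (ι Y.obj Ω))
  refine ⟨Y', X', j, fst, snd, hj, ?_, sqX'.flip, ?_⟩
  · show Ω ⊆ Set.range (Points.map (ι Y.obj Ω))
    rw [range_map_ι]
  -- the chart of `Y'`
  have hmem : ∀ t : ↥V'.left, Points.ofPt b' t ∈ Ω := fun t => ⟨t, rfl⟩
  set b'' : (yon S).obj V' ⟶ sub Y.obj Ω := lift b' hmem with hb''
  have hb''ι : b'' ≫ ι Y.obj Ω = b' := lift_ι b' hmem
  have hb''e : RepWith @Etale b'' := by
    have sq : IsPullback (𝟙 _) b'' (b'' ≫ ι Y.obj Ω) (ι Y.obj Ω) :=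
      (isPullback_of_mono_comp b'' (ι Y.obj Ω)).flip
    rw [hb''ι] at sq
    exact (repWith_isStableUnderBaseChange (S := S) @Etale).of_isPullback sq hb'e
  have hb''s : RepWith @Surjective b'' := by
    refine ⟨hb''e.1, ?_⟩
    intro T E ζ fstE sndE sqE
    obtain ⟨φ, rfl⟩ := (yon S).map_surjective fstE
    have sq2 : IsPullback ((yon S).map φ) ((yon S).map sndE) (b'' ≫ ι Y.obj Ω) (ζ ≫ ι Y.obj Ω) :=
      (Groth.Agent.S9888.isPullback_comp_mono_iff (ι Y.obj Ω)).2 sqE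
    rw [hb''ι] at sq2
    refine ⟨fun t => ?_⟩
    obtain ⟨v', hv'⟩ : Points.ofPt (ζ ≫ ι Y.obj Ω) t ∈ Ω := ofPt_comp_ι_mem ζ t
    obtain ⟨e, _, he⟩ := Groth.Agent.Lib.helper11.exists_of_isPullback_schemes sq2 v' t hv'
    exact ⟨e, he⟩
  have hcover := EtFpqc.isFpqcCover_of_chart hY' V' b'' hb''e hb''s
  -- the base change of `fst` along the chart is `g'`
  have hw : k ≫ f.hom = (g' ≫ b'') ≫ ι Y.obj Ω := by
    rw [Category.assoc, hb''ι]; exact sqZ'.w
  let q : Z' ⟶ pullback f.hom (ι Y.obj Ω) := pullback.lift k (g' ≫ b'') hw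
  have hq1 : q ≫ pullback.fst f.hom (ι Y.obj Ω) = k := pullback.lift_fst _ _ _
  have hq2 : q ≫ pullback.snd f.hom (ι Y.obj Ω) = g' ≫ b'' := pullback.lift_snd _ _ _
  have sqq : IsPullback q g' (pullback.snd f.hom (ι Y.obj Ω)) b'' := by
    have outer : IsPullback (q ≫ pullback.fst f.hom (ι Y.obj Ω)) g' f.hom (b'' ≫ ι Y.obj Ω) := by
      rw [hq1, hb''ι]; exact sqZ'
    exact IsPullback.of_right outer hq2 sqX'
  have hZ' : IsAlgSpace Z' :=
    isAlgSpace_of_isPullback Y.property.diag X.property (IsAlgSpace.yon_obj V') sqZ'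
  have key := Groth.Agent.S10540.result S (ι := PUnit.{u + 1}) (fun _ => (yon S).obj V')
    (fun _ => b'') hY' (fun _ => IsAlgSpace.yon_obj V') hcover
    (pullback.snd f.hom (ι Y.obj Ω)) hX' (fun _ => Z') (fun _ => g') (fun _ => q) (fun _ => hZ')
    (fun _ => sqq)
  exact key.2 (fun _ => hfin)

end Groth.Agent.H1.GenFin
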