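import Groth.Agent.Lib.Helper1.GenFinB
import Groth.Agent.Lib.Helper1.GenFinF
import Groth.Agent.Lib.Helper11.AlgSpBasic
import Groth.Agent.Lib.Helper15.AlgSpDiag
import Groth.Agent.S10185
import Groth.Agent.S10196
import Groth.Agent.S10265
import Groth.Prelude.Def_AlgSpDec

/-!
# Finite fibres: charts of quasi-separated spaces, finite morphisms — helper1
-/

set_option autoImplicit false
universe u
open CategoryTheory CategoryTheory.Limits AlgebraicGeometry
open AlgSp

namespace Groth.Agent.H1.GenFin

section Cat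

variable {C : Type*} [Category C] [HasPullbacks C]

/-- The diagonal of `ι ≫ f` is the base change of the diagonal of `f`, for a monomorphism `ι`. -/
theorem isPullback_diagonal_mono_comp {X' X Y : C} (ι : X' ⟶ X) [Mono ι] (f : X ⟶ Y) :
    IsPullback (pullback.diagonal (ι ≫ f)) ι
      (pullback.map (ι ≫ f) (ι ≫ f) f f ι ι (𝟙 Y) (Category.comp_id _) (Category.comp_id _))
      (pullback.diagonal f) := by
  refine IsPullback.mk' ?_ ?_ ?_
  · apply pullback.hom_ext
    · rw [Category.assoc, Category.assoc, pullback.lift_fst, pullback.diagonal_fst,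
        Category.comp_id, ← Category.assoc, pullback.diagonal_fst, Category.id_comp]
    · rw [Category.assoc, Category.assoc, pullback.lift_snd, pullback.diagonal_snd,
        Category.comp_id, ← Category.assoc, pullback.diagonal_snd, Category.id_comp]
  · intro T φ φ' _ e2
    exact (cancel_mono ι).1 e2
  · intro T a b e
    have e1 := congrArg (fun k => k ≫ pullback.fst f f) e
    have e2 := congrArg (fun k => k ≫ pullback.snd f f) e
    simp only [Category.assoc, pullback.diagonal_fst, pullback.diagonal_snd, Category.comp_id,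
      pullback.lift_fst, pullback.lift_snd] at e1 e2
    have h12 : a ≫ pullback.fst (ι ≫ f) (ι ≫ f) = a ≫ pullback.snd (ι ≫ f) (ι ≫ f) := by
      rw [← cancel_mono ι, Category.assoc, Category.assoc, e1, e2]
    refine ⟨a ≫ pullback.fst (ι ≫ f) (ι ≫ f), ?_, ?_⟩
    · apply pullback.hom_ext
      · simp
      · simp [h12]
    · rw [Category.assoc, e1]

end Cat

/-- If the fibre of `h` through `u` is finite, `h` is quasi-finite at `u`. -/
theorem quasiFiniteAt_of_finite_fibre {U V : Scheme.{u}} (h : U ⟶ V) [LocallyOfFiniteType h] (u : U)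
    (hfin : (h ⁻¹' {h u}).Finite) : h.QuasiFiniteAt u := by
  rw [Scheme.Hom.quasiFiniteAt_iff_isOpen_singleton_asFiber]
  haveI : Finite (h.fiber (h u)) := by
    haveI : Finite ↥(h ⁻¹' {h u}) := hfin
    exact Finite.of_equiv _ (h.fiberHomeo (h u)).symm.toEquiv
  haveI : LocallyOfFiniteType (h.fiberToSpecResidueField (h u)) :=
    inferInstanceAs (LocallyOfFiniteType (pullback.snd h (V.fromSpecResidueField (h u))))
  haveI : LocallyQuasiFinite (h.fiberToSpecResidueField (h u)) :=
    LocallyQuasiFinite.of_finite_preimage_singleton _ (fun _ => Set.toFinite _)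
  haveI : IsLocallyArtinian (Spec (V.residueField (h u))) :=
    Scheme.isLocallyArtinianScheme_Spec.2 inferInstance
  haveI : IsLocallyArtinian (h.fiber (h u)) :=
    IsLocallyArtinian.of_locallyQuasiFinite (h.fiberToSpecResidueField (h u))
  exact isOpen_discrete _


variable {S : Scheme.{u}}

/-- An étale chart from an affine scheme to the source of a quasi-separated morphism with target
quasi-separated over a quasi-separated base has finite fibres on points. -/
theorem finite_preimage_ofPt [QuasiSeparatedSpace ↥S] {X Y : Sp S} (hX : IsAlgSpace X)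
    (hY : IsAlgSpace Y) (f : X ⟶ Y) (hqs : IsQuasiSeparatedMor f) (hYqs : IsQuasiSeparatedSp Y)
    {U : Over S} [IsAffine U.left] (a : (yon S).obj U ⟶ X) (hae : RepWith @Etale a)
    (x : Points X) : (Points.ofPt a ⁻¹' {x}).Finite := by
  by_cases hne : ∃ u₀, Points.ofPt a u₀ = x
  swap
  · convert Set.finite_empty
    ext u
    simp only [Set.mem_preimage, Set.mem_singleton_iff, Set.mem_empty_iff_false, iff_false]
    exact fun hu => hne ⟨u, hu⟩
  obtain ⟨u₀, rfl⟩ := hne
  obtain ⟨R, r₂, fst', sqR⟩ := hX.representable_from_yon a a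
  obtain ⟨r₁, rfl⟩ := (yon S).map_surjective fst'
  obtain ⟨PY, p₂, fst'', sqPY⟩ := hY.representable_from_yon (a ≫ f) (a ≫ f)
  obtain ⟨p₁, rfl⟩ := (yon S).map_surjective fst''
  haveI : CompactSpace ↥PY.left :=
    Groth.Agent.S10185.compact_of_qs hYqs U U PY (a ≫ f) (a ≫ f) p₁ p₂ sqPY
  have hw : (yon S).map r₁ ≫ (a ≫ f) = (yon S).map r₂ ≫ (a ≫ f) := by
    rw [← Category.assoc, sqR.w, Category.assoc]
  obtain ⟨m, hm⟩ := (yon S).map_surjective (sqPY.lift _ _ hw)
  have hm₁ : (yon S).map m ≫ (yon S).map p₁ = (yon S).map r₁ := by rw [hm, sqPY.lift_fst]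
  have hm₂ : (yon S).map m ≫ (yon S).map p₂ = (yon S).map r₂ := by rw [hm, sqPY.lift_snd]
  have sqd := isPullback_diag_chart sqR sqPY ((yon S).map m) hm₁ hm₂
  haveI : QuasiCompact m.left := hqs.2 _ _ m sqd
  haveI : CompactSpace ↥R.left := by
    have h1 := QuasiCompact.isCompact_preimage (f := m.left) _ isOpen_univ isCompact_univ
    rw [Set.preimage_univ] at h1
    exact isCompact_univ_iff.1 h1
  haveI : Etale r₁.left := hae.2 a _ r₁ sqR.flip
  haveI : LocallyQuasiFinite r₁.left := Groth.Agent.S10265.lqf_of_etale _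
  haveI : QuasiCompact r₁.left :=
    (HasAffineProperty.iff_of_isAffine (P := @QuasiCompact)).2 (inferInstance : CompactSpace ↥R.left)
  have hfin := r₁.left.finite_preimage_singleton u₀
  refine (hfin.image r₂.left).subset ?_
  intro u hu
  obtain ⟨r, hr1, hr2⟩ := Groth.Agent.Lib.helper11.exists_of_isPullback_schemes sqR u₀ u hu.symm
  exact ⟨r, hr1, hr2⟩

/-- A finite morphism of sheaves has finite fibres on points. -/
theorem finite_fibre_of_isFiniteMor {A B : Sp S} (g : A ⟶ B) (hg : IsFiniteMor g) (b : Points B) :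
    (Points.map g ⁻¹' {b}).Finite := by
  induction b using Points.ind with
  | h q =>
  have haff : IsAffine q.pt.left := inferInstanceAs (IsAffine (Spec (CommRingCat.of q.K)))
  obtain ⟨W, i, fst, sq, hWaff, hfin⟩ := hg haff q.toHom
  haveI := hfin
  have hWfin : (Set.univ : Set ↥W.left).Finite := by
    have h1 := i.left.finite_preimage_singleton (IsLocalRing.closedPoint q.K)
    convert h1
    ext w
    simp only [Set.mem_univ, Set.mem_preimage, Set.mem_singleton_iff, true_iff]
    haveI : Subsingleton (PrimeSpectrum q.K) := inferInstance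
    exact Subsingleton.elim (α := PrimeSpectrum q.K) _ _
  refine (hWfin.image (Points.ofPt fst)).subset ?_
  intro x hx
  have hx' : Points.map g x = Points.ofPt q.toHom (IsLocalRing.closedPoint q.K) := by
    rw [Points.ofPt_toHom]; exact hx
  obtain ⟨w, hw, -⟩ := Groth.Agent.Lib.helper11.exists_of_isPullback_scheme sq x _ hx'
  exact ⟨w, Set.mem_univ _, hw⟩

end Groth.Agent.H1.GenFin
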