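import Groth.Agent.Lib.Helper1.GenFinA
import Groth.Agent.Lib.Helper1.GenFinE
import Groth.Agent.S3207

/-!
# Generic finiteness for separated morphisms which need not be quasi-compact — helper1
-/

set_option autoImplicit false
universe u
open CategoryTheory CategoryTheory.Limits AlgebraicGeometry Topology TopologicalSpace

namespace Groth.Agent.H1.GenFin

/-- A finite set of points of a scheme lies in a quasi-compact open. -/
theorem exists_compact_open_of_finite {R : Scheme.{u}} (F : Set R) (hF : F.Finite) :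
    ∃ O : R.Opens, IsCompact (O : Set R) ∧ F ⊆ O := by
  classical
  choose O hOaff hOmem _ using fun t : R =>
    exists_isAffineOpen_mem_and_subset (x := t) (U := (⊤ : R.Opens)) trivial
  refine ⟨⟨⋃ t ∈ hF.toFinset, (O t : Set R), isOpen_biUnion fun t _ => (O t).2⟩, ?_, ?_⟩
  · exact hF.toFinset.isCompact_biUnion fun t _ => (hOaff t).isCompact
  · intro t ht
    exact Set.mem_biUnion (hF.mem_toFinset.2 ht) (hOmem t)

/-- **Generic finiteness, separated case.**  Let `ρ : R ⟶ V` be separated and locally of finite type,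
`v` a maximal point of `V` with finite fibre at all of whose points `ρ` is quasi-finite, and
suppose all maximal points of `R` lie over `v`.  Then `ρ` is finite over an affine open
neighbourhood of `v`. -/
theorem exists_finite_nbhd_of_separated {R V : Scheme.{u}} (ρ : R ⟶ V) [LocallyOfFiniteType ρ]
    [IsSeparated ρ] [QuasiSeparatedSpace V] (v : V) (hv : ∀ v' : V, v' ⤳ v → v' = v)
    (hqf : ∀ t : R, ρ t = v → ρ.QuasiFiniteAt t) (hfin : (ρ ⁻¹' {v}).Finite)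
    (hmax : ∀ r : R, (∀ r' : R, r' ⤳ r → r' = r) → ρ r = v) :
    ∃ V' : V.Opens, v ∈ V' ∧ IsAffineOpen V' ∧ IsFinite (ρ ∣_ V') := by
  obtain ⟨R₀, hR₀c, hR₀⟩ := exists_compact_open_of_finite _ hfin
  haveI : CompactSpace ↥(R₀.toScheme) := isCompact_iff_compactSpace.1 hR₀c
  set ρ₀ := R₀.ι ≫ ρ with hρ₀
  haveI : QuasiCompact ρ₀ := quasiCompact_of_compactSpace _
  have hqf₀ : ∀ t : R₀, ρ₀ t = v → ρ₀.QuasiFiniteAt t := by
    intro t ht
    rw [hρ₀, Scheme.Hom.quasiFiniteAt_comp_iff_of_isOpenImmersion]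
    apply hqf
    rw [← Scheme.Hom.comp_apply]; exact ht
  obtain ⟨V', hvV', hV'aff, hfin'⟩ := exists_finite_nbhd ρ₀ v hv hqf₀
  refine ⟨V', hvV', hV'aff, ?_⟩
  -- the open immersion of the restrictions
  let A := (ρ₀ ⁻¹ᵁ V').toScheme
  let α : A ⟶ R := (ρ₀ ⁻¹ᵁ V').ι ≫ R₀.ι
  have hαr : Set.range α ⊆ Set.range (ρ ⁻¹ᵁ V').ι := by
    rintro _ ⟨a, rfl⟩
    rw [Scheme.Opens.range_ι]
    show ρ (α a) ∈ V'
    have : ρ (α a) = ρ₀ ((ρ₀ ⁻¹ᵁ V').ι a) := by
      simp only [α, hρ₀, Scheme.Hom.comp_apply]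
    rw [this]
    exact a.2
  let β : A ⟶ (ρ ⁻¹ᵁ V').toScheme := IsOpenImmersion.lift (ρ ⁻¹ᵁ V').ι α hαr
  have hβ : β ≫ (ρ ⁻¹ᵁ V').ι = α := IsOpenImmersion.lift_fac _ _ _
  have hβρ : β ≫ (ρ ∣_ V') = ρ₀ ∣_ V' := by
    rw [← cancel_mono V'.ι, Category.assoc, morphismRestrict_ι, ← Category.assoc, hβ,
      morphismRestrict_ι]
    simp only [α, hρ₀, Category.assoc]
  haveI : IsFinite (β ≫ (ρ ∣_ V')) := by rw [hβρ]; exact hfin'
  haveI : UniversallyClosed β := UniversallyClosed.of_comp_of_isSeparated β (ρ ∣_ V')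
  have hβcl : IsClosed (Set.range β) := β.isClosedMap.isClosed_range
  -- `ρ ⁻¹ V' ⊆ R₀`
  have hsub : ρ ⁻¹ᵁ V' ≤ R₀ := by
    intro r hr
    by_contra hrR₀
    -- the open complement
    have hTo : IsOpen ((ρ ⁻¹ᵁ V').ι '' (Set.range β)ᶜ) :=
      (ρ ⁻¹ᵁ V').ι.isOpenEmbedding.isOpenMap _ hβcl.isOpen_compl
    have hrT : r ∈ (ρ ⁻¹ᵁ V').ι '' (Set.range β)ᶜ := by
      refine ⟨⟨r, hr⟩, ?_, rfl⟩
      rintro ⟨a, ha⟩
      apply hrR₀
      have h1 : α a = r := by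
        rw [← hβ, Scheme.Hom.comp_apply, ha]; rfl
      rw [← h1]
      exact ((ρ₀ ⁻¹ᵁ V').ι a).2
    obtain ⟨η, hηr, hηmax⟩ := Groth.Agent.S3207.exists_maximal_generization r
    have hηT := hηr.mem_open hTo hrT
    obtain ⟨z, hz, hzη⟩ := hηT
    apply hz
    have hηv : ρ η = v := hmax η hηmax
    have hηR₀ : η ∈ R₀ := hR₀ hηv
    have hηV' : ρ₀ ⟨η, hηR₀⟩ ∈ V' := by
      have : ρ₀ ⟨η, hηR₀⟩ = ρ η := by simp only [hρ₀, Scheme.Hom.comp_apply]; rfl
      rw [this, hηv]; exact hvV'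
    refine ⟨⟨⟨η, hηR₀⟩, hηV'⟩, ?_⟩
    apply (ρ ⁻¹ᵁ V').ι.injective
    rw [← Scheme.Hom.comp_apply, hβ, hzη]
    rfl
  -- conclude
  let a : (ρ ⁻¹ᵁ V').toScheme ⟶ R₀.toScheme := R.homOfLE hsub
  have ha : a ≫ R₀.ι = (ρ ⁻¹ᵁ V').ι := Scheme.homOfLE_ι _ _
  have sq : IsPullback (a ≫ R₀.ι) (ρ ∣_ V') ρ V'.ι := by
    rw [ha]; exact (isPullback_morphismRestrict ρ V').flip
  have sq' : IsPullback a (ρ ∣_ V') ρ₀ V'.ι := isPullback_of_comp_mono sq
  exact isFinite_of_isPullback_restrict ρ₀ V' sq' hfin'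

end Groth.Agent.H1.GenFin
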