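import Groth.Agent.Lib.Helper1.GenFinA
import Groth.Agent.Lib.Helper1.GenFinC
import Groth.Agent.Lib.Helper1.GenFinD
import Groth.Agent.Lib.Helper1.GenFinE
import Groth.Agent.S9995
import Groth.Agent.S9920

/-!
# Finiteness over an open of a chart, from finiteness of the kernel pair — helper1

Second half of the proof of `S10398.main`, extracted.
-/

set_option autoImplicit false
universe u
open CategoryTheory CategoryTheory.Limits AlgebraicGeometry Topology TopologicalSpace
open AlgSp

namespace Groth.Agent.H1.GenFin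

open Groth.Agent.Lib.helper5 Groth.Agent.Lib.helper15.AlgSpDiag

variable {S : Scheme.{u}}

/-- Let `b : h_V ⟶ Y` be an étale chart with `V` affine, `c : h_W ⟶ X ×_Y V` an étale surjective chart
with `W` affine and kernel pair `R`.  If `R ⟶ V` is finite over the affine open `V' ⊆ V`, then
`X ×_Y V' ⟶ V'` is finite. -/
theorem finite_of_kernelPair_nbhd {X Y : Space S} (f : X ⟶ Y) {V : Over S} [IsAffine V.left]
    (b : (yon S).obj V ⟶ Y.obj) {W : Over S} [IsAffine W.left]
    (c : (yon S).obj W ⟶ pullback f.hom b) (hce : RepWith @Etale c) (hcs : RepWith @Surjective c)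
    (h : W ⟶ V) (hh : (yon S).map h = c ≫ pullback.snd f.hom b) [LocallyOfFiniteType h.left]
    {R : Over S} (r₁ r₂ : R ⟶ W) (sqR' : IsPullback ((yon S).map r₁) ((yon S).map r₂) c c)
    (V' : V.left.Opens) (hV'aff : IsAffineOpen V')
    (hfinV' : IsFinite ((r₁.left ≫ h.left) ∣_ V')) :
    ∃ (Z' : Sp S) (k : Z' ⟶ X.obj) (g' : Z' ⟶ (yon S).obj (OpenSub.subOver V V')),
      IsPullback k g' f.hom ((yon S).map (OpenSub.subOverι V V') ≫ b) ∧ IsFiniteMor g' := by
  have sq : IsPullback (pullback.fst f.hom b) (pullback.snd f.hom b) f.hom b :=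
    IsPullback.of_hasPullback _ _
  set g := pullback.snd f.hom b with hg
  -- base change to `V'`
  let Vp : Over S := OpenSub.subOver V V'
  let j : Vp ⟶ V := OpenSub.subOverι V V'
  haveI : IsAffine Vp.left := hV'aff
  let b' : (yon S).obj Vp ⟶ Y.obj := (yon S).map j ≫ b
  have sqZ : IsPullback (pullback.fst g ((yon S).map j)) (pullback.snd g ((yon S).map j)) g
      ((yon S).map j) := IsPullback.of_hasPullback _ _
  have sqZf : IsPullback (pullback.fst g ((yon S).map j) ≫ pullback.fst f.hom b)
      (pullback.snd g ((yon S).map j)) f.hom b' := sqZ.paste_horiz sq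
  have hZ' : IsAlgSpace (pullback g ((yon S).map j)) :=
    isAlgSpace_of_isPullback Y.property.diag X.property (IsAlgSpace.yon_obj Vp) sqZf
  have sqW0 : IsPullback (pullback.fst h j) (pullback.snd h j) h j := IsPullback.of_hasPullback h j
  have sqW : IsPullback ((yon S).map (pullback.fst h j)) ((yon S).map (pullback.snd h j)) (c ≫ g)
      ((yon S).map j) := by rw [← hh]; exact sqW0.map (yon S)
  have sqR0 : IsPullback (pullback.fst (r₁ ≫ h) j) (pullback.snd (r₁ ≫ h) j) (r₁ ≫ h) j :=
    IsPullback.of_hasPullback _ _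
  have sqRy : IsPullback ((yon S).map (pullback.fst (r₁ ≫ h) j))
      ((yon S).map (pullback.snd (r₁ ≫ h) j)) ((yon S).map r₁ ≫ c ≫ g) ((yon S).map j) := by
    rw [← hh, ← Functor.map_comp]; exact sqR0.map (yon S)
  obtain ⟨c', r₁'', r₂'', hc'g, sqtop, h11, h21, h12, h22, sqK⟩ :=
    chart_baseChange sqR' sqZ sqW sqRy
  obtain ⟨r₁', rfl⟩ := (yon S).map_surjective r₁''
  obtain ⟨r₂', rfl⟩ := (yon S).map_surjective r₂''
  have hc'e : RepWith @Etale c' :=
    (repWith_isStableUnderBaseChange (S := S) @Etale).of_isPullback sqtop hce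
  have hc's : RepWith @Surjective c' :=
    (repWith_isStableUnderBaseChange (S := S) @Surjective).of_isPullback sqtop hcs
  -- finiteness of `ρ'`
  have sqR0l := sqR0.map (Over.forget S)
  haveI hρ'fin : IsFinite (pullback.snd (r₁ ≫ h) j).left :=
    isFinite_of_isPullback_restrict (r₁.left ≫ h.left) V' sqR0l hfinV'
  have e12 : r₁' ≫ pullback.snd h j = pullback.snd (r₁ ≫ h) j := (yon S).map_injective (by
    rw [Functor.map_comp]; exact h12)
  have e22 : r₂' ≫ pullback.snd h j = pullback.snd (r₁ ≫ h) j := (yon S).map_injective (by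
    rw [Functor.map_comp]; exact h22)
  -- finiteness of `h'`
  have sqW0l : IsPullback (pullback.fst h j).left (pullback.snd h j).left h.left j.left :=
    sqW0.map (Over.forget S)
  haveI : IsAffineHom (pullback.snd h j).left :=
    MorphismProperty.of_isPullback (P := @IsAffineHom) sqW0l inferInstance
  haveI : LocallyOfFiniteType (pullback.snd h j).left :=
    MorphismProperty.of_isPullback (P := @LocallyOfFiniteType) sqW0l inferInstance
  haveI : Surjective r₁'.left := hc's.2 c' _ r₁' sqK.flip
  haveI : IsFinite (r₁'.left ≫ (pullback.snd h j).left) := by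
    rw [← Over.comp_left, e12]; exact hρ'fin
  haveI hfinh' : IsFinite (pullback.snd h j).left :=
    isFinite_of_surjective_comp r₁'.left (pullback.snd h j).left
  -- `m'` is universally closed
  set h' := pullback.snd h j with hh'def
  have sqPV' : IsPullback (pullback.fst h' h') (pullback.snd h' h') h' h' :=
    IsPullback.of_hasPullback h' h'
  have hr' : r₁' ≫ h' = r₂' ≫ h' := by rw [e12, e22]
  let m' : pullback (r₁ ≫ h) j ⟶ pullback h' h' := pullback.lift r₁' r₂' hr'
  have hm₁' : m' ≫ pullback.fst h' h' = r₁' := pullback.lift_fst _ _ _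
  have hm₂' : m' ≫ pullback.snd h' h' = r₂' := pullback.lift_snd _ _ _
  have sqPV'l : IsPullback (pullback.fst h' h').left (pullback.snd h' h').left h'.left h'.left :=
    sqPV'.map (Over.forget S)
  haveI : IsAffineHom (pullback.snd h' h').left :=
    MorphismProperty.of_isPullback (P := @IsAffineHom) sqPV'l inferInstance
  have hρ' : m'.left ≫ ((pullback.snd h' h').left ≫ h'.left) = (pullback.snd (r₁ ≫ h) j).left := by
    rw [← Category.assoc, ← Over.comp_left, hm₂', ← Over.comp_left, e22]
  haveI : UniversallyClosed (m'.left ≫ ((pullback.snd h' h').left ≫ h'.left)) := by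
    rw [hρ']; infer_instance
  have hm'uc : UniversallyClosed m'.left :=
    UniversallyClosed.of_comp_of_isSeparated m'.left ((pullback.snd h' h').left ≫ h'.left)
  have hfin : IsFiniteMor (pullback.snd g ((yon S).map j)) :=
    isFiniteMor_of_chart hZ' _ c' hc'e hc's h' hc'g.symm sqK sqPV' m' hm₁' hm₂' hm'uc hfinh'
  exact ⟨_, _, _, sqZf, hfin⟩

end Groth.Agent.H1.GenFin
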