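import Groth.Agent.Lib.Helper1.QFin
import Groth.Agent.Lib.Helper5.AlgSpLqfLocus
import Groth.Agent.Lib.Helper5.AlgSpSmLocal
import Groth.Agent.S10266

/-!
# Discrete fibres and local quasi-finiteness for morphisms of algebraic spaces (helper1)
-/

set_option autoImplicit false
universe u
open CategoryTheory CategoryTheory.Limits AlgebraicGeometry Opposite

namespace Groth.Agent.H1.QFib

open AlgSp Groth.Agent.Lib.helper5 Groth.Agent.Lib.helper5.OpenSub

variable {S : Scheme.{u}}

/-- A `T₁` quasi-sober space has Krull dimension at most zero. -/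
theorem topologicalKrullDim_le_zero_of_t1 (X : Type*) [TopologicalSpace X] [T1Space X] [QuasiSober X] :
    topologicalKrullDim X ≤ 0 := by
  refine Order.krullDim_nonpos_iff_forall_isMax.mpr fun Z Y h => ?_
  obtain ⟨ξ, hξ⟩ := QuasiSober.sober Y.2 Y.3
  have hY : (Y : Set X) = {ξ} := by
    have h1 : closure ({ξ} : Set X) = Y.carrier := hξ.def
    rw [closure_singleton] at h1
    exact h1.symm
  obtain ⟨z, hz⟩ := Z.2.nonempty
  have hzξ : z = ξ := by
    have : z ∈ (Y : Set X) := h hz
    rw [hY] at this
    exact this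
  intro y hy
  have : y ∈ (Y : Set X) := hy
  rw [hY] at this
  rw [Set.mem_singleton_iff.1 this, ← hzξ]
  exact hz

/-- A scheme locally of finite type over a field which is étale over an algebraic space with discrete space of
points is discrete. -/
theorem discreteTopology_of_etale {W : Over S} {K : Type u} [Field K] (w₀ : W.left ⟶ Spec (.of K))
    [LocallyOfFiniteType w₀] {Z : Sp S} (hZ : IsAlgSpace Z) [DiscreteTopology (Points Z)]
    (c : (yon S).obj W ⟶ Z) (hc : RepWith @Etale c) : DiscreteTopology W.left := by
  obtain ⟨R, r₂, r₁', hKP'⟩ := hZ.representable_from_yon c c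
  obtain ⟨r₁, rfl⟩ := (yon S).map_surjective r₁'
  have hKP : IsPullback ((yon S).map r₁) ((yon S).map r₂) c c := hKP'
  haveI hr₂ : Etale r₂.left := hc.2 _ _ _ hKP
  haveI hr₁ : Etale r₁.left := hc.2 _ _ _ hKP.flip
  haveI : JacobsonSpace W.left := LocallyOfFiniteType.jacobsonSpace w₀
  haveI : LocallyOfFiniteType (r₁.left ≫ w₀) := inferInstance
  haveI : JacobsonSpace R.left := LocallyOfFiniteType.jacobsonSpace (r₁.left ≫ w₀)
  haveI : IsLocallyNoetherian W.left := LocallyOfFiniteType.isLocallyNoetherian w₀
  have hcl : ∀ w : W.left, IsClosed ({w} : Set W.left) := by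
    intro w
    have hopen : IsOpen (Points.ofPt c ⁻¹' {Points.ofPt c w}) :=
      (isOpen_discrete _).preimage (Points.continuous_ofPt c)
    obtain ⟨w₁, hw₁, hw₁c⟩ := nonempty_inter_closedPoints (X := W.left)
      (Z := Points.ofPt c ⁻¹' {Points.ofPt c w}) ⟨w, rfl⟩ hopen.isLocallyClosed
    obtain ⟨r, hr1, hr2⟩ := Groth.Agent.Lib.helper11.exists_of_isPullback_schemes hKP w w₁ hw₁.symm
    have hrc : IsClosed ({r} : Set R.left) := by
      apply isClosed_singleton_of_isLocallyClosed_singleton
      haveI : LocallyQuasiFinite r₂.left := Groth.Agent.S10265.lqf_of_etale r₂.left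
      have hd : _root_.IsDiscrete (r₂.left ⁻¹' {w₁}) := r₂.left.isDiscrete_preimage_singleton w₁
      obtain ⟨O, hO, hOr⟩ := isDiscrete_iff_forall_mem_exists_isOpen.1 hd r hr2
      rw [← hOr]
      exact hO.isLocallyClosed.inter
        ((hw₁c : IsClosed ({w₁} : Set W.left)).preimage r₂.left.continuous).isLocallyClosed
    have := r₁.left.closePoints_subset_preimage_closedPoints hrc
    rw [← hr1]
    exact this
  haveI : T1Space W.left := ⟨hcl⟩
  haveI : IsLocallyArtinian W.left :=
    IsLocallyArtinian.of_topologicalKrullDim_le_zero (topologicalKrullDim_le_zero_of_t1 W.left)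
  infer_instance

/-- A representable étale morphism is étale in the sense of `IsEtaleMor`. -/
theorem isEtaleMor_of_repWith {F G : Sp S} (b : F ⟶ G) (hb : RepWith @Etale b) : IsEtaleMor b :=
  fun _ _ hφ => (RepWith (S := S) @Etale).comp_mem _ _ hφ hb

/-- Cancellation: a morphism from a scheme into an algebraic space étale over `X` is étale if its composite to `X`
is. -/
theorem repWith_etale_of_comp {U : Over S} {X' X : Sp S} (hX' : IsAlgSpace X')
    (a' : (yon S).obj U ⟶ X') (q : X' ⟶ X) (hq : IsEtaleMor q) (ha : RepWith @Etale (a' ≫ q)) :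
    RepWith @Etale a' := by
  have h1 : LocP @Etale (a' ≫ q) :=
    Groth.Agent.S10265.locP_etale_of_isEtaleMor _ (isEtaleMor_of_repWith _ ha)
  have h2 : LocP @Etale a' := SmLocal.locP_of_comp_isEtaleMor a' q hq h1
  have h3 : IsEtaleMor a' := Groth.Agent.S10266.isEtaleMor_of_locP_etale hX' a' h2
  have h4 := h3 (𝟙 _) (repWith_id @Etale U)
  rwa [Category.id_comp] at h4

set_option maxHeartbeats 1600000 in
/-- A morphism locally of finite type with discrete fibres is locally quasi-finite. -/
theorem locP_lqf_of_discrete_fibres {X Y : Sp S} (hX : IsAlgSpace X) (hY : IsAlgSpace Y) (f : X ⟶ Y)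
    (hlft : LocP @LocallyOfFiniteType f)
    (hfib : ∀ (k : FieldPt Y) (Xk : Sp S) (fst : Xk ⟶ X) (snd : Xk ⟶ (yon S).obj k.pt),
      IsPullback fst snd f k.toHom → DiscreteTopology (Points Xk)) :
    LocP (@LocallyQuasiFinite ⊓ @LocallyOfFiniteType) f := by
  intro U V a b h hae hbe hc
  haveI hl : LocallyOfFiniteType h.left := hlft a b h hae hbe hc
  refine ⟨?_, hl⟩
  rw [locallyQuasiFinite_iff_isDiscrete_preimage_singleton]
  intro v
  let k : FieldPt Y := FieldPt.ofPt b v
  let κv : k.pt ⟶ V := Over.homMk (V.left.fromSpecResidueField v) rfl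
  have hk : k.toHom = (yon S).map κv ≫ b := FieldPt.toHom_ofPt b v
  let Uv : Over S := pullback h κv
  let pu : Uv ⟶ U := pullback.fst h κv
  let pk : Uv ⟶ k.pt := pullback.snd h κv
  have sqU : IsPullback pu pk h κv := IsPullback.of_hasPullback _ _
  have sqk : IsPullback (pullback.fst f k.toHom) (pullback.snd f k.toHom) f k.toHom :=
    IsPullback.of_hasPullback _ _
  haveI : DiscreteTopology (Points (pullback f k.toHom)) := hfib k _ _ _ sqk
  have hXk : IsAlgSpace (pullback f k.toHom) :=
    isAlgSpace_of_isPullback hY.diag hX (IsAlgSpace.yon_obj _) sqk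
  have sqV : IsPullback (pullback.fst f b) (pullback.snd f b) f b := IsPullback.of_hasPullback _ _
  have hXV : IsAlgSpace (pullback f b) :=
    isAlgSpace_of_isPullback hY.diag hX (IsAlgSpace.yon_obj _) sqV
  have hq₁ : IsEtaleMor (pullback.fst f b) :=
    SmLocal.isEtaleMor_of_isPullback (IsAlgSpace.yon_obj V) hY hX sqV.flip (isEtaleMor_of_repWith b hbe)
  let a' : (yon S).obj U ⟶ pullback f b := pullback.lift a ((yon S).map h) hc
  have ha' : RepWith @Etale a' := repWith_etale_of_comp hXV a' _ hq₁ (by
    rw [pullback.lift_fst]; exact hae)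
  let m : pullback f k.toHom ⟶ pullback f b :=
    pullback.lift (pullback.fst f k.toHom) (pullback.snd f k.toHom ≫ (yon S).map κv) (by
      rw [sqk.w, hk, Category.assoc])
  have sqA : IsPullback m (pullback.snd f k.toHom) (pullback.snd f b) ((yon S).map κv) := by
    have big : IsPullback (m ≫ pullback.fst f b) (pullback.snd f k.toHom) f ((yon S).map κv ≫ b) := by
      rw [pullback.lift_fst, ← hk]
      exact sqk
    exact IsPullback.of_right big (pullback.lift_snd _ _ _) sqV
  let c : (yon S).obj Uv ⟶ pullback f k.toHom :=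
    pullback.lift ((yon S).map pu ≫ a) ((yon S).map pk) (by
      rw [Category.assoc, hc, ← Category.assoc, ← Functor.map_comp, sqU.w, Functor.map_comp,
        Category.assoc, hk])
  have sqB : IsPullback ((yon S).map pu) c a' m := by
    have big : IsPullback (c ≫ pullback.snd f k.toHom) ((yon S).map pu) ((yon S).map κv)
        (a' ≫ pullback.snd f b) := by
      rw [pullback.lift_snd, pullback.lift_snd]
      exact (sqU.map (yon S)).flip
    have hcm : c ≫ m = (yon S).map pu ≫ a' := by
      apply pullback.hom_ext
      · simp only [Category.assoc, pullback.lift_fst, c, m, a']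
      · simp only [Category.assoc, pullback.lift_snd, c, m, a']
        rw [← Category.assoc, pullback.lift_snd, ← Functor.map_comp, ← Functor.map_comp, sqU.w]
    exact (IsPullback.of_right big hcm sqA.flip).flip
  have hce : RepWith @Etale c := (RepWith (S := S) @Etale).of_isPullback sqB ha'
  have sqUl : IsPullback pu.left pk.left h.left κv.left := sqU.map (Over.forget S)
  have hpk : LocallyOfFiniteType pk.left :=
    MorphismProperty.of_isPullback (P := @LocallyOfFiniteType) sqUl hl
  haveI : DiscreteTopology Uv.left :=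
    @discreteTopology_of_etale S Uv (V.left.residueField v) _ pk.left hpk _ hXk _ c hce
  let e : Uv.left ≅ h.left.fiber v := sqUl.isoPullback
  haveI : DiscreteTopology (h.left.fiber v) := e.hom.homeomorph.symm.isEmbedding.discreteTopology
  exact isDiscrete_iff_discreteTopology.2 (h.left.fiberHomeo v).symm.isEmbedding.discreteTopology

end Groth.Agent.H1.QFib
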