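import Groth.Agent.Lib.Helper1.ZSplitB
import Groth.Agent.Lib.Helper1.MonoSp
import Groth.Agent.S9995

/-!
# Étale-local splitting (helper1), part D: finiteness of the set of quasi-finite points over a point
-/

set_option autoImplicit false
universe u
open CategoryTheory CategoryTheory.Limits AlgebraicGeometry Opposite

namespace Groth.Agent.H1.ZSplit

open AlgSp Groth.Agent.Lib.helper5 Groth.Agent.Lib.helper5.OpenSub Groth.Agent.Lib.helper5.NearLocus
  Groth.Agent.Lib.helper5.LqfLocus Groth.Agent.Lib.helper11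

/-- In a fibre product of schemes over an affine base with one leg locally quasi-finite, only finitely many
points lie over a given pair of points. -/
theorem finite_fibre_pair {D A C B : Scheme.{u}} {fst : D ⟶ A} {snd : D ⟶ C} {f : A ⟶ B} {g : C ⟶ B}
    (sq : IsPullback fst snd f g) [LocallyQuasiFinite g] [IsAffine B] (a : A) (c : C) :
    {z : D | fst z = a ∧ snd z = c}.Finite := by
  obtain ⟨_, ⟨(O : C.Opens), hO, rfl⟩, hcO, -⟩ :=
    C.isBasis_affineOpens.exists_subset_of_mem_open (Set.mem_univ c) isOpen_univ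
  haveI : IsAffine O.toScheme := hO
  let g' : O.toScheme ⟶ B := O.ι ≫ g
  haveI : LocallyQuasiFinite g' := inferInstance
  haveI : QuasiCompact g' := inferInstance
  let m : pullback f g' ⟶ pullback f g :=
    pullback.map f g' f g (𝟙 A) O.ι (𝟙 B) (by simp) (by simp [g'])
  have hm1 : m ≫ pullback.fst f g = pullback.fst f g' :=
    (pullback.lift_fst _ _ _).trans (Category.comp_id _)
  have hfin := (pullback.fst f g').finite_preimage_singleton a
  have hr := Scheme.Pullback.range_map (f := f) (g := g') f g (𝟙 A) O.ι (𝟙 B) (by simp) (by simp [g'])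
  let e := sq.isoPullback
  have he1 : e.hom ≫ pullback.fst f g = fst := sq.isoPullback_hom_fst
  have he2 : e.hom ≫ pullback.snd f g = snd := sq.isoPullback_hom_snd
  refine ((hfin.image m).image e.inv).subset ?_
  rintro z ⟨hz1, hz2⟩
  have h1 : pullback.fst f g (e.hom z) = a := by rw [← Scheme.Hom.comp_apply, he1, hz1]
  have h2 : pullback.snd f g (e.hom z) = c := by rw [← Scheme.Hom.comp_apply, he2, hz2]
  have h3 : e.hom z ∈ Set.range m := by
    show e.hom z ∈ Set.range (pullback.map f g' f g (𝟙 A) O.ι (𝟙 B) _ _)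
    rw [hr]
    refine ⟨by simp, ?_⟩
    show pullback.snd f g (e.hom z) ∈ Set.range O.ι
    rw [h2, Scheme.Opens.range_ι]
    exact hcO
  obtain ⟨z', hz'⟩ := h3
  refine ⟨m z', ⟨z', ?_, rfl⟩, ?_⟩
  · show pullback.fst f g' z' = a
    rw [← hm1, Scheme.Hom.comp_apply, hz', h1]
  · rw [hz', ← Scheme.Hom.comp_apply, e.hom_inv_id]
    rfl

variable {S : Scheme.{u}}

/-- The base change of a separated, locally quasi-finite morphism of algebraic spaces to a scheme is a
scheme. -/
theorem exists_scheme_baseChange {X' Y : Sp S} (hX' : IsAlgSpace X') (hY : IsAlgSpace Y) (q : X' ⟶ Y)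
    (hsep : IsSeparatedMor q) (hq : LocP Plqf q) {T : Over S} (b : (yon S).obj T ⟶ Y) :
    ∃ (W' : Over S) (w' : W' ⟶ T) (c' : (yon S).obj W' ⟶ X'),
      IsSeparated w'.left ∧ LocallyQuasiFinite w'.left ∧ LocallyOfFiniteType w'.left ∧
      IsPullback c' ((yon S).map w') q b := by
  have sq := IsPullback.of_hasPullback q b
  have hXT : IsAlgSpace (pullback q b) :=
    isAlgSpace_of_isPullback hY.diag hX' (IsAlgSpace.yon_obj T) sq
  have hs := QDesc.isSeparatedMor_of_isPullback sq hsep
  have hql := LocPBC.locP_of_isPullback LocPBC.locPData_lqf hX' hY (IsAlgSpace.yon_obj T) sq hq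
  obtain ⟨W', α, hα⟩ := QLoc.exists_iso_of_lqf_separated hXT _ hs hql
  obtain ⟨w', hw'⟩ := (yon S).map_surjective (α ≫ pullback.snd q b)
  have h1 : IsPullback α (α ≫ pullback.snd q b) (pullback.snd q b) (𝟙 _) :=
    IsPullback.of_horiz_isIso ⟨by rw [Category.comp_id]⟩
  have h2 := h1.paste_horiz sq
  rw [Category.id_comp, ← hw'] at h2
  have hs' : IsSeparatedMor ((yon S).map w') := by
    rw [hw']
    exact QDesc.isSeparatedMor_of_isPullback h1 hs
  have hq'' : LocP Plqf ((yon S).map w') := by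
    rw [hw']
    exact LocPBC.locP_of_isPullback LocPBC.locPData_lqf hXT (IsAlgSpace.yon_obj T)
      (IsAlgSpace.yon_obj T) h1 hql
  have h3 : Plqf w'.left := locP_yon_map hq''
  exact ⟨W', w', α ≫ pullback.fst q b, (isSeparatedMor_yon_map_iff w').1 hs', h3.1, h3.2, h2⟩

/-- `ofPt` of a monomorphism is injective. -/
theorem ofPt_injective_of_mono {F : Sp S} {T : Over S} (g : (yon S).obj T ⟶ F) [Mono g] :
    Function.Injective (Points.ofPt g) := by
  intro t t' h
  rw [Points.ofPt_eq_map_ofScheme, Points.ofPt_eq_map_ofScheme] at h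
  exact (Points.schemeEquiv T).injective (MonoSp.points_map_injective_of_mono g h)

/-- base change of a monomorphism is a monomorphism -/
theorem mono_fst_of_isPullback {C : Type*} [Category C] {P A B Z : C} {fst : P ⟶ A} {snd : P ⟶ B}
    {f : A ⟶ Z} {g : B ⟶ Z} (sq : IsPullback fst snd f g) [Mono g] : Mono fst := by
  refine ⟨fun {W} a b hab => ?_⟩
  apply sq.hom_ext hab
  rw [← cancel_mono g, Category.assoc, Category.assoc, ← sq.w, ← Category.assoc, hab, Category.assoc]

/-- Variant of `exists_lqf_scheme` recording more properties. -/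
theorem exists_lqf_scheme' {X Y : Space S} (f : X ⟶ Y) (hf2 : IsSeparatedMor f.hom)
    {T : Over S} (b₀ : (yon S).obj T ⟶ Y.obj) :
    ∃ (X' : Space S) (j : X' ⟶ X) (W' : Over S) (w' : W' ⟶ T) (c' : (yon S).obj W' ⟶ X'.obj),
      RepWith @IsOpenImmersion j.hom ∧ Mono j.hom ∧
      Set.range (Points.map j.hom) = {x | HasAtMor (NearAt Plqf) f.hom x} ∧
      IsSeparatedMor (j.hom ≫ f.hom) ∧ LocP Plqf (j.hom ≫ f.hom) ∧
      IsSeparated w'.left ∧ LocallyQuasiFinite w'.left ∧ LocallyOfFiniteType w'.left ∧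
      IsPullback c' ((yon S).map w') (j.hom ≫ f.hom) b₀ := by
  obtain ⟨X', j, hj, hr, hq⟩ := exists_lqf_openSub f
  haveI hmono : Mono j.hom :=
    Groth.Agent.Lib.helper7.mono_of_repWith (P := @IsOpenImmersion)
      (fun _ _ g hg => by have : IsOpenImmersion g := hg; exact MorphismProperty.monomorphisms.infer_property g) hj
  have hsep : IsSeparatedMor (j.hom ≫ f.hom) := QDesc.isSeparatedMor_comp_mono j.hom f.hom hf2
  have hq' : LocP Plqf (j.hom ≫ f.hom) := hq
  obtain ⟨W', w', c', h1, h2, h3, sq⟩ :=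
    exists_scheme_baseChange X'.property Y.property (j.hom ≫ f.hom) hsep hq' b₀
  exact ⟨X', j, W', w', c', hj, hmono, hr, hsep, hq', h1, h2, h3, sq⟩

/-- Finiteness of the fibre of the quasi-finite locus over a point of the chart: quasi-compact case. -/
theorem finite_fibre_of_qc {X Y X' : Space S} (f : X ⟶ Y) (hf1 : LocP @LocallyOfFiniteType f.hom)
    (hqc : IsQuasiCompactMor f.hom) (j : X' ⟶ X) [Mono j.hom]
    (hr : Set.range (Points.map j.hom) = {x | HasAtMor (NearAt Plqf) f.hom x})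
    {T W' : Over S} (b₀ : (yon S).obj T ⟶ Y.obj) (w' : W' ⟶ T) (c' : (yon S).obj W' ⟶ X'.obj)
    (sq : IsPullback c' ((yon S).map w') (j.hom ≫ f.hom) b₀) (t₀ : T.left) :
    {w : W'.left | w'.left w = t₀}.Finite := by
  have sqT := IsPullback.of_hasPullback f.hom b₀
  let XT : Space S := ⟨pullback f.hom b₀,
    isAlgSpace_of_isPullback Y.property.diag X.property (IsAlgSpace.yon_obj T) sqT⟩
  let hT : Space S := ⟨(yon S).obj T, IsAlgSpace.yon_obj T⟩
  let fT : XT ⟶ hT := ObjectProperty.homMk (pullback.snd f.hom b₀)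
  have hft : IsFiniteTypeMor fT.hom := by
    refine ⟨LocPBC.locP_of_isPullback LocPBC.locPData_lft X.property Y.property
      (IsAlgSpace.yon_obj T) sqT hf1, ?_⟩
    intro Z Z' hZ hZq g fst snd sqZ
    exact hqc hZ hZq (g ≫ b₀) (fst ≫ pullback.fst f.hom b₀) snd (sqZ.paste_horiz sqT)
  have hfin := Groth.Agent.S9995.main fT hft (Points.ofScheme T t₀)
  let ι : (yon S).obj W' ⟶ pullback f.hom b₀ :=
    pullback.lift (c' ≫ j.hom) ((yon S).map w') (by rw [Category.assoc]; exact sq.w)
  have hι1 : ι ≫ pullback.fst f.hom b₀ = c' ≫ j.hom := pullback.lift_fst _ _ _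
  have hι2 : ι ≫ pullback.snd f.hom b₀ = (yon S).map w' := pullback.lift_snd _ _ _
  haveI : Mono ι := by
    refine ⟨fun {A} a b hab => ?_⟩
    apply sq.hom_ext
    · rw [← cancel_mono j.hom, Category.assoc, Category.assoc, ← hι1, ← Category.assoc, hab,
        Category.assoc]
    · rw [← hι2, ← Category.assoc, hab, Category.assoc]
  have inj : Function.Injective (Points.ofPt ι) := ofPt_injective_of_mono ι
  refine (hfin.preimage inj.injOn).subset ?_
  intro w hw
  refine ⟨?_, ?_⟩
  · show Points.map (pullback.snd f.hom b₀) (Points.ofPt ι w) = Points.ofScheme T t₀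
    rw [Points.map_ofPt, hι2, ofPt_yon_map]
    exact congrArg _ hw
  · refine (lqfLocus_baseChange X.property Y.property (IsAlgSpace.yon_obj T) sqT hf1 _).2 ?_
    have h1 : Points.map (pullback.fst f.hom b₀) (Points.ofPt ι w) ∈ Set.range (Points.map j.hom) := by
      refine ⟨Points.ofPt c' w, ?_⟩
      rw [Points.map_ofPt, Points.map_ofPt, hι1]
    rw [hr] at h1
    exact h1

set_option maxHeartbeats 1600000 in
/-- Finiteness of the set of points of the chart of the quasi-finite locus over a pair of points, when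
the image point is represented by a monomorphism from the spectrum of a field (decent case). -/
theorem finite_fibre_of_mono {X' Y : Sp S} (hX' : IsAlgSpace X') (hY : IsAlgSpace Y) (q : X' ⟶ Y)
    (hsep : IsSeparatedMor q) (hq : LocP Plqf q)
    {T W' : Over S} (b₀ : (yon S).obj T ⟶ Y) (hb₀ : RepWith @Etale b₀) (w' : W' ⟶ T)
    (c' : (yon S).obj W' ⟶ X') (sq : IsPullback c' ((yon S).map w') q b₀) (t₀ : T.left)
    (p : FieldPt Y) (hp : Points.ofPt b₀ t₀ = Points.mk p) [Mono p.toHom] (x' : Points X') :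
    {w : W'.left | w'.left w = t₀ ∧ Points.ofPt c' w = x'}.Finite := by
  rcases Set.eq_empty_or_nonempty {w : W'.left | w'.left w = t₀ ∧ Points.ofPt c' w = x'} with h0 | ⟨w₁, hw₁1, hw₁2⟩
  · rw [h0]
    exact Set.finite_empty
  have hx'y : Points.map q x' = Points.mk p := by
    rw [← hw₁2, Points.map_ofPt, sq.w, ofPt_yon_map_comp, hw₁1, hp]
  obtain ⟨XK, ψ, cK, -, -, -, sqK⟩ := exists_scheme_baseChange hX' hY q hsep hq p.toHom
  obtain ⟨FT, φT, βT, sqF⟩ := hb₀.1 p.toHom
  have hφT : Etale φT.left := hb₀.2 p.toHom βT φT sqF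
  obtain ⟨bT, rfl⟩ := (yon S).map_surjective βT
  have sqD0 := IsPullback.of_hasPullback ψ φT
  have sqD := sqD0.map (yon S)
  have outer := sqD.paste_horiz sqK
  have hcomm : ((yon S).map (pullback.fst ψ φT) ≫ cK) ≫ q =
      ((yon S).map (pullback.snd ψ φT) ≫ (yon S).map bT) ≫ b₀ := by
    rw [outer.w, Category.assoc, sqF.w]
  let δ : (yon S).obj (pullback ψ φT) ⟶ (yon S).obj W' := sq.lift _ _ hcomm
  have hδ1 : δ ≫ c' = (yon S).map (pullback.fst ψ φT) ≫ cK := sq.lift_fst _ _ _
  have hδ2 : δ ≫ (yon S).map w' = (yon S).map (pullback.snd ψ φT) ≫ (yon S).map bT := sq.lift_snd _ _ _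
  obtain ⟨d, hd⟩ := (yon S).map_surjective δ
  have sqL : IsPullback ((yon S).map d) ((yon S).map (pullback.snd ψ φT)) ((yon S).map w')
      ((yon S).map bT) := by
    rw [hd]
    refine IsPullback.of_right ?_ hδ2 sq
    rw [hδ1, sqF.w]
    exact outer
  let s₀ : p.pt.left := IsLocalRing.closedPoint p.K
  obtain ⟨ξ₀, hξ₀, -⟩ := exists_of_isPullback_scheme sqK x' s₀
    (hx'y.trans (Points.ofPt_toHom p s₀).symm)
  obtain ⟨ℓ, hℓ, -⟩ := exists_of_isPullback_scheme sqF (Points.ofScheme T t₀) s₀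
    (by rw [← Points.ofPt_eq_map_ofScheme, hp, Points.ofPt_toHom])
  haveI : Mono cK := mono_fst_of_isPullback sqK
  have injK : Function.Injective (Points.ofPt cK) := ofPt_injective_of_mono cK
  haveI : LocallyQuasiFinite ((Over.forget S).map φT) := Groth.Agent.S10265.lqf_of_etale φT.left
  haveI : IsAffine ((Over.forget S).obj p.pt) := inferInstanceAs (IsAffine (Spec (CommRingCat.of p.K)))
  have hDfin := finite_fibre_pair (sqD0.map (Over.forget S)) ξ₀ ℓ
  refine (hDfin.image d.left).subset ?_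
  rintro w ⟨hw1, hw2⟩
  have hut : Points.ofPt ((yon S).map w') w = Points.ofPt ((yon S).map bT) ℓ := by
    rw [ofPt_yon_map, hw1, hℓ]
  obtain ⟨δ₀, hδ₀1, hδ₀2⟩ := exists_of_isPullback_schemes sqL w ℓ hut
  refine ⟨δ₀, ⟨?_, hδ₀2⟩, hδ₀1⟩
  apply injK
  show Points.ofPt cK ((pullback.fst ψ φT).left δ₀) = Points.ofPt cK ξ₀
  rw [← ofPt_yon_map_comp, ← hδ1, ← hd, ofPt_yon_map_comp, hδ₀1, hw2, hξ₀]

end Groth.Agent.H1.ZSplit
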