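import Groth.Agent.Lib.Helper1.GenFinJ
import Groth.Agent.Lib.Helper10.AlgSpPoints
import Groth.Agent.S10676
import Groth.Agent.S10194

/-!
# Generic finiteness for separated morphisms of algebraic spaces with decent target — helper1
-/

set_option autoImplicit false
universe u
open CategoryTheory CategoryTheory.Limits AlgebraicGeometry Topology TopologicalSpace
open AlgSp

namespace Groth.Agent.H1.GenFin

open Groth.Agent.Lib.helper5 Groth.Agent.Lib.helper5.NearLocus Groth.Agent.Lib.helper5.LqfLocus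
open Groth.Agent.Lib.helper11 Groth.Agent.Lib.helper10

variable {S : Scheme.{u}}

set_option maxHeartbeats 1600000 in
/-- Separated case: an affine étale chart of `Y` through a codimension zero point `y` over which `f` becomes
finite. -/
theorem exists_chart_finite_of_separated {X Y : Space S} (f : X ⟶ Y)
    (hf : LocP @LocallyOfFiniteType f.hom) (hsep : IsSeparatedMor f.hom) (hY : IsDecent Y.obj)
    (hY0 : {y : Points Y.obj | HasAt D0 Y.obj y}.Finite)
    (hpre : ∀ x : Points X.obj, HasAt D0 X.obj x ↔ HasAt D0 Y.obj (Points.map f.hom x))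
    (y : Points Y.obj) (hy : HasAt D0 Y.obj y) (hfib : (Points.map f.hom ⁻¹' {y}).Finite) :
    ∃ (U₂ : Over S) (b₂ : (yon S).obj U₂ ⟶ Y.obj), IsAffine U₂.left ∧ RepWith @Etale b₂ ∧
      y ∈ Set.range (Points.ofPt b₂) ∧
      ∃ (Z' : Sp S) (k : Z' ⟶ X.obj) (g' : Z' ⟶ (yon S).obj U₂),
        IsPullback k g' f.hom b₂ ∧ IsFiniteMor g' := by
  classical
  -- quasi-finiteness at the points of the fibre
  have hqf : ∀ x : Points X.obj, Points.map f.hom x = y → HasAtMor (NearAt Plqf) f.hom x :=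
    ((Groth.Agent.S10399.main f hf y hy).1).1 (fun x hx => (hpre x).2 (by rw [hx]; exact hy))
  set xs : Finset (Points X.obj) := hfib.toFinset with hxsdef
  have hxs : ∀ x ∈ xs, Points.map f.hom x = y := fun x hx => (hfib.mem_toFinset.1 hx)
  obtain ⟨U, a, u, ha, hau, H⟩ := Groth.Agent.S10676.result f y xs hxs hf hsep
    (fun x hx => hqf x (hxs x hx)) (Or.inr hY)
  -- the base change to `U`
  have sq : IsPullback (pullback.fst f.hom a.hom) (pullback.snd f.hom a.hom) f.hom a.hom :=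
    IsPullback.of_hasPullback _ _
  have hP : IsAlgSpace (pullback f.hom a.hom) :=
    isAlgSpace_of_isPullback Y.property.diag X.property U.property sq
  let P : Space S := ⟨pullback f.hom a.hom, hP⟩
  let prX : P ⟶ X := ObjectProperty.homMk (pullback.fst f.hom a.hom)
  let prU : P ⟶ U := ObjectProperty.homMk (pullback.snd f.hom a.hom)
  obtain ⟨Vsp, jV, hOI, hCI, hF, -, hB⟩ := H P prX prU sq
  -- an affine chart of `U` at `u`
  obtain ⟨U₀, c₀, u₀, hc₀e, -, hu₀⟩ := exists_chart_ofPt U u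
  obtain ⟨_, ⟨O₀, hO₀, rfl⟩, hu₀O, -⟩ := U₀.left.isBasis_affineOpens.exists_subset_of_mem_open
    (Set.mem_univ u₀) isOpen_univ
  let U₁ : Over S := OpenSub.subOver U₀ O₀
  haveI hU₁aff : IsAffine U₁.left := hO₀
  let c₁ : (yon S).obj U₁ ⟶ U.obj := (yon S).map (OpenSub.subOverι U₀ O₀) ≫ c₀
  have hc₁e : RepWith @Etale c₁ :=
    (RepWith (S := S) @Etale).comp_mem _ _
      ((repWith_yon_map_iff @Etale _).2 (inferInstanceAs (Etale (Scheme.Opens.ι O₀)))) hc₀e
  let u₁ : ↥U₁.left := ⟨u₀, hu₀O⟩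
  have hu₁ : Points.ofPt c₁ u₁ = u := by
    show Points.ofPt ((yon S).map (OpenSub.subOverι U₀ O₀) ≫ c₀) u₁ = _
    rw [ofPt_yon_map_comp, ← hu₀]
    rfl
  let b₁ : (yon S).obj U₁ ⟶ Y.obj := c₁ ≫ a.hom
  have hb₁e : RepWith @Etale b₁ := ha c₁ hc₁e
  have hb₁u₁ : Points.ofPt b₁ u₁ = y := by
    show Points.ofPt (c₁ ≫ a.hom) u₁ = y
    rw [← Points.map_ofPt, hu₁, hau]
  -- shrink
  obtain ⟨O, hO, hu₁O, huniq⟩ := exists_affine_chart_unique_dimZero hY hY0 b₁ hb₁e u₁
    (by rw [hb₁u₁]; exact hy)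
  let U₂ : Over S := OpenSub.subOver U₁ O
  haveI hU₂aff : IsAffine U₂.left := hO
  let c₂ : (yon S).obj U₂ ⟶ U.obj := (yon S).map (OpenSub.subOverι U₁ O) ≫ c₁
  have hc₂e : RepWith @Etale c₂ :=
    (RepWith (S := S) @Etale).comp_mem _ _
      ((repWith_yon_map_iff @Etale _).2 (inferInstanceAs (Etale (Scheme.Opens.ι O)))) hc₁e
  let u₂ : ↥U₂.left := ⟨u₁, hu₁O⟩
  have hu₂ : Points.ofPt c₂ u₂ = u := by
    show Points.ofPt ((yon S).map (OpenSub.subOverι U₁ O) ≫ c₁) u₂ = _
    rw [ofPt_yon_map_comp, ← hu₁]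
    rfl
  let b₂ : (yon S).obj U₂ ⟶ Y.obj := c₂ ≫ a.hom
  have hb₂e : RepWith @Etale b₂ := ha c₂ hc₂e
  have hb₂u₂ : Points.ofPt b₂ u₂ = y := by
    show Points.ofPt (c₂ ≫ a.hom) u₂ = y
    rw [← Points.map_ofPt, hu₂, hau]
  have hb₂b₁ : ∀ t : ↥U₂.left, Points.ofPt b₂ t = Points.ofPt b₁ (O.ι t) := by
    intro t
    show Points.ofPt (((yon S).map (OpenSub.subOverι U₁ O) ≫ c₁) ≫ a.hom) t = _
    rw [Category.assoc, ofPt_yon_map_comp]
    rfl
  have huniq₂ : ∀ t : ↥U₂.left, HasAt D0 Y.obj (Points.ofPt b₂ t) → t = u₂ := by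
    intro t ht
    rw [hb₂b₁] at ht
    have := huniq (O.ι t) t.2 ht
    exact Subtype.ext this
  -- the base change to `U₂`
  set fst₂ := pullback.fst prU.hom c₂ with hfst₂
  set snd₂ := pullback.snd prU.hom c₂ with hsnd₂
  have sq₂ : IsPullback fst₂ snd₂ prU.hom c₂ := IsPullback.of_hasPullback _ _
  have sqf : IsPullback (fst₂ ≫ prX.hom) snd₂ f.hom b₂ := sq₂.paste_horiz sq
  have hP₂ : IsAlgSpace (pullback prU.hom c₂) :=
    isAlgSpace_of_isPullback Y.property.diag X.property (IsAlgSpace.yon_obj U₂) sqf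
  have hfe : RepWith @Etale (fst₂ ≫ prX.hom) :=
    (repWith_isStableUnderBaseChange (S := S) @Etale).of_isPullback sqf.flip hb₂e
  -- the finite part
  set fstV := pullback.fst jV.hom fst₂ with hfstV
  set jV₂ := pullback.snd jV.hom fst₂ with hjV₂
  have sqV : IsPullback fstV jV₂ jV.hom fst₂ := IsPullback.of_hasPullback _ _
  have hOI₂ : RepWith @IsOpenImmersion jV₂ :=
    (repWith_isStableUnderBaseChange (S := S) @IsOpenImmersion).of_isPullback sqV hOI
  have hCI₂ : RepWith @IsClosedImmersion jV₂ :=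
    (repWith_isStableUnderBaseChange (S := S) @IsClosedImmersion).of_isPullback sqV hCI
  have hfin₂ : IsFiniteMor (jV₂ ≫ snd₂) :=
    isFiniteMor_of_isPullback (sqV.paste_vert sq₂) hF
  -- surjectivity
  have hsurj : IsSurjectiveMor jV₂ := by
    intro p
    obtain ⟨T, φ, t₀, hφe, -, rfl⟩ := exists_chart_ofPt ⟨_, hP₂⟩ p
    obtain ⟨TV, ι, fstT, sqT⟩ := hOI₂.rep φ
    haveI hιo : IsOpenImmersion ι.left := hOI₂.2 φ fstT ι sqT
    haveI hιc : IsClosedImmersion ι.left := hCI₂.2 φ fstT ι sqT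
    have hkey : ∀ η : ↥T.left, (∀ η' : ↥T.left, η' ⤳ η → η' = η) → η ∈ Set.range ι.left := by
      intro η hηmax
      set w' := Points.ofPt φ η with hw'
      have hw'0 : HasAt D0 (pullback prU.hom c₂) w' :=
        (Groth.Agent.S10399.hasAt_dimZero_iff_chart hP₂ φ hφe η).2 (dim_zero_of_maximal η hηmax)
      have hx'0 : HasAt D0 X.obj (Points.map (fst₂ ≫ prX.hom) w') :=
        (hasAt_dimZero_map_iff hP₂ X.property _ hfe w').1 hw'0
      have hy'0 := (hpre _).1 hx'0
      set u' := Points.toScheme U₂ (Points.map snd₂ w') with hu'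
      have hu'eq : Points.ofPt b₂ u' = Points.map f.hom (Points.map (fst₂ ≫ prX.hom) w') := by
        rw [Points.ofPt_eq_map_ofScheme, hu', Points.ofScheme_toScheme, ← Points.map_comp,
          ← Points.map_comp, sqf.w]
      have hu'u₂ : u' = u₂ := huniq₂ u' (by rw [hu'eq]; exact hy'0)
      have hsnd : Points.map snd₂ w' = Points.ofScheme U₂ u₂ := by
        rw [← hu'u₂, hu', Points.ofScheme_toScheme]
      -- the image in `P`
      have h1 : Points.map prU.hom (Points.map fst₂ w') = u := by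
        rw [← Points.map_comp, sq₂.w, Points.map_comp, hsnd, ← Points.ofPt_eq_map_ofScheme, hu₂]
      have h2 : Points.map prX.hom (Points.map fst₂ w') ∈ xs := by
        rw [hxsdef, hfib.mem_toFinset]
        show Points.map f.hom _ = y
        rw [← Points.map_comp fst₂ prX.hom w', ← hu'eq, hu'u₂, hb₂u₂]
      have h3 : Points.map fst₂ w' ∈ Set.range (Points.map jV.hom) := by
        by_contra hnot
        exact hB _ hnot h1 h2
      obtain ⟨v, hv⟩ := h3
      obtain ⟨v₂, -, hv₂⟩ := exists_point_of_isPullback sqV v w' hv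
      obtain ⟨tv, -, htv⟩ := exists_of_isPullback_scheme sqT v₂ η hv₂
      exact ⟨tv, htv⟩
    -- every point is in the range
    have hall : t₀ ∈ Set.range ι.left := by
      by_contra hnot
      have hop : IsOpen (Set.range ι.left)ᶜ := ι.left.isClosedEmbedding.isClosed_range.isOpen_compl
      obtain ⟨η, hη, hηmax⟩ := Groth.Agent.S3207.exists_maximal_generization t₀
      exact hη.mem_open hop hnot (hkey η hηmax)
    obtain ⟨tv, htv⟩ := hall
    refine ⟨Points.ofPt fstT tv, ?_⟩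
    rw [Points.map_ofPt, sqT.w, ofPt_yon_map_comp, htv]
  haveI : IsIso jV₂ := Groth.Agent.S10194.isIso_of_openImmersion_of_surjective jV₂ hOI₂ hsurj
  have hfin : IsFiniteMor snd₂ := isFiniteMor_of_iso_comp jV₂ snd₂ hfin₂
  exact ⟨U₂, b₂, hU₂aff, hb₂e, ⟨u₂, hb₂u₂⟩, _, _, _, sqf, hfin⟩

end Groth.Agent.H1.GenFin
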