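import Groth.Agent.Lib.Helper1.GenFinH
import Groth.Agent.Lib.Helper1.GenFinI
import Groth.Agent.Lib.Helper1.GenFinJ

/-!
# Generic finiteness for quasi-compact morphisms of algebraic spaces with decent target — helper1
-/

set_option autoImplicit false
universe u
open CategoryTheory CategoryTheory.Limits AlgebraicGeometry Topology TopologicalSpace
open AlgSp

namespace Groth.Agent.H1.GenFin

open Groth.Agent.Lib.helper5 Groth.Agent.Lib.helper5.NearLocus Groth.Agent.Lib.helper5.LqfLocus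
open Groth.Agent.Lib.helper11 Groth.Agent.Lib.helper15.AlgSpDiag

/-- The fibre of a morphism of finite type over a point, at all of whose points it is quasi-finite, is
finite. -/
theorem finite_fibre_of_quasiFiniteAt {W V : Scheme.{u}} (h : W ⟶ V) [LocallyOfFiniteType h]
    [QuasiCompact h] (v : V) (hqf : ∀ w : W, h w = v → h.QuasiFiniteAt w) : (h ⁻¹' {v}).Finite := by
  set W₀ := h.quasiFiniteLocus with hW₀
  set h₀ := W₀.ι ≫ h with hh₀
  have e0 : h₀ ⁻¹' {v} = W₀.ι ⁻¹' (h ⁻¹' {v}) := by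
    ext x; simp [hh₀]
  have hcomp : IsCompact (h ⁻¹' {v}) := h.isCompact_preimage_singleton v
  have hsub : h ⁻¹' {v} ⊆ Set.range W₀.ι := by
    intro w hw
    rw [Scheme.Opens.range_ι]
    exact hqf w hw
  have hc2 : IsCompact (W₀.ι ⁻¹' (h ⁻¹' {v})) :=
    (W₀.ι.isOpenEmbedding.isInducing.isCompact_preimage_iff hsub).2 hcomp
  have hd := h₀.isDiscrete_preimage_singleton v
  rw [e0] at hd
  have hfin : (W₀.ι ⁻¹' (h ⁻¹' {v})).Finite := hc2.finite hd
  refine (hfin.image W₀.ι).subset ?_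
  intro w hw
  obtain ⟨w₀, rfl⟩ := hsub hw
  exact ⟨w₀, hw, rfl⟩

/-- In a fibre product of schemes over an affine base, only finitely many points lie over a pair of points
at the second of which the corresponding leg is quasi-finite. -/
theorem finite_fibre_pair_of_quasiFiniteAt {D A C B : Scheme.{u}} {fst : D ⟶ A} {snd : D ⟶ C}
    {f : A ⟶ B} {g : C ⟶ B} (sq : IsPullback fst snd f g) [LocallyOfFiniteType g] [IsAffine B]
    (a : A) (c : C) (hc : g.QuasiFiniteAt c) : {z : D | fst z = a ∧ snd z = c}.Finite := by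
  obtain ⟨_, ⟨(O : C.Opens), hO, rfl⟩, hcO, hOsub⟩ :=
    C.isBasis_affineOpens.exists_subset_of_mem_open (show c ∈ (g.quasiFiniteLocus : Set C) from hc)
      g.quasiFiniteLocus.2
  haveI : IsAffine O.toScheme := hO
  let g' : O.toScheme ⟶ B := O.ι ≫ g
  haveI : LocallyQuasiFinite g' := by
    have hle : O ≤ g.quasiFiniteLocus := hOsub
    have e : g' = C.homOfLE hle ≫ (g.quasiFiniteLocus.ι ≫ g) := by
      rw [← Category.assoc, Scheme.homOfLE_ι]
    rw [e]
    infer_instance
  haveI : QuasiCompact g' := inferInstance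
  let m : pullback f g' ⟶ pullback f g :=
    pullback.map f g' f g (𝟙 A) O.ι (𝟙 B) (by simp) (by simp [g'])
  have hm1 : m ≫ pullback.fst f g = pullback.fst f g' :=
    (pullback.lift_fst _ _ _).trans (Category.comp_id _)
  have hfin := (pullback.fst f g').finite_preimage_singleton a
  have hr := Scheme.Pullback.range_map (f := f) (g := g') f g (𝟙 A) O.ι (𝟙 B) (by simp) (by simp [g'])
  let e := sq.isoPullback
  have he1 : e.hom ≫ pullback.fst f g = fst := sq.isoPullback_hom_fst
  have he2 : e.hom ≫ pullback.snd f g = snd := sq.isoPullback_hom_snd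
  refine ((hfin.image m).image e.inv).subset ?_
  rintro z ⟨hz1, hz2⟩
  have h1 : pullback.fst f g (e.hom z) = a := by rw [← Scheme.Hom.comp_apply, he1, hz1]
  have h2 : pullback.snd f g (e.hom z) = c := by rw [← Scheme.Hom.comp_apply, he2, hz2]
  have h3 : e.hom z ∈ Set.range m := by
    show e.hom z ∈ Set.range (pullback.map f g' f g (𝟙 A) O.ι (𝟙 B) _ _)
    rw [hr]
    refine ⟨by simp, ?_⟩
    show pullback.snd f g (e.hom z) ∈ Set.range O.ι
    rw [h2, Scheme.Opens.range_ι]
    exact hcO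
  obtain ⟨z', hz'⟩ := h3
  refine ⟨m z', ⟨z', ?_, rfl⟩, ?_⟩
  · show pullback.fst f g' z' = a
    rw [← hm1, Scheme.Hom.comp_apply, hz', h1]
  · rw [hz', ← Scheme.Hom.comp_apply, e.hom_inv_id]
    rfl

variable {S : Scheme.{u}}

set_option maxHeartbeats 1600000 in
/-- Quasi-compact case: an affine étale chart of `Y` through a codimension zero point `y` over which `f`
becomes finite. -/
theorem exists_chart_finite_of_quasiCompact {X Y : Space S} (f : X ⟶ Y)
    (hf : LocP @LocallyOfFiniteType f.hom) (hqc : IsQuasiCompactMor f.hom) (hY : IsDecent Y.obj)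
    (hY0 : {y : Points Y.obj | HasAt D0 Y.obj y}.Finite)
    (hpre : ∀ x : Points X.obj, HasAt D0 X.obj x ↔ HasAt D0 Y.obj (Points.map f.hom x))
    (y : Points Y.obj) (hy : HasAt D0 Y.obj y) :
    ∃ (U₂ : Over S) (b₂ : (yon S).obj U₂ ⟶ Y.obj), IsAffine U₂.left ∧ RepWith @Etale b₂ ∧
      y ∈ Set.range (Points.ofPt b₂) ∧
      ∃ (Z' : Sp S) (k : Z' ⟶ X.obj) (g' : Z' ⟶ (yon S).obj U₂),
        IsPullback k g' f.hom b₂ ∧ IsFiniteMor g' := by
  classical
  have hqf : ∀ x : Points X.obj, Points.map f.hom x = y → HasAtMor (NearAt Plqf) f.hom x :=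
    ((Groth.Agent.S10399.main f hf y hy).1).1 (fun x hx => (hpre x).2 (by rw [hx]; exact hy))
  -- an affine chart at `y`
  obtain ⟨V₀, b₀, v₀, hb₀e, -, hv₀⟩ := exists_chart_ofPt Y y
  obtain ⟨_, ⟨O₀, hO₀, rfl⟩, hv₀O, -⟩ := V₀.left.isBasis_affineOpens.exists_subset_of_mem_open
    (Set.mem_univ v₀) isOpen_univ
  let V₁ : Over S := OpenSub.subOver V₀ O₀
  haveI hV₁aff : IsAffine V₁.left := hO₀
  let b₁ : (yon S).obj V₁ ⟶ Y.obj := (yon S).map (OpenSub.subOverι V₀ O₀) ≫ b₀
  have hb₁e : RepWith @Etale b₁ :=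
    (RepWith (S := S) @Etale).comp_mem _ _
      ((repWith_yon_map_iff @Etale _).2 (inferInstanceAs (Etale (Scheme.Opens.ι O₀)))) hb₀e
  let v₁ : ↥V₁.left := ⟨v₀, hv₀O⟩
  have hv₁ : Points.ofPt b₁ v₁ = y := by
    show Points.ofPt ((yon S).map (OpenSub.subOverι V₀ O₀) ≫ b₀) v₁ = _
    rw [ofPt_yon_map_comp, ← hv₀]
    rfl
  obtain ⟨O, hO, hv₁O, huniq₁⟩ := exists_affine_chart_unique_dimZero hY hY0 b₁ hb₁e v₁
    (by rw [hv₁]; exact hy)
  let V : Over S := OpenSub.subOver V₁ O
  haveI hVaff : IsAffine V.left := hO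
  let b : (yon S).obj V ⟶ Y.obj := (yon S).map (OpenSub.subOverι V₁ O) ≫ b₁
  have hbe : RepWith @Etale b :=
    (RepWith (S := S) @Etale).comp_mem _ _
      ((repWith_yon_map_iff @Etale _).2 (inferInstanceAs (Etale (Scheme.Opens.ι O)))) hb₁e
  let v : ↥V.left := ⟨v₁, hv₁O⟩
  have hbb₁ : ∀ t : ↥V.left, Points.ofPt b t = Points.ofPt b₁ (O.ι t) := by
    intro t
    show Points.ofPt ((yon S).map (OpenSub.subOverι V₁ O) ≫ b₁) t = _
    rw [ofPt_yon_map_comp]
    rfl
  have hv : Points.ofPt b v = y := by rw [hbb₁]; exact hv₁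
  have huniq : ∀ t : ↥V.left, HasAt D0 Y.obj (Points.ofPt b t) → t = v := by
    intro t ht
    rw [hbb₁] at ht
    exact Subtype.ext (huniq₁ (O.ι t) t.2 ht)
  have hvmax : ∀ v' : ↥V.left, v' ⤳ v → v' = v :=
    maximal_of_dim_zero v ((Groth.Agent.S10399.hasAt_dimZero_iff_chart Y.property b hbe v).1
      (by rw [hv]; exact hy))
  -- the base change to `V`
  have sq : IsPullback (pullback.fst f.hom b) (pullback.snd f.hom b) f.hom b :=
    IsPullback.of_hasPullback _ _
  have hZ : IsAlgSpace (pullback f.hom b) :=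
    isAlgSpace_of_isPullback Y.property.diag X.property (IsAlgSpace.yon_obj V) sq
  have hqcZ : IsQuasiCompactSp (pullback f.hom b) :=
    hqc (IsAlgSpace.yon_obj V) (Groth.Agent.S9995.isQuasiCompactSp_yon V) b _ _ sq
  obtain ⟨W, c, hWaff, hce, hcs⟩ := Groth.Agent.S9920.exists_affine_chart hZ hqcZ
  haveI : IsAffine W.left := hWaff
  obtain ⟨h, hh⟩ := (yon S).map_surjective (c ≫ pullback.snd f.hom b)
  have hlftV : LocP @LocallyOfFiniteType (pullback.snd f.hom b) :=
    LocPBC.locP_of_isPullback LocPBC.locPData_lft X.property Y.property (IsAlgSpace.yon_obj V) sq hf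
  have hcomm : c ≫ pullback.snd f.hom b = (yon S).map h ≫ 𝟙 _ := by rw [Category.comp_id, hh]
  haveI : LocallyOfFiniteType h.left := hlftV c (𝟙 _) h hce (repWith_id @Etale V) hcomm
  have hfste : RepWith @Etale (pullback.fst f.hom b) :=
    (repWith_isStableUnderBaseChange (S := S) @Etale).of_isPullback sq.flip hbe
  -- quasi-finiteness at the points over `v`
  have hqfh : ∀ w : W.left, h.left w = v → h.left.QuasiFiniteAt w := by
    intro w hw
    have hx : Points.map f.hom (Points.map (pullback.fst f.hom b) (Points.ofPt c w)) = y := by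
      rw [← Points.map_comp, sq.w, Points.map_comp, Points.map_ofPt, ← hh,
        ofPt_yon_map, hw, ← hv, Points.ofPt_eq_map_ofScheme]
    have h1 : HasAtMor (NearAt Plqf) (pullback.snd f.hom b) (Points.ofPt c w) :=
      (lqfLocus_baseChange X.property Y.property (IsAlgSpace.yon_obj V) sq hf _).2 (hqf _ hx)
    have h2 : NearAt Plqf W.left V.left h.left w :=
      locPAt_nearAt_of_hasAtMor etLocal_lqf _ _ h1 c (𝟙 _) h w hce (repWith_id @Etale V) hcomm rfl
    obtain ⟨O', hwO', hO'⟩ := h2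
    haveI : LocallyQuasiFinite (O'.ι ≫ h.left) := hO'.1
    have h3 : (O'.ι ≫ h.left).QuasiFiniteAt ⟨w, hwO'⟩ := (O'.ι ≫ h.left).quasiFiniteAt _
    exact Scheme.Hom.quasiFiniteAt_comp_iff_of_isOpenImmersion.1 h3
  -- the kernel pair of the chart
  set g := pullback.snd f.hom b with hg
  obtain ⟨R, r₂, fst', sqR'⟩ := hZ.representable_from_yon c c
  obtain ⟨r₁, rfl⟩ := (yon S).map_surjective fst'
  haveI hr₁e : Etale r₁.left := hce.2 c _ r₁ sqR'.flip
  -- `W ×_V W`
  have sqPV : IsPullback (pullback.fst h h) (pullback.snd h h) h h := IsPullback.of_hasPullback h h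
  have hr : r₁ ≫ h = r₂ ≫ h := (yon S).map_injective (by
    rw [Functor.map_comp, Functor.map_comp, hh, ← Category.assoc, sqR'.w, Category.assoc])
  let m : R ⟶ pullback h h := pullback.lift r₁ r₂ hr
  have hm₁ : m ≫ pullback.fst h h = r₁ := pullback.lift_fst _ _ _
  have hm₂ : m ≫ pullback.snd h h = r₂ := pullback.lift_snd _ _ _
  have hPV' : IsPullback ((yon S).map (pullback.fst h h)) ((yon S).map (pullback.snd h h))
      (c ≫ g) (c ≫ g) := by rw [← hh]; exact sqPV.map (yon S)
  have sqd := isPullback_diag_chart sqR' hPV' ((yon S).map m)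
    (by rw [← Functor.map_comp, hm₁]) (by rw [← Functor.map_comp, hm₂])
  obtain ⟨-, -, hmono, hsep, -⟩ := repWith_diagonal_properties hZ g
  haveI hmsep : IsSeparated m.left := hsep.2 _ _ m sqd
  haveI hmmono : Mono m.left := hmono.2 _ _ m sqd
  have sqPVl : IsPullback (pullback.fst h h).left (pullback.snd h h).left h.left h.left :=
    sqPV.map (Over.forget S)
  haveI : IsAffine (pullback h h).left := IsAffine.of_isPullback sqPVl
  have hρ : r₁.left ≫ h.left = m.left ≫ ((pullback.fst h h).left ≫ h.left) := by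
    have e1 : r₁.left = m.left ≫ (pullback.fst h h).left := by rw [← Over.comp_left, hm₁]
    rw [e1, Category.assoc]
  haveI : IsSeparated (r₁.left ≫ h.left) := by rw [hρ]; infer_instance
  have hqfρ : ∀ t : R.left, (r₁.left ≫ h.left) t = v → (r₁.left ≫ h.left).QuasiFiniteAt t := by
    intro t ht
    haveI : LocallyQuasiFinite r₁.left := Groth.Agent.S10265.lqf_of_etale r₁.left
    exact quasiFiniteAt_comp r₁.left h.left t (r₁.left.quasiFiniteAt t) (hqfh _ ht)
  -- finiteness of the fibre of `ρ`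
  have hfibh : (h.left ⁻¹' {v}).Finite := finite_fibre_of_quasiFiniteAt h.left v hqfh
  have hfibρ : ((r₁.left ≫ h.left) ⁻¹' {v}).Finite := by
    have hinj : Function.Injective m.left := Scheme.Hom.injective m.left
    have hsub : (r₁.left ≫ h.left) ⁻¹' {v} ⊆
        ⋃ w ∈ h.left ⁻¹' {v}, ⋃ w' ∈ h.left ⁻¹' {v},
          m.left ⁻¹' {z | (pullback.fst h h).left z = w ∧ (pullback.snd h h).left z = w'} := by
      intro t ht
      have ht1 : h.left (r₁.left t) = v := by rw [← Scheme.Hom.comp_apply]; exact ht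
      have ht2 : h.left (r₂.left t) = v := by
        rw [← Scheme.Hom.comp_apply, ← Over.comp_left, ← hr, Over.comp_left]; exact ht
      refine Set.mem_biUnion ht1 (Set.mem_biUnion ht2 ⟨?_, ?_⟩)
      · rw [← Scheme.Hom.comp_apply, ← Over.comp_left, hm₁]
      · rw [← Scheme.Hom.comp_apply, ← Over.comp_left, hm₂]
    refine (Set.Finite.biUnion hfibh fun w _ => Set.Finite.biUnion hfibh fun w' hw' => ?_).subset hsub
    exact (finite_fibre_pair_of_quasiFiniteAt sqPVl w w' (hqfh w' hw')).preimage hinj.injOn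
  -- maximal points of `R` lie over `v`
  have hmaxρ : ∀ r : R.left, (∀ r' : R.left, r' ⤳ r → r' = r) → (r₁.left ≫ h.left) r = v := by
    intro r hrmax
    have hd : ringKrullDim ↥(R.left.presheaf.stalk r) = 0 := dim_zero_of_maximal r hrmax
    have hchart : RepWith @Etale ((yon S).map r₁ ≫ c ≫ pullback.fst f.hom b) :=
      (RepWith (S := S) @Etale).comp_mem _ _ ((repWith_yon_map_iff @Etale _).2 hr₁e)
        ((RepWith (S := S) @Etale).comp_mem _ _ hce hfste)
    have h1 : HasAt D0 X.obj (Points.ofPt ((yon S).map r₁ ≫ c ≫ pullback.fst f.hom b) r) :=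
      (Groth.Agent.S10399.hasAt_dimZero_iff_chart X.property _ hchart r).2 hd
    have h2 := (hpre _).1 h1
    apply huniq
    have e : Points.map f.hom (Points.ofPt ((yon S).map r₁ ≫ c ≫ pullback.fst f.hom b) r) =
        Points.ofPt b ((r₁.left ≫ h.left) r) := by
      rw [Points.map_ofPt, Category.assoc, Category.assoc, sq.w, ← Category.assoc c, ← hh,
        ← Category.assoc, ← Functor.map_comp, ofPt_yon_map_comp]
      rfl
    rw [← e]
    exact h2
  haveI : LocallyOfFiniteType (r₁.left ≫ h.left) := inferInstance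
  obtain ⟨V', hvV', hV'aff, hfinV'⟩ :=
    exists_finite_nbhd_of_separated (r₁.left ≫ h.left) v hvmax hqfρ hfibρ hmaxρ
  obtain ⟨Z', k, g', sqZ', hfin⟩ :=
    finite_of_kernelPair_nbhd f b c hce hcs h hh r₁ r₂ sqR' V' hV'aff hfinV'
  refine ⟨OpenSub.subOver V V', (yon S).map (OpenSub.subOverι V V') ≫ b, hV'aff,
    (RepWith (S := S) @Etale).comp_mem _ _
      ((repWith_yon_map_iff @Etale _).2 (inferInstanceAs (Etale (Scheme.Opens.ι V')))) hbe,
    ⟨⟨v, hvV'⟩, ?_⟩, Z', k, g', sqZ', hfin⟩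
  rw [ofPt_yon_map_comp, ← hv]
  rfl

end Groth.Agent.H1.GenFin
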