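import Groth.Agent.Lib.Helper1.GenFinJ
import Groth.Agent.S10338
import Groth.Agent.S10341

/-!
# Generic points of decent irreducible spaces — helper1
-/

set_option autoImplicit false
universe u
open CategoryTheory CategoryTheory.Limits AlgebraicGeometry Topology TopologicalSpace
open AlgSp

namespace Groth.Agent.H1.GenFin

open Groth.Agent.Lib.helper5 Groth.Agent.Lib.helper11

variable {S : Scheme.{u}}

/-- In a decent space whose space of points has a generic point, the generic point is the unique
codimension zero point. -/
theorem hasAt_dimZero_iff_eq_generic (X : Space S) (hX : IsDecent X.obj) (x : Points X.obj)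
    (hx : IsGenericPoint x (Set.univ : Set (Points X.obj))) (x' : Points X.obj) :
    HasAt D0 X.obj x' ↔ x' = x := by
  haveI : T0Space (Points X.obj) := Groth.Agent.S10338.main X hX
  constructor
  · intro h0
    obtain ⟨U, a, u', hae, -, rfl⟩ := exists_chart_ofPt X x'
    have hmax := maximal_of_dim_zero u'
      ((Groth.Agent.S10399.hasAt_dimZero_iff_chart X.property a hae u').1 h0)
    have hsp : x ⤳ Points.ofPt a u' := hx.specializes (Set.mem_univ _)
    obtain ⟨p, hp, -, hq⟩ := hX x
    obtain ⟨u'', hu''s, hu''x⟩ :=
      Groth.Agent.S10343.main X (Points.ofPt a u') x hsp ⟨p, hp, hq⟩ a hae u' rfl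
    rw [← hu''x, hmax u'' hu''s]
  · rintro rfl
    obtain ⟨U, a, u, hae, -, hu⟩ := exists_chart_ofPt X x'
    rw [← hu]
    refine (Groth.Agent.S10399.hasAt_dimZero_iff_chart X.property a hae u).2
      (dim_zero_of_maximal u ?_)
    intro u' hu's
    have h1 : Points.ofPt a u' ⤳ Points.ofPt a u := hu's.map (Points.continuous_ofPt a)
    have h2 : Points.ofPt a u ⤳ Points.ofPt a u' := by
      rw [hu]; exact hx.specializes (Set.mem_univ _)
    have h3 : Points.ofPt a u' = Points.ofPt a u := (h1.antisymm h2).eq
    have hfin : ∀ (V : Over S) (b : (yon S).obj V ⟶ X.obj), IsAffine V.left → RepWith @Etale b →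
        (Points.ofPt b ⁻¹' {x'}).Finite := by
      intro V b hV hb
      obtain ⟨p, hp, -, hq⟩ := hX x'
      rw [← hp]
      haveI : CompactSpace ↥V.left := inferInstance
      exact Groth.Agent.S10343.finite_fibre_of_qc_point p hq b hb
    exact (Groth.Agent.S10341.main X x' hfin a hae u u' hu (h3.trans hu) hu's).symm

/-- A dominant morphism to a `T₀` space of points maps the generic point to the generic point. -/
theorem map_generic_eq {X Y : Sp S} [T0Space (Points Y)] (f : X ⟶ Y) (hd : IsDominantMor f)
    (x : Points X) (hx : IsGenericPoint x (Set.univ : Set (Points X)))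
    (y : Points Y) (hy : IsGenericPoint y (Set.univ : Set (Points Y))) : Points.map f x = y := by
  have h1 := hx.image (Points.continuous_map f)
  rw [Set.image_univ, hd.closure_range] at h1
  exact h1.eq hy

end Groth.Agent.H1.GenFin
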