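import Groth.Agent.S10368

/-!
Locally Noetherian algebraic spaces: every etale chart of a locally Noetherian sheaf is locally Noetherian
(helper1).  Uses the fppf descent of local Noetherianity `Groth.Agent.S10368.isLocallyNoetherian_of_flat_surjective`.
-/

set_option autoImplicit false
universe u
open CategoryTheory CategoryTheory.Limits AlgebraicGeometry
open AlgSp

namespace Groth.Agent.H1.LocNoeth

variable {S : Scheme.{u}}

/-- Local Noetherianity descends along etale surjective morphisms. -/
theorem isLocallyNoetherian_of_etale_surjective {T U : Scheme.{u}} (f : T ⟶ U) [Etale f]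
    [Surjective f] [IsLocallyNoetherian T] : IsLocallyNoetherian U :=
  Groth.Agent.S10368.isLocallyNoetherian_of_flat_surjective f f.isOpenMap

/-- Local Noetherianity descends along fppf morphisms. -/
theorem isLocallyNoetherian_of_fppf {T U : Scheme.{u}} (f : T ⟶ U) [Flat f]
    [LocallyOfFinitePresentation f] [Surjective f] [IsLocallyNoetherian T] :
    IsLocallyNoetherian U :=
  Groth.Agent.S10368.isLocallyNoetherian_of_flat_surjective f f.isOpenMap

/-- Every etale chart of a locally Noetherian sheaf is locally Noetherian. -/
theorem isLocallyNoetherian_of_chart {X : Sp S} (hX : IsLocNoethSp X) {B : Over S}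
    (b : (yon S).obj B ⟶ X) (hb : RepWith @Etale b) : IsLocallyNoetherian B.left := by
  obtain ⟨U, a, hae, has, hUN⟩ := hX
  have hUN' : IsLocallyNoetherian U.left := hUN
  obtain ⟨W, snd, fst, hpb⟩ := hae.rep b
  obtain ⟨φ, rfl⟩ := (yon S).map_surjective fst
  have hsnd_et : Etale snd.left := hae.property b _ snd hpb
  have hsnd_surj : Surjective snd.left := has.property b _ snd hpb
  have hφ : Etale φ.left := hb.property a _ φ hpb.flip
  have : IsLocallyNoetherian W.left := LocallyOfFiniteType.isLocallyNoetherian φ.left
  exact isLocallyNoetherian_of_etale_surjective snd.left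

end Groth.Agent.H1.LocNoeth
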