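import Groth.Agent.Lib.Helper1.GenFinF
import Groth.Agent.Lib.Helper5.AlgSpDimIneq
import Groth.Agent.Lib.Helper5.ResTrdegChart
import Groth.Agent.Lib.Helper11.HasAtMorInd

/-!
# Quasi-finiteness over points of codimension at most one — helper1
-/

set_option autoImplicit false
universe u
open CategoryTheory CategoryTheory.Limits AlgebraicGeometry Topology TopologicalSpace

namespace Groth.Agent.H1.GenFin

/-- A proper specialization strictly increases the dimension of the local ring. -/
theorem stalk_dim_add_one_le_of_specializes {U : Scheme.{u}} (z z' : U) (h : z ⤳ z') (hne : z ≠ z') :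
    ringKrullDim (U.presheaf.stalk z) + 1 ≤ ringKrullDim (U.presheaf.stalk z') := by
  obtain ⟨W, hW, hz'W, -⟩ := exists_isAffineOpen_mem_and_subset (x := z') (U := ⊤) trivial
  have hzW : z ∈ W := h.mem_open W.2 hz'W
  rw [Groth.Agent.Lib.helper3.DimIneq.ringKrullDim_stalk_eq_height hW z hzW,
    Groth.Agent.Lib.helper3.DimIneq.ringKrullDim_stalk_eq_height hW z' hz'W]
  have hle := (Groth.Agent.Lib.helper3.DimIneq.specializes_iff_primeIdealOf_le hW z z' hzW hz'W).1 h
  have hlt : (hW.primeIdealOf ⟨z, hzW⟩).asIdeal < (hW.primeIdealOf ⟨z', hz'W⟩).asIdeal := by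
    refine lt_of_le_of_ne hle fun heq => hne ?_
    have h1 : hW.primeIdealOf ⟨z, hzW⟩ = hW.primeIdealOf ⟨z', hz'W⟩ := PrimeSpectrum.ext heq
    have h2 := congrArg hW.fromSpec h1
    rw [hW.fromSpec_primeIdealOf ⟨z, hzW⟩, hW.fromSpec_primeIdealOf ⟨z', hz'W⟩] at h2
    exact h2
  have := Ideal.height_add_one_le_of_lt_of_isPrime hlt
  exact_mod_cast this

/-- The residue field extension at a point where the morphism is quasi-finite is algebraic. -/
theorem resTrdeg_eq_zero_of_quasiFiniteAt {U V : Scheme.{u}} (h : U ⟶ V) [LocallyOfFiniteType h]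
    (ξ : U) (hq : h.QuasiFiniteAt ξ) : Dual3.resTrdeg h ξ = 0 := by
  set O := h.quasiFiniteLocus with hO
  have h1 := Groth.Agent.Lib.helper5.ResTrdegChart.resTrdeg_comp_etale_left O.ι h ⟨ξ, hq⟩
  have h2 := Groth.Agent.Lib.helper11.resTrdeg_eq_zero_of_lqf (O.ι ≫ h) ⟨ξ, hq⟩
  rw [h1] at h2
  exact h2

/-- Let `h : U ⟶ V` be locally of finite type with `V` locally Noetherian and `v` a point of `V` whose local ring
has dimension at most one.  If `h` is quasi-finite at all points of `U` with zero-dimensional local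
ring whose image specializes to `v`, then `h` is quasi-finite at all points over `v`. -/
theorem quasiFiniteAt_of_dim_le_one {U V : Scheme.{u}} [IsLocallyNoetherian V] (h : U ⟶ V)
    [LocallyOfFiniteType h] (v : V) (hv : ringKrullDim (V.presheaf.stalk v) ≤ 1)
    (hq : ∀ ξ : U, ringKrullDim (U.presheaf.stalk ξ) = 0 → h ξ ⤳ v → h.QuasiFiniteAt ξ)
    (u : U) (hu : h u = v) : h.QuasiFiniteAt u := by
  apply quasiFiniteAt_of_fibre_t1 h u
  intro z z' hz hz' hzz'
  by_contra hne
  rw [hu] at hz hz'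
  have hE : ∀ ξ : U, ξ ⤳ z' → ringKrullDim (U.presheaf.stalk ξ) = 0 →
      Dual3.resTrdeg h ξ ≤ (0 : Cardinal.{u}) := by
    intro ξ hξ h0
    have : h ξ ⤳ v := by rw [← hz']; exact hξ.map h.continuous
    rw [resTrdeg_eq_zero_of_quasiFiniteAt h ξ (hq ξ h0 this)]
  have ineq := Groth.Agent.Lib.helper5.AlgSpDimIneq.stalk_dim_add_le_scheme h z' 0 hE
  rw [hz'] at ineq
  have h1 : ringKrullDim (U.presheaf.stalk z') ≤ 1 := by
    have h2 : ringKrullDim (U.presheaf.stalk z') ≤ ringKrullDim (U.presheaf.stalk z') +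
        ((Cardinal.toENat (Dual3.resTrdeg h z') : ℕ∞) : WithBot ℕ∞) :=
      le_add_of_nonneg_right (by exact_mod_cast (zero_le : (0 : ℕ∞) ≤ _))
    refine h2.trans (ineq.trans ?_)
    simpa using hv
  have h3 := stalk_dim_add_one_le_of_specializes z z' hzz' hne
  have h4 : ringKrullDim (U.presheaf.stalk z) + 1 ≤ 1 := h3.trans h1
  have h5 : ringKrullDim (U.presheaf.stalk z) = 0 := by
    have hnn : (0 : WithBot ℕ∞) ≤ ringKrullDim (U.presheaf.stalk z) := ringKrullDim_nonneg_of_nontrivial
    refine le_antisymm ?_ hnn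
    obtain ⟨d, hd⟩ : ∃ d : ℕ∞, ringKrullDim (U.presheaf.stalk z) = (d : WithBot ℕ∞) := by
      cases hh : ringKrullDim (U.presheaf.stalk z) with
      | bot => rw [hh] at hnn; exact absurd hnn (by simp)
      | coe d => exact ⟨d, rfl⟩
    rw [hd] at h4 ⊢
    have h6 : d + 1 ≤ 1 := by exact_mod_cast h4
    have h7 : d = 0 := by
      rcases eq_or_ne d 0 with h | h
      · exact h
      · exfalso
        have : 1 ≤ d := Order.one_le_iff_ne_zero.2 h
        have h8 : (1 : ℕ∞) + 1 ≤ 1 := (add_le_add_left this 1).trans h6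
        exact absurd h8 (by decide)
    rw [h7]; rfl
  have hqz : h.QuasiFiniteAt z := hq z h5 (by rw [hz])
  exact hne (eq_of_specializes_of_quasiFiniteAt' h z' z hqz hzz' (by rw [hz, hz'])).symm

end Groth.Agent.H1.GenFin
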