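import Groth.Agent.Lib.Helper1.GenFinN
import Groth.Agent.Lib.Helper1.GenFinJ
import Groth.Agent.Lib.Helper5.EtLocalProp
import Groth.Agent.Lib.Helper1.LocNoeth

/-!
# Quasi-finiteness over points of codimension at most one, for algebraic spaces — helper1
-/

set_option autoImplicit false
universe u
open CategoryTheory CategoryTheory.Limits AlgebraicGeometry Topology TopologicalSpace
open AlgSp

namespace Groth.Agent.H1.GenFin

open Groth.Agent.Lib.helper5 Groth.Agent.Lib.helper5.NearLocus Groth.Agent.Lib.helper5.LqfLocus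
open Groth.Agent.Lib.helper11

variable {S : Scheme.{u}}

/-- A condition on the dimension of the local ring at a point can be tested on any étale chart through
the point. -/
theorem hasAt_dim_iff_chart (p : WithBot ℕ∞ → Prop) {X : Sp S} (hX : IsAlgSpace X) {U : Over S}
    (a : (yon S).obj U ⟶ X) (hae : RepWith @Etale a) (u : ↥U.left) :
    HasAt (fun U u => p (ringKrullDim ↥(U.presheaf.stalk u))) X (Points.ofPt a u) ↔
      p (ringKrullDim ↥(U.left.presheaf.stalk u)) := by
  constructor
  · rintro ⟨U₁, a₁, u₁, ha₁e, hpt, hP⟩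
    obtain ⟨E, snd, fst', sqE⟩ := hX.representable_from_yon a a₁
    obtain ⟨φ, rfl⟩ := (yon S).map_surjective fst'
    obtain ⟨e, he1, he2⟩ := exists_of_isPullback_schemes sqE u u₁ hpt.symm
    haveI : Etale snd.left := hae.2 a₁ _ snd sqE
    haveI : Etale φ.left := ha₁e.2 a _ φ sqE.flip
    rw [← he1, ← EtLocalProp.ringKrullDim_stalk_eq_of_etale φ.left e,
      EtLocalProp.ringKrullDim_stalk_eq_of_etale snd.left e, he2]
    exact hP
  · intro h
    exact ⟨U, a, u, hae, rfl, h⟩

/-- In a Noetherian quasi-sober space, the closure of a maximal point is a neighbourhood of it. -/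
theorem exists_open_subset_closure_of_maximal {T : Type*} [TopologicalSpace T] [NoetherianSpace T]
    [QuasiSober T] (t : T) (ht : ∀ t' : T, t' ⤳ t → t' = t) :
    ∃ N : Set T, IsOpen N ∧ t ∈ N ∧ N ⊆ closure {t} := by
  have hfin : (irreducibleComponents T).Finite := NoetherianSpace.finite_irreducibleComponents
  set B : Set T := ⋃ C ∈ {C ∈ irreducibleComponents T | t ∉ C}, C with hB
  have hBcl : IsClosed B :=
    (hfin.subset fun C hC => hC.1).isClosed_biUnion fun C hC =>
      isClosed_of_mem_irreducibleComponents C hC.1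
  refine ⟨Bᶜ, hBcl.isOpen_compl, ?_, ?_⟩
  · intro hmem
    obtain ⟨C, hC, htC⟩ := Set.mem_iUnion₂.1 hmem
    exact hC.2 htC
  · intro z hz
    have hC := irreducibleComponent_mem_irreducibleComponents z
    have htC : t ∈ irreducibleComponent z := by
      by_contra hnot
      exact hz (Set.mem_iUnion₂.2 ⟨_, ⟨hC, hnot⟩, mem_irreducibleComponent⟩)
    obtain ⟨η, hη⟩ := QuasiSober.sober (isIrreducible_irreducibleComponent (x := z))
      isClosed_irreducibleComponent
    have h1 : η ⤳ t := hη.specializes htC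
    rw [ht η h1] at hη
    rw [hη.def]
    exact mem_irreducibleComponent

/-- A maximal point of a locally Noetherian scheme lies in every dense open subset. -/
theorem mem_of_dense_open_of_maximal {U : Scheme.{u}} [IsLocallyNoetherian U] (O : Set U)
    (hO : IsOpen O) (hd : Dense O) (u : U) (hu : ∀ u' : U, u' ⤳ u → u' = u) : u ∈ O := by
  obtain ⟨W, hW, huW, -⟩ := exists_isAffineOpen_mem_and_subset (x := u) (U := ⊤) trivial
  haveI : IsNoetherianRing Γ(U, W) := IsLocallyNoetherian.component_noetherian ⟨W, hW⟩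
  haveI : NoetherianSpace ↥W := by
    have e : ↥W ≃ₜ PrimeSpectrum Γ(U, W) := hW.isoSpec.hom.homeomorph
    exact (noetherianSpace_iff_of_homeomorph e).2 inferInstance
  haveI : QuasiSober ↥W := inferInstanceAs (QuasiSober ↥(W.toScheme))
  let w : ↥W := ⟨u, huW⟩
  have hwmax : ∀ w' : ↥W, w' ⤳ w → w' = w := by
    intro w' hw'
    have := hu w'.1 (hw'.map continuous_subtype_val)
    exact Subtype.ext this
  obtain ⟨N, hN, hwN, hNsub⟩ := exists_open_subset_closure_of_maximal w hwmax
  have hN' : IsOpen (Subtype.val '' N : Set U) := W.2.isOpenMap_subtype_val N hN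
  obtain ⟨z, hzN, hzO⟩ := hd.inter_open_nonempty _ hN' ⟨u, ⟨w, hwN, rfl⟩⟩
  obtain ⟨z', hz'N, rfl⟩ := hzN
  have h1 : w ⤳ z' := specializes_iff_mem_closure.2 (hNsub hz'N)
  have h2 : u ⤳ z'.1 := h1.map continuous_subtype_val
  exact h2.mem_open hO hzO

/-- Let `f : X ⟶ Y` be locally of finite type with `Y` locally Noetherian and `y` a point of `Y` of codimension
at most one.  If `f` is quasi-finite at all codimension zero points of `X` whose image specializes to
`y`, then `f` is quasi-finite at all points over `y`. -/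
theorem hasAtMor_lqf_of_codim_le_one {X Y : Space S} (f : X ⟶ Y)
    (hf : LocP @LocallyOfFiniteType f.hom) (hY : IsLocNoethSp Y.obj) (y : Points Y.obj)
    (hy : HasAt (fun U u => ringKrullDim ↥(U.presheaf.stalk u) ≤ 1) Y.obj y)
    (h : ∀ x : Points X.obj, HasAt D0 X.obj x → Points.map f.hom x ⤳ y →
      HasAtMor (NearAt Plqf) f.hom x)
    (x : Points X.obj) (hx : Points.map f.hom x = y) : HasAtMor (NearAt Plqf) f.hom x := by
  obtain ⟨U, V, a, b, k, u, hae, hbe, hc, hu⟩ :=
    LocPFam.exists_chart_at_point X.property Y.property f.hom x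
  haveI : IsLocallyNoetherian V.left :=
    Groth.Agent.H1.LocNoeth.isLocallyNoetherian_of_chart hY b hbe
  haveI : LocallyOfFiniteType k.left := hf a b k hae hbe hc
  have hbv : ∀ t : ↥U.left, Points.ofPt b (k.left t) = Points.map f.hom (Points.ofPt a t) := by
    intro t
    rw [← ofPt_yon_map_comp, ← hc, ← Points.map_ofPt]
  have hv : ringKrullDim ↥(V.left.presheaf.stalk (k.left u)) ≤ 1 := by
    refine (hasAt_dim_iff_chart (fun d => d ≤ 1) Y.property b hbe (k.left u)).1 ?_
    rw [hbv, hu, hx]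
    exact hy
  have hq : ∀ ξ : ↥U.left, ringKrullDim ↥(U.left.presheaf.stalk ξ) = 0 → k.left ξ ⤳ k.left u →
      k.left.QuasiFiniteAt ξ := by
    intro ξ h0 hsp
    have h1 : HasAt D0 X.obj (Points.ofPt a ξ) := ⟨U, a, ξ, hae, rfl, h0⟩
    have h2 : Points.map f.hom (Points.ofPt a ξ) ⤳ y := by
      rw [← hbv, ← hx, ← hu, ← hbv]
      exact hsp.map (Points.continuous_ofPt b)
    have h3 : NearAt Plqf U.left V.left k.left ξ :=
      locPAt_nearAt_of_hasAtMor etLocal_lqf _ _ (h _ h1 h2) a b k ξ hae hbe hc rfl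
    obtain ⟨O', hξO', hO'⟩ := h3
    haveI : LocallyQuasiFinite (O'.ι ≫ k.left) := hO'.1
    have h4 : (O'.ι ≫ k.left).QuasiFiniteAt ⟨ξ, hξO'⟩ := (O'.ι ≫ k.left).quasiFiniteAt _
    exact Scheme.Hom.quasiFiniteAt_comp_iff_of_isOpenImmersion.1 h4
  have hqu := quasiFiniteAt_of_dim_le_one k.left (k.left u) hv hq u rfl
  exact ⟨U, V, a, b, k, u, hae, hbe, hc, hu, k.left.quasiFiniteLocus, hqu,
    ⟨inferInstance, inferInstance⟩⟩

end Groth.Agent.H1.GenFin
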