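import Groth.Agent.Lib.Helper1.GenFinJ
import Groth.Agent.Lib.Helper1.QFin
import Groth.Agent.Lib.Helper18.AlgSp
import Groth.Agent.Lib.Helper5.AlgSpOpenSub

/-!
# A proper morphism quasi-finite along a fibre is finite near the fibre — helper1
-/

set_option autoImplicit false
universe u
open CategoryTheory CategoryTheory.Limits AlgebraicGeometry Topology TopologicalSpace
open AlgSp

namespace Groth.Agent.H1.GenFin

open Groth.Agent.Lib.helper5 Groth.Agent.Lib.helper5.NearLocus Groth.Agent.Lib.helper5.LqfLocus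

variable {S : Scheme.{u}}

/-- A proper morphism which is quasi-finite at all points over `y` is finite over an open neighbourhood of
`y`. -/
theorem exists_open_finite_of_proper_of_fibre_lqf {X Y : Space S} (f : X ⟶ Y)
    (hf : IsProperMor f.hom) (y : Points Y.obj)
    (hq : ∀ x : Points X.obj, Points.map f.hom x = y → HasAtMor (NearAt Plqf) f.hom x) :
    ∃ (Y' : Space S) (j : Y' ⟶ Y), RepWith @IsOpenImmersion j.hom ∧
      y ∈ Set.range (Points.map j.hom) ∧
      ∀ (P : Space S) (fst : P ⟶ Y') (snd : P ⟶ X), IsPullback fst.hom snd.hom j.hom f.hom →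
        IsFiniteMor fst.hom := by
  obtain ⟨hsep, ⟨hlft, -⟩, huc⟩ := hf
  set Q : Set (Points X.obj) := {x | HasAtMor (NearAt Plqf) f.hom x} with hQ
  have hQo : IsOpen Q := isOpen_nearLocus Plqf f.hom
  have hcl : IsClosedMap (Points.map f.hom) :=
    huc Y.property (𝟙 _) (𝟙 _) f.hom IsPullback.of_id_fst
  set Ω : Set (Points Y.obj) := (Points.map f.hom '' Qᶜ)ᶜ with hΩdef
  have hΩ : IsOpen Ω := (hcl _ hQo.isClosed_compl).isOpen_compl
  have hyΩ : y ∈ Ω := by
    rintro ⟨x, hx, hxy⟩
    exact hx (hq x hxy)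
  obtain ⟨Y', j, hj, hr, -⟩ := OpenSub.exists_openSub Y Ω hΩ
  refine ⟨Y', j, hj, by rw [hr]; exact hyΩ, fun P fst snd sqP => ?_⟩
  have hs : IsSeparatedMor fst.hom := Groth.Agent.H1.QDesc.isSeparatedMor_of_isPullback sqP.flip hsep
  have hu : IsUnivClosedMor fst.hom := Groth.Agent.Lib.helper18.univSp_of_isPullback sqP.flip huc
  have hl : LocP Plqf fst.hom := by
    refine locP_of_forall_hasAtMor etLocal_lqf fst.hom fun w => ?_
    rw [lqfLocus_baseChange X.property Y.property Y'.property sqP.flip hlft w]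
    by_contra hnot
    have h1 : Points.map f.hom (Points.map snd.hom w) ∈ Points.map f.hom '' Qᶜ := ⟨_, hnot, rfl⟩
    have h2 : Points.map f.hom (Points.map snd.hom w) ∈ Ω := by
      rw [← Points.map_comp, ← sqP.w, Points.map_comp, ← hr]
      exact ⟨_, rfl⟩
    exact h2 h1
  exact Groth.Agent.H1.QFin.isFiniteMor_of_sep_lqf_univClosed P.property Y'.property fst.hom hs hl hu

end Groth.Agent.H1.GenFin
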