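import Groth.Agent.Lib.Helper1.GenFinO
import Groth.Agent.Lib.Helper5.IsolBaseChange
import Groth.Agent.Lib.Helper3.FibreDimNat

/-!
# Transcendence degree zero at a maximal point means quasi-finite — helper1
-/

set_option autoImplicit false
universe u
open CategoryTheory CategoryTheory.Limits AlgebraicGeometry Topology TopologicalSpace
open AlgSp

namespace Groth.Agent.H1.GenFin

open Groth.Agent.Lib.helper5 Groth.Agent.Lib.helper5.NearLocus Groth.Agent.Lib.helper5.LqfLocus
open Groth.Agent.Lib.helper11

/-- At a maximal point with algebraic residue field extension a morphism locally of finite type is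
quasi-finite. -/
theorem quasiFiniteAt_of_maximal_of_resTrdeg_eq_zero {U V : Scheme.{u}} (h : U ⟶ V)
    [LocallyOfFiniteType h] (z : U) (hz : ∀ z' : U, z' ⤳ z → z' = z)
    (ht : Dual3.resTrdeg h z = 0) : h.QuasiFiniteAt z := by
  obtain ⟨a, b, ha, hb, hab⟩ := Groth.Agent.Lib.helper3.DimFibre.fibreDimAt_eq_add h z
  have ha0 : a = 0 := by
    have h1 : (a : Cardinal.{u}) = 0 := by
      rw [← ha]; exact ht
    exact_mod_cast h1
  have hb0 : b = 0 := by
    have hmax : ∀ w : h.fiber (h z), w ⤳ h.asFiber z → w = h.asFiber z := by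
      intro w hw
      have h1 := hw.map (h.fiberι (h z)).continuous
      rw [h.fiberι_asFiber z] at h1
      have h2 := hz _ h1
      apply (h.fiberι (h z)).isEmbedding.injective
      rw [h2, h.fiberι_asFiber z]
    have h3 := dim_zero_of_maximal (h.asFiber z) hmax
    rw [hb] at h3
    exact_mod_cast h3
  have h0 : FlatMor.fibreDimAt h z = 0 := by
    rw [hab, ha0, hb0]; rfl
  have hisol := (Groth.Agent.S10310.fibreDimAt_eq_zero_iff h z).1 h0
  rw [Scheme.Hom.quasiFiniteAt_iff_isOpen_singleton_asFiber, Groth.Agent.S10310.isOpen_asFiber_iff]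
  exact hisol

variable {S : Scheme.{u}}

/-- The transcendence degree version for algebraic spaces: at a codimension zero point with residue
transcendence degree zero, a morphism locally of finite type is quasi-finite. -/
theorem hasAtMor_lqf_of_dimZero_of_resTrdeg {X Y : Space S} (f : X ⟶ Y)
    (hf : LocP @LocallyOfFiniteType f.hom) (x : Points X.obj) (h0 : HasAt D0 X.obj x)
    (ht : HasAtMor (fun _ _ h u => Dual3.resTrdeg h u = 0) f.hom x) :
    HasAtMor (NearAt Plqf) f.hom x := by
  obtain ⟨U, V, a, b, k, u, hae, hbe, hc, hu, hQ⟩ := ht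
  haveI : LocallyOfFiniteType k.left := hf a b k hae hbe hc
  have humax := maximal_of_dim_zero u
    ((Groth.Agent.S10399.hasAt_dimZero_iff_chart X.property a hae u).1 (by rw [hu]; exact h0))
  have hqu := quasiFiniteAt_of_maximal_of_resTrdeg_eq_zero k.left u humax hQ
  exact ⟨U, V, a, b, k, u, hae, hbe, hc, hu, k.left.quasiFiniteLocus, hqu,
    ⟨inferInstance, inferInstance⟩⟩

end Groth.Agent.H1.GenFin
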