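import Groth.Prelude.Def_EtGm
import Groth.Agent.Lib.Helper1.ClosedDense

set_option autoImplicit false
universe u

namespace Groth.Agent.H1.GmSec

open CategoryTheory CategoryTheory.Limits Opposite AlgebraicGeometry

variable {S : Scheme.{u}}

/-- a unit of the global functions of an etale `S`-scheme as a section of `G_m` -/
def toGm (U : S.Etale) (x : Γ(U.left, ⊤)ˣ) : (EtCoh.Gm S).obj.obj (op U) :=
  ULift.up (Additive.ofMul x)

/-- a section of `G_m` as a unit -/
def ofGm (U : S.Etale) (s : (EtCoh.Gm S).obj.obj (op U)) : Γ(U.left, ⊤)ˣ :=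
  Additive.toMul (ULift.down s)

@[simp] theorem ofGm_toGm (U : S.Etale) (x : Γ(U.left, ⊤)ˣ) : ofGm U (toGm U x) = x := rfl

@[simp] theorem toGm_ofGm (U : S.Etale) (s : (EtCoh.Gm S).obj.obj (op U)) : toGm U (ofGm U s) = s := rfl

theorem ofGm_add (U : S.Etale) (s t : (EtCoh.Gm S).obj.obj (op U)) :
    ofGm U (s + t) = ofGm U s * ofGm U t := rfl

theorem ofGm_zero (U : S.Etale) : ofGm U (0 : (EtCoh.Gm S).obj.obj (op U)) = 1 := rfl

theorem ofGm_nsmul (U : S.Etale) (n : ℕ) (s : (EtCoh.Gm S).obj.obj (op U)) :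
    ofGm U (n • s) = ofGm U s ^ n := rfl

theorem ofGm_map {U V : S.Etale} (k : V ⟶ U) (s : (EtCoh.Gm S).obj.obj (op U)) :
    ofGm V ((EtCoh.Gm S).obj.map k.op s) = Units.map (k.left.appTop).hom.toMonoidHom (ofGm U s) := rfl

theorem powMap_app (n : ℕ) (U : S.Etale) (s : (EtCoh.Gm S).obj.obj (op U)) :
    (EtCoh.powMap S n).hom.app (op U) s = n • s := by
  unfold EtCoh.powMap
  induction n with
  | zero => rw [zero_nsmul, zero_nsmul]; rfl
  | succ m ih =>
    rw [succ_nsmul, succ_nsmul, ← ih]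
    rfl

end Groth.Agent.H1.GmSec
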