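import Mathlib

/-!
Helper library (helper1): maps out of `single_j P` in the derived category vs maps `P ⟶ H^j`.
-/

set_option autoImplicit false
universe v u
open CategoryTheory CategoryTheory.Limits DerivedCategory

namespace Groth.Agent.H1.SingleHom

variable {𝒜 : Type u} [Category.{v} 𝒜] [Abelian 𝒜] [HasDerivedCategory 𝒜]

/-- the map `P ⟶ H^j(M)` induced by a map `single_j P ⟶ M` -/
noncomputable def rho {P : 𝒜} {j : ℤ} {M : DerivedCategory 𝒜}
    (σ : (singleFunctor 𝒜 j).obj P ⟶ M) : P ⟶ (homologyFunctor 𝒜 j).obj M :=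
  (singleFunctorCompHomologyFunctorIso 𝒜 j).inv.app P ≫ (homologyFunctor 𝒜 j).map σ

lemma rho_comp {P : 𝒜} {j : ℤ} {M M' : DerivedCategory 𝒜}
    (σ : (singleFunctor 𝒜 j).obj P ⟶ M) (φ : M ⟶ M') :
    rho (σ ≫ φ) = rho σ ≫ (homologyFunctor 𝒜 j).map φ := by
  simp [rho]

lemma rho_precomp {P P' : 𝒜} {j : ℤ} {M : DerivedCategory 𝒜} (p : P' ⟶ P)
    (σ : (singleFunctor 𝒜 j).obj P ⟶ M) :
    rho ((singleFunctor 𝒜 j).map p ≫ σ) = p ≫ rho σ := by
  have := (singleFunctorCompHomologyFunctorIso 𝒜 j).inv.naturality p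
  simp only [Functor.id_map, Functor.comp_map] at this
  simp only [rho, Functor.map_comp]
  rw [← Category.assoc, ← this, Category.assoc]

lemma rho_zero {P : 𝒜} {j : ℤ} {M : DerivedCategory 𝒜} :
    rho (0 : (singleFunctor 𝒜 j).obj P ⟶ M) = 0 := by
  simp [rho]

/-- `single_j P` in `D` as `Q` of the single complex -/
noncomputable def eP (P : 𝒜) (j : ℤ) : (singleFunctor 𝒜 j).obj P ≅
    Q.obj ((HomologicalComplex.single 𝒜 (ComplexShape.up ℤ) j).obj P) :=
  ((SingleFunctors.evaluation _ _ j).mapIso (singleFunctorsPostcompQIso 𝒜)).app P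

/-- the chain map from a single complex given by a cycle -/
noncomputable def cyc {P : 𝒜} (E : CochainComplex 𝒜 ℤ) (j : ℤ) (z : P ⟶ E.cycles j) :
    (HomologicalComplex.single 𝒜 (ComplexShape.up ℤ) j).obj P ⟶ E :=
  HomologicalComplex.mkHomFromSingle (z ≫ E.iCycles j) (by
    intro k hk
    simp)

/-- the map in `D` given by a cycle -/
noncomputable def sig {P : 𝒜} (E : CochainComplex 𝒜 ℤ) (j : ℤ) (z : P ⟶ E.cycles j) :
    (singleFunctor 𝒜 j).obj P ⟶ Q.obj E :=
  (eP P j).hom ≫ Q.map (cyc E j z)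

lemma homologyMap_cyc {P : 𝒜} (E : CochainComplex 𝒜 ℤ) (j : ℤ) (z : P ⟶ E.cycles j) :
    (HomologicalComplex.singleObjHomologySelfIso (ComplexShape.up ℤ) j P).inv ≫
      HomologicalComplex.homologyMap (cyc E j z) j = z ≫ E.homologyπ j := by
  rw [← HomologicalComplex.singleObjCyclesSelfIso_inv_homologyπ, Category.assoc,
    HomologicalComplex.homologyπ_naturality, ← Category.assoc]
  congr 1
  rw [← cancel_mono (E.iCycles j), Category.assoc, HomologicalComplex.cyclesMap_i,
    ← Category.assoc, HomologicalComplex.singleObjCyclesSelfIso_inv_iCycles]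
  unfold cyc
  rw [HomologicalComplex.mkHomFromSingle_f, Iso.inv_hom_id_assoc]

lemma iso_hom_app (P : 𝒜) (j : ℤ) :
    (singleFunctorCompHomologyFunctorIso 𝒜 j).hom.app P =
      (homologyFunctor 𝒜 j).map (eP P j).hom ≫
        (homologyFunctorFactors 𝒜 j).hom.app
          ((HomologicalComplex.single 𝒜 (ComplexShape.up ℤ) j).obj P) ≫
        (HomologicalComplex.singleObjHomologySelfIso (ComplexShape.up ℤ) j P).hom := by
  dsimp [singleFunctorCompHomologyFunctorIso, eP]
  erw [Category.id_comp]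
  rfl

lemma rho_Qmap {P : 𝒜} (E : CochainComplex 𝒜 ℤ) (j : ℤ)
    (ζ : (HomologicalComplex.single 𝒜 (ComplexShape.up ℤ) j).obj P ⟶ E) :
    rho ((eP P j).hom ≫ Q.map ζ) =
      (HomologicalComplex.singleObjHomologySelfIso (ComplexShape.up ℤ) j P).inv ≫
        HomologicalComplex.homologyMap ζ j ≫ (homologyFunctorFactors 𝒜 j).inv.app E := by
  have nat := (homologyFunctorFactors 𝒜 j).hom.naturality ζ
  have hq : (homologyFunctor 𝒜 j).map (Q.map ζ) =
      (homologyFunctorFactors 𝒜 j).hom.app _ ≫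
        (HomologicalComplex.homologyFunctor 𝒜 (ComplexShape.up ℤ) j).map ζ ≫
          (homologyFunctorFactors 𝒜 j).inv.app E := by
    rw [← Category.assoc, ← nat, Category.assoc, Iso.hom_inv_id_app]
    exact (Category.comp_id _).symm
  unfold rho
  rw [← cancel_epi ((singleFunctorCompHomologyFunctorIso 𝒜 j).hom.app P)]
  rw [← NatTrans.comp_app_assoc, Iso.hom_inv_id, NatTrans.id_app, Category.id_comp,
    iso_hom_app, Functor.map_comp, hq]
  simp only [Category.assoc]
  congr 2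
  exact (Iso.hom_inv_id_assoc _ _).symm

lemma rho_sig {P : 𝒜} (E : CochainComplex 𝒜 ℤ) (j : ℤ) (z : P ⟶ E.cycles j) :
    rho (sig E j z) = z ≫ E.homologyπ j ≫ (homologyFunctorFactors 𝒜 j).inv.app E := by
  unfold sig
  rw [rho_Qmap, ← Category.assoc, homologyMap_cyc, Category.assoc]

/-- a chain map from a single complex which is a boundary is null-homotopic -/
noncomputable def nullHomotopy {P : 𝒜} (E : CochainComplex 𝒜 ℤ) (i j : ℤ) (hij : i + 1 = j)
    (y : P ⟶ E.X i) :
    Homotopy (HomologicalComplex.mkHomFromSingle (c := ComplexShape.up ℤ) (y ≫ E.d i j)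
      (by intro k _; simp)) 0 where
  hom k l := if hl : l = i then (if hk : k = j then
      (HomologicalComplex.XIsoOfEq _ hk).hom ≫
        (HomologicalComplex.singleObjXSelf (ComplexShape.up ℤ) j P).hom ≫ y ≫
          (HomologicalComplex.XIsoOfEq E hl).inv else 0) else 0
  zero k l hkl := by
    by_cases hl : l = i
    · by_cases hk : k = j
      · exfalso
        apply hkl
        subst hl hk
        exact hij
      · rw [dif_pos hl, dif_neg hk]
    · rw [dif_neg hl]
  comm k := by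
    by_cases hk : k = j
    · subst hk
      have hrel : (ComplexShape.up ℤ).Rel i k := hij
      rw [prevD_eq _ hrel, dNext_eq _ (show (ComplexShape.up ℤ).Rel k (k + 1) from rfl)]
      rw [HomologicalComplex.mkHomFromSingle_f]
      simp
    · apply (HomologicalComplex.isZero_single_obj_X (ComplexShape.up ℤ) j P k hk).eq_of_src

lemma cyc_toCycles {P : 𝒜} (E : CochainComplex 𝒜 ℤ) (i j : ℤ) (y : P ⟶ E.X i) :
    cyc E j (y ≫ E.toCycles i j) =
      HomologicalComplex.mkHomFromSingle (c := ComplexShape.up ℤ) (y ≫ E.d i j)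
        (by intro k _; simp) := by
  unfold cyc
  congr 1
  rw [Category.assoc, HomologicalComplex.toCycles_i]

lemma sig_toCycles {P : 𝒜} (E : CochainComplex 𝒜 ℤ) (i j : ℤ) (hij : i + 1 = j)
    (y : P ⟶ E.X i) : sig E j (y ≫ E.toCycles i j) = 0 := by
  unfold sig
  rw [cyc_toCycles, Q_map_eq_of_homotopy 𝒜 (nullHomotopy E i j hij y), Functor.map_zero,
    comp_zero]

lemma cyc_precomp {P P' : 𝒜} (E : CochainComplex 𝒜 ℤ) (j : ℤ) (p : P' ⟶ P)
    (z : P ⟶ E.cycles j) :
    (HomologicalComplex.single 𝒜 (ComplexShape.up ℤ) j).map p ≫ cyc E j z = cyc E j (p ≫ z) := by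
  apply HomologicalComplex.from_single_hom_ext
  unfold cyc
  rw [HomologicalComplex.comp_f, HomologicalComplex.mkHomFromSingle_f,
    HomologicalComplex.mkHomFromSingle_f, HomologicalComplex.single_map_f_self]
  simp

lemma eP_naturality {P P' : 𝒜} (j : ℤ) (p : P' ⟶ P) :
    (singleFunctor 𝒜 j).map p ≫ (eP P j).hom =
      (eP P' j).hom ≫ Q.map ((HomologicalComplex.single 𝒜 (ComplexShape.up ℤ) j).map p) :=
  ((SingleFunctors.evaluation _ _ j).mapIso (singleFunctorsPostcompQIso 𝒜)).hom.naturality p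

lemma sig_precomp {P P' : 𝒜} (E : CochainComplex 𝒜 ℤ) (j : ℤ) (p : P' ⟶ P)
    (z : P ⟶ E.cycles j) :
    (singleFunctor 𝒜 j).map p ≫ sig E j z = sig E j (p ≫ z) := by
  unfold sig
  rw [← Category.assoc, eP_naturality, Category.assoc, ← Functor.map_comp, cyc_precomp]

/-- every map `single_j P ⟶ M` is given by a cycle of a suitable representative -/
lemma exists_cycle_rep {P : 𝒜} {j : ℤ} {M : DerivedCategory 𝒜}
    (σ : (singleFunctor 𝒜 j).obj P ⟶ M) :
    ∃ (E : CochainComplex 𝒜 ℤ) (e : Q.obj E ≅ M) (z : P ⟶ E.cycles j),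
      σ = sig E j z ≫ e.hom := by
  let e₀ := Q.objObjPreimageIso M
  obtain ⟨E', g, s, hs, hfac⟩ := left_fac ((eP P j).inv ≫ σ ≫ e₀.inv)
  have hd : ∀ k, (ComplexShape.up ℤ).Rel j k →
      ((HomologicalComplex.singleObjXSelf (ComplexShape.up ℤ) j P).inv ≫ g.f j) ≫ E'.d j k = 0 := by
    intro k _
    rw [Category.assoc, g.comm]
    simp
  let z : P ⟶ E'.cycles j := E'.liftCycles
    ((HomologicalComplex.singleObjXSelf (ComplexShape.up ℤ) j P).inv ≫ g.f j) (j + 1)
    (by simp) (hd _ rfl)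
  have hz : cyc E' j z = g := by
    apply HomologicalComplex.from_single_hom_ext
    unfold cyc
    rw [HomologicalComplex.mkHomFromSingle_f]
    simp [z]
  refine ⟨E', (asIso (Q.map s)).symm ≪≫ e₀, z, ?_⟩
  unfold sig
  rw [hz]
  simp only [Iso.trans_hom, Iso.symm_hom, asIso_inv, Category.assoc]
  rw [← Category.assoc (Q.map g), ← hfac]
  simp

/-- `H^j(Q E) ≅ H^j(E)` with convenient types -/
noncomputable def hIso (E : CochainComplex 𝒜 ℤ) (j : ℤ) :
    (homologyFunctor 𝒜 j).obj (Q.obj E) ≅ E.homology j :=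
  (homologyFunctorFactors 𝒜 j).app E

lemma rho_sig' {P : 𝒜} (E : CochainComplex 𝒜 ℤ) (j : ℤ) (z : P ⟶ E.cycles j) :
    rho (sig E j z) = z ≫ E.homologyπ j ≫ (hIso E j).inv :=
  rho_sig E j z

lemma exact_toCycles_homologyπ (E : CochainComplex 𝒜 ℤ) (i j : ℤ) (hij : i + 1 = j) :
    (ShortComplex.mk (E.toCycles i j) (E.homologyπ j) (by simp)).Exact :=
  ShortComplex.exact_of_g_is_cokernel _ (E.homologyIsCokernel i j (by simp [← hij]))

end Groth.Agent.H1.SingleHom
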