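import Mathlib
import Groth.Prelude.Def_ModSite
import Groth.Agent.Lib.Helper1.FreeOnLoc
import Groth.Agent.Lib.Helper1.SingleHom

/-!
Helper library (helper1): on a ringed site, `h^j(X, M) := Hom_D(single_j (freeOn X), M)` compared
with sections of the cohomology sheaf `H^j(M)`: every section of `H^j(M)` is locally in the image
of `rho`, and classes killed by `rho` are locally zero.
-/

set_option autoImplicit false
universe w u
open CategoryTheory CategoryTheory.Limits Opposite DerivedCategory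

namespace Groth.Agent.H1.HjSite

open Groth.Agent.H1.FreeOnLoc Groth.Agent.H1.SingleHom

variable {C : Type u} [SmallCategory C] {J : GrothendieckTopology C} (O : Sheaf J CommRingCat.{u})
  [HasDerivedCategory.{w} (ModSite.Mod O)]

/-- `single_j (freeOn Y)` -/
noncomputable abbrev Xj (Y : C) (j : ℤ) : DerivedCategory (ModSite.Mod O) :=
  (singleFunctor (ModSite.Mod O) j).obj (ModSite.freeOn O Y)

/-- restriction -/
noncomputable abbrev res {X Y : C} (g : Y ⟶ X) (j : ℤ) : Xj O Y j ⟶ Xj O X j :=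
  (singleFunctor (ModSite.Mod O) j).map (fmap O g)

/-- sections of `H^j(M)` are locally represented by classes in `h^j` -/
lemma exists_local_rep (M : DerivedCategory (ModSite.Mod O)) (j : ℤ) {X : C}
    (s : ModSite.freeOn O X ⟶ (homologyFunctor (ModSite.Mod O) j).obj M) :
    ∃ T ∈ J X, ∀ ⦃Y : C⦄ (g : Y ⟶ X), T g → ∃ σ : Xj O Y j ⟶ M, rho σ = fmap O g ≫ s := by
  let e := Q.objObjPreimageIso M
  let E := Q.objPreimage M
  let s₁ : ModSite.freeOn O X ⟶ E.homology j :=
    s ≫ (homologyFunctor _ j).map e.inv ≫ (hIso E j).hom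
  obtain ⟨T, hT, hl⟩ := exists_local_lift O (E.homologyπ j) s₁
  refine ⟨T, hT, fun Y g hg => ?_⟩
  obtain ⟨z, hz⟩ := hl g hg
  refine ⟨sig E j z ≫ e.hom, ?_⟩
  rw [rho_comp, rho_sig', ← Category.assoc z, hz]
  simp only [s₁, Category.assoc]
  rw [Iso.hom_inv_id_assoc, ← Functor.map_comp, e.inv_hom_id, CategoryTheory.Functor.map_id,
    Category.comp_id]

/-- classes killed by `rho` are locally zero -/
lemma exists_local_zero (M : DerivedCategory (ModSite.Mod O)) (j : ℤ) {X : C}
    (σ : Xj O X j ⟶ M) (h : rho σ = 0) :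
    ∃ T ∈ J X, ∀ ⦃Y : C⦄ (g : Y ⟶ X), T g → res O g j ≫ σ = 0 := by
  obtain ⟨E, e, z, hσ⟩ := exists_cycle_rep σ
  have hz : z ≫ E.homologyπ j = 0 := by
    rw [hσ, rho_comp, rho_sig'] at h
    have h2 : (z ≫ E.homologyπ j) ≫ ((hIso E j).inv ≫
        (homologyFunctor _ j).map e.hom) = 0 := by
      simpa only [Category.assoc] using h
    have : IsIso ((hIso E j).inv ≫ (homologyFunctor (ModSite.Mod O) j).map e.hom) := inferInstance
    rw [← cancel_mono ((hIso E j).inv ≫ (homologyFunctor (ModSite.Mod O) j).map e.hom), h2,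
      zero_comp]
  obtain ⟨A', π, hπ, x₁, hx⟩ :=
    (exact_toCycles_homologyπ E (j - 1) j (by omega)).exact_up_to_refinements z hz
  obtain ⟨T, hT, hl⟩ := exists_local_lift O π (𝟙 (ModSite.freeOn O X))
  refine ⟨T, hT, fun Y g hg => ?_⟩
  obtain ⟨s', hs'⟩ := hl g hg
  rw [Category.comp_id] at hs'
  dsimp at hx
  rw [hσ, ← Category.assoc]
  unfold res
  rw [sig_precomp, ← hs', Category.assoc, hx, ← Category.assoc,
    sig_toCycles E (j - 1) j (by omega), zero_comp]

end Groth.Agent.H1.HjSite
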