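import Groth.Agent.Lib.Helper1.TruncCoh

/-!
Helper library (helper1): an object `P` of an abelian category with `Ext^k(P, F) = 0` for
`F ∈ PA`, `k > d`, has "cohomological dimension `≤ d`" on `D^+_{PA}`:
vanishing and bijectivity statements for `Hom(single_j P, -)`.
-/

set_option autoImplicit false
set_option linter.unusedSectionVars false

universe w v u

open CategoryTheory Category Limits Pretriangulated

namespace Groth.Agent.H1.SingleVanish

open Groth.Agent.H1.WayOut Groth.Agent.H1.WSerreTri Groth.Agent.H1.WayOutCoh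
  Groth.Agent.H1.TruncCoh DerivedCategory

variable {A : Type u} [Category.{v} A] [Abelian A] [HasDerivedCategory.{w} A]

/-- `P` has `Ext`-dimension `≤ d` with respect to the class `PA`, formulated in `D(A)` -/
def ExtVanish (P : A) (PA : ObjectProperty A) (d : ℕ) : Prop :=
  ∀ F : A, PA F → ∀ k : ℕ, d < k →
    ∀ τ : (singleFunctor A 0).obj P ⟶ ((singleFunctor A 0).obj F)⟦(k : ℤ)⟧, τ = 0

variable {P : A} {PA : ObjectProperty A} {d : ℕ}

lemma hom_single_single_eq_zero (h : ExtVanish P PA d) (F : A) (hF : PA F) (j b : ℤ)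
    (hjb : b + d < j) (σ : (singleFunctor A j).obj P ⟶ (singleFunctor A b).obj F) : σ = 0 := by
  obtain ⟨k, hk⟩ : ∃ k : ℕ, (k : ℤ) = j - b := ⟨(j - b).toNat, by omega⟩
  let i₁ := ((singleFunctors A).shiftIso j 0 j (add_zero j)).app P
  let i₂ := ((singleFunctors A).shiftIso j (-(k : ℤ)) b (by omega)).app F
  let i₃ := ((singleFunctors A).shiftIso (k : ℤ) (-(k : ℤ)) 0 (by omega)).app F
  have key := h F hF k (by omega) (i₁.inv ≫ σ⟦j⟧' ≫ i₂.hom ≫ i₃.inv)
  have h2 : σ⟦j⟧' = 0 := by
    have : σ⟦j⟧' = i₁.hom ≫ (i₁.inv ≫ σ⟦j⟧' ≫ i₂.hom ≫ i₃.inv) ≫ i₃.hom ≫ i₂.inv := by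
      simp
    rw [this, key, zero_comp, comp_zero]
  exact (shiftFunctor (DerivedCategory A) j).map_injective (by rw [h2, Functor.map_zero])

variable [WSerre.IsWeakSerre PA]

/-- Step A: vanishing on bounded objects with cohomology in `PA` -/
lemma hom_eq_zero_of_bounded (h : ExtVanish P PA d) :
    ∀ (n : ℕ) (b : ℤ) (N : DerivedCategory A), WSerre.cohIn PA N → N.IsGE (b - n + 1) →
      N.IsLE b → ∀ j : ℤ, b + d < j → ∀ σ : (singleFunctor A j).obj P ⟶ N, σ = 0 := by
  intro n
  induction n with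
  | zero =>
    intro b N _ hGE hLE j _ σ
    have : N.IsGE (b + 1) := by simpa using hGE
    exact (TStructure.t.isZero N b (b + 1)).eq_of_tgt _ _
  | succ n ih =>
    intro b N hN hGE hLE j hj σ
    let t : Triangulated.TStructure (DerivedCategory A) := TStructure.t
    let T := (t.triangleLEGE (b - 1) b (by omega)).obj N
    have hT : T ∈ distTriang _ := t.triangleLEGE_distinguished (b - 1) b (by omega) N
    have hGE' : N.IsGE (b - n) := by
      have e : b - ((n + 1 : ℕ) : ℤ) + 1 = b - n := by push_cast; ring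
      rwa [e] at hGE
    -- the third term is a single object
    have h3 : ∀ σ₃ : (singleFunctor A j).obj P ⟶ T.obj₃, σ₃ = 0 := by
      intro σ₃
      have g1 : T.obj₃.IsGE b := by
        change t.IsGE ((t.truncGE b).obj N) b
        infer_instance
      have g2 : T.obj₃.IsLE b := by
        change t.IsLE ((t.truncGE b).obj N) b
        infer_instance
      obtain ⟨Y, ⟨e⟩⟩ := exists_iso_singleFunctor_obj_of_isGE_of_isLE T.obj₃ b
      have hY : PA Y := by
        have h1 : PA ((homologyFunctor A b).obj T.obj₃) := cohIn_truncGE PA N hN b b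
        exact PA.prop_of_iso ((homologyFunctor A b).mapIso e ≪≫
          (singleFunctorCompHomologyFunctorIso A b).app Y) h1
      have := hom_single_single_eq_zero h Y hY j b hj (σ₃ ≫ e.hom)
      rw [← cancel_mono e.hom, this, zero_comp]
    -- the first term by induction
    have h1 : ∀ σ₁ : (singleFunctor A j).obj P ⟶ T.obj₁, σ₁ = 0 := by
      intro σ₁
      have g1 : T.obj₁.IsLE (b - 1) := by
        change t.IsLE ((t.truncLE (b - 1)).obj N) (b - 1)
        infer_instance
      have g2 : T.obj₁.IsGE (b - 1 - n + 1) := by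
        have e : b - 1 - (n : ℤ) + 1 = b - n := by ring
        rw [e]
        change t.IsGE ((t.truncLE (b - 1)).obj N) (b - n)
        infer_instance
      exact ih (b - 1) T.obj₁ (cohIn_truncLE PA N hN (b - 1)) g2 g1 j (by omega) σ₁
    obtain ⟨σ₁, hσ₁⟩ := Triangle.coyoneda_exact₂ T hT σ (h3 _)
    rw [hσ₁, h1 σ₁]
    exact zero_comp

/-- (B2): vanishing for bounded below objects of `D_{PA}` whose cohomology vanishes in the
window `[j - d - 1, j]` -/
lemma hom_eq_zero_of_window (h : ExtVanish P PA d) (M : DerivedCategory A)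
    (hM : WSerre.cohIn PA M) (a : ℤ) (hGE : M.IsGE a) (j : ℤ)
    (hw : ∀ i : ℤ, j - d - 1 ≤ i → i ≤ j → IsZero ((homologyFunctor A i).obj M))
    (σ : (singleFunctor A j).obj P ⟶ M) : σ = 0 := by
  let t : Triangulated.TStructure (DerivedCategory A) := TStructure.t
  let T := (t.triangleLEGE (j - d - 2) (j - d - 1) (by omega)).obj M
  have hT : T ∈ distTriang _ := t.triangleLEGE_distinguished (j - d - 2) (j - d - 1) (by omega) M
  have h3 : ∀ σ₃ : (singleFunctor A j).obj P ⟶ T.obj₃, σ₃ = 0 := by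
    intro σ₃
    have g1 : T.obj₃.IsGE (j + 1) := isGE_truncGE_of_window M (j - d - 1) j hw
    exact t.zero_of_isLE_of_isGE σ₃ j (j + 1) (by omega) inferInstance g1
  have h1 : ∀ σ₁ : (singleFunctor A j).obj P ⟶ T.obj₁, σ₁ = 0 := by
    intro σ₁
    have g1 : T.obj₁.IsLE (j - d - 2) := by
      change t.IsLE ((t.truncLE (j - d - 2)).obj M) (j - d - 2)
      infer_instance
    have g2 : T.obj₁.IsGE a := by
      change t.IsGE ((t.truncLE (j - d - 2)).obj M) a
      infer_instance
    have g3 : T.obj₁.IsGE (j - d - 2 - ((j - d - 2 - a + 1).toNat : ℤ) + 1) :=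
      t.isGE_of_ge T.obj₁ _ a (by omega)
    exact hom_eq_zero_of_bounded h (j - d - 2 - a + 1).toNat (j - d - 2) T.obj₁
      (cohIn_truncLE PA M hM (j - d - 2)) g3 g1 j (by omega) σ₁
  obtain ⟨σ₁, hσ₁⟩ := Triangle.coyoneda_exact₂ T hT σ (h3 _)
  rw [hσ₁, h1 σ₁]
  exact zero_comp

/-- the cone of a map which is an isomorphism on `H^i` for `i ∈ [a, b + 1]` has vanishing
cohomology in `[a, b]` -/
lemma isZero_homology_obj₃ (T : Triangle (DerivedCategory A)) (hT : T ∈ distTriang _) (i : ℤ)
    (h1 : Epi ((homologyFunctor A i).map T.mor₁))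
    (h2 : Mono ((homologyFunctor A (i + 1)).map T.mor₁)) :
    IsZero ((homologyFunctor A i).obj T.obj₃) := by
  refine (HomologySequence.exact₃ T hT i (i + 1) rfl).isZero_of_both_zeros ?_ ?_
  · dsimp
    rw [← cancel_epi ((homologyFunctor A i).map T.mor₁), comp_zero, ← Functor.map_comp,
      comp_distTriang_mor_zero₁₂ T hT, Functor.map_zero]
  · dsimp
    rw [← cancel_mono ((homologyFunctor A (i + 1)).map T.mor₁), zero_comp,
      HomologySequence.δ_comp T hT i (i + 1) rfl]

/-- (B3): maps in `D^+_{PA}` which are isomorphisms on `H^i` for `i ∈ [j - d - 2, j + 1]`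
induce bijections on `Hom(single_j P, -)` -/
lemma bijective_comp_of_window (h : ExtVanish P PA d) {M M' : DerivedCategory A} (φ : M ⟶ M')
    (hM : WSerre.cohIn PA M) (hM' : WSerre.cohIn PA M') (a : ℤ) (hGE : M.IsGE a)
    (hGE' : M'.IsGE a) (j : ℤ)
    (hw : ∀ i : ℤ, j - d - 2 ≤ i → i ≤ j + 1 → IsIso ((homologyFunctor A i).map φ)) :
    Function.Bijective (fun σ : (singleFunctor A j).obj P ⟶ M => σ ≫ φ) := by
  let t : Triangulated.TStructure (DerivedCategory A) := TStructure.t
  obtain ⟨C, g, δ, hT⟩ := distinguished_cocone_triangle φ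
  let T := Triangle.mk φ g δ
  have hrot := rot_of_distTriang T hT
  have hC : WSerre.cohIn PA C :=
    cohIn_obj₂ PA T.rotate hrot hM' (cohIn_shift PA 1 hM)
  have hCGE : C.IsGE (a - 1) := by
    have g1 : t.IsGE T.rotate.obj₁ (a - 1) := t.isGE_of_ge M' (a - 1) a (by omega)
    have g3 : t.IsGE T.rotate.obj₃ (a - 1) := t.isGE_shift M a 1 (a - 1) (by omega)
    exact t.isGE₂ T.rotate hrot (a - 1) g1 g3
  have hCw : ∀ i : ℤ, j - d - 2 ≤ i → i ≤ j → IsZero ((homologyFunctor A i).obj C) := by
    intro i h1 h2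
    have e1 : IsIso ((homologyFunctor A i).map T.mor₁) := hw i h1 (by omega)
    have e2 : IsIso ((homologyFunctor A (i + 1)).map T.mor₁) := hw (i + 1) (by omega) (by omega)
    exact isZero_homology_obj₃ T hT i inferInstance inferInstance
  constructor
  · intro σ σ' hσ
    dsimp only at hσ
    have h0 : (σ - σ') ≫ φ = 0 := by rw [Preadditive.sub_comp, hσ, sub_self]
    obtain ⟨ρ, hρ⟩ := Triangle.coyoneda_exact₂ T.invRotate (inv_rot_of_distTriang T hT)
      (σ - σ') h0
    have hρ0 : ρ = 0 := by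
      refine hom_eq_zero_of_window h (C⟦(-1 : ℤ)⟧) (cohIn_shift PA (-1) hC) a
        (t.isGE_shift C (a - 1) (-1) a (by omega)) j ?_ ρ
      intro i h1 h2
      exact (hCw (-1 + i) (by omega) (by omega)).of_iso
        (((homologyFunctor A 0).shiftIso (-1) i (-1 + i) rfl).app C)
    rw [hρ0, zero_comp] at hρ
    exact sub_eq_zero.1 hρ
  · intro σ'
    have h3 : σ' ≫ g = 0 :=
      hom_eq_zero_of_window h C hC (a - 1) hCGE j (fun i h1 h2 => hCw i (by omega) h2) _
    obtain ⟨σ, hσ⟩ := Triangle.coyoneda_exact₂ T hT σ' h3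
    exact ⟨σ, hσ.symm⟩

end Groth.Agent.H1.SingleVanish
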