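import Mathlib
import Groth.Prelude.Def_ModSite
import Groth.Prelude.Def_WeakSerre
import Groth.Agent.Lib.Helper1.ExtFreeOn
import Groth.Agent.Lib.Helper1.SingleVanish
import Groth.Agent.Lib.Helper1.HjSite
import Groth.Agent.Lib.Helper1.MilnorHom

/-!
Helper library (helper1): "good" objects of a ringed site (finite cohomological dimension on a
weak Serre class) and `Hom(single_j (freeOn W), R lim K_n)`.
-/

set_option autoImplicit false
set_option linter.unusedSectionVars false
universe w u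
open CategoryTheory CategoryTheory.Limits Opposite DerivedCategory Pretriangulated

namespace Groth.Agent.H1.GoodCd

open Groth.Agent.H1.FreeOnLoc Groth.Agent.H1.SingleHom Groth.Agent.H1.HjSite
  Groth.Agent.H1.SingleVanish Groth.Agent.H1.MilnorHom

variable {C : Type u} [SmallCategory C] {J : GrothendieckTopology C} (O : Sheaf J CommRingCat.{u})
  [HasDerivedCategory.{w} (ModSite.Mod O)]
  (A : ObjectProperty (ModSite.Mod O))

/-- `W` has cohomological dimension `≤ d` on the class `A` -/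
def GoodFor (d : ℕ) (W : C) : Prop :=
  ∀ F : ModSite.Mod O, A F → ∀ k : ℕ, d < k → Subsingleton (ModSite.HU O F k W)

variable {O A}

lemma extVanish_of_goodFor {d : ℕ} {W : C} (h : GoodFor O A d W) :
    ExtVanish (ModSite.freeOn O W) A d := by
  intro F hF k hk τ
  have := Groth.Agent.Lib.Helper21.ModGroth.isGrothendieckAbelian_mod (ModSite.ringSh O)
  obtain ⟨e⟩ := Groth.Agent.H1.ExtFreeOn.ext_freeOn_equiv_HU O W F k
  have hs : Subsingleton (Abelian.Ext.{u} (ModSite.freeOn O W) F k) := by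
    have := h F hF k hk
    exact e.toEquiv.subsingleton
  have h1 : (Abelian.Ext.homEquiv (X := ModSite.freeOn O W) (Y := F) (n := k)).symm τ = 0 :=
    Subsingleton.elim _ _
  have h2 := congrArg (Abelian.Ext.homEquiv (X := ModSite.freeOn O W) (Y := F) (n := k)) h1
  rw [Equiv.apply_symm_apply] at h2
  rw [h2]
  exact Abelian.Ext.zero_hom (X := ModSite.freeOn O W) (Y := F) (n := k)

omit [HasDerivedCategory.{w} (ModSite.Mod O)] in
lemma bijective_comp_of_iso {T : Type*} [Category T] {X' X'' M M' : T} (e : X' ≅ X'')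
    (φ : M ⟶ M') (h : Function.Bijective (fun σ : X'' ⟶ M => σ ≫ φ)) :
    Function.Bijective (fun σ : X' ⟶ M => σ ≫ φ) := by
  constructor
  · intro σ σ' hσ
    dsimp only at hσ
    have : e.inv ≫ σ = e.inv ≫ σ' := h.1 (by simp [hσ])
    exact (cancel_epi e.inv).1 this
  · intro x
    obtain ⟨σ, hσ⟩ := h.2 (e.inv ≫ x)
    refine ⟨e.hom ≫ σ, ?_⟩
    dsimp only at hσ ⊢
    rw [Category.assoc, hσ, Iso.hom_inv_id_assoc]

variable [WSerre.IsWeakSerre A]

/-- the key bijectivity: for a good object `W` and a tower in `D^+_A` whose transition maps are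
eventually isomorphisms on `H^i` for `i` in the window `[j - d - 3, j + 1]` -/
theorem bijective_comp_a_of_good {d : ℕ} {W : C} (hW : GoodFor O A d W)
    (K : ℕ → DerivedCategory (ModSite.Mod O)) (t : ∀ n, K (n + 1) ⟶ K n) [HasProduct K]
    (hK : ∀ n, WSerre.cohInPlus A (K n))
    (L : DerivedCategory (ModSite.Mod O)) (a : ∀ n, L ⟶ K n) (hL : CohCx.IsRlimVia K t L a)
    (j : ℤ) (n₁ : ℕ)
    (hn₁ : ∀ m, n₁ ≤ m → ∀ i : ℤ, j - d - 3 ≤ i → i ≤ j + 1 →
      IsIso ((homologyFunctor (ModSite.Mod O) i).map (t m)))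
    (n : ℕ) (hn : n₁ ≤ n) : Function.Bijective (fun σ : Xj O W j ⟶ L => σ ≫ a n) := by
  have hE := extVanish_of_goodFor hW
  have key : ∀ (j' : ℤ), j - 1 ≤ j' → j' ≤ j → ∀ m, n₁ ≤ m →
      Function.Bijective (fun σ : Xj O W j' ⟶ K (m + 1) => σ ≫ t m) := by
    intro j' h1 h2 m hm
    obtain ⟨h₁, ⟨a₁, ha₁⟩⟩ := hK (m + 1)
    obtain ⟨h₂, ⟨a₂, ha₂⟩⟩ := hK m
    have g1 : (K (m + 1)).IsGE (min a₁ a₂) := TStructure.t.isGE_of_ge _ _ a₁ (min_le_left _ _)
    have g2 : (K m).IsGE (min a₁ a₂) := TStructure.t.isGE_of_ge _ _ a₂ (min_le_right _ _)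
    exact bijective_comp_of_window hE (t m) h₁ h₂ (min a₁ a₂) g1 g2 j'
      (fun i hi1 hi2 => hn₁ m hm i (by omega) (by omega))
  refine bijective_comp_a (Xj O W j) hL n₁ (fun m hm => key j (by omega) le_rfl m hm)
    (fun m hm => ?_) n hn
  exact bijective_comp_of_iso
    (((singleFunctors (ModSite.Mod O)).shiftIso 1 (j - 1) j (by omega)).app (ModSite.freeOn O W))
    (t m) (key (j - 1) le_rfl (by omega) m hm)

end Groth.Agent.H1.GoodCd
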