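import Groth.Agent.Lib.Helper1.MilnorHom

/-!
Helper library (helper1): the two halves of the Milnor sequence for `CohCx.IsRlimVia`.
-/

set_option autoImplicit false
universe v u
open CategoryTheory CategoryTheory.Limits Pretriangulated

namespace Groth.Agent.H1.MilnorHom

variable {T : Type u} [Category.{v} T] [Preadditive T] [HasZeroObject T] [HasShift T ℤ]
  [∀ n : ℤ, (shiftFunctor T n).Additive] [Pretriangulated T]
  {K : ℕ → T} {t : ∀ n, K (n + 1) ⟶ K n} [HasProduct K] {L : T} {a : ∀ n, L ⟶ K n}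

/-- surjectivity of `Hom(X, L) → lim Hom(X, K n)` -/
theorem exists_of_compatible (hL : CohCx.IsRlimVia K t L a) (X : T)
    (y : ∀ n, X ⟶ K n) (hy : ∀ n, y (n + 1) ≫ t n = y n) :
    ∃ σ : X ⟶ L, ∀ n, σ ≫ a n = y n := by
  obtain ⟨c, hc⟩ := hL
  have h2 : Pi.lift y ≫ delta K t = 0 := by
    apply Pi.hom_ext
    intro m
    rw [Category.assoc, Pi.lift_π, Preadditive.comp_sub, Pi.lift_π, Pi.lift_π_assoc, zero_comp,
      hy m, sub_self]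
  obtain ⟨σ, hσ⟩ := Triangle.coyoneda_exact₂ (Triangle.mk (Pi.lift a) (delta K t) c) hc
    (Pi.lift y) h2
  change X ⟶ L at σ
  change Pi.lift y = σ ≫ Pi.lift a at hσ
  refine ⟨σ, fun n => ?_⟩
  have h3 : (Pi.lift y) ≫ Pi.π K n = (σ ≫ Pi.lift a) ≫ Pi.π K n := by rw [hσ]
  rw [Pi.lift_π, Category.assoc, Pi.lift_π] at h3
  exact h3.symm

/-- injectivity of `Hom(X, L) → lim Hom(X, K n)` when `R^1 lim Hom(X⟦1⟧, K n) = 0` -/
theorem eq_zero_of_limOne (hL : CohCx.IsRlimVia K t L a) (X : T)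
    (h1 : ∀ v : ∀ n, X⟦(1 : ℤ)⟧ ⟶ K n, ∃ w : ∀ n, X⟦(1 : ℤ)⟧ ⟶ K n,
      ∀ n, v n = w n - w (n + 1) ≫ t n)
    (σ : X ⟶ L) (hσ : ∀ n, σ ≫ a n = 0) : σ = 0 := by
  obtain ⟨c, hc⟩ := hL
  have hlift : σ ≫ Pi.lift a = 0 := by
    apply Pi.hom_ext
    intro m
    rw [Category.assoc, Pi.lift_π, zero_comp, hσ]
  have h2 : σ⟦(1 : ℤ)⟧' ≫ (Pi.lift a)⟦(1 : ℤ)⟧' = 0 := by
    rw [← Functor.map_comp, hlift, Functor.map_zero]
  obtain ⟨v, hv⟩ := Triangle.coyoneda_exact₁ (Triangle.mk (Pi.lift a) (delta K t) c) hc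
    (σ⟦(1 : ℤ)⟧') h2
  change X⟦(1 : ℤ)⟧ ⟶ ∏ᶜ K at v
  change σ⟦(1 : ℤ)⟧' = v ≫ c at hv
  obtain ⟨w, hw⟩ := h1 (fun m => v ≫ Pi.π K m)
  have hvw : v = Pi.lift w ≫ delta K t := by
    apply Pi.hom_ext
    intro m
    rw [Category.assoc, Pi.lift_π, Preadditive.comp_sub, Pi.lift_π, Pi.lift_π_assoc]
    exact hw m
  have h3 : delta K t ≫ c = 0 := comp_distTriang_mor_zero₂₃ _ hc
  rw [hvw, Category.assoc, h3, comp_zero] at hv
  exact (shiftFunctor T (1 : ℤ)).map_injective (by rw [hv, Functor.map_zero])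

end Groth.Agent.H1.MilnorHom
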