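import Groth.Agent.Lib.Helper1.HDUSections
import Groth.Agent.Lib.Helper1.MilnorHom2

/-!
Helper library (helper1): naturality of `rhoHom` in the complex; the shift equivalence
`Hom(X', M) ≃+ Hom(A, M⟦q⟧)` for `A ≅ X'⟦q⟧`.
-/

set_option autoImplicit false
set_option linter.unusedSectionVars false
universe w u
open CategoryTheory CategoryTheory.Limits Opposite DerivedCategory

namespace Groth.Agent.H1.HDUNat

open Groth.Agent.H1.LocProjGen Groth.Agent.Lib.helper7.FreeYoneda Groth.Agent.H1.SingleHom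
  Groth.Agent.H1.AbSheafRlim Groth.Agent.H1.HDUSections

section shift

variable {T : Type*} [Category T] [Preadditive T] [HasShift T ℤ]
  [∀ n : ℤ, (shiftFunctor T n).Additive]

/-- `Hom(X', M) ≃+ Hom(A, M⟦q⟧)` for `A ≅ X'⟦q⟧` -/
noncomputable def homShiftEquiv {A X' : T} {q : ℤ} (ε : A ≅ X'⟦q⟧) (M : T) :
    (X' ⟶ M) ≃+ (A ⟶ M⟦q⟧) where
  toFun σ := ε.hom ≫ σ⟦q⟧'
  invFun τ := (shiftFunctor T q).preimage (ε.inv ≫ τ)
  left_inv σ := by
    apply (shiftFunctor T q).map_injective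
    simp
  right_inv τ := by simp
  map_add' σ σ' := by
    simp only [Functor.map_add, Preadditive.comp_add]

lemma homShiftEquiv_comp {A X' : T} {q : ℤ} (ε : A ≅ X'⟦q⟧) {M M' : T} (σ : X' ⟶ M) (φ : M ⟶ M') :
    homShiftEquiv ε M' (σ ≫ φ) = homShiftEquiv ε M σ ≫ φ⟦q⟧' := by
  simp [homShiftEquiv]

end shift

variable {C : Type u} [SmallCategory C] {J : GrothendieckTopology C}
  [HasDerivedCategory.{w} (Sheaf J AddCommGrpCat.{u})]

lemma shIso_naturality {K K' : DerivedCategory (Sheaf J AddCommGrpCat.{u})} (φ : K ⟶ K') (q : ℤ) :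
    (homologyFunctor _ 0).map (φ⟦q⟧') ≫ (shIso K' q).hom =
      (shIso K q).hom ≫ (homologyFunctor _ q).map φ :=
  ((homologyFunctor (Sheaf J AddCommGrpCat.{u}) 0).shiftIso q 0 q (add_zero q)).hom.naturality φ

/-- naturality of `rhoHom` in the complex -/
lemma rhoHom_comp {K K' : DerivedCategory (Sheaf J AddCommGrpCat.{u})} (φ : K ⟶ K') (q : ℤ)
    (U : C) (σ : CohCx.HDU K q U) :
    rhoHom K' q U (σ ≫ φ⟦q⟧') =
      ((homologyFunctor _ q).map φ).hom.app (op U) (rhoHom K q U σ) := by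
  rw [rhoHom_apply, rhoHom_apply, ← homEquiv_naturality_right, rho_comp, Category.assoc,
    shIso_naturality, Category.assoc]

end Groth.Agent.H1.HDUNat
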