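import Groth.Agent.Lib.Helper1.SingleHom
import Groth.Agent.Lib.Helper1.WayOutCoh

/-!
Helper library (helper1): for `L ∈ D^{≥ j}`, `Hom(single_j P, L) ≃ Hom(P, H^j L)` via `rho`.
-/

set_option autoImplicit false
set_option linter.unusedSectionVars false
universe w v u
open CategoryTheory CategoryTheory.Limits DerivedCategory

namespace Groth.Agent.H1.RhoGE

open Groth.Agent.H1.SingleHom Groth.Agent.H1.WayOutCoh

variable {𝒜 : Type u} [Category.{v} 𝒜] [Abelian 𝒜] [HasDerivedCategory.{w} 𝒜]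

lemma rho_single (P A : 𝒜) (j : ℤ) (g : P ⟶ A) :
    rho ((singleFunctor 𝒜 j).map g) = g ≫ (singleFunctorCompHomologyFunctorIso 𝒜 j).inv.app A := by
  have := rho_precomp g (𝟙 ((singleFunctor 𝒜 j).obj A))
  rw [Category.comp_id] at this
  rw [this]
  congr 1
  simp [rho]

lemma rho_bijective_single (P A : 𝒜) (j : ℤ) :
    Function.Bijective (rho : ((singleFunctor 𝒜 j).obj P ⟶ (singleFunctor 𝒜 j).obj A) → _) := by
  constructor
  · intro σ σ' h
    obtain ⟨g, rfl⟩ := (singleFunctor 𝒜 j).map_surjective σ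
    obtain ⟨g', rfl⟩ := (singleFunctor 𝒜 j).map_surjective σ'
    rw [rho_single, rho_single] at h
    rw [(cancel_mono _).1 h]
  · intro s
    refine ⟨(singleFunctor 𝒜 j).map (s ≫ (singleFunctorCompHomologyFunctorIso 𝒜 j).hom.app A), ?_⟩
    rw [rho_single]
    simp

lemma rho_bijective_of_isIso {P : 𝒜} {j : ℤ} {M M' : DerivedCategory 𝒜} (φ : M ⟶ M')
    (h1 : Function.Bijective (fun σ : (singleFunctor 𝒜 j).obj P ⟶ M => σ ≫ φ))
    (h2 : IsIso ((homologyFunctor 𝒜 j).map φ))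
    (h : Function.Bijective (rho : ((singleFunctor 𝒜 j).obj P ⟶ M) → _)) :
    Function.Bijective (rho : ((singleFunctor 𝒜 j).obj P ⟶ M') → _) := by
  constructor
  · intro σ σ' hσ
    obtain ⟨τ, rfl⟩ := h1.2 σ
    obtain ⟨τ', rfl⟩ := h1.2 σ'
    dsimp only at hσ ⊢
    rw [rho_comp, rho_comp] at hσ
    rw [h.1 ((cancel_mono _).1 hσ)]
  · intro s
    obtain ⟨τ, hτ⟩ := h.2 (s ≫ inv ((homologyFunctor 𝒜 j).map φ))
    refine ⟨τ ≫ φ, ?_⟩
    rw [rho_comp, hτ]
    simp

/-- for `L ∈ D^{≥ j}`: `Hom(single_j P, L) ≃ Hom(P, H^j L)` -/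
theorem rho_bijective_of_isGE (P : 𝒜) (j : ℤ) (L : DerivedCategory 𝒜) [L.IsGE j] :
    Function.Bijective (rho : ((singleFunctor 𝒜 j).obj P ⟶ L) → _) := by
  let t : Triangulated.TStructure (DerivedCategory 𝒜) := TStructure.t
  let T := (t.truncLE j).obj L
  have g1 : t.IsLE T j := by
    change t.IsLE ((t.truncLE j).obj L) j
    infer_instance
  have g2 : t.IsGE T j := by
    change t.IsGE ((t.truncLE j).obj L) j
    infer_instance
  have g1' : T.IsLE j := g1
  have g2' : T.IsGE j := g2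
  obtain ⟨A, ⟨e⟩⟩ := exists_iso_singleFunctor_obj_of_isGE_of_isLE T j
  have hT : Function.Bijective (rho : ((singleFunctor 𝒜 j).obj P ⟶ T) → _) := by
    refine rho_bijective_of_isIso e.inv ?_ inferInstance (rho_bijective_single P A j)
    constructor
    · intro a b hab
      exact (cancel_mono _).1 hab
    · intro c
      exact ⟨c ≫ e.hom, by simp⟩
  refine rho_bijective_of_isIso ((t.truncLEι j).app L) ?_
    (isIso_homology_truncLEι L j j le_rfl) hT
  have gP : t.IsLE ((singleFunctor 𝒜 j).obj P) j :=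
    (inferInstance : ((singleFunctor 𝒜 j).obj P).IsLE j)
  constructor
  · intro a b hab
    exact t.to_truncLE_obj_ext hab
  · intro c
    exact ⟨t.liftTruncLE c j, t.liftTruncLE_ι c j⟩

end Groth.Agent.H1.RhoGE
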