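import Groth.Agent.Lib.Helper1.AbSheafRlim
import Groth.Agent.Lib.Helper1.RhoGE

/-!
Helper library (helper1): the natural additive map
`ρ : H^q(U, K) = Hom(single_0 ℤ_U, K⟦q⟧) ⟶ H^q(K)(U)` for abelian sheaves on a small site;
it is locally bijective.
-/

set_option autoImplicit false
set_option linter.unusedSectionVars false
universe w u
open CategoryTheory CategoryTheory.Limits Opposite DerivedCategory

namespace Groth.Agent.H1.HDUSections

open Groth.Agent.H1.LocProjGen Groth.Agent.Lib.helper7.FreeYoneda Groth.Agent.H1.SingleHom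
  Groth.Agent.H1.AbSheafRlim

variable {C : Type u} [SmallCategory C] {J : GrothendieckTopology C}
  [HasDerivedCategory.{w} (Sheaf J AddCommGrpCat.{u})]

/-- the generator of `ℤ_U` -/
noncomputable def gen (U : C) : ((freeSheaf J).obj U).obj.obj (op U) := homEquiv J U _ (𝟙 _)

lemma homEquiv_eq (U : C) (F : Sheaf J AddCommGrpCat.{u}) (b : (freeSheaf J).obj U ⟶ F) :
    homEquiv J U F b = b.hom.app (op U) (gen U) := by
  have := homEquiv_naturality_right J U b (𝟙 _)
  rw [Category.id_comp] at this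
  exact this

/-- `Hom(ℤ_U, F) ≃+ F(U)` -/
noncomputable def secAddEquiv (U : C) (F : Sheaf J AddCommGrpCat.{u}) :
    ((freeSheaf J).obj U ⟶ F) ≃+ F.obj.obj (op U) :=
  { homEquiv J U F with
    map_add' := fun b b' => by
      change homEquiv J U F (b + b') = homEquiv J U F b + homEquiv J U F b'
      rw [homEquiv_eq, homEquiv_eq, homEquiv_eq, Sheaf.Hom.add_app]
      rfl }

/-- `H^0(K⟦q⟧) ≅ H^q(K)` -/
noncomputable def shIso (K : DerivedCategory (Sheaf J AddCommGrpCat.{u})) (q : ℤ) :
    (homologyFunctor (Sheaf J AddCommGrpCat.{u}) 0).obj (K⟦q⟧) ≅ CohCx.HD K q :=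
  ((homologyFunctor (Sheaf J AddCommGrpCat.{u}) 0).shiftIso q 0 q (add_zero q)).app K

/-- `rho` as an additive map -/
noncomputable def rhoAdd {𝒜 : Type*} [Category 𝒜] [Abelian 𝒜] [HasDerivedCategory 𝒜] (P : 𝒜)
    (j : ℤ) (M : DerivedCategory 𝒜) :
    ((singleFunctor 𝒜 j).obj P ⟶ M) →+ (P ⟶ (homologyFunctor 𝒜 j).obj M) where
  toFun := rho
  map_zero' := rho_zero
  map_add' σ σ' := by
    simp only [rho, Functor.map_add, Preadditive.comp_add]

/-- the comparison map `H^q(U, K) → H^q(K)(U)` -/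
noncomputable def rhoHom (K : DerivedCategory (Sheaf J AddCommGrpCat.{u})) (q : ℤ) (U : C) :
    CohCx.HDU K q U →+ (CohCx.HD K q).obj.obj (op U) :=
  (secAddEquiv U (CohCx.HD K q)).toAddMonoidHom.comp
    ((Preadditive.rightComp _ (shIso K q).hom).comp
      (rhoAdd ((freeSheaf J).obj U) 0 (K⟦q⟧)))

lemma rhoHom_apply (K : DerivedCategory (Sheaf J AddCommGrpCat.{u})) (q : ℤ) (U : C)
    (σ : CohCx.HDU K q U) :
    rhoHom K q U σ = homEquiv J U _ (rho σ ≫ (shIso K q).hom) := rfl

lemma rhoHom_naturality (K : DerivedCategory (Sheaf J AddCommGrpCat.{u})) (q : ℤ) {U V : C}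
    (g : V ⟶ U) (σ : CohCx.HDU K q U) :
    rhoHom K q V (CohCx.HDUres K q g σ) = (CohCx.HD K q).obj.map g.op (rhoHom K q U σ) := by
  rw [rhoHom_apply, rhoHom_apply, ← homEquiv_naturality_left]
  congr 1
  rw [← Category.assoc]
  congr 1
  exact rho_precomp _ _

end Groth.Agent.H1.HDUSections

namespace Groth.Agent.H1.HDUSections

open Groth.Agent.H1.LocProjGen Groth.Agent.Lib.helper7.FreeYoneda Groth.Agent.H1.SingleHom
  Groth.Agent.H1.AbSheafRlim

variable {C : Type u} [SmallCategory C] {J : GrothendieckTopology C}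
  [HasDerivedCategory.{u} (Sheaf J AddCommGrpCat.{u})]

/-- the comparison map as a morphism of presheaves -/
noncomputable def rhoNat (K : DerivedCategory (Sheaf J AddCommGrpCat.{u})) (q : ℤ) :
    CohCx.HDUPresheaf K q ⟶ (CohCx.HD K q).obj where
  app U := AddCommGrpCat.ofHom (rhoHom K q U.unop)
  naturality U V g := by
    ext σ
    exact rhoHom_naturality K q g.unop σ

lemma rhoNat_app_apply (K : DerivedCategory (Sheaf J AddCommGrpCat.{u})) (q : ℤ) (U : Cᵒᵖ)
    (σ : CohCx.HDU K q U.unop) : (rhoNat K q).app U σ = rhoHom K q U.unop σ := rfl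

omit [HasDerivedCategory.{u} (Sheaf J AddCommGrpCat.{u})] in
lemma rhoHom_eq_zero_iff [HasDerivedCategory.{w} (Sheaf J AddCommGrpCat.{u})]
    (K : DerivedCategory (Sheaf J AddCommGrpCat.{u})) (q : ℤ) (U : C)
    (σ : CohCx.HDU K q U) : rhoHom K q U σ = 0 ↔ rho σ = 0 := by
  rw [rhoHom_apply]
  constructor
  · intro h
    have h0 : homEquiv J U _ (rho σ ≫ (shIso K q).hom) = homEquiv J U _ 0 := by
      rw [h]
      exact (map_zero (secAddEquiv U (CohCx.HD K q))).symm
    have := (homEquiv J U _).injective h0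
    rw [← cancel_mono (shIso K q).hom, this, zero_comp]
  · intro h
    rw [h, zero_comp]
    exact map_zero (secAddEquiv U (CohCx.HD K q))

instance isLocallySurjective_rhoNat (K : DerivedCategory (Sheaf J AddCommGrpCat.{u})) (q : ℤ) :
    Presheaf.IsLocallySurjective J (rhoNat K q) where
  imageSieve_mem {U} s := by
    let s' : (freeSheaf J).obj U ⟶ (homologyFunctor _ 0).obj (K⟦q⟧) :=
      (homEquiv J U (CohCx.HD K q)).symm s ≫ (shIso K q).inv
    obtain ⟨T, hT, hl⟩ := exists_local_rep (locProj_freeSheaf J) (K⟦q⟧) 0 s'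
    refine J.superset_covering ?_ hT
    intro Y g hg
    obtain ⟨σ, hσ⟩ := hl g hg
    refine ⟨σ, ?_⟩
    change rhoHom K q Y σ = _
    rw [rhoHom_apply, hσ]
    simp only [s', Category.assoc, Iso.inv_hom_id, Category.comp_id]
    rw [homEquiv_naturality_left, Equiv.apply_symm_apply]

instance isLocallyInjective_rhoNat (K : DerivedCategory (Sheaf J AddCommGrpCat.{u})) (q : ℤ) :
    Presheaf.IsLocallyInjective J (rhoNat K q) where
  equalizerSieve_mem {U} x y hxy := by
    obtain ⟨U⟩ := U
    change CohCx.HDU K q U at x y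
    have h0 : rhoHom K q U (x - y) = 0 := by
      rw [map_sub, sub_eq_zero]
      exact hxy
    rw [rhoHom_eq_zero_iff] at h0
    obtain ⟨T, hT, hl⟩ := exists_local_zero (locProj_freeSheaf J) (K⟦q⟧) 0 (x - y) h0
    refine J.superset_covering ?_ hT
    intro Y g hg
    have := hl g hg
    change (singleFunctor _ 0).map ((freeSheaf J).map g) ≫ x =
      (singleFunctor _ 0).map ((freeSheaf J).map g) ≫ y
    rw [← sub_eq_zero, ← Preadditive.comp_sub]
    exact this

end Groth.Agent.H1.HDUSections
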