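import Mathlib
import Groth.Agent.S2145

/-!
# Spreading out morphisms from the spectrum of a local ring: the finite presentation case (helper1)

Stacks 0BX6 without germ-injectivity, for targets locally of finite presentation:
an `S`-morphism `Spec 𝒪_{X,x} ⟶ Y` with `Y` locally of finite presentation over `S` extends to an
open neighbourhood of `x`.

* `exists_away_lift`: (algebra) a map from a finitely presented `R`-algebra to `T_p` lifts to some `T_b`.
* `exists_lift_of_finitePresentation`: the analogue of Mathlib's `exists_lift_of_germInjective`.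
* `spread_out_of_finitePresentation`, `spread_out_of_finitePresentation'`: analogues of
  `spread_out_of_isGermInjective`, `spread_out_of_isGermInjective'`.
-/

set_option autoImplicit false

namespace Groth.Agent.H1.SpreadOutFP

open CategoryTheory AlgebraicGeometry

universe u

theorem exists_away_lift {R T A L : Type u} [CommRing R] [CommRing T] [CommRing A] [CommRing L]
    [Algebra R T] [Algebra R A] [Algebra.FinitePresentation R A] (p : Ideal T) [p.IsPrime]
    [Algebra T L] [IsLocalization.AtPrime L p] [Algebra R L] [IsScalarTower R T L]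
    (φ : A →ₐ[R] L) :
    ∃ (b : T) (_ : b ∉ p) (φ' : A →ₐ[R] Localization.Away b),
      ∀ (j : Localization.Away b →ₐ[T] L) (a : A), j (φ' a) = φ a := by
  let ε : L ≃ₐ[T] Localization.AtPrime p := IsLocalization.algEquiv p.primeCompl L _
  let φ₁ : A →ₐ[R] Localization.AtPrime p := (ε.restrictScalars R).toAlgHom.comp φ
  obtain ⟨b, hb, φ', h⟩ := Groth.Agent.S2145.exists_lift R p φ₁
  refine ⟨b, hb, φ', fun j a => ?_⟩
  apply ε.injective
  have h1 : (ε.toAlgHom.comp j : Localization.Away b →ₐ[T] Localization.AtPrime p).toRingHom =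
      (Groth.Agent.S2145.ι R p b hb).toRingHom := by
    apply IsLocalization.ringHom_ext (Submonoid.powers b)
    ext t
    simp only [RingHom.comp_apply, AlgHom.toRingHom_eq_coe, RingHom.coe_coe, AlgHom.commutes]
    exact (Groth.Agent.S2145.ι_alg R p b hb t).symm
  have h2 := RingHom.congr_fun h1 (φ' a)
  exact h2.trans (h a)

variable {X Y S : Scheme.{u}} {R A : CommRingCat.{u}}

lemma exists_lift_of_finitePresentation {x : X} {U : X.Opens} (hU : IsAffineOpen U) (hxU : x ∈ U)
    (φ : A ⟶ X.presheaf.stalk x) (φRA : R ⟶ A) (φRX : R ⟶ Γ(X, U))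
    (hφRA : RingHom.FinitePresentation φRA.hom)
    (e : φRA ≫ φ = φRX ≫ X.presheaf.germ U x hxU) :
    ∃ (V : X.Opens) (hxV : x ∈ V) (φ' : A ⟶ Γ(X, V)) (i : V ≤ U), IsAffineOpen V ∧
      φ = φ' ≫ X.presheaf.germ V x hxV ∧ φRX ≫ X.presheaf.map i.hom.op = φRA ≫ φ' := by
  let _ : Algebra R A := φRA.hom.toAlgebra
  let _ : Algebra R Γ(X, U) := φRX.hom.toAlgebra
  let _ : Algebra Γ(X, U) (X.presheaf.stalk x) := (X.presheaf.germ U x hxU).hom.toAlgebra
  let _ : Algebra R (X.presheaf.stalk x) := (φRX ≫ X.presheaf.germ U x hxU).hom.toAlgebra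
  have : IsScalarTower R Γ(X, U) (X.presheaf.stalk x) := IsScalarTower.of_algebraMap_eq' rfl
  have : Algebra.FinitePresentation R A := hφRA
  let p : Ideal Γ(X, U) := (hU.primeIdealOf ⟨x, hxU⟩).asIdeal
  have : IsLocalization.AtPrime (X.presheaf.stalk x) p := hU.isLocalization_stalk ⟨x, hxU⟩
  let φa : A →ₐ[R] X.presheaf.stalk x :=
    { φ.hom with commutes' := DFunLike.congr_fun (congr_arg CommRingCat.Hom.hom e) }
  obtain ⟨b, hb, φ', hφ'⟩ := exists_away_lift (R := R) (T := Γ(X, U)) (A := A)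
    (L := X.presheaf.stalk x) p φa
  have hxV : x ∈ X.basicOpen b := by
    rw [X.mem_basicOpen b x hxU]
    exact (IsLocalization.AtPrime.isUnit_to_map_iff (X.presheaf.stalk x) p b).2 hb
  have hloc : IsLocalization.Away b Γ(X, X.basicOpen b) := hU.isLocalization_basicOpen b
  let eq : Localization.Away b ≃ₐ[Γ(X, U)] Γ(X, X.basicOpen b) :=
    IsLocalization.algEquiv (Submonoid.powers b) _ _
  let g : Γ(X, X.basicOpen b) →ₐ[Γ(X, U)] X.presheaf.stalk x :=
    { (X.presheaf.germ (X.basicOpen b) x hxV).hom with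
      commutes' := fun t => X.presheaf.germ_res_apply _ _ _ _ }
  let j : Localization.Away b →ₐ[Γ(X, U)] X.presheaf.stalk x := g.comp eq.toAlgHom
  refine ⟨X.basicOpen b, hxV, CommRingCat.ofHom (eq.toAlgHom.toRingHom.comp φ'.toRingHom),
    X.basicOpen_le b, hU.basicOpen b, ?_, ?_⟩
  · ext a
    exact (hφ' j a).symm
  · ext r
    change X.presheaf.map (homOfLE (X.basicOpen_le b)).op (φRX r) = eq (φ' (φRA r))
    have h1 : φ' (φRA r) = algebraMap R (Localization.Away b) r := φ'.commutes r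
    rw [h1, IsScalarTower.algebraMap_apply R Γ(X, U) (Localization.Away b), eq.commutes]
    rfl

variable (sX : X ⟶ S) (sY : Y ⟶ S)

set_option backward.isDefEq.respectTransparency.types false in
/-- Stacks 0BX6 for targets locally of finite presentation (no germ-injectivity needed). -/
lemma spread_out_of_finitePresentation [LocallyOfFinitePresentation sY] {x : X} {y : Y}
    (e : sX x = sY y) (φ : Y.presheaf.stalk y ⟶ X.presheaf.stalk x)
    (h : sY.stalkMap y ≫ φ =
      S.presheaf.stalkSpecializes (Inseparable.of_eq e).specializes ≫ sX.stalkMap x) :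
    ∃ (U : X.Opens) (hxU : x ∈ U) (f : U.toScheme ⟶ Y),
      Spec.map φ ≫ Y.fromSpecStalk y = U.fromSpecStalkOfMem x hxU ≫ f ∧
      f ≫ sY = U.ι ≫ sX := by
  obtain ⟨_, ⟨U, hU, rfl⟩, hxU, -⟩ :=
    S.isBasis_affineOpens.exists_subset_of_mem_open (Set.mem_univ (sX x)) isOpen_univ
  have hyU : sY y ∈ U := e ▸ hxU
  obtain ⟨_, ⟨V : Y.Opens, hV, rfl⟩, hyV, iVU⟩ :=
    Y.isBasis_affineOpens.exists_subset_of_mem_open hyU (sY ⁻¹ᵁ U).2
  obtain ⟨_, ⟨U' : X.Opens, hU', rfl⟩, hxU', iU'U⟩ :=
    X.isBasis_affineOpens.exists_subset_of_mem_open hxU (sX ⁻¹ᵁ U).2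
  have : sY.appLE U V iVU ≫ Y.presheaf.germ V y hyV ≫ φ =
      sX.appLE U U' iU'U ≫ X.presheaf.germ U' x hxU' := by
    rw [Scheme.Hom.appLE, Category.assoc, Y.presheaf.germ_res_assoc,
      ← Scheme.Hom.germ_stalkMap_assoc, h]
    simp [Scheme.Hom.appLE]
  obtain ⟨W, hxW, φ', i, hW, h₁, h₂⟩ :=
    exists_lift_of_finitePresentation (R := Γ(S, U)) (A := Γ(Y, V)) (U := U') (x := x) hU' hxU'
    (Y.presheaf.germ _ y hyV ≫ φ) (sY.appLE U V iVU) (sX.appLE U U' iU'U)
    (sY.finitePresentation_appLE hU hV _) this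
  refine ⟨W, hxW, W.toSpecΓ ≫ Spec.map φ' ≫ hV.fromSpec, ?_, ?_⟩
  · rw [W.fromSpecStalkOfMem_toSpecΓ_assoc x hxW, ← Spec.map_comp_assoc, ← h₁,
      Spec.map_comp, Category.assoc, ← IsAffineOpen.fromSpecStalk,
      IsAffineOpen.fromSpecStalk_eq_fromSpecStalk]
  · simp only [Category.assoc]
    rw [← IsAffineOpen.SpecMap_appLE_fromSpec sY hU hV iVU, ← Spec.map_comp_assoc, ← h₂,
      Scheme.Hom.appLE_map, ← hW.isoSpec_hom,
      IsAffineOpen.SpecMap_appLE_fromSpec sX hU hW (i.trans iU'U),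
      ← Iso.eq_inv_comp, IsAffineOpen.isoSpec_inv_ι_assoc]

set_option backward.isDefEq.respectTransparency.types false in
/-- An `S`-morphism `Spec 𝒪_{X,x} ⟶ Y` with `Y` locally of finite presentation over `S` extends to
an open neighbourhood of `x`. -/
lemma spread_out_of_finitePresentation' [LocallyOfFinitePresentation sY] {x : X}
    (φ : Spec (X.presheaf.stalk x) ⟶ Y)
    (h : φ ≫ sY = X.fromSpecStalk x ≫ sX) :
    ∃ (U : X.Opens) (hxU : x ∈ U) (f : U.toScheme ⟶ Y),
      φ = U.fromSpecStalkOfMem x hxU ≫ f ∧ f ≫ sY = U.ι ≫ sX := by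
  have := spread_out_of_finitePresentation sX sY ?_ (Scheme.stalkClosedPointTo φ) ?_
  · simpa only [Scheme.Spec_stalkClosedPointTo_fromSpecStalk] using this
  · rw [← Scheme.Hom.comp_apply, h, Scheme.Hom.comp_apply, Scheme.fromSpecStalk_closedPoint]
  · apply Spec.map_injective
    rw [← cancel_mono (S.fromSpecStalk _)]
    simpa only [Spec.map_comp, Category.assoc, Scheme.SpecMap_stalkMap_fromSpecStalk,
      Scheme.Spec_stalkClosedPointTo_fromSpecStalk_assoc,
      Scheme.SpecMap_stalkSpecializes_fromSpecStalk]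

end Groth.Agent.H1.SpreadOutFP
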