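import Mathlib
import Groth.Agent.Lib.Helper1.SpreadOutFP
import Groth.Agent.Lib.Helper5.HensSection

/-!
# Zariski-local sections of etale morphisms at points with strictly henselian local ring (helper1)
-/

set_option autoImplicit false

namespace Groth.Agent.H1.HensLocalSection

open CategoryTheory CategoryTheory.Limits AlgebraicGeometry

universe u

theorem isIso_residueFieldMap {W U : Scheme.{u}} (f : W ⟶ U) [Etale f] (w : W)
    [IsSepClosed (IsLocalRing.ResidueField (U.presheaf.stalk (f w)))] :
    IsIso (f.residueFieldMap w) := by
  let _ : Algebra (U.residueField (f w)) (W.residueField w) := (f.residueFieldMap w).hom.toAlgebra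
  have hsep : Algebra.IsSeparable (U.residueField (f w)) (W.residueField w) := inferInstance
  have hsc : IsSepClosed (U.residueField (f w)) :=
    inferInstanceAs (IsSepClosed (IsLocalRing.ResidueField (U.presheaf.stalk (f w))))
  have hsurj : Function.Surjective (f.residueFieldMap w).hom :=
    IsSepClosed.algebraMap_surjective (U.residueField (f w)) (W.residueField w)
  have hinj : Function.Injective (f.residueFieldMap w).hom := (f.residueFieldMap w).hom.injective
  exact (ConcreteCategory.isIso_iff_bijective (f.residueFieldMap w)).2 ⟨hinj, hsurj⟩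

/-- An etale morphism has a Zariski-local section through any point whose image has a strictly
henselian local ring. -/
theorem exists_local_section {W U : Scheme.{u}} (f : W ⟶ U) [Etale f] (w : W)
    [HenselianLocalRing (U.presheaf.stalk (f w))]
    [IsSepClosed (IsLocalRing.ResidueField (U.presheaf.stalk (f w)))] :
    ∃ (V : U.Opens) (_ : f w ∈ V) (s : V.toScheme ⟶ W), s ≫ f = V.ι := by
  have hiso : IsIso (f.residueFieldMap w) := isIso_residueFieldMap f w
  let y₁ : Spec (U.residueField (f w)) ⟶ W :=
    Spec.map (inv (f.residueFieldMap w)) ≫ W.fromSpecResidueField w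
  have hy₁ : y₁ ≫ f = Spec.map (U.residue (f w)) ≫ U.fromSpecStalk (f w) := by
    change (Spec.map (inv (f.residueFieldMap w)) ≫ W.fromSpecResidueField w) ≫ f = _
    rw [Category.assoc, ← Scheme.Hom.SpecMap_residueFieldMap_fromSpecResidueField,
      ← Spec.map_comp_assoc, IsIso.hom_inv_id, Spec.map_id, Category.id_comp]
    rfl
  let y : Spec (U.residueField (f w)) ⟶ pullback f (U.fromSpecStalk (f w)) :=
    pullback.lift y₁ (Spec.map (U.residue (f w))) hy₁
  have hy : y ≫ pullback.snd f (U.fromSpecStalk (f w)) = Spec.map (U.residue (f w)) :=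
    pullback.lift_snd _ _ _
  have hE : Etale (pullback.snd f (U.fromSpecStalk (f w))) := inferInstance
  obtain ⟨σ, hσ1, -⟩ := @Groth.Agent.Lib.helper5.HensSection.exists_section_of_etale
    (U.presheaf.stalk (f w)) _ ‹_› (pullback f (U.fromSpecStalk (f w)))
    (pullback.snd f (U.fromSpecStalk (f w))) hE y hy
  obtain ⟨V, hxV, s, -, hs2⟩ := Groth.Agent.H1.SpreadOutFP.spread_out_of_finitePresentation'
    (𝟙 U) f (x := f w) (σ ≫ pullback.fst f (U.fromSpecStalk (f w))) (by
      rw [Category.assoc, pullback.condition, ← Category.assoc]
      erw [hσ1]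
      exact (Category.id_comp _).trans (Category.comp_id _).symm)
  exact ⟨V, hxV, s, by simpa using hs2⟩

end Groth.Agent.H1.HensLocalSection
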