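import Mathlib

/-!
# Local contractibility of simplicial presheaves with local filling conditions (helper1)
-/

set_option autoImplicit false
universe u

namespace Groth.Agent.H1.HyperCone

open CategoryTheory CategoryTheory.Limits Opposite

variable {C : Type u} [SmallCategory C] (J : GrothendieckTopology C)
  (Y : SimplicialObject (Cᵒᵖ ⥤ Type u))

/-- Sections of `Y_m` over `U`. -/
abbrev Sec (m : ℕ) (U : C) : Type u := (Y.obj (op (SimplexCategory.mk m))).obj (op U)

/-- Restriction of sections. -/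
abbrev res {m : ℕ} {U V : C} (g : V ⟶ U) (y : Sec Y m U) : Sec Y m V :=
  (Y.obj (op (SimplexCategory.mk m))).map g.op y

/-- Faces of sections. -/
abbrev face {m : ℕ} {U : C} (i : Fin (m + 2)) (y : Sec Y (m + 1) U) : Sec Y m U :=
  (Y.δ i).app (op U) y

variable {Y}

lemma res_res {m : ℕ} {U V W : C} (g : V ⟶ U) (h : W ⟶ V) (y : Sec Y m U) :
    res Y h (res Y g y) = res Y (h ≫ g) y := by
  simp [res]

lemma face_res {m : ℕ} {U V : C} (g : V ⟶ U) (i : Fin (m + 2)) (y : Sec Y (m + 1) U) :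
    face Y i (res Y g y) = res Y g (face Y i y) :=
  ConcreteCategory.congr_hom ((Y.δ i).naturality g.op) y

lemma face_face {m : ℕ} {U : C} {i j : Fin (m + 2)} (hij : i ≤ j) (y : Sec Y (m + 2) U) :
    face Y i (face Y j.succ y) = face Y j (face Y i.castSucc y) := by
  have h := ConcreteCategory.congr_hom (NatTrans.congr_app (Y.δ_comp_δ hij) (op U)) y
  simpa using h

variable (Y)

/-- The sieve of arrows over which `Y_0` has a section. -/
def vertexSieve (V : C) : Sieve V where
  arrows W _ := Nonempty (Sec Y 0 W)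
  downward_closed := by
    rintro W W' g ⟨v⟩ h
    exact ⟨res Y h v⟩

/-- The sieve of arrows over which the sphere with faces `y` has a filler. -/
def fillS (m : ℕ) {V : C} (y : Fin (m + 2) → Sec Y m V) : Sieve V where
  arrows W g := ∃ t : Sec Y (m + 1) W, ∀ i, face Y i t = res Y g (y i)
  downward_closed := by
    rintro W W' g ⟨t, ht⟩ h
    refine ⟨res Y h t, fun i => ?_⟩
    rw [face_res, ht i, res_res]

/-- Compatibility of the faces of a sphere. -/
def Compat (N : ℕ) {V : C} (y : Fin (N + 3) → Sec Y (N + 1) V) : Prop :=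
  ∀ i j : Fin (N + 2), i ≤ j → face Y i (y j.succ) = face Y j (y i.castSucc)

/-- A simplicial presheaf which locally has the right lifting property against all boundary
inclusions. -/
structure LocalKan : Prop where
  vertex : ∀ V : C, vertexSieve Y V ∈ J V
  fill0 : ∀ (V : C) (y : Fin 2 → Sec Y 0 V), fillS Y 0 y ∈ J V
  fill : ∀ (N : ℕ) (V : C) (y : Fin (N + 3) → Sec Y (N + 1) V), Compat Y N y →
    fillS Y (N + 1) y ∈ J V

section Inter

variable {J}

/-- Finite intersections of sieves. -/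
def interS {V : C} {α : Type*} (F : Set α) (S : α → Sieve V) : Sieve V where
  arrows W g := ∀ a ∈ F, S a g
  downward_closed := by
    intro W W' g hg h a ha
    exact (S a).downward_closed (hg a ha) h

lemma interS_mem {V : C} {α : Type*} (F : Set α) (hF : F.Finite) (S : α → Sieve V)
    (hS : ∀ a ∈ F, S a ∈ J V) : interS F S ∈ J V := by
  induction F, hF using Set.Finite.induction_on with
  | empty =>
    refine J.superset_covering ?_ (J.top_mem V)
    intro W g _ a ha
    exact ha.elim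
  | @insert a F _ _ ih =>
    have h1 : S a ∈ J V := hS a (Set.mem_insert a F)
    have h2 : interS F S ∈ J V := ih (fun b hb => hS b (Set.mem_insert_of_mem a hb))
    refine J.superset_covering ?_ (J.intersection_covering h1 h2)
    rintro W g ⟨hg1, hg2⟩ b hb
    rcases Set.mem_insert_iff.1 hb with rfl | hb'
    · exact hg1
    · exact hg2 b hb'

end Inter

section Ext

variable {J Y}

/-- The faces of the cone over `y` built from `hm`. -/
def coneFaces {U V : C} (g : V ⟶ U) (m : ℕ) (hm : Sec Y m U → Sec Y (m + 1) V)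
    (y : Sec Y (m + 1) U) : Fin (m + 3) → Sec Y (m + 1) V :=
  Fin.cases (res Y g y) (fun i => hm (face Y i y))

/-- The sieve over which the cone extends one level up on `F`. -/
def extSieve {U V : C} (g : V ⟶ U) (m : ℕ) (F : Set (Sec Y (m + 1) U))
    (hm : Sec Y m U → Sec Y (m + 1) V) : Sieve V where
  arrows W g' := ∃ hm1 : Sec Y (m + 1) U → Sec Y (m + 2) W, ∀ y ∈ F,
    face Y 0 (hm1 y) = res Y (g' ≫ g) y ∧
      ∀ i : Fin (m + 2), face Y i.succ (hm1 y) = res Y g' (hm (face Y i y))
  downward_closed := by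
    rintro W W' g' ⟨hm1, h⟩ k
    refine ⟨fun y => res Y k (hm1 y), fun y hy => ⟨?_, fun i => ?_⟩⟩
    · rw [face_res, (h y hy).1, res_res, Category.assoc]
    · rw [face_res, (h y hy).2 i, res_res]

lemma extSieve_mem (hK : LocalKan J Y) {U V : C} (g : V ⟶ U) (m : ℕ)
    (F : Set (Sec Y (m + 1) U)) (hF : F.Finite) (hm : Sec Y m U → Sec Y (m + 1) V)
    (hcompat : ∀ y ∈ F, Compat Y m (coneFaces g m hm y)) :
    extSieve g m F hm ∈ J V := by
  have h1 := interS_mem (J := J) F hF (fun y => fillS Y (m + 1) (coneFaces g m hm y))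
    (fun y hy => hK.fill m V _ (hcompat y hy))
  refine J.superset_covering ?_ h1
  intro W g' hg'
  classical
  choose t ht using hg'
  refine ⟨fun y => if hy : y ∈ F then t y hy else
    (Y.σ (0 : Fin (m + 2))).app (op W) (res Y (g' ≫ g) y), fun y hy => ⟨?_, fun i => ?_⟩⟩
  · simp only [dif_pos hy]
    have := ht y hy 0
    rw [this, coneFaces, Fin.cases_zero, res_res]
  · simp only [dif_pos hy]
    have := ht y hy i.succ
    rw [this, coneFaces, Fin.cases_succ]

end Ext

section Cone

variable {J Y}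

/-- Cones of height zero. -/
def cone0Sieve {U : C} (T0 : Set (Sec Y 0 U)) : Sieve U where
  arrows V g := ∃ (v : Sec Y 0 V) (h0 : Sec Y 0 U → Sec Y 1 V), ∀ y ∈ T0,
    face Y 0 (h0 y) = res Y g y ∧ face Y 1 (h0 y) = v
  downward_closed := by
    rintro V V' g ⟨v, h0, h⟩ k
    refine ⟨res Y k v, fun y => res Y k (h0 y), fun y hy => ⟨?_, ?_⟩⟩
    · rw [face_res, (h y hy).1, res_res]
    · rw [face_res, (h y hy).2]

lemma cone0Sieve_mem (hK : LocalKan J Y) {U : C} (T0 : Set (Sec Y 0 U)) (hT0 : T0.Finite) :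
    cone0Sieve T0 ∈ J U := by
  refine J.transitive (hK.vertex U) _ ?_
  rintro V g ⟨v⟩
  have h1 := interS_mem (J := J) T0 hT0
    (fun y => fillS Y 0 (Fin.cases (res Y g y) (fun _ => v) : Fin 2 → Sec Y 0 V))
    (fun y _ => hK.fill0 V _)
  refine J.superset_covering ?_ h1
  intro W g' hg'
  classical
  choose e he using hg'
  refine ⟨res Y g' v, fun y => if hy : y ∈ T0 then e y hy else
    (Y.σ (0 : Fin 1)).app (op W) (res Y (g' ≫ g) y), fun y hy => ⟨?_, ?_⟩⟩
  · simp only [dif_pos hy]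
    have := he y hy 0
    rw [this]
    exact res_res g g' y
  · simp only [dif_pos hy]
    have := he y hy 1
    rw [this]
    rfl

/-- Cones of height `k + 1` (only the two top levels are recorded). -/
def coneSieve {U : C} (k : ℕ) (T : Set (Sec Y (k + 1) U)) : Sieve U where
  arrows V g := ∃ (hk : Sec Y k U → Sec Y (k + 1) V) (hk1 : Sec Y (k + 1) U → Sec Y (k + 2) V),
    ∀ y ∈ T, face Y 0 (hk1 y) = res Y g y ∧
      ∀ i : Fin (k + 2), face Y i.succ (hk1 y) = hk (face Y i y)
  downward_closed := by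
    rintro V V' g ⟨hk, hk1, h⟩ l
    refine ⟨fun y => res Y l (hk y), fun y => res Y l (hk1 y), fun y hy => ⟨?_, fun i => ?_⟩⟩
    · rw [face_res, (h y hy).1, res_res]
    · rw [face_res, (h y hy).2 i]

lemma pullback_coneSieve_of_ext {U V : C} (g : V ⟶ U) (k : ℕ) (T : Set (Sec Y (k + 1) U))
    (hk : Sec Y k U → Sec Y (k + 1) V) :
    extSieve g k T hk ≤ (coneSieve k T).pullback g := by
  rintro W g' ⟨hk1, h⟩
  exact ⟨fun y => res Y g' (hk y), hk1, fun y hy => ⟨(h y hy).1, fun i => (h y hy).2 i⟩⟩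

/-- A family of finite, face-closed sets of sections. -/
structure FaceClosed {U : C} (T : (m : ℕ) → Set (Sec Y m U)) : Prop where
  finite : ∀ m, (T m).Finite
  face_mem : ∀ (m : ℕ) (y : Sec Y (m + 1) U), y ∈ T (m + 1) → ∀ i, face Y i y ∈ T m

lemma coneSieve_mem (hK : LocalKan J Y) {U : C} (T : (m : ℕ) → Set (Sec Y m U))
    (hT : FaceClosed T) (k : ℕ) : coneSieve k (T (k + 1)) ∈ J U := by
  induction k with
  | zero =>
    refine J.transitive (cone0Sieve_mem hK (T 0) (hT.finite 0)) _ ?_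
    rintro V g ⟨v, h0, h⟩
    refine J.superset_covering (pullback_coneSieve_of_ext g 0 (T 1) h0) ?_
    refine extSieve_mem hK g 0 (T 1) (hT.finite 1) h0 ?_
    intro y hy i j hij
    have hf : ∀ i, face Y i y ∈ T 0 := hT.face_mem 0 y hy
    cases i using Fin.cases with
    | zero =>
      change face Y 0 (h0 (face Y j y)) = face Y j (res Y g y)
      rw [(h _ (hf j)).1, face_res]
    | succ i' =>
      cases j using Fin.cases with
      | zero => exact absurd hij (by simp)
      | succ j' =>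
        change face Y (Fin.succ i') (h0 (face Y j'.succ y)) =
          face Y (Fin.succ j') (h0 (face Y i'.castSucc y))
        have e1 : Fin.succ i' = (1 : Fin 2) := by
          apply Fin.ext; have := i'.isLt; simp
        have e2 : Fin.succ j' = (1 : Fin 2) := by
          apply Fin.ext; have := j'.isLt; simp
        rw [e1, e2, (h _ (hf _)).2, (h _ (hf _)).2]
  | succ k ih =>
    refine J.transitive ih _ ?_
    rintro V g ⟨hk, hk1, h⟩
    refine J.superset_covering (pullback_coneSieve_of_ext g (k + 1) (T (k + 2)) hk1) ?_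
    refine extSieve_mem hK g (k + 1) (T (k + 2)) (hT.finite (k + 2)) hk1 ?_
    intro y hy i j hij
    have hf : ∀ i, face Y i y ∈ T (k + 1) := hT.face_mem (k + 1) y hy
    cases i using Fin.cases with
    | zero =>
      change face Y 0 (hk1 (face Y j y)) = face Y j (res Y g y)
      rw [(h _ (hf j)).1, face_res]
    | succ i' =>
      cases j using Fin.cases with
      | zero => exact absurd hij (by simp)
      | succ j' =>
        have hij' : i' ≤ j' := Fin.succ_le_succ_iff.1 hij
        change face Y i'.succ (hk1 (face Y j'.succ y)) =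
          face Y j'.succ (hk1 (face Y i'.castSucc y))
        rw [(h _ (hf _)).2, (h _ (hf _)).2, face_face hij']

end Cone

section Chains

/-- The simplicial presheaf of free abelian groups on `Y`. -/
noncomputable abbrev freePsh : SimplicialObject (Cᵒᵖ ⥤ AddCommGrpCat.{u}) :=
  Y ⋙ (Functor.whiskeringRight Cᵒᵖ (Type u) AddCommGrpCat.{u}).obj AddCommGrpCat.free.{u}

/-- The chain complex of presheaves `ℤ[Y]`. -/
noncomputable abbrev freeCx : ChainComplex (Cᵒᵖ ⥤ AddCommGrpCat.{u}) ℕ :=
  (AlgebraicTopology.alternatingFaceMapComplex _).obj (freePsh Y)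

lemma hom_sum_apply {M N : AddCommGrpCat.{u}} {α : Type*} (s : Finset α) (f : α → (M ⟶ N))
    (x : M) : (∑ a ∈ s, f a) x = ∑ a ∈ s, f a x := by
  classical
  induction s using Finset.induction_on with
  | empty => simp
  | insert a s ha ih =>
    rw [Finset.sum_insert ha, Finset.sum_insert ha, ← ih]
    rfl

lemma hom_zsmul_apply {M N : AddCommGrpCat.{u}} (c : ℤ) (f : M ⟶ N) (x : M) :
    (c • f) x = c • f x := rfl

lemma freeCx_d_apply (m : ℕ) (U : C) (z : FreeAbelianGroup (Sec Y (m + 1) U)) :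
    (((freeCx Y).d (m + 1) m).app (op U) : _ ⟶ _) z =
      ∑ i : Fin (m + 2), (-1 : ℤ) ^ (i : ℕ) • FreeAbelianGroup.map (face Y i) z := by
  have h : (freeCx Y).d (m + 1) m =
      ∑ i : Fin (m + 2), (-1 : ℤ) ^ (i : ℕ) • (freePsh Y).δ i :=
    AlgebraicTopology.AlternatingFaceMapComplex.obj_d_eq _ m
  rw [h, NatTrans.app_sum, hom_sum_apply]
  refine Finset.sum_congr rfl fun i _ => ?_
  rw [NatTrans.app_zsmul, hom_zsmul_apply]
  rfl

lemma freeCx_res_apply (m : ℕ) {U V : C} (g : V ⟶ U) (z : FreeAbelianGroup (Sec Y m U)) :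
    (((freeCx Y).X m).map g.op : _ ⟶ _) z = FreeAbelianGroup.map (res Y g) z := rfl

/-- The differential on sections, as a homomorphism of free abelian groups. -/
noncomputable def dHom (m : ℕ) (U : C) :
    FreeAbelianGroup (Sec Y (m + 1) U) →+ FreeAbelianGroup (Sec Y m U) :=
  ∑ i : Fin (m + 2), (-1 : ℤ) ^ (i : ℕ) • FreeAbelianGroup.map (face Y i)

lemma dHom_apply (m : ℕ) (U : C) (z : FreeAbelianGroup (Sec Y (m + 1) U)) :
    dHom Y m U z = ∑ i : Fin (m + 2), (-1 : ℤ) ^ (i : ℕ) • FreeAbelianGroup.map (face Y i) z := by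
  simp [dHom]

lemma freeCx_d_apply' (m : ℕ) (U : C) (z : FreeAbelianGroup (Sec Y (m + 1) U)) :
    (((freeCx Y).d (m + 1) m).app (op U) : _ ⟶ _) z = dHom Y m U z := by
  rw [freeCx_d_apply, dHom_apply]

lemma exists_finite_closure {α : Type u} (z : FreeAbelianGroup α) :
    ∃ T : Set α, T.Finite ∧ z ∈ AddSubgroup.closure (FreeAbelianGroup.of '' T) := by
  induction z using FreeAbelianGroup.induction_on with
  | zero => exact ⟨∅, Set.finite_empty, zero_mem _⟩
  | of x =>
    exact ⟨{x}, Set.finite_singleton x, AddSubgroup.subset_closure ⟨x, rfl, rfl⟩⟩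
  | neg x _ =>
    exact ⟨{x}, Set.finite_singleton x,
      neg_mem (AddSubgroup.subset_closure ⟨x, rfl, rfl⟩)⟩
  | add x y hx hy =>
    obtain ⟨T₁, h₁, hx⟩ := hx
    obtain ⟨T₂, h₂, hy⟩ := hy
    refine ⟨T₁ ∪ T₂, h₁.union h₂, add_mem ?_ ?_⟩
    · exact AddSubgroup.closure_mono (Set.image_mono Set.subset_union_left) hx
    · exact AddSubgroup.closure_mono (Set.image_mono Set.subset_union_right) hy

variable {Y}

/-- The chain homotopy identity for a cone, in positive degrees. -/
lemma cone_homotopy {U V : C} (g : V ⟶ U) (k : ℕ) (T : Set (Sec Y (k + 1) U))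
    (hk : Sec Y k U → Sec Y (k + 1) V) (hk1 : Sec Y (k + 1) U → Sec Y (k + 2) V)
    (h : ∀ y ∈ T, face Y 0 (hk1 y) = res Y g y ∧
      ∀ i : Fin (k + 2), face Y i.succ (hk1 y) = hk (face Y i y))
    (z : FreeAbelianGroup (Sec Y (k + 1) U))
    (hz : z ∈ AddSubgroup.closure (FreeAbelianGroup.of '' T)) :
    dHom Y (k + 1) V (FreeAbelianGroup.map hk1 z) =
      FreeAbelianGroup.map (res Y g) z - FreeAbelianGroup.map hk (dHom Y k U z) := by
  let L : FreeAbelianGroup (Sec Y (k + 1) U) →+ FreeAbelianGroup (Sec Y (k + 1) V) :=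
    (dHom Y (k + 1) V).comp (FreeAbelianGroup.map hk1)
  let R : FreeAbelianGroup (Sec Y (k + 1) U) →+ FreeAbelianGroup (Sec Y (k + 1) V) :=
    FreeAbelianGroup.map (res Y g) - (FreeAbelianGroup.map hk).comp (dHom Y k U)
  have hLR : Set.EqOn L R (AddSubgroup.closure (FreeAbelianGroup.of '' T)) := by
    apply AddMonoidHom.eqOn_closure
    rintro _ ⟨y, hy, rfl⟩
    obtain ⟨h0, hs⟩ := h y hy
    change dHom Y (k + 1) V (FreeAbelianGroup.map hk1 (FreeAbelianGroup.of y)) =
      FreeAbelianGroup.map (res Y g) (FreeAbelianGroup.of y) -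
        FreeAbelianGroup.map hk (dHom Y k U (FreeAbelianGroup.of y))
    rw [dHom_apply, dHom_apply, Fin.sum_univ_succ, map_sum]
    simp only [FreeAbelianGroup.map_of_apply, map_zsmul, Fin.val_zero, pow_zero, one_smul,
      Fin.val_succ, pow_succ, h0, hs]
    simp only [mul_neg, mul_one, neg_smul, Finset.sum_neg_distrib]
    abel
  exact hLR hz

/-- The augmentation on sections. -/
noncomputable def epsHom (U : C) : FreeAbelianGroup (Sec Y 0 U) →+ ℤ :=
  FreeAbelianGroup.lift (fun _ => (1 : ℤ))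

/-- The chain homotopy identity for a cone of height zero. -/
lemma cone0_homotopy {U V : C} (g : V ⟶ U) (T : Set (Sec Y 0 U)) (v : Sec Y 0 V)
    (h0 : Sec Y 0 U → Sec Y 1 V)
    (h : ∀ y ∈ T, face Y 0 (h0 y) = res Y g y ∧ face Y 1 (h0 y) = v)
    (z : FreeAbelianGroup (Sec Y 0 U))
    (hz : z ∈ AddSubgroup.closure (FreeAbelianGroup.of '' T)) :
    dHom Y 0 V (FreeAbelianGroup.map h0 z) =
      FreeAbelianGroup.map (res Y g) z - epsHom (Y := Y) U z • FreeAbelianGroup.of v := by
  let L : FreeAbelianGroup (Sec Y 0 U) →+ FreeAbelianGroup (Sec Y 0 V) :=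
    (dHom Y 0 V).comp (FreeAbelianGroup.map h0)
  let R : FreeAbelianGroup (Sec Y 0 U) →+ FreeAbelianGroup (Sec Y 0 V) :=
    FreeAbelianGroup.map (res Y g) -
      ((zmultiplesHom _ (FreeAbelianGroup.of v)).comp (epsHom (Y := Y) U))
  have hLR : Set.EqOn L R (AddSubgroup.closure (FreeAbelianGroup.of '' T)) := by
    apply AddMonoidHom.eqOn_closure
    rintro _ ⟨y, hy, rfl⟩
    obtain ⟨h0', h1'⟩ := h y hy
    change dHom Y 0 V (FreeAbelianGroup.map h0 (FreeAbelianGroup.of y)) =
      FreeAbelianGroup.map (res Y g) (FreeAbelianGroup.of y) -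
        epsHom (Y := Y) U (FreeAbelianGroup.of y) • FreeAbelianGroup.of v
    rw [dHom_apply, Fin.sum_univ_two]
    simp only [FreeAbelianGroup.map_of_apply, epsHom, FreeAbelianGroup.lift_apply_of, h0', h1']
    simp
    abel
  exact hLR hz

/-- The family of sets of sections generated by `T₀` under all simplicial operators. -/
def genT {n : ℕ} {U : C} (T₀ : Set (Sec Y n U)) (m : ℕ) : Set (Sec Y m U) :=
  {y' | ∃ (φ : SimplexCategory.mk m ⟶ SimplexCategory.mk n) (y : Sec Y n U),
    y ∈ T₀ ∧ y' = (Y.map φ.op).app (op U) y}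

lemma subset_genT {n : ℕ} {U : C} (T₀ : Set (Sec Y n U)) : T₀ ⊆ genT T₀ n := by
  intro y hy
  refine ⟨𝟙 _, y, hy, ?_⟩
  simp

lemma faceClosed_genT {n : ℕ} {U : C} (T₀ : Set (Sec Y n U)) (hT₀ : T₀.Finite) :
    FaceClosed (genT T₀) where
  finite m := by
    have : genT T₀ m = ⋃ φ : SimplexCategory.mk m ⟶ SimplexCategory.mk n,
        (fun y => (Y.map φ.op).app (op U) y) '' T₀ := by
      ext y'
      simp only [genT, Set.mem_setOf_eq, Set.mem_iUnion, Set.mem_image]
      constructor
      · rintro ⟨φ, y, hy, rfl⟩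
        exact ⟨φ, y, hy, rfl⟩
      · rintro ⟨φ, y, hy, rfl⟩
        exact ⟨φ, y, hy, rfl⟩
    rw [this]
    exact Set.finite_iUnion (fun φ => hT₀.image _)
  face_mem m y' hy' i := by
    obtain ⟨φ, y, hy, rfl⟩ := hy'
    refine ⟨SimplexCategory.δ i ≫ φ, y, hy, ?_⟩
    change (Y.map (SimplexCategory.δ i).op).app (op U) ((Y.map φ.op).app (op U) y) = _
    rw [op_comp, Y.map_comp]
    rfl

/-- Positive degree cycles of `ℤ[Y]` are locally boundaries. -/
theorem locally_boundary (hK : LocalKan J Y) (n : ℕ) (U : C)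
    (z : FreeAbelianGroup (Sec Y (n + 1) U)) (hz : dHom Y n U z = 0) :
    ∃ S ∈ J U, ∀ ⦃V : C⦄ (g : V ⟶ U), S g → ∃ w : FreeAbelianGroup (Sec Y (n + 2) V),
      dHom Y (n + 1) V w = FreeAbelianGroup.map (res Y g) z := by
  obtain ⟨T₀, hT₀, hzT⟩ := exists_finite_closure z
  have hFC := faceClosed_genT T₀ hT₀
  refine ⟨coneSieve n (genT T₀ (n + 1)), coneSieve_mem hK _ hFC n, ?_⟩
  rintro V g ⟨hk, hk1, h⟩
  refine ⟨FreeAbelianGroup.map hk1 z, ?_⟩
  have hz' : z ∈ AddSubgroup.closure (FreeAbelianGroup.of '' genT T₀ (n + 1)) :=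
    AddSubgroup.closure_mono (Set.image_mono (subset_genT T₀)) hzT
  rw [cone_homotopy g n _ hk hk1 h z hz', hz, map_zero, sub_zero]

/-- Degree zero chains of augmentation zero are locally boundaries. -/
theorem locally_boundary_zero (hK : LocalKan J Y) (U : C)
    (z : FreeAbelianGroup (Sec Y 0 U)) (hz : epsHom (Y := Y) U z = 0) :
    ∃ S ∈ J U, ∀ ⦃V : C⦄ (g : V ⟶ U), S g → ∃ w : FreeAbelianGroup (Sec Y 1 V),
      dHom Y 0 V w = FreeAbelianGroup.map (res Y g) z := by
  obtain ⟨T₀, hT₀, hzT⟩ := exists_finite_closure z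
  refine ⟨cone0Sieve T₀, cone0Sieve_mem hK T₀ hT₀, ?_⟩
  rintro V g ⟨v, h0, h⟩
  refine ⟨FreeAbelianGroup.map h0 z, ?_⟩
  rw [cone0_homotopy g T₀ v h0 h z hzT, hz, zero_smul, sub_zero]

end Chains

end Groth.Agent.H1.HyperCone
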