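import Groth.Agent.Lib.Helper1.HyperLoc
import Groth.Agent.Lib.Helper1.HyperCone

/-!
# Acyclicity of `ℤ[Y]^#` for locally Kan-contractible simplicial presheaves (helper1)
-/

set_option autoImplicit false
universe u

namespace Groth.Agent.H1.HyperAcyclic

open CategoryTheory CategoryTheory.Limits Opposite
open Groth.Agent.H1.HyperLoc Groth.Agent.H1.HyperCone

variable {C : Type u} [SmallCategory C] (J : GrothendieckTopology C)
  (Y : SimplicialObject (Cᵒᵖ ⥤ Type u))

/-- The chain complex of sheaves `ℤ[Y]^#`. -/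
noncomputable abbrev freeShCx : ChainComplex (Sheaf J AddCommGrpCat.{u}) ℕ :=
  (AlgebraicTopology.alternatingFaceMapComplex _).obj
    (freePsh Y ⋙ presheafToSheaf J AddCommGrpCat.{u})

lemma aCx_eq : aCx J (freeCx Y) = freeShCx J Y :=
  Functor.congr_obj
    (AlgebraicTopology.map_alternatingFaceMapComplex (presheafToSheaf J AddCommGrpCat.{u}))
    (freePsh Y)

theorem isZero_homology_succ (hK : LocalKan J Y) (n : ℕ) :
    IsZero ((freeShCx J Y).homology (n + 1)) := by
  have key : IsZero ((aCx J (freeCx Y)).homology (n + 1)) := by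
    refine isZero_homology_sheafify J (freeCx Y) n ?_
    intro U z hz
    have hz' : dHom Y n U z = 0 := by
      rw [← freeCx_d_apply']
      exact hz
    obtain ⟨S, hS, h⟩ := locally_boundary J hK n U z hz'
    refine ⟨S, hS, fun V g hg => ?_⟩
    obtain ⟨w, hw⟩ := h g hg
    refine ⟨w, ?_⟩
    rw [freeCx_d_apply' Y (n + 1) V w, hw]
    rfl
  have e := aCx_eq J Y
  have : ∀ (X X' : ChainComplex (Sheaf J AddCommGrpCat.{u}) ℕ), X = X' →
      IsZero (X.homology (n + 1)) → IsZero (X'.homology (n + 1)) := by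
    rintro X _ rfl h
    exact h
  exact this _ _ e key

/-- The augmentation on sections, valued in `ULift ℤ`. -/
noncomputable def epsU (U : C) : FreeAbelianGroup (Sec Y 0 U) →+ ULift.{u} ℤ :=
  AddEquiv.ulift.symm.toAddMonoidHom.comp (epsHom (Y := Y) U)

lemma epsU_of (U : C) (y : Sec Y 0 U) : epsU Y U (FreeAbelianGroup.of y) = ULift.up 1 := by
  simp [epsU, epsHom]
  rfl

lemma epsU_eq_zero_iff (U : C) (z : FreeAbelianGroup (Sec Y 0 U)) :
    epsU Y U z = 0 ↔ epsHom (Y := Y) U z = 0 := by
  simp [epsU]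

lemma epsU_res {U V : C} (g : V ⟶ U) (z : FreeAbelianGroup (Sec Y 0 U)) :
    epsU Y V (FreeAbelianGroup.map (res Y g) z) = epsU Y U z := by
  induction z using FreeAbelianGroup.induction_on with
  | zero => simp
  | of x => rw [FreeAbelianGroup.map_of_apply, epsU_of, epsU_of]
  | neg x ih => rw [map_neg, map_neg, map_neg, ih]
  | add x y hx hy => rw [map_add, map_add, map_add, hx, hy]

lemma epsU_dHom (U : C) (z : FreeAbelianGroup (Sec Y 1 U)) : epsU Y U (dHom Y 0 U z) = 0 := by
  induction z using FreeAbelianGroup.induction_on with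
  | zero => simp
  | of x =>
    rw [dHom_apply, Fin.sum_univ_two]
    simp [epsU_of]
  | neg x ih => rw [map_neg, map_neg, ih, neg_zero]
  | add x y hx hy => rw [map_add, map_add, hx, hy, add_zero]

/-- The augmentation `ℤ[Y_0] ⟶ ℤ` of presheaves. -/
noncomputable def eps : (freeCx Y).X 0 ⟶
    (Functor.const Cᵒᵖ).obj (AddCommGrpCat.of (ULift.{u} ℤ)) where
  app U := AddCommGrpCat.ofHom (epsU Y U.unop)
  naturality := by
    intro U V g
    ext z
    exact epsU_res Y g.unop z

theorem nonempty_homology_zero_iso (hK : LocalKan J Y) :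
    Nonempty ((freeShCx J Y).homology 0 ≅
      (constantSheaf J AddCommGrpCat.{u}).obj (AddCommGrpCat.of (ULift.{u} ℤ))) := by
  have key : Nonempty ((aCx J (freeCx Y)).homology 0 ≅
      (presheafToSheaf J AddCommGrpCat.{u}).obj
        ((Functor.const Cᵒᵖ).obj (AddCommGrpCat.of (ULift.{u} ℤ)))) := by
    refine HyperLoc.nonempty_homology_zero_iso J (freeCx Y) _ (eps Y) ?_ ?_ ?_
    · ext U z
      change epsU Y U.unop (((freeCx Y).d 1 0).app U z) = 0
      have := freeCx_d_apply' Y 0 U.unop z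
      rw [this, epsU_dHom]
    · intro U y
      refine ⟨vertexSieve Y U, hK.vertex U, ?_⟩
      rintro V g ⟨v⟩
      refine ⟨(y.down : ℤ) • FreeAbelianGroup.of v, ?_⟩
      change epsU Y V ((y.down : ℤ) • FreeAbelianGroup.of v) = y
      rw [map_zsmul, epsU_of]
      apply ULift.ext
      simp
    · intro U z hz
      have hz' : epsHom (Y := Y) U z = 0 := (epsU_eq_zero_iff Y U z).1 hz
      obtain ⟨S, hS, h⟩ := locally_boundary_zero J hK U z hz'
      refine ⟨S, hS, fun V g hg => ?_⟩
      obtain ⟨w, hw⟩ := h g hg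
      refine ⟨w, ?_⟩
      rw [freeCx_d_apply' Y 0 V w, hw]
      rfl
  have e := aCx_eq J Y
  have : ∀ (X X' : ChainComplex (Sheaf J AddCommGrpCat.{u}) ℕ) (A : Sheaf J AddCommGrpCat.{u}),
      X = X' → Nonempty (X.homology 0 ≅ A) → Nonempty (X'.homology 0 ≅ A) := by
    rintro X _ A rfl h
    exact h
  exact this _ _ _ e key

end Groth.Agent.H1.HyperAcyclic
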