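import Mathlib

/-!
# Formal coproducts, restricted Yoneda and coskeleta (helper1)
-/

set_option autoImplicit false
universe u

namespace Groth.Agent.H1.HyperBase

open CategoryTheory CategoryTheory.Limits Opposite FormalCoproduct

variable {C : Type u} [SmallCategory C]

/-- Explicit restricted Yoneda functor on formal coproducts: `K ↦ (V ↦ Hom(incl V, K))`. -/
@[simps]
def hF : FormalCoproduct.{u} C ⥤ (Cᵒᵖ ⥤ Type u) where
  obj K :=
    { obj := fun V => ((incl C).obj V.unop ⟶ K)
      map := fun g => ↾(fun t => (incl C).map g.unop ≫ t)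
      map_id := by
        intro V
        refine ConcreteCategory.hom_ext _ _ fun t => ?_
        change (incl C).map (𝟙 _) ≫ t = t
        simp
      map_comp := by
        intro V W X g h
        refine ConcreteCategory.hom_ext _ _ fun t => ?_
        change (incl C).map (h.unop ≫ g.unop) ≫ t = (incl C).map h.unop ≫ (incl C).map g.unop ≫ t
        simp }
  map f := { app := fun V => ↾(fun t => t ≫ f)
             naturality := by
               intro V W g
               refine ConcreteCategory.hom_ext _ _ fun t => ?_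
               change ((incl C).map g.unop ≫ t) ≫ f = (incl C).map g.unop ≫ t ≫ f
               simp }
  map_id := by
    intro K
    refine NatTrans.ext (funext fun V => ConcreteCategory.hom_ext _ _ fun t => ?_)
    change t ≫ 𝟙 K = t
    simp
  map_comp := by
    intro K L M f g
    refine NatTrans.ext (funext fun V => ConcreteCategory.hom_ext _ _ fun t => ?_)
    change t ≫ f ≫ g = (t ≫ f) ≫ g
    simp

/-- The cofan exhibiting `hF.obj K` as the coproduct of the representables `yoneda (K.obj i)`. -/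
def cofanHF (K : FormalCoproduct.{u} C) : Cofan (fun i : K.I => yoneda.obj (K.obj i)) :=
  Cofan.mk (hF.obj K) (fun i =>
    { app := fun V => ↾(fun a => Hom.fromIncl i a)
      naturality := by
        intro V W g
        refine ConcreteCategory.hom_ext _ _ fun a => ?_
        rfl })


/-- The underlying presheaf of `FormalCoproduct.yoneda.obj K`, as a coproduct. -/
noncomputable abbrev FYobj (K : FormalCoproduct.{u} C) : Cᵒᵖ ⥤ Type u :=
  ∐ fun i : K.I => yoneda.obj (K.obj i)

lemma FY_obj (K : FormalCoproduct.{u} C) :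
    (FormalCoproduct.yoneda (C := C)).obj K = FYobj K := rfl

/-- The comparison map from Mathlib's `FormalCoproduct.yoneda` to the explicit `hF`. -/
noncomputable def toHF (K : FormalCoproduct.{u} C) : FYobj K ⟶ hF.obj K :=
  Sigma.desc (fun i => (cofanHF K).inj i)

/-- The inverse comparison. -/
noncomputable def fromHF (K : FormalCoproduct.{u} C) : hF.obj K ⟶ FYobj K where
  app V := ↾(fun t => (Sigma.ι (fun i : K.I => yoneda.obj (K.obj i)) (t.f PUnit.unit)).app V
    (t.φ PUnit.unit))
  naturality := by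
    intro V W g
    refine ConcreteCategory.hom_ext _ _ fun t => ?_
    exact ConcreteCategory.congr_hom
      ((Sigma.ι (fun i : K.I => yoneda.obj (K.obj i)) (t.f PUnit.unit)).naturality g)
      (t.φ PUnit.unit)

lemma ι_toHF (K : FormalCoproduct.{u} C) (i : K.I) :
    Sigma.ι (fun i : K.I => yoneda.obj (K.obj i)) i ≫ toHF K = (cofanHF K).inj i := by
  unfold toHF
  simp

lemma toHF_fromHF (K : FormalCoproduct.{u} C) : toHF K ≫ fromHF K = 𝟙 _ := by
  refine Sigma.hom_ext _ _ fun i => ?_
  rw [← Category.assoc, ι_toHF, Category.comp_id]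
  refine NatTrans.ext (funext fun V => ConcreteCategory.hom_ext _ _ fun a => ?_)
  rfl

lemma fromHF_toHF (K : FormalCoproduct.{u} C) : fromHF K ≫ toHF K = 𝟙 _ := by
  refine NatTrans.ext (funext fun V => ConcreteCategory.hom_ext _ _ fun t => ?_)
  change (toHF K).app V ((Sigma.ι (fun i : K.I => yoneda.obj (K.obj i)) (t.f PUnit.unit)).app V
    (t.φ PUnit.unit)) = t
  have h := ConcreteCategory.congr_hom (NatTrans.congr_app (ι_toHF K (t.f PUnit.unit)) V)
    (t.φ PUnit.unit)
  simp only [NatTrans.comp_app, ConcreteCategory.comp_apply] at h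
  rw [h]
  exact Hom.fromIncl_asSigma t

/-- `FormalCoproduct.yoneda.map f` written on the coproducts. -/
noncomputable def FYmap {K L : FormalCoproduct.{u} C} (f : K ⟶ L) : FYobj K ⟶ FYobj L :=
  Sigma.desc (fun i => yoneda.map (f.φ i) ≫
    Sigma.ι (fun j : L.I => yoneda.obj (L.obj j)) (f.f i))

lemma FY_map {K L : FormalCoproduct.{u} C} (f : K ⟶ L) :
    (FormalCoproduct.yoneda (C := C)).map f = FYmap f := rfl

lemma toHF_naturality {K L : FormalCoproduct.{u} C} (f : K ⟶ L) :
    FYmap f ≫ toHF L = toHF K ≫ hF.map f := by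
  refine Sigma.hom_ext _ _ fun i => ?_
  rw [← Category.assoc (Sigma.ι _ i) (toHF K), ι_toHF]
  unfold FYmap
  rw [← Category.assoc, Sigma.ι_desc, Category.assoc, ι_toHF]
  refine NatTrans.ext (funext fun V => ConcreteCategory.hom_ext _ _ fun a => ?_)
  rfl

/-- `FormalCoproduct.yoneda` is naturally isomorphic to the explicit restricted Yoneda functor. -/
noncomputable def yonedaIso : FormalCoproduct.yoneda (C := C) ≅ hF :=
  NatIso.ofComponents
    (fun K => (⟨toHF K, fromHF K, toHF_fromHF K, fromHF_toHF K⟩ : FYobj K ≅ hF.obj K))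
    (fun f => toHF_naturality f)


/-- The sieve of arrows along which a section `r` of `L` lifts along `f : K ⟶ L`. -/
def liftSieve {K L : FormalCoproduct.{u} C} (f : K ⟶ L) {V : C} (r : (incl C).obj V ⟶ L) :
    Sieve V where
  arrows W g := ∃ t : (incl C).obj W ⟶ K, t ≫ f = (incl C).map g ≫ r
  downward_closed := by
    rintro W W' g ⟨t, ht⟩ h
    refine ⟨(incl C).map h ≫ t, ?_⟩
    rw [Category.assoc, ht, Functor.map_comp, Category.assoc]

variable (J : GrothendieckTopology C)

theorem locSurj_hF_iff {K L : FormalCoproduct.{u} C} (f : K ⟶ L) :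
    Presheaf.IsLocallySurjective J (hF.map f) ↔
      ∀ (V : C) (r : (incl C).obj V ⟶ L), liftSieve f r ∈ J V := by
  constructor
  · intro h V r
    exact h.imageSieve_mem (U := V) r
  · intro h
    exact ⟨fun {V} r => h V r⟩

theorem locSurj_yoneda_iff_hF {K L : FormalCoproduct.{u} C} (f : K ⟶ L) :
    Presheaf.IsLocallySurjective J ((FormalCoproduct.yoneda (C := C)).map f) ↔
      Presheaf.IsLocallySurjective J (hF.map f) := by
  have hnat := (yonedaIso (C := C)).hom.naturality f
  rw [← Presheaf.isLocallySurjective_comp_iff J _ ((yonedaIso (C := C)).hom.app L), hnat,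
    Presheaf.comp_isLocallySurjective_iff]

theorem locSurj_yoneda_iff {K L : FormalCoproduct.{u} C} (f : K ⟶ L) :
    Presheaf.IsLocallySurjective J ((FormalCoproduct.yoneda (C := C)).map f) ↔
      ∀ (V : C) (r : (incl C).obj V ⟶ L), liftSieve f r ∈ J V :=
  (locSurj_yoneda_iff_hF J f).trans (locSurj_hF_iff J f)


section Tens

/-- The constant family on `V` indexed by `I`. -/
abbrev constFam (I : Type u) (V : C) : FormalCoproduct.{u} C := ⟨I, fun _ => V⟩

/-- A morphism out of a constant family, given by sections. -/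
def mkOfSec {I : Type u} (V : C) (L : FormalCoproduct.{u} C) (s : I → ((incl C).obj V ⟶ L)) :
    constFam I V ⟶ L :=
  ⟨fun i => (s i).f PUnit.unit, fun i => (s i).φ PUnit.unit⟩

/-- The `i`-th section of a constant family. -/
def secI {I : Type u} (V : C) (i : I) : (incl C).obj V ⟶ constFam I V :=
  ⟨fun _ => i, fun _ => 𝟙 V⟩

lemma mkOfSec_comp {I : Type u} {V : C} {L L' : FormalCoproduct.{u} C}
    (s : I → ((incl C).obj V ⟶ L)) (f : L ⟶ L') :
    mkOfSec V L s ≫ f = mkOfSec V L' (fun i => s i ≫ f) := rfl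

lemma secI_mkOfSec {I : Type u} {V : C} {L : FormalCoproduct.{u} C}
    (s : I → ((incl C).obj V ⟶ L)) (i : I) : secI V i ≫ mkOfSec V L s = s i := by
  refine FormalCoproduct.hom_ext rfl fun x => ?_
  cases x
  change (𝟙 V ≫ (s i).φ PUnit.unit) ≫ eqToHom _ = (s i).φ PUnit.unit
  simp

lemma eq_mkOfSec {I : Type u} {V : C} {L : FormalCoproduct.{u} C} (β : constFam I V ⟶ L) :
    β = mkOfSec V L (fun i => secI V i ≫ β) := by
  refine FormalCoproduct.hom_ext rfl fun i => ?_
  change β.φ i ≫ eqToHom _ = 𝟙 V ≫ β.φ i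
  simp

lemma constFam_hom_ext {I : Type u} {V : C} {L : FormalCoproduct.{u} C}
    (β β' : constFam I V ⟶ L) (h : ∀ i, secI V i ≫ β = secI V i ≫ β') : β = β' := by
  rw [eq_mkOfSec β, eq_mkOfSec β']
  congr 1
  funext i
  exact h i

/-- Reindexing of constant families. -/
def reindex {I I' : Type u} (V : C) (r : I' → I) : constFam I' V ⟶ constFam I V :=
  ⟨r, fun _ => 𝟙 V⟩

lemma secI_reindex {I I' : Type u} (V : C) (r : I' → I) (i : I') :
    secI V i ≫ reindex V r = secI V (r i) := by
  refine FormalCoproduct.hom_ext rfl fun x => ?_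
  cases x
  change (𝟙 V ≫ 𝟙 V) ≫ eqToHom _ = 𝟙 V
  simp

/-- Change of the object in a constant family. -/
def constMap (I : Type u) {V W : C} (g : W ⟶ V) : constFam I W ⟶ constFam I V :=
  ⟨id, fun _ => g⟩

lemma secI_constMap (I : Type u) {V W : C} (g : W ⟶ V) (i : I) :
    secI W i ≫ constMap I g = (incl C).map g ≫ secI V i := by
  refine FormalCoproduct.hom_ext rfl fun x => ?_
  cases x
  change (𝟙 W ≫ g) ≫ eqToHom _ = g ≫ 𝟙 V
  simp

/-- `V ⊗ Δ[m]` as a simplicial object of formal coproducts. -/
def tens (V : C) (m : ℕ) : SimplicialObject (FormalCoproduct.{u} C) where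
  obj k := constFam (ULift.{u} (k.unop ⟶ SimplexCategory.mk m)) V
  map θ := reindex V (fun f => ULift.up (θ.unop ≫ f.down))
  map_id := by
    intro k
    refine constFam_hom_ext _ _ fun i => ?_
    rw [secI_reindex, Category.comp_id]
    congr 1
    all_goals (cases i; simp)
  map_comp := by
    intro k k' k'' θ θ'
    refine constFam_hom_ext _ _ fun i => ?_
    rw [secI_reindex, ← Category.assoc, secI_reindex, secI_reindex]
    congr 1
    all_goals simp

/-- The section of `V ⊗ Δ[m]` in degree `k` given by `f : k ⟶ [m]`. -/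
def tsec (V : C) (m : ℕ) {k : SimplexCategoryᵒᵖ} (f : k.unop ⟶ SimplexCategory.mk m) :
    (incl C).obj V ⟶ (tens V m).obj k :=
  secI V (ULift.up f)

lemma tsec_map (V : C) (m : ℕ) {k k' : SimplexCategoryᵒᵖ} (θ : k ⟶ k')
    (f : k.unop ⟶ SimplexCategory.mk m) :
    tsec V m f ≫ (tens V m).map θ = tsec V m (θ.unop ≫ f) :=
  secI_reindex V _ (ULift.up f)

lemma tens_hom_ext {V : C} {m : ℕ} {k : SimplexCategoryᵒᵖ} {L : FormalCoproduct.{u} C}
    (β β' : (tens V m).obj k ⟶ L) (h : ∀ f, tsec V m f ≫ β = tsec V m f ≫ β') : β = β' :=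
  constFam_hom_ext β β' (fun i => h i.down)

/-- A morphism out of `(V ⊗ Δ[m])_k` given by sections. -/
def tensDesc {V : C} {m : ℕ} {k : SimplexCategoryᵒᵖ} {L : FormalCoproduct.{u} C}
    (s : (k.unop ⟶ SimplexCategory.mk m) → ((incl C).obj V ⟶ L)) : (tens V m).obj k ⟶ L :=
  mkOfSec V L (fun i => s i.down)

lemma tsec_tensDesc {V : C} {m : ℕ} {k : SimplexCategoryᵒᵖ} {L : FormalCoproduct.{u} C}
    (s : (k.unop ⟶ SimplexCategory.mk m) → ((incl C).obj V ⟶ L))
    (f : k.unop ⟶ SimplexCategory.mk m) : tsec V m f ≫ tensDesc s = s f :=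
  secI_mkOfSec _ (ULift.up f)

/-- Components of `tensMap`. -/
def tensMapApp {V W : C} (g : W ⟶ V) (m : ℕ) (k : SimplexCategoryᵒᵖ) :
    (tens W m).obj k ⟶ (tens V m).obj k :=
  constMap _ g

lemma tsec_tensMapApp {V W : C} (g : W ⟶ V) (m : ℕ) {k : SimplexCategoryᵒᵖ}
    (f : k.unop ⟶ SimplexCategory.mk m) :
    tsec W m f ≫ tensMapApp g m k = (incl C).map g ≫ tsec V m f :=
  secI_constMap _ g (ULift.up f)

/-- Functoriality of `tens` in `V`. -/
def tensMap {V W : C} (g : W ⟶ V) (m : ℕ) : tens W m ⟶ tens V m where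
  app k := tensMapApp g m k
  naturality := by
    intro k k' θ
    refine tens_hom_ext _ _ fun f => ?_
    rw [← Category.assoc, tsec_map, tsec_tensMapApp, ← Category.assoc, tsec_tensMapApp,
      Category.assoc, tsec_map]

lemma tsec_tensMap {V W : C} (g : W ⟶ V) (m : ℕ) {k : SimplexCategoryᵒᵖ}
    (f : k.unop ⟶ SimplexCategory.mk m) :
    tsec W m f ≫ (tensMap g m).app k = (incl C).map g ≫ tsec V m f :=
  tsec_tensMapApp g m f

/-- The morphism `V ⊗ Δ[m] ⟶ K` attached to a section of `K_m`. -/
def rho (K : SimplicialObject (FormalCoproduct.{u} C)) {V : C} {m : ℕ}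
    (y : (incl C).obj V ⟶ K.obj (op (SimplexCategory.mk m))) : tens V m ⟶ K where
  app k := tensDesc (fun f => y ≫ K.map f.op)
  naturality := by
    intro k k' θ
    refine tens_hom_ext _ _ fun f => ?_
    rw [← Category.assoc, tsec_map, tsec_tensDesc, ← Category.assoc, tsec_tensDesc,
      Category.assoc, ← K.map_comp]
    rfl

/-- The section of `K_m` attached to a morphism `V ⊗ Δ[m] ⟶ K`. -/
def ev {K : SimplicialObject (FormalCoproduct.{u} C)} {V : C} {m : ℕ} (α : tens V m ⟶ K) :
    (incl C).obj V ⟶ K.obj (op (SimplexCategory.mk m)) :=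
  tsec V m (𝟙 _) ≫ α.app (op (SimplexCategory.mk m))

lemma tsec_app {K : SimplicialObject (FormalCoproduct.{u} C)} {V : C} {m : ℕ}
    (α : tens V m ⟶ K) {k : SimplexCategoryᵒᵖ} (f : k.unop ⟶ SimplexCategory.mk m) :
    tsec V m f ≫ α.app k = ev α ≫ K.map f.op := by
  unfold ev
  rw [Category.assoc, ← α.naturality, ← Category.assoc, tsec_map]
  congr 2
  simp

lemma ev_rho (K : SimplicialObject (FormalCoproduct.{u} C)) {V : C} {m : ℕ}
    (y : (incl C).obj V ⟶ K.obj (op (SimplexCategory.mk m))) : ev (rho K y) = y := by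
  unfold ev rho
  dsimp only
  rw [tsec_tensDesc]
  simp

lemma rho_ev {K : SimplicialObject (FormalCoproduct.{u} C)} {V : C} {m : ℕ}
    (α : tens V m ⟶ K) : rho K (ev α) = α := by
  refine NatTrans.ext (funext fun k => ?_)
  refine tens_hom_ext _ _ fun f => ?_
  rw [tsec_app, tsec_app, ev_rho]

lemma ev_injective {K : SimplicialObject (FormalCoproduct.{u} C)} {V : C} {m : ℕ}
    (α β : tens V m ⟶ K) (h : ev α = ev β) : α = β := by
  rw [← rho_ev α, ← rho_ev β, h]

lemma ev_comp {K K' : SimplicialObject (FormalCoproduct.{u} C)} {V : C} {m : ℕ}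
    (α : tens V m ⟶ K) (γ : K ⟶ K') :
    ev (α ≫ γ) = ev α ≫ γ.app (op (SimplexCategory.mk m)) := by
  unfold ev
  rw [NatTrans.comp_app, Category.assoc]

lemma ev_tensMap {K : SimplicialObject (FormalCoproduct.{u} C)} {V W : C} (g : W ⟶ V) {m : ℕ}
    (α : tens V m ⟶ K) : ev (tensMap g m ≫ α) = (incl C).map g ≫ ev α := by
  unfold ev
  rw [NatTrans.comp_app, ← Category.assoc, tsec_tensMap, Category.assoc]

end Tens


section Cosk

open SimplicialObject

variable (J : GrothendieckTopology C) (n : ℕ)
  [∀ (F : (SimplexCategory.Truncated n)ᵒᵖ ⥤ FormalCoproduct.{u} C),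
    (SimplexCategory.Truncated.inclusion n).op.HasRightKanExtension F]
  (K : SimplicialObject (FormalCoproduct.{u} C))

/-- The sieve of arrows `g : W ⟶ V` along which a truncated map `V ⊗ Δ[m] → K` is filled by an
`m`-simplex of `K` over `W`. -/
def fillSieve (m : ℕ) (V : C)
    (s : (truncation n).obj (tens V m) ⟶ (truncation n).obj K) : Sieve V where
  arrows W g := ∃ y : (incl C).obj W ⟶ K.obj (op (SimplexCategory.mk m)),
    (truncation n).map (rho K y) = (truncation n).map (tensMap g m) ≫ s
  downward_closed := by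
    rintro W W' g ⟨y, hy⟩ h
    refine ⟨(incl C).map h ≫ y, ?_⟩
    have h1 : rho K ((incl C).map h ≫ y) = tensMap h m ≫ rho K y := by
      apply ev_injective
      rw [ev_rho, ev_tensMap, ev_rho]
    have h2 : tensMap (h ≫ g) m = tensMap h m ≫ tensMap g m := by
      refine NatTrans.ext (funext fun k => ?_)
      refine tens_hom_ext _ _ fun f => ?_
      rw [tsec_tensMap, NatTrans.comp_app, ← Category.assoc, tsec_tensMap, Category.assoc,
        tsec_tensMap, Functor.map_comp, Category.assoc]
    rw [h1, h2, Functor.map_comp, Functor.map_comp, Category.assoc, hy]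

/-- The local lifting property of `K` against truncated maps, from local surjectivity of the
coskeleton unit. -/
theorem fillSieve_mem (m : ℕ)
    (hsurj : ∀ (V : C) (r : (incl C).obj V ⟶ ((cosk n).obj K).obj (op (SimplexCategory.mk m))),
      liftSieve (((coskAdj n).unit.app K).app (op (SimplexCategory.mk m))) r ∈ J V)
    (V : C) (s : (truncation n).obj (tens V m) ⟶ (truncation n).obj K) :
    fillSieve n K m V s ∈ J V := by
  let α : tens V m ⟶ (cosk n).obj K := (coskAdj n).homEquiv (tens V m) ((truncation n).obj K) s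
  refine J.superset_covering ?_ (hsurj V (ev α))
  rintro W g ⟨y, hy⟩
  refine ⟨y, ?_⟩
  have h1 : rho K y ≫ (coskAdj n).unit.app K = tensMap g m ≫ α := by
    apply ev_injective
    rw [ev_comp, ev_rho, ev_tensMap]
    exact hy
  apply ((coskAdj n).homEquiv (tens W m) ((truncation n).obj K)).injective
  rw [Adjunction.homEquiv_naturality_left, Adjunction.homEquiv_unit]
  have h2 := (coskAdj n).unit.naturality (rho K y)
  simp only [Functor.id_obj, Functor.id_map, Functor.comp_obj, Functor.comp_map] at h2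
  rw [← h2]
  exact h1

/-- `tsec` typed as a section of the truncation. -/
def tsecT (V : C) (m : ℕ) (a : (SimplexCategory.Truncated n)ᵒᵖ)
    (f : a.unop.obj ⟶ SimplexCategory.mk m) :
    (incl C).obj V ⟶ ((truncation n).obj (tens V m)).obj a :=
  tsec V m (k := op a.unop.obj) f

omit [∀ (F : (SimplexCategory.Truncated n)ᵒᵖ ⥤ FormalCoproduct.{u} C),
    (SimplexCategory.Truncated.inclusion n).op.HasRightKanExtension F] in
/-- Componentwise form of the filling condition. -/
lemma fill_spec {m : ℕ} {V W : C} {s : (truncation n).obj (tens V m) ⟶ (truncation n).obj K}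
    {g : W ⟶ V} {y : (incl C).obj W ⟶ K.obj (op (SimplexCategory.mk m))}
    (hy : (truncation n).map (rho K y) = (truncation n).map (tensMap g m) ≫ s)
    (a : (SimplexCategory.Truncated n)ᵒᵖ) (f : a.unop.obj ⟶ SimplexCategory.mk m) :
    y ≫ K.map f.op = (incl C).map g ≫ tsecT n V m a f ≫ s.app a := by
  have h : tsecT n W m a f ≫ ((truncation n).map (rho K y)).app a =
      tsecT n W m a f ≫ ((truncation n).map (tensMap g m) ≫ s).app a := by
    rw [hy]
  have h1 : tsecT n W m a f ≫ ((truncation n).map (rho K y)).app a = y ≫ K.map f.op :=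
    tsec_tensDesc (k := op a.unop.obj) (fun f => y ≫ K.map f.op) f
  have h3 : tsecT n W m a f ≫ ((truncation n).map (tensMap g m)).app a =
      (incl C).map g ≫ tsecT n V m a f :=
    tsec_tensMap g m (k := op a.unop.obj) f
  have h2 : tsecT n W m a f ≫ ((truncation n).map (tensMap g m) ≫ s).app a =
      (incl C).map g ≫ tsecT n V m a f ≫ s.app a := by
    rw [NatTrans.comp_app, ← Category.assoc, h3, Category.assoc]
  exact h1.symm.trans (h.trans h2)

end Cosk

end Groth.Agent.H1.HyperBase
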