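import Groth.Agent.Lib.Helper1.HyperSite

/-!
# Čech complexes of sheaves with respect to locally Kan-contractible simplicial formal coproducts
(helper1)
-/

set_option autoImplicit false
universe u

namespace Groth.Agent.H1.HyperCech

open CategoryTheory CategoryTheory.Limits Opposite FormalCoproduct
open Groth.Agent.H1.HyperBase Groth.Agent.H1.HyperCone Groth.Agent.H1.HyperSite

variable {C : Type u} [SmallCategory C]

section Single

variable (A : FormalCoproduct.{u} C) (P : Cᵒᵖ ⥤ AddCommGrpCat.{u})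

/-- The universal section of `hF.obj A` over `A.obj i`. -/
def univ (i : A.I) : (incl C).obj (A.obj i) ⟶ A := Hom.fromIncl i (𝟙 _)

/-- Families of sections of `P` over the components of `A`. -/
abbrev Fam : Type u := ∀ i : A.I, P.obj (op (A.obj i))

/-- The free presheaf of abelian groups on `hF.obj A`. -/
noncomputable abbrev freeOn : Cᵒᵖ ⥤ AddCommGrpCat.{u} := hF.obj A ⋙ AddCommGrpCat.free.{u}

variable {A P}

/-- Evaluation of a morphism on the universal sections. -/
noncomputable def ev (φ : freeOn A ⟶ P) : Fam A P :=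
  fun i => φ.app (op (A.obj i)) (FreeAbelianGroup.of (univ A i))

lemma sec_eq {V : C} (t : (incl C).obj V ⟶ A) :
    (incl C).map (t.φ PUnit.unit) ≫ univ A (t.f PUnit.unit) = t := by
  refine FormalCoproduct.hom_ext ?_ fun x => ?_
  · funext x
    cases x
    rfl
  · cases x
    change (t.φ PUnit.unit ≫ 𝟙 _) ≫ eqToHom _ = t.φ PUnit.unit
    simp

/-- The morphism determined by a family. -/
noncomputable def coev (c : Fam A P) : freeOn A ⟶ P where
  app V := AddCommGrpCat.ofHom (FreeAbelianGroup.lift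
    (fun t : (incl C).obj V.unop ⟶ A => P.map (t.φ PUnit.unit).op (c (t.f PUnit.unit))))
  naturality := by
    intro V W g
    refine AddCommGrpCat.hom_ext (FreeAbelianGroup.lift_ext _ _ fun t => ?_)
    change FreeAbelianGroup.lift _ (FreeAbelianGroup.map _ (FreeAbelianGroup.of t)) =
      P.map g (FreeAbelianGroup.lift _ (FreeAbelianGroup.of t))
    rw [FreeAbelianGroup.map_of_apply, FreeAbelianGroup.lift_apply_of,
      FreeAbelianGroup.lift_apply_of]
    change P.map (g.unop ≫ t.φ PUnit.unit).op (c (t.f PUnit.unit)) = _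
    rw [op_comp, P.map_comp]
    rfl

lemma coev_app_of (c : Fam A P) {V : C} (t : (incl C).obj V ⟶ A) :
    (coev c).app (op V) (FreeAbelianGroup.of t) =
      P.map (t.φ PUnit.unit).op (c (t.f PUnit.unit)) := by
  change FreeAbelianGroup.lift _ (FreeAbelianGroup.of t) = _
  rw [FreeAbelianGroup.lift_apply_of]

lemma ev_coev (c : Fam A P) : ev (coev c) = c := by
  funext i
  change (coev c).app (op (A.obj i)) (FreeAbelianGroup.of (univ A i)) = c i
  rw [coev_app_of]
  change P.map (𝟙 _).op (c i) = c i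
  simp

lemma app_of_eq (φ : freeOn A ⟶ P) {V : C} (t : (incl C).obj V ⟶ A) :
    φ.app (op V) (FreeAbelianGroup.of t) =
      P.map (t.φ PUnit.unit).op (ev φ (t.f PUnit.unit)) := by
  have h := ConcreteCategory.congr_hom (φ.naturality (t.φ PUnit.unit).op)
    (FreeAbelianGroup.of (univ A (t.f PUnit.unit)))
  simp only [ConcreteCategory.comp_apply] at h
  have e : (FreeAbelianGroup.of t : FreeAbelianGroup ((incl C).obj V ⟶ A)) =
      ((freeOn A).map (t.φ PUnit.unit).op) (FreeAbelianGroup.of (univ A (t.f PUnit.unit))) := by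
    change _ = FreeAbelianGroup.map _ (FreeAbelianGroup.of _)
    rw [FreeAbelianGroup.map_of_apply]
    exact congrArg FreeAbelianGroup.of (sec_eq t).symm
  exact (congrArg (φ.app (op V)) e).trans h

lemma hom_ext_of {φ ψ : freeOn A ⟶ P}
    (h : ∀ (V : C) (t : (incl C).obj V ⟶ A),
      φ.app (op V) (FreeAbelianGroup.of t) = ψ.app (op V) (FreeAbelianGroup.of t)) : φ = ψ := by
  refine NatTrans.ext (funext fun V => ?_)
  exact AddCommGrpCat.hom_ext (FreeAbelianGroup.lift_ext _ _ fun t => h V.unop t)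

lemma coev_ev (φ : freeOn A ⟶ P) : coev (ev φ) = φ := by
  refine hom_ext_of fun V t => ?_
  rw [coev_app_of, app_of_eq]

lemma ev_injective : Function.Injective (ev (A := A) (P := P)) := by
  intro φ ψ h
  rw [← coev_ev φ, ← coev_ev ψ, h]

lemma ev_zero : ev (0 : freeOn A ⟶ P) = 0 := by
  funext i
  rfl

/-- Pullback of families along a morphism of formal coproducts. -/
def pullFam {A B : FormalCoproduct.{u} C} (f : A ⟶ B) (P : Cᵒᵖ ⥤ AddCommGrpCat.{u})
    (c : Fam B P) : Fam A P :=
  fun i => P.map (f.φ i).op (c (f.f i))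

lemma univ_comp {A B : FormalCoproduct.{u} C} (f : A ⟶ B) (i : A.I) :
    univ A i ≫ f = (incl C).map (f.φ i) ≫ univ B (f.f i) := by
  refine FormalCoproduct.hom_ext ?_ fun x => ?_
  · funext x
    rfl
  · cases x
    change (𝟙 _ ≫ f.φ i) ≫ eqToHom _ = f.φ i ≫ 𝟙 _
    simp

lemma ev_of_comp {A B : FormalCoproduct.{u} C} (f : A ⟶ B) (P : Cᵒᵖ ⥤ AddCommGrpCat.{u})
    (φ : freeOn B ⟶ P) (i : A.I) :
    φ.app (op (A.obj i)) (FreeAbelianGroup.of (univ A i ≫ f)) = pullFam f P (ev φ) i := by
  rw [app_of_eq]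
  change P.map (𝟙 _ ≫ f.φ i).op (ev φ (f.f i)) = P.map (f.φ i).op (ev φ (f.f i))
  rw [Category.id_comp]

/-- The family of components of an element of the product. -/
noncomputable def toFam (A : FormalCoproduct.{u} C) (P : Cᵒᵖ ⥤ AddCommGrpCat.{u})
    (x : (∏ᶜ fun i : A.I => P.obj (op (A.obj i)) : AddCommGrpCat.{u})) : Fam A P :=
  fun i => Pi.π (fun i : A.I => P.obj (op (A.obj i))) i x

lemma toFam_injective (A : FormalCoproduct.{u} C) (P : Cᵒᵖ ⥤ AddCommGrpCat.{u}) :
    Function.Injective (toFam A P) := by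
  intro x y h
  apply (Concrete.productEquiv (fun i : A.I => P.obj (op (A.obj i)))).injective
  funext i
  rw [Concrete.productEquiv_apply_apply, Concrete.productEquiv_apply_apply]
  exact congrFun h i

lemma toFam_surjective (A : FormalCoproduct.{u} C) (P : Cᵒᵖ ⥤ AddCommGrpCat.{u}) :
    Function.Surjective (toFam A P) := by
  intro c
  refine ⟨(Concrete.productEquiv (fun i : A.I => P.obj (op (A.obj i)))).symm c, ?_⟩
  funext i
  exact Concrete.productEquiv_symm_apply_π _ c i

lemma toFam_zero (A : FormalCoproduct.{u} C) (P : Cᵒᵖ ⥤ AddCommGrpCat.{u}) :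
    toFam A P 0 = 0 := by
  funext i
  exact map_zero _

end Single

section Complex

variable (K : SimplicialObject (FormalCoproduct.{u} C)) (P : Cᵒᵖ ⥤ AddCommGrpCat.{u})

/-- The `n`-th term of `K`. -/
abbrev Kn (n : ℕ) : FormalCoproduct.{u} C := K.obj (op (SimplexCategory.mk n))

/-- The Čech differential on families. -/
def dFam (n : ℕ) (c : Fam (Kn K n) P) : Fam (Kn K (n + 1)) P :=
  fun j => ∑ k : Fin (n + 2), (-1 : ℤ) ^ (k : ℕ) • pullFam (K.δ k) P c j

/-- The cosimplicial abelian group underlying the Čech complex. -/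
noncomputable abbrev cosimp : CosimplicialObject AddCommGrpCat.{u} :=
  (FormalCoproduct.cosimplicialObjectFunctor K).obj P

/-- The family of groups whose product is the degree `n` part of the Čech complex. -/
abbrev Z (n : ℕ) : (Kn K n).I → AddCommGrpCat.{u} := fun i => P.obj (op ((Kn K n).obj i))

/-- The degree `n` part of the Čech complex. -/
noncomputable abbrev CX (n : ℕ) : AddCommGrpCat.{u} := ∏ᶜ Z K P n

/-- The coface maps, retyped. -/
noncomputable def δ' (n : ℕ) (k : Fin (n + 2)) : CX K P n ⟶ CX K P (n + 1) :=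
  Pi.lift (fun j : (Kn K (n + 1)).I => Pi.π (Z K P n) ((K.δ k).f j) ≫ P.map ((K.δ k).φ j).op)

/-- The Čech differential, retyped. -/
noncomputable def d' (n : ℕ) : CX K P n ⟶ CX K P (n + 1) :=
  (Hyper.cechCxSite K P).d n (n + 1)

lemma δ_eq (n : ℕ) (k : Fin (n + 2)) : (cosimp K P).δ k = δ' K P n k := rfl

lemma d'_eq (n : ℕ) :
    d' K P n = ∑ k : Fin (n + 2), (-1 : ℤ) ^ (k : ℕ) • δ' K P n k :=
  CochainComplex.of_d (fun n => (cosimp K P).obj (SimplexCategory.mk n))
    (AlgebraicTopology.AlternatingCofaceMapComplex.objD (cosimp K P)) n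

lemma toFam_δ' (n : ℕ) (k : Fin (n + 2)) (x : CX K P n) :
    toFam (Kn K (n + 1)) P (δ' K P n k x) = pullFam (K.δ k) P (toFam (Kn K n) P x) := by
  funext j
  have h : δ' K P n k ≫ Pi.π (Z K P (n + 1)) j =
      Pi.π (Z K P n) ((K.δ k).f j) ≫ P.map ((K.δ k).φ j).op := Pi.lift_π _ _
  exact ConcreteCategory.congr_hom h x

lemma toFam_add (A : FormalCoproduct.{u} C) (x y : (∏ᶜ fun i : A.I => P.obj (op (A.obj i)) : AddCommGrpCat.{u})) :
    toFam A P (x + y) = toFam A P x + toFam A P y := by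
  funext i
  exact map_add _ x y

lemma toFam_zsmul (A : FormalCoproduct.{u} C) (m : ℤ)
    (x : (∏ᶜ fun i : A.I => P.obj (op (A.obj i)) : AddCommGrpCat.{u})) :
    toFam A P (m • x) = m • toFam A P x := by
  funext i
  exact map_zsmul _ m x

lemma toFam_sum (A : FormalCoproduct.{u} C) {α : Type} (s : Finset α)
    (x : α → (∏ᶜ fun i : A.I => P.obj (op (A.obj i)) : AddCommGrpCat.{u})) :
    toFam A P (∑ a ∈ s, x a) = ∑ a ∈ s, toFam A P (x a) := by
  classical
  induction s using Finset.induction_on with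
  | empty => simpa using toFam_zero A P
  | insert a s ha ih => rw [Finset.sum_insert ha, Finset.sum_insert ha, toFam_add, ih]

lemma toFam_d' (n : ℕ) (x : CX K P n) :
    toFam (Kn K (n + 1)) P (d' K P n x) = dFam K P n (toFam (Kn K n) P x) := by
  rw [d'_eq, hom_sum_apply, toFam_sum]
  funext j
  rw [Finset.sum_apply]
  refine Finset.sum_congr rfl fun k _ => ?_
  rw [hom_zsmul_apply, toFam_zsmul, toFam_δ']
  rfl

/-- The differential of `ℤ[YK K]`, retyped. -/
noncomputable def dF (n : ℕ) : freeOn (Kn K (n + 1)) ⟶ freeOn (Kn K n) :=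
  (freeCx (YK K)).d (n + 1) n

lemma dF_app_of (n : ℕ) {V : C} (t : (incl C).obj V ⟶ Kn K (n + 1)) :
    (dF K n).app (op V) (FreeAbelianGroup.of t) =
      ∑ k : Fin (n + 2), (-1 : ℤ) ^ (k : ℕ) •
        (FreeAbelianGroup.of (t ≫ K.δ k) : FreeAbelianGroup ((incl C).obj V ⟶ Kn K n)) := by
  have h := freeCx_d_apply' (YK K) n V (FreeAbelianGroup.of t)
  rw [dHom_apply] at h
  refine h.trans (Finset.sum_congr rfl fun k _ => ?_)
  rw [FreeAbelianGroup.map_of_apply]
  rfl

/-- Components of a morphism out of `freeOn A`, as homomorphisms on free abelian groups. -/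
noncomputable def appHom {A : FormalCoproduct.{u} C} (φ : freeOn A ⟶ P) (V : C) :
    FreeAbelianGroup ((incl C).obj V ⟶ A) →+ P.obj (op V) :=
  (φ.app (op V)).hom

lemma ev_d (n : ℕ) (φ : freeOn (Kn K n) ⟶ P) :
    ev (dF K n ≫ φ) = dFam K P n (ev φ) := by
  funext j
  change appHom P φ ((Kn K (n + 1)).obj j)
    ((dF K n).app (op ((Kn K (n + 1)).obj j)) (FreeAbelianGroup.of (univ (Kn K (n + 1)) j))) = _
  rw [dF_app_of, map_sum]
  refine Finset.sum_congr rfl fun k _ => ?_
  rw [map_zsmul]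
  congr 1
  exact ev_of_comp (K.δ k) P φ j

end Complex

section Sheaf

open Groth.Agent.H1.HyperAcyclic

variable (J : GrothendieckTopology C) (K : SimplicialObject (FormalCoproduct.{u} C))

lemma dF_comp_dF (n : ℕ) : dF K (n + 1) ≫ dF K n = 0 :=
  (freeCx (YK K)).d_comp_d _ _ _

/-- Transposition along the sheafification adjunction turns vanishing after precomposition
into vanishing after precomposition. -/
lemma adj_comp_eq_zero {P Q : Cᵒᵖ ⥤ AddCommGrpCat.{u}} (F : Sheaf J AddCommGrpCat.{u})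
    (d : P ⟶ Q) (φ : Q ⟶ F.obj) (h : d ≫ φ = 0) :
    (presheafToSheaf J AddCommGrpCat.{u}).map d ≫
      ((sheafificationAdjunction J AddCommGrpCat.{u}).homEquiv Q F).symm φ = 0 := by
  apply ((sheafificationAdjunction J AddCommGrpCat.{u}).homEquiv P F).injective
  rw [Adjunction.homEquiv_naturality_left, Equiv.apply_symm_apply, h,
    Adjunction.homEquiv_unit, Functor.map_zero, comp_zero]

/-- Morphisms from `ℤ[K_{n+1}]` to an injective sheaf killing boundaries factor through the
differential. -/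
theorem exists_factor (hK : LocalKan J (YK K)) (I : Sheaf J AddCommGrpCat.{u}) [Injective I]
    (n : ℕ) (φ : freeOn (Kn K (n + 1)) ⟶ I.obj) (hφ : dF K (n + 1) ≫ φ = 0) :
    ∃ ψ : freeOn (Kn K n) ⟶ I.obj, dF K n ≫ ψ = φ := by
  let adj := sheafificationAdjunction J AddCommGrpCat.{u}
  let S : ShortComplex (Cᵒᵖ ⥤ AddCommGrpCat.{u}) :=
    ShortComplex.mk (dF K (n + 1)) (dF K n) (dF_comp_dF K n)
  have hS : (S.map (presheafToSheaf J AddCommGrpCat.{u})).Exact := by
    refine HyperLoc.exact_sheafify_of_locally J S ?_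
    intro U z hz
    have hz' : dHom (YK K) n U z = 0 := by
      rw [← freeCx_d_apply']
      exact hz
    obtain ⟨T, hT, h⟩ := locally_boundary J hK n U z hz'
    refine ⟨T, hT, fun V g hg => ?_⟩
    obtain ⟨w, hw⟩ := h g hg
    refine ⟨w, ?_⟩
    refine (freeCx_d_apply' (YK K) (n + 1) V w).trans ?_
    rw [hw]
    rfl
  have h0 := adj_comp_eq_zero J I (dF K (n + 1)) φ hφ
  let ψ' := hS.descToInjective ((adj.homEquiv _ I).symm φ) h0
  have hψ' : (presheafToSheaf J AddCommGrpCat.{u}).map (dF K n) ≫ ψ' =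
      (adj.homEquiv _ I).symm φ := hS.comp_descToInjective _ h0
  refine ⟨adj.homEquiv _ I ψ', ?_⟩
  rw [← Adjunction.homEquiv_naturality_left, hψ', Equiv.apply_symm_apply]

/-- The constant presheaf `ℤ`. -/
abbrev cZ : Cᵒᵖ ⥤ AddCommGrpCat.{u} :=
  (Functor.const Cᵒᵖ).obj (AddCommGrpCat.of (ULift.{u} ℤ))

/-- The augmentation, retyped. -/
noncomputable def epsF : freeOn (Kn K 0) ⟶ cZ (C := C) := eps (YK K)

lemma epsF_app_of {V : C} (t : (incl C).obj V ⟶ Kn K 0) :
    (epsF K).app (op V) (FreeAbelianGroup.of t) = ULift.up 1 :=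
  epsU_of (YK K) V t

lemma dF_epsF : dF K 0 ≫ epsF K = 0 := by
  ext U z
  change epsU (YK K) U.unop (((freeCx (YK K)).d 1 0).app U z) = 0
  have := freeCx_d_apply' (YK K) 0 U.unop z
  rw [this, epsU_dHom]

/-- Morphisms from `ℤ[K_0]` to a sheaf killing boundaries factor through the augmentation. -/
theorem exists_factor_zero (hK : LocalKan J (YK K)) (F : Sheaf J AddCommGrpCat.{u})
    (φ : freeOn (Kn K 0) ⟶ F.obj) (hφ : dF K 0 ≫ φ = 0) :
    ∃ γ : cZ (C := C) ⟶ F.obj, epsF K ≫ γ = φ := by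
  let adj := sheafificationAdjunction J AddCommGrpCat.{u}
  let S : ShortComplex (Cᵒᵖ ⥤ AddCommGrpCat.{u}) :=
    ShortComplex.mk (dF K 0) (epsF K) (dF_epsF K)
  have hS : (S.map (presheafToSheaf J AddCommGrpCat.{u})).Exact := by
    refine HyperLoc.exact_sheafify_of_locally J S ?_
    intro U z hz
    have hz' : epsHom (Y := YK K) U z = 0 := (epsU_eq_zero_iff (YK K) U z).1 hz
    obtain ⟨T, hT, h⟩ := locally_boundary_zero J hK U z hz'
    refine ⟨T, hT, fun V g hg => ?_⟩
    obtain ⟨w, hw⟩ := h g hg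
    refine ⟨w, ?_⟩
    refine (freeCx_d_apply' (YK K) 0 V w).trans ?_
    rw [hw]
    rfl
  have hepi : Epi (S.map (presheafToSheaf J AddCommGrpCat.{u})).g := by
    refine HyperLoc.epi_sheafify_of_locally_surjective J (epsF K) ?_
    intro U y
    refine ⟨vertexSieve (YK K) U, hK.vertex U, ?_⟩
    rintro V g ⟨v⟩
    refine ⟨(y.down : ℤ) • FreeAbelianGroup.of v, ?_⟩
    change epsU (YK K) V ((y.down : ℤ) • FreeAbelianGroup.of v) = y
    rw [map_zsmul, epsU_of]
    apply ULift.ext
    simp
  have h0 := adj_comp_eq_zero J F (dF K 0) φ hφ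
  let γ' := hS.desc ((adj.homEquiv _ F).symm φ) h0
  have hγ' : (presheafToSheaf J AddCommGrpCat.{u}).map (epsF K) ≫ γ' =
      (adj.homEquiv _ F).symm φ := hS.g_desc _ h0
  refine ⟨adj.homEquiv _ F γ', ?_⟩
  rw [← Adjunction.homEquiv_naturality_left, hγ', Equiv.apply_symm_apply]

end Sheaf

section Main

variable (J : GrothendieckTopology C) (K : SimplicialObject (FormalCoproduct.{u} C))

/-- Vanishing of the higher Čech cohomology of an injective sheaf with respect to a locally
Kan-contractible simplicial formal coproduct. -/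
theorem isZero_cech_homology_succ (hK : LocalKan J (YK K)) (I : Sheaf J AddCommGrpCat.{u})
    [Injective I] (p : ℕ) :
    IsZero ((Hyper.cechCxSite K I.obj).homology (p + 1)) := by
  rw [← HomologicalComplex.exactAt_iff_isZero_homology,
    HomologicalComplex.exactAt_iff' _ p (p + 1) (p + 2) (by simp) (by simp),
    ShortComplex.ab_exact_iff]
  intro (x : CX K I.obj (p + 1)) (hx : d' K I.obj (p + 1) x = 0)
  have hφ : dF K (p + 1) ≫ coev (toFam (Kn K (p + 1)) I.obj x) = 0 := by
    apply ev_injective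
    rw [ev_d, ev_coev, ← toFam_d', hx, toFam_zero, ev_zero]
  obtain ⟨ψ, hψ⟩ := exists_factor J K hK I p _ hφ
  obtain ⟨y, hy⟩ := toFam_surjective (Kn K p) I.obj (ev ψ)
  refine ⟨y, ?_⟩
  change d' K I.obj p y = x
  apply toFam_injective
  rw [toFam_d', hy, ← ev_d, hψ, ev_coev]

/-- The degree zero Čech cohomology of a sheaf with respect to a locally Kan-contractible
simplicial formal coproduct is the group of global sections. -/
theorem nonempty_cech_homology_zero_iso (hK : LocalKan J (YK K))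
    (F : Sheaf J AddCommGrpCat.{u}) :
    Nonempty ((Hyper.cechCxSite K F.obj).homology 0 ≅ limit F.obj) := by
  let ι : limit F.obj ⟶ CX K F.obj 0 :=
    Pi.lift fun i : (Kn K 0).I => limit.π F.obj (op ((Kn K 0).obj i))
  have hι_fam : ∀ s : (limit F.obj : AddCommGrpCat.{u}), toFam (Kn K 0) F.obj (ι s) =
      fun i => limit.π F.obj (op ((Kn K 0).obj i)) s := by
    intro s
    funext i
    have h : ι ≫ Pi.π (Z K F.obj 0) i = limit.π F.obj (op ((Kn K 0).obj i)) := Pi.lift_π _ _
    exact ConcreteCategory.congr_hom h s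
  have hw : ∀ {V W : C} (g : W ⟶ V) (s : (limit F.obj : AddCommGrpCat.{u})),
      F.obj.map g.op (limit.π F.obj (op V) s) = limit.π F.obj (op W) s := by
    intro V W g s
    exact ConcreteCategory.congr_hom (limit.w F.obj g.op) s
  have hι : ι ≫ d' K F.obj 0 = 0 := by
    refine ConcreteCategory.hom_ext _ _ fun s => ?_
    change d' K F.obj 0 (ι s) = 0
    apply toFam_injective
    rw [toFam_d', toFam_zero, hι_fam]
    funext j
    change ∑ k : Fin 2, (-1 : ℤ) ^ (k : ℕ) • pullFam (K.δ k) F.obj _ j = 0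
    rw [Fin.sum_univ_two]
    change (-1 : ℤ) ^ (0 : ℕ) • F.obj.map _ (limit.π F.obj _ s) +
      (-1 : ℤ) ^ (1 : ℕ) • F.obj.map _ (limit.π F.obj _ s) = 0
    rw [hw, hw]
    simp
  have hinj : Function.Injective ι := by
    rw [injective_iff_map_eq_zero]
    intro s hs
    refine Concrete.limit_ext F.obj s 0 fun V => ?_
    rw [map_zero]
    refine Sheaf.isSeparated F V.unop (vertexSieve (YK K) V.unop) (hK.vertex V.unop) _ 0 ?_
    rintro W g ⟨v⟩
    have h1 : limit.π F.obj (op ((Kn K 0).obj (v.f PUnit.unit))) s = 0 := by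
      have := congrFun (hι_fam s) (v.f PUnit.unit)
      rw [hs, toFam_zero] at this
      exact this.symm
    have h2 := hw (v.φ PUnit.unit) s
    rw [h1, map_zero] at h2
    change F.obj.map g.op (limit.π F.obj (op V.unop) s) = F.obj.map g.op 0
    rw [hw, map_zero]
    exact h2.symm
  have hex : ∀ x : CX K F.obj 0, d' K F.obj 0 x = 0 → ∃ s, ι s = x := by
    intro x hx
    have hφ : dF K 0 ≫ coev (toFam (Kn K 0) F.obj x) = 0 := by
      apply ev_injective
      rw [ev_d, ev_coev, ← toFam_d', hx, toFam_zero, ev_zero]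
    obtain ⟨γ, hγ⟩ := exists_factor_zero J K hK F _ hφ
    let cn : Cone F.obj := ⟨AddCommGrpCat.of (ULift.{u} ℤ), γ⟩
    refine ⟨limit.lift F.obj cn (ULift.up 1), ?_⟩
    apply toFam_injective
    rw [hι_fam]
    funext i
    have h1 : limit.π F.obj (op ((Kn K 0).obj i)) (limit.lift F.obj cn (ULift.up 1)) =
        γ.app (op ((Kn K 0).obj i)) (ULift.up 1) :=
      ConcreteCategory.congr_hom (limit.lift_π cn (op ((Kn K 0).obj i))) (ULift.up 1)
    rw [h1, ← epsF_app_of K (univ (Kn K 0) i)]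
    have h2 := congrArg (fun φ => ev φ i) hγ
    simp only [ev_coev] at h2
    exact h2
  let S : ShortComplex AddCommGrpCat.{u} := ShortComplex.mk ι (d' K F.obj 0) hι
  have hS : S.Exact := (ShortComplex.ab_exact_iff S).2 hex
  have : Mono S.f := (AddCommGrpCat.mono_iff_injective _).2 hinj
  have hk1 : IsLimit (KernelFork.ofι S.f S.zero) := hS.fIsKernel
  have hk2 := (Hyper.cechCxSite K F.obj).cyclesIsKernel 0 1 (by simp)
  exact ⟨((Hyper.cechCxSite K F.obj).isoHomologyπ₀).symm ≪≫
    IsLimit.conePointUniqueUpToIso hk2 hk1⟩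

end Main

section Elementwise

variable (J : GrothendieckTopology C) (K : SimplicialObject (FormalCoproduct.{u} C))

/-- Elementwise criterion for the vanishing of Čech cohomology in positive degrees. -/
theorem isZero_cech_homology_succ_iff (P : Cᵒᵖ ⥤ AddCommGrpCat.{u}) (p : ℕ) :
    IsZero ((Hyper.cechCxSite K P).homology (p + 1)) ↔
      ∀ c : Fam (Kn K (p + 1)) P, dFam K P (p + 1) c = 0 →
        ∃ b : Fam (Kn K p) P, dFam K P p b = c := by
  rw [← HomologicalComplex.exactAt_iff_isZero_homology,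
    HomologicalComplex.exactAt_iff' _ p (p + 1) (p + 2) (by simp) (by simp),
    ShortComplex.ab_exact_iff]
  constructor
  · intro h c hc
    obtain ⟨x, rfl⟩ := toFam_surjective _ _ c
    have hx : d' K P (p + 1) x = 0 := by
      apply toFam_injective
      rw [toFam_d', hc, toFam_zero]
    obtain ⟨y, hy⟩ := h x hx
    refine ⟨toFam _ _ y, ?_⟩
    rw [← toFam_d']
    exact congrArg _ hy
  · intro h (x : CX K P (p + 1)) (hx : d' K P (p + 1) x = 0)
    obtain ⟨b, hb⟩ := h (toFam _ _ x) (by rw [← toFam_d', hx, toFam_zero])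
    obtain ⟨y, rfl⟩ := toFam_surjective _ _ b
    refine ⟨y, ?_⟩
    change d' K P p y = x
    apply toFam_injective
    rw [toFam_d']
    exact hb

lemma dFam_dFam (P : Cᵒᵖ ⥤ AddCommGrpCat.{u}) (n : ℕ) (c : Fam (Kn K n) P) :
    dFam K P (n + 1) (dFam K P n c) = 0 := by
  obtain ⟨x, rfl⟩ := toFam_surjective _ _ c
  rw [← toFam_d', ← toFam_d']
  have h : d' K P n ≫ d' K P (n + 1) = 0 := (Hyper.cechCxSite K P).d_comp_d _ _ _
  have h2 : d' K P (n + 1) (d' K P n x) = 0 := ConcreteCategory.congr_hom h x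
  rw [h2, toFam_zero]

/-- A degree zero cocycle with values in a sheaf comes from a compatible family of sections over
all objects. -/
theorem exists_const_of_cocycle (hK : LocalKan J (YK K)) (F : Sheaf J AddCommGrpCat.{u})
    (c : Fam (Kn K 0) F.obj) (hc : dFam K F.obj 0 c = 0) :
    ∃ γ : cZ (C := C) ⟶ F.obj, ∀ i, γ.app (op ((Kn K 0).obj i)) (ULift.up 1) = c i := by
  have hφ : dF K 0 ≫ coev c = 0 := by
    apply ev_injective
    rw [ev_d, ev_coev, hc, ev_zero]
  obtain ⟨γ, hγ⟩ := exists_factor_zero J K hK F _ hφ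
  refine ⟨γ, fun i => ?_⟩
  rw [← epsF_app_of K (univ (Kn K 0) i)]
  have h2 := congrArg (fun φ => ev φ i) hγ
  simp only [ev_coev] at h2
  exact h2

end Elementwise

end Groth.Agent.H1.HyperCech
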