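import Groth.Agent.Lib.Helper1.HyperOver

/-!
# Converse translations: from local filling conditions to local surjectivity (helper1)
-/

set_option autoImplicit false
universe u

namespace Groth.Agent.H1.HyperConv

open CategoryTheory CategoryTheory.Limits Opposite FormalCoproduct
open Groth.Agent.H1.HyperBase Groth.Agent.H1.HyperSphere Groth.Agent.H1.HyperCone
open Groth.Agent.H1.HyperSite

variable {C : Type u} [SmallCategory C] (J : GrothendieckTopology C)
  (K : SimplicialObject (FormalCoproduct.{u} C))

lemma locSurj_terminal_of_vertex (h : ∀ V : C, vertexSieve (YK K) V ∈ J V) :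
    Presheaf.IsLocallySurjective J
      (terminal.from ((FormalCoproduct.yoneda (C := C)).obj (K.obj (op (SimplexCategory.mk 0))))) := by
  refine ⟨fun {V} s => ?_⟩
  refine J.superset_covering ?_ (h V)
  rintro W g ⟨t⟩
  refine ⟨((yonedaIso (C := C)).inv.app (K.obj (op (SimplexCategory.mk 0)))).app (op W) t, ?_⟩
  have hT : IsTerminal ((⊤_ (Cᵒᵖ ⥤ Type u)).obj (op W)) :=
    terminalIsTerminal.isTerminalObj ((evaluation Cᵒᵖ (Type u)).obj (op W)) _
  have : Subsingleton ((⊤_ (Cᵒᵖ ⥤ Type u)).obj (op W)) :=
    ((Types.isTerminalEquivUnique _).1 hT).instSubsingleton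
  exact Subsingleton.elim _ _

/-- Sections of a binary product of presheaves of types are determined by their components. -/
lemma prod_sec_ext {F G : Cᵒᵖ ⥤ Type u} {W : C} (x x' : (F ⨯ G).obj (op W))
    (h1 : (prod.fst : F ⨯ G ⟶ F).app (op W) x = (prod.fst : F ⨯ G ⟶ F).app (op W) x')
    (h2 : (prod.snd : F ⨯ G ⟶ G).app (op W) x = (prod.snd : F ⨯ G ⟶ G).app (op W) x') :
    x = x' := by
  obtain ⟨ξ, rfl⟩ := yonedaEquiv.surjective x
  obtain ⟨ξ', rfl⟩ := yonedaEquiv.surjective x'
  congr 1
  apply Limits.prod.hom_ext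
  · apply yonedaEquiv.injective
    rw [yonedaEquiv_comp, yonedaEquiv_comp]
    exact h1
  · apply yonedaEquiv.injective
    rw [yonedaEquiv_comp, yonedaEquiv_comp]
    exact h2

section IsoLemmas

variable {K}

lemma hom_inv_apply (L : FormalCoproduct.{u} C) (W : C)
    (x : ((FormalCoproduct.yoneda (C := C)).obj L).obj (op W)) :
    ((yonedaIso (C := C)).inv.app L).app (op W) (((yonedaIso (C := C)).hom.app L).app (op W) x) =
      x := by
  have h := ConcreteCategory.congr_hom
    (NatTrans.congr_app ((yonedaIso (C := C)).hom_inv_id_app L) (op W)) x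
  simp only [NatTrans.comp_app, ConcreteCategory.comp_apply] at h
  exact h

lemma inv_hom_apply (L : FormalCoproduct.{u} C) (W : C) (x : (hF.obj L).obj (op W)) :
    ((yonedaIso (C := C)).hom.app L).app (op W) (((yonedaIso (C := C)).inv.app L).app (op W) x) =
      x := by
  have h := ConcreteCategory.congr_hom
    (NatTrans.congr_app ((yonedaIso (C := C)).inv_hom_id_app L) (op W)) x
  simp only [NatTrans.comp_app, ConcreteCategory.comp_apply] at h
  exact h

lemma hom_injective (L : FormalCoproduct.{u} C) (W : C) :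
    Function.Injective (((yonedaIso (C := C)).hom.app L).app (op W)) := by
  intro x x' h
  rw [← hom_inv_apply L W x, ← hom_inv_apply L W x', h]

lemma hom_res (L : FormalCoproduct.{u} C) {V W : C} (g : W ⟶ V)
    (x : ((FormalCoproduct.yoneda (C := C)).obj L).obj (op V)) :
    ((yonedaIso (C := C)).hom.app L).app (op W)
      (((FormalCoproduct.yoneda (C := C)).obj L).map g.op x) =
      (incl C).map g ≫ ((yonedaIso (C := C)).hom.app L).app (op V) x := by
  have h := ConcreteCategory.congr_hom (((yonedaIso (C := C)).hom.app L).naturality g.op) x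
  simp only [ConcreteCategory.comp_apply] at h
  exact h

end IsoLemmas

lemma locSurj_prodLift_of_fill0 (h : ∀ (V : C) (y : Fin 2 → Sec (YK K) 0 V), fillS (YK K) 0 y ∈ J V) :
    Presheaf.IsLocallySurjective J
      (prod.lift ((FormalCoproduct.yoneda (C := C)).map (K.δ (1 : Fin 2)))
        ((FormalCoproduct.yoneda (C := C)).map (K.δ (0 : Fin 2)))) := by
  refine ⟨fun {V} s => ?_⟩
  let F0 := (FormalCoproduct.yoneda (C := C)).obj (K.obj (op (SimplexCategory.mk 0)))
  let p : F0.obj (op V) := (prod.fst : F0 ⨯ F0 ⟶ F0).app (op V) s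
  let q : F0.obj (op V) := (prod.snd : F0 ⨯ F0 ⟶ F0).app (op V) s
  let y : Fin 2 → Sec (YK K) 0 V := fun i =>
    Fin.cases (((yonedaIso (C := C)).hom.app _).app (op V) q)
      (fun _ => ((yonedaIso (C := C)).hom.app _).app (op V) p) i
  refine J.superset_covering ?_ (h V y)
  rintro W g ⟨t, ht⟩
  refine ⟨((yonedaIso (C := C)).inv.app _).app (op W) t, ?_⟩
  have key : ∀ (i : Fin 2) (x : F0.obj (op V)),
      y i = ((yonedaIso (C := C)).hom.app _).app (op V) x →
      ((FormalCoproduct.yoneda (C := C)).map (K.δ i)).app (op W)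
        (((yonedaIso (C := C)).inv.app _).app (op W) t) = F0.map g.op x := by
    intro i x hx
    apply hom_injective
    rw [← toHF_face, inv_hom_apply, ht i, hx, hom_res]
    rfl
  apply prod_sec_ext
  · have h2 := ConcreteCategory.congr_hom (NatTrans.congr_app (prod.lift_fst
      ((FormalCoproduct.yoneda (C := C)).map (K.δ (1 : Fin 2)))
      ((FormalCoproduct.yoneda (C := C)).map (K.δ (0 : Fin 2)))) (op W))
      (((yonedaIso (C := C)).inv.app _).app (op W) t)
    simp only [NatTrans.comp_app, ConcreteCategory.comp_apply] at h2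
    have h3 := ConcreteCategory.congr_hom ((prod.fst : F0 ⨯ F0 ⟶ F0).naturality g.op) s
    simp only [ConcreteCategory.comp_apply] at h3
    rw [h2, h3]
    exact key 1 p rfl
  · have h2 := ConcreteCategory.congr_hom (NatTrans.congr_app (prod.lift_snd
      ((FormalCoproduct.yoneda (C := C)).map (K.δ (1 : Fin 2)))
      ((FormalCoproduct.yoneda (C := C)).map (K.δ (0 : Fin 2)))) (op W))
      (((yonedaIso (C := C)).inv.app _).app (op W) t)
    simp only [NatTrans.comp_app, ConcreteCategory.comp_apply] at h2
    have h3 := ConcreteCategory.congr_hom ((prod.snd : F0 ⨯ F0 ⟶ F0).naturality g.op) s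
    simp only [ConcreteCategory.comp_apply] at h3
    rw [h2, h3]
    exact key 0 q rfl

end Groth.Agent.H1.HyperConv
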