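import Groth.Agent.Lib.Helper1.HyperKanConv

/-!
# The simplicial formal coproduct of labelled simplices (helper1)

For a category `D` and a predicate `P` on its objects, `exK P` is the simplicial object of
`FormalCoproduct D` whose `n`-simplices are the functors `σ` from the (opposite of the) preorder of
"generalized faces" `[k] ⟶ [n]` of the standard `n`-simplex (ordered by factorization) to `D`
with values satisfying `P`; the corresponding object is the value of `σ` at the top face.
-/

set_option autoImplicit false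
universe u

namespace Groth.Agent.H1.HyperEx

open CategoryTheory CategoryTheory.Limits Opposite FormalCoproduct

/-- Generalized faces of the standard simplex `a`. -/
structure Gen (a : SimplexCategory) where
  /-- dimension -/
  k : ℕ
  /-- the face -/
  f : SimplexCategory.mk k ⟶ a

namespace Gen

variable {a b c : SimplexCategory}

instance : Preorder (Gen a) where
  le x y := ∃ h : SimplexCategory.mk x.k ⟶ SimplexCategory.mk y.k, h ≫ y.f = x.f
  le_refl x := ⟨𝟙 _, Category.id_comp _⟩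
  le_trans x y z := by
    rintro ⟨h, hh⟩ ⟨h', hh'⟩
    exact ⟨h ≫ h', by rw [Category.assoc, hh', hh]⟩

lemma le_def {x y : Gen a} :
    x ≤ y ↔ ∃ h : SimplexCategory.mk x.k ⟶ SimplexCategory.mk y.k, h ≫ y.f = x.f := Iff.rfl

/-- The top face. -/
def top (a : SimplexCategory) : Gen a := ⟨a.len, 𝟙 a⟩

lemma le_top' (x : Gen a) : x ≤ top a := ⟨x.f, Category.comp_id _⟩

/-- The image of a generalized face. -/
def map (θ : a ⟶ b) (x : Gen a) : Gen b := ⟨x.k, x.f ≫ θ⟩

lemma map_mono (θ : a ⟶ b) : Monotone (map θ) := by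
  rintro x y ⟨h, hh⟩
  refine ⟨h, ?_⟩
  change h ≫ y.f ≫ θ = x.f ≫ θ
  rw [← Category.assoc, hh]

/-- A generalized face misses the vertex `i`. -/
def Misses (x : Gen a) (i : Fin (a.len + 1)) : Prop := ∀ t, x.f.toOrderHom t ≠ i

lemma Misses.of_le {x y : Gen a} (h : x ≤ y) {i : Fin (a.len + 1)} (hy : y.Misses i) :
    x.Misses i := by
  obtain ⟨g, hg⟩ := h
  intro t ht
  apply hy (g.toOrderHom t)
  rw [← ht, ← hg]
  rfl

lemma map_comp (θ : a ⟶ b) (θ' : b ⟶ c) (x : Gen a) : map (θ ≫ θ') x = map θ' (map θ x) := rfl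

lemma map_id (x : Gen a) : map (𝟙 a) x = x := by
  cases x
  simp [map]

/-- `map θ` as a functor. -/
def mapF (θ : a ⟶ b) : Gen a ⥤ Gen b := (map_mono θ).functor

lemma mapF_comp (θ : a ⟶ b) (θ' : b ⟶ c) : mapF (θ ≫ θ') = mapF θ ⋙ mapF θ' := rfl

lemma mapF_id : mapF (𝟙 a) = 𝟭 (Gen a) := by
  exact CategoryTheory.Functor.ext (fun x => map_id x) (fun x y f => Subsingleton.elim _ _)

end Gen

variable {D : Type u} [SmallCategory D] (P : D → Prop)

/-- Label systems on the standard simplex `a` with values satisfying `P`. -/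
def Lab (a : SimplexCategory) : Type u := {σ : (Gen a)ᵒᵖ ⥤ D // ∀ x, P (σ.obj x)}

variable {P}

/-- Restriction of a label system along a simplicial operator. -/
def pull {a b : SimplexCategory} (θ : a ⟶ b) (σ : Lab P b) : Lab P a :=
  ⟨(Gen.mapF θ).op ⋙ σ.1, fun _ => σ.2 _⟩

lemma pull_comp {a b c : SimplexCategory} (θ : a ⟶ b) (θ' : b ⟶ c) (σ : Lab P c) :
    pull (θ ≫ θ') σ = pull θ (pull θ' σ) := rfl

lemma pull_id {a : SimplexCategory} (σ : Lab P a) : pull (𝟙 a) σ = σ := by
  apply Subtype.ext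
  change (Gen.mapF (𝟙 a)).op ⋙ σ.1 = σ.1
  rw [Gen.mapF_id]
  rfl

/-- The restriction map of a label system between comparable faces. -/
def Lab.res {a : SimplexCategory} (σ : Lab P a) {x y : Gen a} (h : x ≤ y) :
    σ.1.obj (op y) ⟶ σ.1.obj (op x) :=
  σ.1.map (homOfLE h).op

lemma Lab.res_comp {a : SimplexCategory} (σ : Lab P a) {x y z : Gen a} (h : x ≤ y) (h' : y ≤ z) :
    σ.res h' ≫ σ.res h = σ.res (h.trans h') := by
  unfold Lab.res
  rw [← σ.1.map_comp]
  rfl

lemma Lab.res_refl {a : SimplexCategory} (σ : Lab P a) (x : Gen a) :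
    σ.res (le_refl x) = 𝟙 _ := by
  unfold Lab.res
  have : (homOfLE (le_refl x)).op = 𝟙 (op x) := rfl
  rw [this, σ.1.map_id]

lemma Lab.map_eq_res {a : SimplexCategory} (σ : Lab P a) {x y : (Gen a)ᵒᵖ} (m : x ⟶ y) :
    σ.1.map m = σ.res (leOfHom m.unop) := by
  unfold Lab.res
  congr 1

variable (P)

/-- The formal coproduct of the top values of all label systems. -/
def exObj (a : SimplexCategory) : FormalCoproduct.{u} D :=
  ⟨Lab P a, fun σ => σ.1.obj (op (Gen.top a))⟩

/-- The simplicial operators. -/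
def exMap {a b : SimplexCategory} (θ : a ⟶ b) : exObj P b ⟶ exObj P a :=
  ⟨fun σ => pull θ σ, fun σ => σ.res (Gen.le_top' (Gen.map θ (Gen.top a)))⟩

lemma exMap_comp {a b c : SimplexCategory} (θ : a ⟶ b) (θ' : b ⟶ c) :
    exMap P (θ ≫ θ') = exMap P θ' ≫ exMap P θ := by
  refine FormalCoproduct.hom_ext rfl fun σ => ?_
  change Lab.res (a := c) σ (Gen.le_top' (Gen.map (θ ≫ θ') (Gen.top a))) ≫ 𝟙 _ =
    Lab.res (a := c) σ (Gen.le_top' (Gen.map θ' (Gen.top b))) ≫
      Lab.res (a := c) σ (Gen.map_mono θ' (Gen.le_top' (Gen.map θ (Gen.top a))))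
  rw [Category.comp_id, Lab.res_comp]
  rfl

lemma exMap_id (a : SimplexCategory) : exMap P (𝟙 a) = 𝟙 (exObj P a) := by
  refine FormalCoproduct.hom_ext (funext fun σ => pull_id σ) fun σ => ?_
  have e' : op (Gen.map (𝟙 a) (Gen.top a)) = op (Gen.top a) := by rw [Gen.map_id]
  have h1 : eqToHom (congrArg σ.1.obj e') = σ.res (le_of_eq (Gen.map_id (Gen.top a)).symm) := by
    rw [← eqToHom_map σ.1 e', Lab.map_eq_res]
  change Lab.res (a := a) σ (Gen.le_top' (Gen.map (𝟙 a) (Gen.top a))) ≫
    eqToHom (congrArg σ.1.obj e') = 𝟙 _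
  rw [h1, Lab.res_comp]
  exact Lab.res_refl σ _

/-- The simplicial formal coproduct of labelled simplices. -/
def exK : SimplicialObject (FormalCoproduct.{u} D) where
  obj a := exObj P a.unop
  map θ := exMap P θ.unop
  map_id a := exMap_id P a.unop
  map_comp θ θ' := exMap_comp P θ'.unop θ.unop

end Groth.Agent.H1.HyperEx
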