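import Groth.Agent.Lib.Helper1.HyperEx1

/-!
# Extending functors on a down-closed part of a preorder by an initial object (helper1)
-/

set_option autoImplicit false
universe u v

namespace Groth.Agent.H1.HyperEx

open CategoryTheory CategoryTheory.Limits Opposite

section Ext

variable {G : Type} [Preorder G] {E : Type u} [Category.{v} E]
  (U : G → Prop) (hU : ∀ ⦃z z' : G⦄, z ≤ z' → U z' → U z)
  (Φ : {z : G // U z}ᵒᵖ ⥤ E) (w₀ : E) (hw : IsInitial w₀)

open Classical in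
/-- The object part of the extension. -/
noncomputable def extObj (z : G) : E := if h : U z then Φ.obj (op ⟨z, h⟩) else w₀

lemma extObj_pos {z : G} (h : U z) : extObj U Φ w₀ z = Φ.obj (op ⟨z, h⟩) := by
  unfold extObj
  rw [dif_pos h]

lemma extObj_neg {z : G} (h : ¬ U z) : extObj U Φ w₀ z = w₀ := by
  unfold extObj
  rw [dif_neg h]

include hU in
open Classical in
/-- The morphism part of the extension. -/
noncomputable def extMap {z z' : G} (h : z ≤ z') : extObj U Φ w₀ z' ⟶ extObj U Φ w₀ z :=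
  if h' : U z' then
    eqToHom (extObj_pos U Φ w₀ h') ≫
      Φ.map (homOfLE (show (⟨z, hU h h'⟩ : {z : G // U z}) ≤ ⟨z', h'⟩ from h)).op ≫
      eqToHom (extObj_pos U Φ w₀ (hU h h')).symm
  else eqToHom (extObj_neg U Φ w₀ h') ≫ hw.to _

lemma extMap_pos {z z' : G} (h : z ≤ z') (h' : U z') :
    extMap U hU Φ w₀ hw h = eqToHom (extObj_pos U Φ w₀ h') ≫
      Φ.map (homOfLE (show (⟨z, hU h h'⟩ : {z : G // U z}) ≤ ⟨z', h'⟩ from h)).op ≫
      eqToHom (extObj_pos U Φ w₀ (hU h h')).symm := by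
  unfold extMap
  rw [dif_pos h']

lemma extMap_neg {z z' : G} (h : z ≤ z') (h' : ¬ U z') :
    extMap U hU Φ w₀ hw h = eqToHom (extObj_neg U Φ w₀ h') ≫ hw.to _ := by
  unfold extMap
  rw [dif_neg h']

/-- The extension of `Φ` by the initial object `w₀`. -/
noncomputable def ext : Gᵒᵖ ⥤ E where
  obj z := extObj U Φ w₀ z.unop
  map {z' z} m := extMap U hU Φ w₀ hw (leOfHom m.unop)
  map_id := by
    intro z
    by_cases h : U z.unop
    · rw [extMap_pos U hU Φ w₀ hw _ h]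
      have : (homOfLE (show (⟨z.unop, hU (leOfHom (𝟙 z).unop) h⟩ : {z : G // U z}) ≤
          ⟨z.unop, h⟩ from leOfHom (𝟙 z).unop)).op = 𝟙 (op (⟨z.unop, h⟩ : {z : G // U z})) := rfl
      rw [this, Φ.map_id, Category.id_comp, eqToHom_trans, eqToHom_refl]
    · rw [extMap_neg U hU Φ w₀ hw _ h]
      rw [← cancel_epi (eqToHom (extObj_neg U Φ w₀ h).symm)]
      exact hw.hom_ext _ _
  map_comp := by
    intro z'' z' z m m'
    by_cases h : U z''.unop
    · have h1 : U z'.unop := hU (leOfHom m.unop) h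
      have h2 : U z.unop := hU (leOfHom m'.unop) h1
      rw [extMap_pos U hU Φ w₀ hw _ h, extMap_pos U hU Φ w₀ hw _ h, extMap_pos U hU Φ w₀ hw _ h1]
      simp only [Category.assoc, eqToHom_trans_assoc, eqToHom_refl, Category.id_comp]
      rw [← Φ.map_comp_assoc]
      rfl
    · rw [extMap_neg U hU Φ w₀ hw _ h]
      rw [← cancel_epi (eqToHom (extObj_neg U Φ w₀ h).symm)]
      exact hw.hom_ext _ _

lemma ext_obj_pos {z : G} (h : U z) : (ext U hU Φ w₀ hw).obj (op z) = Φ.obj (op ⟨z, h⟩) :=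
  extObj_pos U Φ w₀ h

lemma ext_obj_neg {z : G} (h : ¬ U z) : (ext U hU Φ w₀ hw).obj (op z) = w₀ :=
  extObj_neg U Φ w₀ h

lemma ext_map_pos {z z' : G} (h : z ≤ z') (h' : U z') :
    (ext U hU Φ w₀ hw).map (homOfLE h).op = eqToHom (extObj_pos U Φ w₀ h') ≫
      Φ.map (homOfLE (show (⟨z, hU h h'⟩ : {z : G // U z}) ≤ ⟨z', h'⟩ from h)).op ≫
      eqToHom (extObj_pos U Φ w₀ (hU h h')).symm :=
  extMap_pos U hU Φ w₀ hw h h'

end Ext

section Preord

variable {G : Type} [Preorder G] {E : Type u} [Category.{v} E]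

/-- Transport of the action of a functor on a preorder along equalities of objects. -/
lemma map_eq_of_eq (F : Gᵒᵖ ⥤ E) {x x' y y' : G} (hx : x = x') (hy : y = y')
    (m : op x ⟶ op y) (m' : op x' ⟶ op y') :
    F.map m = eqToHom (by rw [hx]) ≫ F.map m' ≫ eqToHom (by rw [hy]) := by
  subst hx
  subst hy
  have : m = m' := Subsingleton.elim _ _
  subst this
  simp

end Preord

section Glue

variable {G : Type} [Preorder G] {E : Type u} [Category.{v} E] {I : Type}
  (U : I → G → Prop) (hU : ∀ (i : I) ⦃z z' : G⦄, z ≤ z' → U i z' → U i z)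
  (Φ : I → Gᵒᵖ ⥤ E)
  (ha : ∀ (i j : I) (z : G), U i z → U j z → (Φ i).obj (op z) = (Φ j).obj (op z))
  (hb : ∀ (i j : I) ⦃z w : G⦄ (h : z ≤ w) (hi : U i w) (hj : U j w),
    (Φ i).map (homOfLE h).op = eqToHom (ha i j w hi hj) ≫ (Φ j).map (homOfLE h).op ≫
      eqToHom (ha i j z (hU i h hi) (hU j h hj)).symm)

/-- The union of the `U i`. -/
def UU (z : G) : Prop := ∃ i, U i z

include hU in
lemma UU_down ⦃z z' : G⦄ (h : z ≤ z') (h' : UU U z') : UU U z := by
  obtain ⟨i, hi⟩ := h'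
  exact ⟨i, hU i h hi⟩

/-- A chosen index. -/
noncomputable def idx (z : {z : G // UU U z}) : I := Classical.choose z.2

omit [Preorder G] in
lemma idx_spec (z : {z : G // UU U z}) : U (idx U z) z.1 := Classical.choose_spec z.2

/-- The glued functor on the union. -/
noncomputable def glue : {z : G // UU U z}ᵒᵖ ⥤ E where
  obj z := (Φ (idx U z.unop)).obj (op z.unop.1)
  map {w z} m := (Φ (idx U w.unop)).map (homOfLE (show z.unop.1 ≤ w.unop.1 from leOfHom m.unop)).op ≫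
    eqToHom (ha _ _ _ (hU _ (leOfHom m.unop) (idx_spec U w.unop)) (idx_spec U z.unop))
  map_id := by
    intro z
    have : (homOfLE (show z.unop.1 ≤ z.unop.1 from leOfHom (𝟙 z).unop)).op = 𝟙 (op z.unop.1) := rfl
    rw [this, (Φ _).map_id, Category.id_comp, eqToHom_refl]
  map_comp := by
    intro v w z m m'
    have h1 : z.unop.1 ≤ w.unop.1 := leOfHom m'.unop
    have h2 : w.unop.1 ≤ v.unop.1 := leOfHom m.unop
    have e := hb (idx U w.unop) (idx U v.unop) h1 (idx_spec U w.unop)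
      (hU _ h2 (idx_spec U v.unop))
    have e2 : (homOfLE (show z.unop.1 ≤ v.unop.1 from leOfHom (m ≫ m').unop)).op =
        (homOfLE h2).op ≫ (homOfLE h1).op := rfl
    rw [e2, (Φ _).map_comp]
    change _ = (_ ≫ _) ≫ ((Φ (idx U w.unop)).map (homOfLE h1).op ≫ _)
    rw [e]
    simp only [Category.assoc, eqToHom_trans, eqToHom_trans_assoc, eqToHom_refl, Category.id_comp]

lemma glue_obj (z : G) (i : I) (hi : U i z) :
    (glue U hU Φ ha hb).obj (op ⟨z, ⟨i, hi⟩⟩) = (Φ i).obj (op z) :=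
  ha _ _ _ (idx_spec U ⟨z, ⟨i, hi⟩⟩) hi

lemma glue_map {z w : G} (h : z ≤ w) (i : I) (hi : U i w) :
    (glue U hU Φ ha hb).map (homOfLE (show (⟨z, ⟨i, hU i h hi⟩⟩ : {z : G // UU U z}) ≤
      ⟨w, ⟨i, hi⟩⟩ from h)).op =
      eqToHom (glue_obj U hU Φ ha hb w i hi) ≫ (Φ i).map (homOfLE h).op ≫
        eqToHom (glue_obj U hU Φ ha hb z i (hU i h hi)).symm := by
  have e := hb (idx U ⟨w, ⟨i, hi⟩⟩) i h (idx_spec U ⟨w, ⟨i, hi⟩⟩) hi
  change (Φ (idx U ⟨w, ⟨i, hi⟩⟩)).map (homOfLE h).op ≫ eqToHom _ = _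
  rw [e]
  simp only [Category.assoc, eqToHom_trans]
  rfl

variable (w₀ : E) (hw : IsInitial w₀)

/-- The glued functor, extended by an initial object. -/
noncomputable def total : Gᵒᵖ ⥤ E :=
  ext (UU U) (UU_down U hU) (glue U hU Φ ha hb) w₀ hw

lemma total_obj_pos (z : G) (i : I) (hi : U i z) :
    (total U hU Φ ha hb w₀ hw).obj (op z) = (Φ i).obj (op z) :=
  (ext_obj_pos (UU U) (UU_down U hU) (glue U hU Φ ha hb) w₀ hw ⟨i, hi⟩).trans
    (glue_obj U hU Φ ha hb z i hi)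

lemma total_obj_neg (z : G) (h : ∀ i, ¬ U i z) :
    (total U hU Φ ha hb w₀ hw).obj (op z) = w₀ :=
  ext_obj_neg (UU U) (UU_down U hU) (glue U hU Φ ha hb) w₀ hw (by rintro ⟨i, hi⟩; exact h i hi)

lemma total_obj_cases (z : G) :
    (total U hU Φ ha hb w₀ hw).obj (op z) = w₀ ∨
      ∃ i, (total U hU Φ ha hb w₀ hw).obj (op z) = (Φ i).obj (op z) := by
  by_cases h : ∃ i, U i z
  · obtain ⟨i, hi⟩ := h
    exact Or.inr ⟨i, total_obj_pos U hU Φ ha hb w₀ hw z i hi⟩
  · exact Or.inl (total_obj_neg U hU Φ ha hb w₀ hw z (fun i hi => h ⟨i, hi⟩))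

lemma total_map_pos {z w : G} (h : z ≤ w) (i : I) (hi : U i w) :
    (total U hU Φ ha hb w₀ hw).map (homOfLE h).op =
      eqToHom (total_obj_pos U hU Φ ha hb w₀ hw w i hi) ≫ (Φ i).map (homOfLE h).op ≫
        eqToHom (total_obj_pos U hU Φ ha hb w₀ hw z i (hU i h hi)).symm := by
  unfold total
  rw [ext_map_pos (UU U) (UU_down U hU) (glue U hU Φ ha hb) w₀ hw h ⟨i, hi⟩,
    glue_map U hU Φ ha hb h i hi]
  simp only [Category.assoc, eqToHom_trans, eqToHom_trans_assoc]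
  rfl

/-- The glued functor restricts to `Φ i` along a monotone map landing in `U i`. -/
lemma comp_total {G' : Type} [Preorder G'] (ι : G' ⥤ G) (i : I) (hι : ∀ x, U i (ι.obj x)) :
    ι.op ⋙ total U hU Φ ha hb w₀ hw = ι.op ⋙ Φ i := by
  refine CategoryTheory.Functor.ext (fun x => total_obj_pos U hU Φ ha hb w₀ hw _ i (hι x.unop)) ?_
  intro x y m
  have h : ι.obj y.unop ≤ ι.obj x.unop := leOfHom (ι.map m.unop)
  have e : ι.op.map m = (homOfLE h).op := Subsingleton.elim _ _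
  change (total U hU Φ ha hb w₀ hw).map (ι.op.map m) = _ ≫ (Φ i).map (ι.op.map m) ≫ _
  rw [e]
  exact total_map_pos U hU Φ ha hb w₀ hw h i (hι x.unop)

end Glue

end Groth.Agent.H1.HyperEx
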