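import Groth.Agent.Lib.Helper1.HyperEx2

/-!
# Filling spheres of label systems (helper1)
-/

set_option autoImplicit false
universe u v

namespace Groth.Agent.H1.HyperEx

open CategoryTheory CategoryTheory.Limits Opposite SimplexCategory

/-- A retraction of `δ i`. -/
def sRet {n : ℕ} (i : Fin (n + 2)) : SimplexCategory.mk (n + 1) ⟶ SimplexCategory.mk n :=
  σ (Fin.predAbove (Fin.last n) i)

lemma δ_sRet {n : ℕ} (i : Fin (n + 2)) : SimplexCategory.δ i ≫ sRet i = 𝟙 _ := by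
  ext x : 3
  dsimp [SimplexCategory.δ, SimplexCategory.σ, sRet]
  cases i using Fin.lastCases <;> simp

lemma comp_sRet_δ {n : ℕ} {Δ : SimplexCategory} (θ : Δ ⟶ SimplexCategory.mk (n + 1))
    (i : Fin (n + 2)) (hi : ∀ x, θ.toOrderHom x ≠ i) :
    (θ ≫ sRet i) ≫ SimplexCategory.δ i = θ := by
  ext x : 3
  suffices ∀ j ≠ i, i.succAbove (((Fin.last n).predAbove i).predAbove j) = j by
    dsimp [SimplexCategory.δ, SimplexCategory.σ, sRet]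
    exact this _ (hi _)
  intro j hj
  cases i using Fin.lastCases <;> simp [hj]

lemma δ_misses {n : ℕ} {Δ : SimplexCategory} (θ : Δ ⟶ SimplexCategory.mk n) (i : Fin (n + 2))
    (x : Fin (Δ.len + 1)) : (θ ≫ SimplexCategory.δ i).toOrderHom x ≠ i := by
  change i.succAbove _ ≠ i
  exact Fin.succAbove_ne _ _

namespace Gen

lemma map_top {a : SimplexCategory} {k : ℕ} (f : SimplexCategory.mk k ⟶ a) :
    map f (top (SimplexCategory.mk k)) = ⟨k, f⟩ := by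
  change (⟨k, 𝟙 _ ≫ f⟩ : Gen a) = ⟨k, f⟩
  rw [Category.id_comp]

end Gen

lemma chain3 {E : Type u} [Category.{v} E] {X₁ X₂ X₃ X₄ Y₁ Y₂ Y₃ Y₄ : E}
    {A : X₁ ⟶ Y₁} {B : X₂ ⟶ Y₂} {C : X₃ ⟶ Y₃} {D : X₄ ⟶ Y₄}
    (hp : X₁ = X₂) (hq : Y₂ = Y₁) (hr : X₂ = X₃) (hs : Y₃ = Y₂) (ht : X₃ = X₄) (hv : Y₄ = Y₃)
    (e1 : A = eqToHom hp ≫ B ≫ eqToHom hq) (e2 : B = eqToHom hr ≫ C ≫ eqToHom hs)
    (e3 : C = eqToHom ht ≫ D ≫ eqToHom hv) :
    A = eqToHom (hp.trans (hr.trans ht)) ≫ D ≫ eqToHom (hv.trans (hs.trans hq)) := by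
  subst hp hq hr hs ht hv
  subst e3
  subst e2
  subst e1
  simp

section Horn

variable {E : Type u} [Category.{v} E] {n : ℕ}
  (Ψ : Fin (n + 2) → (Gen (SimplexCategory.mk n))ᵒᵖ ⥤ E)
  (H : ∀ {k : ℕ} (i₁ i₂ : Fin (n + 2)) (f₁ f₂ : SimplexCategory.mk k ⟶ SimplexCategory.mk n),
    f₁ ≫ SimplexCategory.δ i₁ = f₂ ≫ SimplexCategory.δ i₂ →
      (Gen.mapF f₁).op ⋙ Ψ i₁ = (Gen.mapF f₂).op ⋙ Ψ i₂)

/-- The faces, extended to the whole simplex by the retractions. -/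
abbrev Phi (i : Fin (n + 2)) : (Gen (SimplexCategory.mk (n + 1)))ᵒᵖ ⥤ E :=
  (Gen.mapF (sRet i)).op ⋙ Ψ i

/-- missing a vertex -/
abbrev UM (i : Fin (n + 2)) (z : Gen (SimplexCategory.mk (n + 1))) : Prop := z.Misses i

lemma UM_down (i : Fin (n + 2)) ⦃z z' : Gen (SimplexCategory.mk (n + 1))⦄ (h : z ≤ z')
    (h' : UM i z') : UM i z := Gen.Misses.of_le h h'

include H in
lemma phi_obj (i j : Fin (n + 2)) (z : Gen (SimplexCategory.mk (n + 1))) (hi : UM i z)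
    (hj : UM j z) : (Phi Ψ i).obj (op z) = (Phi Ψ j).obj (op z) := by
  have e : (z.f ≫ sRet i) ≫ SimplexCategory.δ i = (z.f ≫ sRet j) ≫ SimplexCategory.δ j :=
    (comp_sRet_δ z.f i hi).trans (comp_sRet_δ z.f j hj).symm
  have h1 := Functor.congr_obj (H i j _ _ e) (op (Gen.top (SimplexCategory.mk z.k)))
  change (Ψ i).obj (op (Gen.map _ (Gen.top _))) = (Ψ j).obj (op (Gen.map _ (Gen.top _))) at h1
  rw [Gen.map_top, Gen.map_top] at h1
  exact h1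

include H in
lemma phi_map (i j : Fin (n + 2)) ⦃z w : Gen (SimplexCategory.mk (n + 1))⦄ (h : z ≤ w)
    (hi : UM i w) (hj : UM j w) :
    (Phi Ψ i).map (homOfLE h).op = eqToHom (phi_obj Ψ H i j w hi hj) ≫
      (Phi Ψ j).map (homOfLE h).op ≫
        eqToHom (phi_obj Ψ H i j z (UM_down i h hi) (UM_down j h hj)).symm := by
  obtain ⟨g, hg⟩ := h
  have e : (w.f ≫ sRet i) ≫ SimplexCategory.δ i = (w.f ≫ sRet j) ≫ SimplexCategory.δ j :=
    (comp_sRet_δ w.f i hi).trans (comp_sRet_δ w.f j hj).symm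
  let x : Gen (SimplexCategory.mk w.k) := ⟨z.k, g⟩
  let m : op (Gen.top (SimplexCategory.mk w.k)) ⟶ op x := (homOfLE (Gen.le_top' x)).op
  have e2 : (Ψ i).map ((Gen.mapF (w.f ≫ sRet i)).op.map m) = eqToHom _ ≫
      (Ψ j).map ((Gen.mapF (w.f ≫ sRet j)).op.map m) ≫ eqToHom _ :=
    Functor.congr_hom (H i j _ _ e) m
  have hx : ∀ l : Fin (n + 2), Gen.map (sRet l) w =
      Gen.map (w.f ≫ sRet l) (Gen.top (SimplexCategory.mk w.k)) := fun l =>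
    (Gen.map_top (w.f ≫ sRet l)).symm
  have hy : ∀ l : Fin (n + 2), Gen.map (sRet l) z = Gen.map (w.f ≫ sRet l) x := by
    intro l
    change (⟨z.k, z.f ≫ sRet l⟩ : Gen _) = ⟨z.k, g ≫ w.f ≫ sRet l⟩
    rw [← Category.assoc, hg]
  have e1 := map_eq_of_eq (Ψ i) (hx i) (hy i)
    ((Gen.mapF (sRet i)).op.map (homOfLE (show z ≤ w from ⟨g, hg⟩)).op)
    ((Gen.mapF (w.f ≫ sRet i)).op.map m)
  have e3 := map_eq_of_eq (Ψ j) (hx j).symm (hy j).symm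
    ((Gen.mapF (w.f ≫ sRet j)).op.map m)
    ((Gen.mapF (sRet j)).op.map (homOfLE (show z ≤ w from ⟨g, hg⟩)).op)
  exact chain3 _ _ _ _ _ _ e1 e2 e3

variable (w₀ : E) (hw : IsInitial w₀)

/-- The filler of the sphere `Ψ`. -/
noncomputable def filler : (Gen (SimplexCategory.mk (n + 1)))ᵒᵖ ⥤ E :=
  total UM UM_down (Phi Ψ) (phi_obj Ψ H) (phi_map Ψ H) w₀ hw

lemma filler_face (i : Fin (n + 2)) :
    (Gen.mapF (SimplexCategory.δ i)).op ⋙ filler Ψ H w₀ hw = Ψ i := by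
  have h := comp_total UM UM_down (Phi Ψ) (phi_obj Ψ H) (phi_map Ψ H) w₀ hw
    (Gen.mapF (SimplexCategory.δ i)) i (fun x t => δ_misses x.f i t)
  refine h.trans ?_
  change (Gen.mapF (SimplexCategory.δ i ≫ sRet i)).op ⋙ Ψ i = Ψ i
  rw [δ_sRet, Gen.mapF_id]
  rfl

lemma filler_obj_cases (z : (Gen (SimplexCategory.mk (n + 1)))ᵒᵖ) :
    (filler Ψ H w₀ hw).obj z = w₀ ∨ ∃ i x, (filler Ψ H w₀ hw).obj z = (Ψ i).obj x := by
  rcases total_obj_cases UM UM_down (Phi Ψ) (phi_obj Ψ H) (phi_map Ψ H) w₀ hw z.unop with h | ⟨i, h⟩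
  · exact Or.inl h
  · exact Or.inr ⟨i, _, h⟩

end Horn

end Groth.Agent.H1.HyperEx
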