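import Groth.Agent.Lib.Helper1.HyperSphere

/-!
# One-dimensional spheres (pairs of vertices) in simplicial formal coproducts (helper1)
-/

set_option autoImplicit false
universe u

namespace Groth.Agent.H1.HyperSphere0

open CategoryTheory CategoryTheory.Limits Opposite FormalCoproduct SimplexCategory
open Groth.Agent.H1.HyperBase Groth.Agent.H1.HyperSphere

variable {C : Type u} [SmallCategory C]

section

variable (K : SimplicialObject (FormalCoproduct.{u} C)) {V : C}
  (y : Fin 2 → ((incl C).obj V ⟶ K.obj (op (SimplexCategory.mk 0))))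

lemma wd {a : SimplexCategory} (i₁ i₂ : Fin 2)
    (θ₁ θ₂ : a ⟶ SimplexCategory.mk 0) (h : θ₁ ≫ δ i₁ = θ₂ ≫ δ i₂) :
    y i₁ ≫ K.map θ₁.op = y i₂ ≫ K.map θ₂.op := by
  by_cases hi : i₁ = i₂
  · subst hi
    rw [(cancel_mono (δ i₁)).1 h]
  · exfalso
    have h1 := congrArg (fun t => t.toOrderHom 0) h
    simp only [comp_toOrderHom, OrderHom.comp_coe, Function.comp_apply] at h1
    have h2 : (δ i₁).toOrderHom (θ₁.toOrderHom 0) ≠ i₁ := by
      change i₁.succAbove _ ≠ i₁
      exact Fin.succAbove_ne _ _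
    have h3 : (δ i₂).toOrderHom (θ₂.toOrderHom 0) ≠ i₂ := by
      change i₂.succAbove _ ≠ i₂
      exact Fin.succAbove_ne _ _
    rw [h1] at h2
    have key : ∀ (i₁ i₂ v : Fin 2), i₁ ≠ i₂ → v ≠ i₁ → v ≠ i₂ → False := by decide
    exact key i₁ i₂ _ hi h2 h3

lemma not_surjective_of_len_le {a : SimplexCategory} (ha : a.len ≤ 0)
    (θ : a ⟶ SimplexCategory.mk 1) : ¬ Function.Surjective θ.toOrderHom := by
  intro hs
  have := Fintype.card_le_of_surjective _ hs
  simp only [Fintype.card_fin, SimplexCategory.len_mk] at this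
  omega

/-- The section attached to `θ : a ⟶ [1]` (with `a.len ≤ 0`) by the vertices `y`. -/
noncomputable def faceSec {a : SimplexCategory} (ha : a.len ≤ 0)
    (θ : a ⟶ SimplexCategory.mk 1) : (incl C).obj V ⟶ K.obj (op a) :=
  y (eq_comp_δ_of_not_surjective θ (not_surjective_of_len_le ha θ)).choose ≫
    K.map (eq_comp_δ_of_not_surjective θ (not_surjective_of_len_le ha θ)).choose_spec.choose.op

lemma faceSec_eq {a : SimplexCategory} (ha : a.len ≤ 0) (i : Fin 2)
    (θ' : a ⟶ SimplexCategory.mk 0) :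
    faceSec K y ha (θ' ≫ δ i) = y i ≫ K.map θ'.op := by
  unfold faceSec
  have h := (eq_comp_δ_of_not_surjective (θ' ≫ δ i)
    (not_surjective_of_len_le ha (θ' ≫ δ i))).choose_spec.choose_spec
  exact wd K y _ _ _ _ h.symm

lemma sphere_nat {a a' : SimplexCategory} (ha : a.len ≤ 0) (ha' : a'.len ≤ 0)
    (ψ : a' ⟶ a) :
    (tens V 1).map ψ.op ≫ tensDesc (k := op a') (fun θ => faceSec K y ha' θ) =
      tensDesc (k := op a) (fun θ => faceSec K y ha θ) ≫ K.map ψ.op := by
  refine tens_hom_ext _ _ fun θ => ?_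
  rw [← Category.assoc, tsec_map, tsec_tensDesc, ← Category.assoc, tsec_tensDesc]
  obtain ⟨i, θ', rfl⟩ := eq_comp_δ_of_not_surjective θ (not_surjective_of_len_le ha θ)
  change faceSec K y ha' (ψ ≫ θ' ≫ δ i) = _
  rw [← Category.assoc, faceSec_eq K y ha' i (ψ ≫ θ'), faceSec_eq K y ha i θ',
    op_comp, K.map_comp, Category.assoc]

/-- The truncated map `V ⊗ Δ[1] → K` attached to two vertices. -/
noncomputable def sphere :
    (SimplicialObject.truncation 0).obj (tens V 1) ⟶
      (SimplicialObject.truncation 0).obj K where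
  app a := tensDesc (k := op a.unop.obj) (fun θ => faceSec K y a.unop.property θ)
  naturality := by
    intro a a' φ
    exact sphere_nat K y a.unop.property a'.unop.property φ.unop.hom

lemma sphere_face (i : Fin 2) :
    tsecT 0 V 1 (op ⟨SimplexCategory.mk 0, le_rfl⟩) (δ i) ≫
      (sphere K y).app (op ⟨SimplexCategory.mk 0, le_rfl⟩) = y i := by
  have h1 : tsecT 0 V 1 (op ⟨SimplexCategory.mk 0, le_rfl⟩) (δ i) ≫
      (sphere K y).app (op ⟨SimplexCategory.mk 0, le_rfl⟩) =
      faceSec K y (a := SimplexCategory.mk 0) le_rfl (δ i) :=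
    tsec_tensDesc (k := op (SimplexCategory.mk 0)) _ (δ i)
  rw [h1]
  have h2 := faceSec_eq K y (a := SimplexCategory.mk 0) le_rfl i (𝟙 _)
  rw [Category.id_comp] at h2
  rw [h2]
  simp

end

/-- Pairs of vertices can locally be joined by an edge, if the `0`-coskeleton unit is locally
surjective in degree one. -/
theorem faceFillSieve_zero_mem (J : GrothendieckTopology C)
    (K : SimplicialObject (FormalCoproduct.{u} C))
    [∀ (F : (SimplexCategory.Truncated 0)ᵒᵖ ⥤ FormalCoproduct.{u} C),
      (SimplexCategory.Truncated.inclusion 0).op.HasRightKanExtension F]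
    (hsurj : ∀ (V : C) (r : (incl C).obj V ⟶
        ((SimplicialObject.cosk 0).obj K).obj (op (SimplexCategory.mk 1))),
      liftSieve (((SimplicialObject.coskAdj 0).unit.app K).app
        (op (SimplexCategory.mk 1))) r ∈ J V)
    {V : C} (y : Fin 2 → ((incl C).obj V ⟶ K.obj (op (SimplexCategory.mk 0)))) :
    faceFillSieve K 0 y ∈ J V := by
  refine J.superset_covering ?_
    (fillSieve_mem J 0 K 1 hsurj V (sphere K y))
  rintro W g ⟨t, ht⟩
  refine ⟨t, fun i => ?_⟩
  have h := fill_spec 0 K ht (op ⟨SimplexCategory.mk 0, le_rfl⟩) (δ i)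
  rw [sphere_face K y i] at h
  exact h

end Groth.Agent.H1.HyperSphere0
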