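import Groth.Agent.Lib.Helper1.HyperEx3
import Groth.Agent.Lib.Helper1.HyperSphere0

/-!
# The simplicial formal coproduct of labelled simplices is locally Kan-contractible (helper1)
-/

set_option autoImplicit false
universe u

namespace Groth.Agent.H1.HyperEx

open CategoryTheory CategoryTheory.Limits Opposite FormalCoproduct SimplexCategory
open Groth.Agent.H1.HyperBase Groth.Agent.H1.HyperCone Groth.Agent.H1.HyperSite

variable {D : Type u} [SmallCategory D] {P : D → Prop}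

/-- The functor to `Under V` attached to a label system with a section of its top value. -/
def underOf' {a : SimplexCategory} {V : D} (σ : Lab P a)
    (t : V ⟶ σ.1.obj (op (Gen.top a))) : (Gen a)ᵒᵖ ⥤ Under V where
  obj x := Under.mk (t ≫ σ.res (Gen.le_top' x.unop))
  map {x y} m := Under.homMk (σ.1.map m) (by
    change (t ≫ σ.res _) ≫ σ.1.map m = t ≫ σ.res _
    rw [Lab.map_eq_res, Category.assoc, Lab.res_comp])
  map_id x := by
    ext
    simp
  map_comp m m' := by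
    ext
    simp

/-- The functor to `Under V` attached to a section. -/
def underOf {a : SimplexCategory} {V : D} (y : (incl D).obj V ⟶ exObj P a) :
    (Gen a)ᵒᵖ ⥤ Under V :=
  underOf' (y.f PUnit.unit) (y.φ PUnit.unit)

lemma underOf_P {a : SimplexCategory} {V : D} (y : (incl D).obj V ⟶ exObj P a)
    (x : (Gen a)ᵒᵖ) : P ((underOf y).obj x).right :=
  (y.f PUnit.unit).2 x

/-- The section attached to a functor to `Under V`. -/
def secOf {a : SimplexCategory} {V : D} (Ψ : (Gen a)ᵒᵖ ⥤ Under V)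
    (hΨ : ∀ x, P (Ψ.obj x).right) : (incl D).obj V ⟶ exObj P a :=
  Hom.fromIncl (⟨Ψ ⋙ Under.forget V, hΨ⟩ : Lab P a) (Ψ.obj (op (Gen.top a))).hom

lemma secOf_congr {a : SimplexCategory} {V : D} {Ψ Ψ' : (Gen a)ᵒᵖ ⥤ Under V} (h : Ψ = Ψ')
    (hΨ : ∀ x, P (Ψ.obj x).right) (hΨ' : ∀ x, P (Ψ'.obj x).right) :
    secOf Ψ hΨ = secOf Ψ' hΨ' := by
  subst h
  rfl

lemma secOf_underOf' {a : SimplexCategory} {V : D} (σ : Lab P a)
    (t : V ⟶ σ.1.obj (op (Gen.top a))) (h : ∀ x, P ((underOf' σ t).obj x).right) :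
    secOf (underOf' σ t) h = Hom.fromIncl σ t := by
  refine FormalCoproduct.hom_ext rfl fun i => ?_
  cases i
  change (t ≫ σ.res (Gen.le_top' (Gen.top a))) ≫ 𝟙 _ = t
  rw [Category.comp_id]
  have : σ.res (Gen.le_top' (Gen.top a)) = 𝟙 _ := Lab.res_refl _ _
  rw [this, Category.comp_id]

lemma secOf_underOf {a : SimplexCategory} {V : D} (y : (incl D).obj V ⟶ exObj P a)
    (h : ∀ x, P ((underOf y).obj x).right) : secOf (underOf y) h = y :=
  (secOf_underOf' _ _ h).trans (Hom.fromIncl_asSigma y)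

lemma secOf_comp_exMap {a b : SimplexCategory} (θ : a ⟶ b) {V : D} (Ψ : (Gen b)ᵒᵖ ⥤ Under V)
    (hΨ : ∀ x, P (Ψ.obj x).right) :
    secOf Ψ hΨ ≫ exMap P θ = secOf ((Gen.mapF θ).op ⋙ Ψ) (fun _ => hΨ _) := by
  refine FormalCoproduct.hom_ext rfl fun i => ?_
  cases i
  change ((Ψ.obj (op (Gen.top b))).hom ≫
    (Ψ.map (homOfLE (Gen.le_top' (Gen.map θ (Gen.top a)))).op).right) ≫ 𝟙 _ =
      (Ψ.obj (op (Gen.map θ (Gen.top a)))).hom
  rw [Category.comp_id]
  exact Under.w _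

lemma incl_map_comp_secOf {a : SimplexCategory} {V W : D} (g : W ⟶ V)
    (Ψ : (Gen a)ᵒᵖ ⥤ Under V) (hΨ : ∀ x, P (Ψ.obj x).right) :
    (incl D).map g ≫ secOf Ψ hΨ = secOf (Ψ ⋙ Under.map g) (fun x => hΨ x) := by
  refine FormalCoproduct.hom_ext rfl fun i => ?_
  cases i
  change (g ≫ (Ψ.obj (op (Gen.top a))).hom) ≫ 𝟙 _ = g ≫ (Ψ.obj (op (Gen.top a))).hom
  rw [Category.comp_id]

lemma underOf'_pull {a b : SimplexCategory} (θ : a ⟶ b) {V : D} (σ : Lab P b)
    (t : V ⟶ σ.1.obj (op (Gen.top b))) :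
    underOf' (pull θ σ) (t ≫ σ.res (Gen.le_top' (Gen.map θ (Gen.top a)))) =
      (Gen.mapF θ).op ⋙ underOf' σ t := by
  refine CategoryTheory.Functor.ext (fun x => ?_) ?_
  · change Under.mk ((t ≫ σ.res _) ≫ σ.res (Gen.map_mono θ (Gen.le_top' x.unop))) =
        Under.mk (t ≫ σ.res _)
    rw [Category.assoc, Lab.res_comp]
    rfl
  · intro x x' m
    ext
    simp only [Under.comp_right, Under.eqToHom_right]
    change σ.1.map ((Gen.mapF θ).op.map m) =
      eqToHom _ ≫ σ.1.map ((Gen.mapF θ).op.map m) ≫ eqToHom _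
    rw [eqToHom_refl, eqToHom_refl, Category.id_comp, Category.comp_id]

lemma underOf_comp_exMap {a b : SimplexCategory} (θ : a ⟶ b) {V : D}
    (y : (incl D).obj V ⟶ exObj P b) :
    underOf (y ≫ exMap P θ) = (Gen.mapF θ).op ⋙ underOf y :=
  underOf'_pull θ (y.f PUnit.unit) (y.φ PUnit.unit)

section Kan

variable (J : GrothendieckTopology D) (P)

/-- The sieve generated by the maps from objects satisfying `P`. -/
def pSieve (V : D) : Sieve V where
  arrows W g := ∃ (W' : D) (a : W ⟶ W') (g' : W' ⟶ V), P W' ∧ a ≫ g' = g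
  downward_closed := by
    rintro W W₂ g ⟨W', a, g', hW', rfl⟩ k
    exact ⟨W', k ≫ a, g', hW', by rw [Category.assoc]⟩

variable {P}

lemma fill_mem (hcov : ∀ V, pSieve P V ∈ J V) (n : ℕ) (V : D)
    (y : Fin (n + 2) → ((incl D).obj V ⟶ exObj P (SimplexCategory.mk n)))
    (hwd : ∀ {k : ℕ} (i₁ i₂ : Fin (n + 2))
      (f₁ f₂ : SimplexCategory.mk k ⟶ SimplexCategory.mk n),
      f₁ ≫ SimplexCategory.δ i₁ = f₂ ≫ SimplexCategory.δ i₂ →
        y i₁ ≫ exMap P f₁ = y i₂ ≫ exMap P f₂) :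
    fillS (YK (exK P)) n y ∈ J V := by
  refine J.superset_covering ?_ (hcov V)
  rintro W g ⟨W', a, g', hW', rfl⟩
  refine (fillS (YK (exK P)) n y).downward_closed ?_ a
  let Ψ : Fin (n + 2) → (Gen (SimplexCategory.mk n))ᵒᵖ ⥤ Under W' :=
    fun i => underOf (y i) ⋙ Under.map g'
  have H : ∀ {k : ℕ} (i₁ i₂ : Fin (n + 2))
      (f₁ f₂ : SimplexCategory.mk k ⟶ SimplexCategory.mk n),
      f₁ ≫ SimplexCategory.δ i₁ = f₂ ≫ SimplexCategory.δ i₂ →
        (Gen.mapF f₁).op ⋙ Ψ i₁ = (Gen.mapF f₂).op ⋙ Ψ i₂ := by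
    intro k i₁ i₂ f₁ f₂ e
    have h1 := congrArg underOf (hwd i₁ i₂ f₁ f₂ e)
    rw [underOf_comp_exMap, underOf_comp_exMap] at h1
    change ((Gen.mapF f₁).op ⋙ underOf (y i₁)) ⋙ Under.map g' =
      ((Gen.mapF f₂).op ⋙ underOf (y i₂)) ⋙ Under.map g'
    rw [h1]
  have hP : ∀ x, P ((filler Ψ H (Under.mk (𝟙 W')) Under.mkIdInitial).obj x).right := by
    intro x
    rcases filler_obj_cases Ψ H (Under.mk (𝟙 W')) Under.mkIdInitial x with h | ⟨i, x', h⟩
    · rw [h]
      exact hW'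
    · rw [h]
      exact underOf_P (y i) x'
  refine ⟨secOf (filler Ψ H (Under.mk (𝟙 W')) Under.mkIdInitial) hP, fun i => ?_⟩
  change secOf (filler Ψ H (Under.mk (𝟙 W')) Under.mkIdInitial) hP ≫
    exMap P (SimplexCategory.δ i) = (incl D).map g' ≫ y i
  rw [secOf_comp_exMap]
  rw [secOf_congr (filler_face Ψ H _ _ i) _ (fun x => underOf_P (y i) x)]
  rw [← incl_map_comp_secOf, secOf_underOf]

lemma vertex_mem (hcov : ∀ V, pSieve P V ∈ J V) (V : D) :
    vertexSieve (YK (exK P)) V ∈ J V := by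
  refine J.superset_covering ?_ (hcov V)
  rintro W g ⟨W', a, g', hW', rfl⟩
  refine (vertexSieve (YK (exK P)) V).downward_closed ?_ a
  exact ⟨secOf ((Functor.const _).obj (Under.mk (𝟙 W'))) (fun _ => hW')⟩

/-- The simplicial formal coproduct of labelled simplices is locally Kan-contractible as soon as
the objects satisfying `P` cover every object. -/
theorem localKan_exK (hcov : ∀ V, pSieve P V ∈ J V) : LocalKan J (YK (exK P)) where
  vertex := vertex_mem J hcov
  fill0 V y := fill_mem J hcov 0 V y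
    (fun i₁ i₂ f₁ f₂ e => HyperSphere0.wd (exK P) y i₁ i₂ f₁ f₂ e)
  fill N V y hy := fill_mem J hcov (N + 1) V y
    (fun i₁ i₂ f₁ f₂ e => HyperSphere.wd (exK P) N y (fun i j hij => hy i j hij) i₁ i₂ f₁ f₂ e)

lemma exK_P (n : ℕ) (i : ((exK P).obj (op (SimplexCategory.mk n))).I) :
    P (((exK P).obj (op (SimplexCategory.mk n))).obj i) :=
  i.2 _

end Kan

end Groth.Agent.H1.HyperEx
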