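import Groth.Agent.Lib.Helper1.HyperEx4

/-!
# Hypercoverings with components in a given class of objects (helper1)
-/

set_option autoImplicit false
universe u

namespace Groth.Agent.H1.HyperEx

open CategoryTheory CategoryTheory.Limits Opposite FormalCoproduct

/-- If the class `B` covers every object, every object `X` has a hypercovering with all components
in `B` (the simplicial formal coproduct of `B`-labelled simplices over `X`). -/
theorem exists_hypercovering_in_class {C : Type u} [SmallCategory C]
    (J : GrothendieckTopology C) (B : Set C)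
    (h1 : ∀ U : C, ∃ (ι : Type u) (V : ι → C) (f : ∀ i, V i ⟶ U),
      Sieve.ofArrows V f ∈ J U ∧ ∀ i, V i ∈ B)
    (X : C) [∀ (n : ℕ) (F : (SimplexCategory.Truncated n)ᵒᵖ ⥤ Limits.FormalCoproduct.{u} (Over X)),
      (SimplexCategory.Truncated.inclusion n).op.HasRightKanExtension F] :
    ∃ K : SimplicialObject (FormalCoproduct.{u} (Over X)), Hyper.IsHypercovering J X K ∧
      ∀ (n : ℕ) (i : (K.obj (op (SimplexCategory.mk n))).I),
        ((K.obj (op (SimplexCategory.mk n))).obj i).left ∈ B := by
  have hcov : ∀ V : Over X, pSieve (fun W : Over X => W.left ∈ B) V ∈ (J.over X) V := by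
    intro V
    rw [GrothendieckTopology.mem_over_iff]
    obtain ⟨ι, Y0, f, hf, hY⟩ := h1 V.left
    refine J.superset_covering ?_ hf
    rintro W g ⟨W', a, g', ⟨i⟩, rfl⟩
    rw [Sieve.overEquiv_iff]
    refine ⟨Over.mk (f i ≫ V.hom), Over.homMk a (by simp), Over.homMk (f i) rfl, hY i, ?_⟩
    ext
    simp
  refine ⟨exK (fun W : Over X => W.left ∈ B), ?_, fun n i => exK_P n i⟩
  exact HyperKanConv.isHypercovering_of_localKan J X _ (localKan_exK (J.over X) hcov)

end Groth.Agent.H1.HyperEx
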