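import Groth.Agent.Lib.Helper1.HyperConv

/-!
# Locally Kan-contractible simplicial formal coproducts are hypercoverings (helper1)

The converse of `HyperSite.localKan_of_isHypercoveringSite` / `HyperOver.localKan_of_isHypercovering`.
-/

set_option autoImplicit false
universe u

namespace Groth.Agent.H1.HyperKanConv

open CategoryTheory CategoryTheory.Limits Opposite FormalCoproduct SimplexCategory
open Groth.Agent.H1.HyperBase Groth.Agent.H1.HyperSphere Groth.Agent.H1.HyperCone
open Groth.Agent.H1.HyperSite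

variable {C : Type u} [SmallCategory C] (J : GrothendieckTopology C)
  (K : SimplicialObject (FormalCoproduct.{u} C))

section Unit

open SimplicialObject

variable (n : ℕ)
  [∀ (F : (SimplexCategory.Truncated n)ᵒᵖ ⥤ FormalCoproduct.{u} C),
    (SimplexCategory.Truncated.inclusion n).op.HasRightKanExtension F]

/-- Local surjectivity of the coskeleton unit from the local filling of truncated maps. -/
theorem liftSieve_unit_mem (m : ℕ)
    (hfill : ∀ (V : C) (s : (truncation n).obj (tens V m) ⟶ (truncation n).obj K),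
      fillSieve n K m V s ∈ J V)
    (V : C) (r : (incl C).obj V ⟶ ((cosk n).obj K).obj (op (SimplexCategory.mk m))) :
    liftSieve (((coskAdj n).unit.app K).app (op (SimplexCategory.mk m))) r ∈ J V := by
  let α : tens V m ⟶ (cosk n).obj K := rho ((cosk n).obj K) r
  let s := ((coskAdj n).homEquiv (tens V m) ((truncation n).obj K)).symm α
  refine J.superset_covering ?_ (hfill V s)
  rintro W g ⟨y, hy⟩
  refine ⟨y, ?_⟩
  have h1 : rho K y ≫ (coskAdj n).unit.app K = tensMap g m ≫ α := by
    have h2 := congrArg ((coskAdj n).homEquiv (tens W m) ((truncation n).obj K)) hy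
    rw [Adjunction.homEquiv_naturality_left, Equiv.apply_symm_apply,
      Adjunction.homEquiv_unit] at h2
    have h3 := (coskAdj n).unit.naturality (rho K y)
    simp only [Functor.id_obj, Functor.id_map, Functor.comp_obj, Functor.comp_map] at h3
    rw [h3]
    exact h2
  have h4 := congrArg ev h1
  rw [ev_comp, ev_rho, ev_tensMap, ev_rho] at h4
  exact h4

end Unit

section Faces

open SimplicialObject

variable {K}

/-- Naturality of the sections of a truncated map. -/
lemma sec_nat {n m : ℕ} {V : C}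
    (s : (truncation n).obj (tens V m) ⟶ (truncation n).obj K)
    (a a' : (SimplexCategory.Truncated n)ᵒᵖ) (φ : a ⟶ a')
    (f : a.unop.obj ⟶ SimplexCategory.mk m) :
    (tsecT n V m a f ≫ s.app a) ≫ K.map φ.unop.hom.op =
      tsecT n V m a' (φ.unop.hom ≫ f) ≫ s.app a' := by
  have h := s.naturality φ
  have h1 : tsecT n V m a f ≫ ((truncation n).obj (tens V m)).map φ =
      tsecT n V m a' (φ.unop.hom ≫ f) :=
    tsec_map V m (k := op a.unop.obj) (k' := op a'.unop.obj) φ.unop.hom.op f
  rw [← h1, Category.assoc, Category.assoc, h]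
  rfl

/-- A filler of the faces of a truncated map fills the truncated map. -/
lemma fill_of_faces {N m : ℕ} {V W : C}
    (s : (truncation N).obj (tens V (m + 1)) ⟶ (truncation N).obj K) (hm : m ≤ N)
    (hN : N < m + 1)
    (g : W ⟶ V) (t : (incl C).obj W ⟶ K.obj (op (SimplexCategory.mk (m + 1))))
    (ht : ∀ i : Fin (m + 2), t ≫ K.map (δ i).op = (incl C).map g ≫
      tsecT N V (m + 1) (op ⟨SimplexCategory.mk m, hm⟩) (δ i) ≫
        s.app (op ⟨SimplexCategory.mk m, hm⟩)) :
    (truncation N).map (rho K t) = (truncation N).map (tensMap g (m + 1)) ≫ s := by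
  refine NatTrans.ext (funext fun a => ?_)
  refine tens_hom_ext (k := op a.unop.obj) _ _ fun f => ?_
  have h1 : tsecT N W (m + 1) a f ≫ ((truncation N).map (rho K t)).app a = t ≫ K.map f.op :=
    tsec_tensDesc (k := op a.unop.obj) (fun f => t ≫ K.map f.op) f
  have h3 : tsecT N W (m + 1) a f ≫ ((truncation N).map (tensMap g (m + 1))).app a =
      (incl C).map g ≫ tsecT N V (m + 1) a f :=
    tsec_tensMap g (m + 1) (k := op a.unop.obj) f
  have h2 : tsecT N W (m + 1) a f ≫ ((truncation N).map (tensMap g (m + 1)) ≫ s).app a =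
      (incl C).map g ≫ tsecT N V (m + 1) a f ≫ s.app a := by
    rw [NatTrans.comp_app, ← Category.assoc, h3, Category.assoc]
  refine h1.trans (Eq.trans ?_ h2.symm)
  have hns : ¬ Function.Surjective f.toOrderHom := by
    intro hs
    have h5 := Fintype.card_le_of_surjective _ hs
    simp only [Fintype.card_fin, SimplexCategory.len_mk] at h5
    have h6 : a.unop.obj.len ≤ N := a.unop.property
    change m + 1 + 1 ≤ a.unop.obj.len + 1 at h5
    omega
  obtain ⟨i, f', rfl⟩ := eq_comp_δ_of_not_surjective f hns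
  let φ : (op ⟨SimplexCategory.mk m, hm⟩ : (SimplexCategory.Truncated N)ᵒᵖ) ⟶ a :=
    (ObjectProperty.homMk f' : a.unop ⟶ ⟨SimplexCategory.mk m, hm⟩).op
  have h4 : (tsecT N V (m + 1) (op ⟨SimplexCategory.mk m, hm⟩) (δ i) ≫
      s.app (op ⟨SimplexCategory.mk m, hm⟩)) ≫ K.map f'.op =
      tsecT N V (m + 1) a (f' ≫ δ i) ≫ s.app a :=
    sec_nat s (op ⟨SimplexCategory.mk m, hm⟩) a φ (δ i)
  have e1 : t ≫ K.map (f' ≫ δ i).op = (t ≫ K.map (δ i).op) ≫ K.map f'.op := by
    rw [op_comp, K.map_comp, Category.assoc]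
  have e2 : (t ≫ K.map (δ i).op) ≫ K.map f'.op =
      ((incl C).map g ≫ tsecT N V (m + 1) (op ⟨SimplexCategory.mk m, hm⟩) (δ i) ≫
          s.app (op ⟨SimplexCategory.mk m, hm⟩)) ≫ K.map f'.op :=
    congrArg (fun x => x ≫ K.map f'.op) (ht i)
  have e3 : ((incl C).map g ≫ tsecT N V (m + 1) (op ⟨SimplexCategory.mk m, hm⟩) (δ i) ≫
          s.app (op ⟨SimplexCategory.mk m, hm⟩)) ≫ K.map f'.op =
      (incl C).map g ≫ (tsecT N V (m + 1) (op ⟨SimplexCategory.mk m, hm⟩) (δ i) ≫
          s.app (op ⟨SimplexCategory.mk m, hm⟩)) ≫ K.map f'.op :=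
    Category.assoc _ _ _
  have e4 : (incl C).map g ≫ (tsecT N V (m + 1) (op ⟨SimplexCategory.mk m, hm⟩) (δ i) ≫
          s.app (op ⟨SimplexCategory.mk m, hm⟩)) ≫ K.map f'.op =
      (incl C).map g ≫ tsecT N V (m + 1) a (f' ≫ δ i) ≫ s.app a :=
    congrArg (fun x => (incl C).map g ≫ x) h4
  exact e1.trans (e2.trans (e3.trans e4))

end Faces

section Main

open SimplicialObject

/-- Truncated maps `V ⊗ Δ[n+1] → K` can locally be filled if `K` is locally Kan-contractible. -/
theorem fillSieve_mem_of_localKan (hK : LocalKan J (YK K)) (n : ℕ) (V : C)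
    (s : (truncation n).obj (tens V (n + 1)) ⟶ (truncation n).obj K) :
    fillSieve n K (n + 1) V s ∈ J V := by
  let y : Fin (n + 2) → Sec (YK K) n V := fun i =>
    tsecT n V (n + 1) (op ⟨SimplexCategory.mk n, le_rfl⟩) (δ i) ≫
      s.app (op ⟨SimplexCategory.mk n, le_rfl⟩)
  have hfill : fillS (YK K) n y ∈ J V := by
    cases n with
    | zero => exact hK.fill0 V y
    | succ N =>
      refine hK.fill N V y ?_
      intro i j hij
      let φi : (op ⟨SimplexCategory.mk (N + 1), le_rfl⟩ : (SimplexCategory.Truncated (N + 1))ᵒᵖ) ⟶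
          op ⟨SimplexCategory.mk N, Nat.le_succ N⟩ :=
        (ObjectProperty.homMk (SimplexCategory.δ i) : (⟨SimplexCategory.mk N, Nat.le_succ N⟩ :
          SimplexCategory.Truncated (N + 1)) ⟶ ⟨SimplexCategory.mk (N + 1), le_rfl⟩).op
      let φj : (op ⟨SimplexCategory.mk (N + 1), le_rfl⟩ : (SimplexCategory.Truncated (N + 1))ᵒᵖ) ⟶
          op ⟨SimplexCategory.mk N, Nat.le_succ N⟩ :=
        (ObjectProperty.homMk (SimplexCategory.δ j) : (⟨SimplexCategory.mk N, Nat.le_succ N⟩ :
          SimplexCategory.Truncated (N + 1)) ⟶ ⟨SimplexCategory.mk (N + 1), le_rfl⟩).op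
      have h1 := sec_nat s (op ⟨SimplexCategory.mk (N + 1), le_rfl⟩)
        (op ⟨SimplexCategory.mk N, Nat.le_succ N⟩) φi (SimplexCategory.δ j.succ)
      have h2 := sec_nat s (op ⟨SimplexCategory.mk (N + 1), le_rfl⟩)
        (op ⟨SimplexCategory.mk N, Nat.le_succ N⟩) φj (SimplexCategory.δ i.castSucc)
      have h3 : SimplexCategory.δ i ≫ SimplexCategory.δ j.succ =
          SimplexCategory.δ j ≫ SimplexCategory.δ i.castSucc := SimplexCategory.δ_comp_δ hij
      change y j.succ ≫ K.map (SimplexCategory.δ i).op =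
        y i.castSucc ≫ K.map (SimplexCategory.δ j).op
      refine h1.trans (Eq.trans ?_ h2.symm)
      change tsecT (N + 1) V (N + 2) (op ⟨SimplexCategory.mk N, Nat.le_succ N⟩)
          (SimplexCategory.δ i ≫ SimplexCategory.δ j.succ) ≫ _ =
        tsecT (N + 1) V (N + 2) (op ⟨SimplexCategory.mk N, Nat.le_succ N⟩)
          (SimplexCategory.δ j ≫ SimplexCategory.δ i.castSucc) ≫ _
      rw [h3]
  refine J.superset_covering ?_ hfill
  rintro W g ⟨t, ht⟩
  exact ⟨t, fill_of_faces s le_rfl (Nat.lt_succ_self _) g t (fun i => ht i)⟩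

variable [∀ (n : ℕ) (F : (SimplexCategory.Truncated n)ᵒᵖ ⥤ FormalCoproduct.{u} C),
    (SimplexCategory.Truncated.inclusion n).op.HasRightKanExtension F]

/-- A locally Kan-contractible simplicial formal coproduct is a hypercovering of the final
object in Verdier's sense. -/
theorem isHypercoveringSite_of_localKan (hK : LocalKan J (YK K)) :
    Hyper.IsHypercoveringSite J K :=
  ⟨HyperConv.locSurj_terminal_of_vertex J K hK.vertex,
    HyperConv.locSurj_prodLift_of_fill0 J K hK.fill0,
    fun n _ => (locSurj_yoneda_iff J _).2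
      (liftSieve_unit_mem J K n (n + 1) (fillSieve_mem_of_localKan J K hK n))⟩

end Main

section Over

variable {D : Type u} [SmallCategory D] (J' : GrothendieckTopology D) (X : D)
  (L : SimplicialObject (FormalCoproduct.{u} (Over X)))
  [∀ (n : ℕ) (F : (SimplexCategory.Truncated n)ᵒᵖ ⥤ FormalCoproduct.{u} (Over X)),
    (SimplexCategory.Truncated.inclusion n).op.HasRightKanExtension F]

/-- A simplicial formal coproduct over `X` which is locally Kan-contractible on the over site is
a hypercovering of `X`. -/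
theorem isHypercovering_of_localKan (hL : LocalKan (J'.over X) (YK L)) :
    Hyper.IsHypercovering J' X L := by
  refine ⟨?_, fun n => HyperOver.isSRCovering_of_liftSieve_mem _ _
    (liftSieve_unit_mem (J'.over X) L n (n + 1) (fillSieve_mem_of_localKan (J'.over X) L hL n))⟩
  have h := hL.vertex (Over.mk (𝟙 X))
  rw [GrothendieckTopology.mem_over_iff] at h
  refine J'.superset_covering ?_ h
  intro Z g hg
  rw [Sieve.overEquiv_iff] at hg
  obtain ⟨t⟩ := hg
  rw [Sieve.mem_ofArrows_iff]
  refine ⟨t.f PUnit.unit, (t.φ PUnit.unit).left, ?_⟩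
  have hw : (t.φ PUnit.unit).left ≫ ((L.obj (op (SimplexCategory.mk 0))).obj
      (t.f PUnit.unit)).hom = g ≫ 𝟙 X := Over.w (t.φ PUnit.unit)
  rw [Category.comp_id] at hw
  exact hw.symm

end Over

end Groth.Agent.H1.HyperKanConv
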