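import Mathlib

/-!
# Local criteria for sheafified complexes of presheaves of abelian groups (helper1)

For a small site `(C, J)` and `a = presheafToSheaf J Ab`:
* `isZero_sheafify_of_locally_zero`: a presheaf all of whose sections are locally zero has zero sheafification.
* `exact_sheafify_of_locally`: a short complex of presheaves in which every cycle is locally a boundary
  becomes exact after sheafification.
* `epi_sheafify_of_locally_surjective`.
* `isZero_homology_sheafify`, `nonempty_homology_zero_iso`: homology of sheafified chain complexes.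
-/

set_option autoImplicit false
universe u

namespace Groth.Agent.H1.HyperLoc

open CategoryTheory CategoryTheory.Limits Opposite

variable {C : Type u} [SmallCategory C] (J : GrothendieckTopology C)

/-- `P ⟶ a P` is zero when every section of `P` is locally zero. -/
theorem toSheafify_eq_zero (P : Cᵒᵖ ⥤ AddCommGrpCat.{u})
    (h : ∀ (U : C) (x : P.obj (op U)), ∃ S ∈ J U, ∀ ⦃V : C⦄ (g : V ⟶ U), S g → P.map g.op x = 0) :
    toSheafify J P = 0 := by
  ext ⟨U⟩ x
  obtain ⟨S, hS, hx⟩ := h U x
  let G : Sheaf J AddCommGrpCat.{u} := (presheafToSheaf J AddCommGrpCat.{u}).obj P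
  change (toSheafify J P).app (op U) x = 0
  refine Sheaf.isSeparated G U S hS _ 0 (fun V g hg => ?_)
  have hnat := ConcreteCategory.congr_hom ((toSheafify J P).naturality g.op) x
  simp only [ConcreteCategory.comp_apply] at hnat
  change G.obj.map g.op ((toSheafify J P).app (op U) x) = G.obj.map g.op 0
  rw [map_zero]
  change (sheafify J P).map g.op ((toSheafify J P).app (op U) x) = 0
  rw [← hnat, hx g hg, map_zero]

/-- A presheaf of abelian groups all of whose sections are locally zero has zero sheafification. -/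
theorem isZero_sheafify_of_locally_zero (P : Cᵒᵖ ⥤ AddCommGrpCat.{u})
    (h : ∀ (U : C) (x : P.obj (op U)), ∃ S ∈ J U, ∀ ⦃V : C⦄ (g : V ⟶ U), S g → P.map g.op x = 0) :
    IsZero ((presheafToSheaf J AddCommGrpCat.{u}).obj P) := by
  rw [IsZero.iff_id_eq_zero]
  apply ((sheafificationAdjunction J AddCommGrpCat.{u}).homEquiv P _).injective
  rw [Adjunction.homEquiv_unit, Adjunction.homEquiv_unit]
  have h0 : (sheafificationAdjunction J AddCommGrpCat.{u}).unit.app P = 0 :=
    toSheafify_eq_zero J P h
  rw [h0, zero_comp, zero_comp]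


lemma app_injective_of_mono {P Q : Cᵒᵖ ⥤ AddCommGrpCat.{u}} (f : P ⟶ Q) [Mono f] (U : Cᵒᵖ) :
    Function.Injective (f.app U) := by
  have : Mono (f.app U) := inferInstance
  exact (AddCommGrpCat.mono_iff_injective _).1 this

lemma app_surjective_of_epi {P Q : Cᵒᵖ ⥤ AddCommGrpCat.{u}} (f : P ⟶ Q) [Epi f] (U : Cᵒᵖ) :
    Function.Surjective (f.app U) := by
  have : Epi (f.app U) := inferInstance
  exact (AddCommGrpCat.epi_iff_surjective _).1 this

/-- The homology presheaf of a short complex of presheaves in which cycles are locally boundaries is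
locally zero. -/
theorem homology_locally_zero (S : ShortComplex (Cᵒᵖ ⥤ AddCommGrpCat.{u}))
    (h : ∀ (U : C) (z : S.X₂.obj (op U)), S.g.app (op U) z = 0 →
      ∃ T ∈ J U, ∀ ⦃V : C⦄ (g : V ⟶ U), T g → ∃ w : S.X₁.obj (op V),
        S.f.app (op V) w = S.X₂.map g.op z)
    (U : C) (x : S.homology.obj (op U)) :
    ∃ T ∈ J U, ∀ ⦃V : C⦄ (g : V ⟶ U), T g → S.homology.map g.op x = 0 := by
  obtain ⟨c, rfl⟩ := app_surjective_of_epi S.homologyπ (op U) x
  have hz : S.g.app (op U) (S.iCycles.app (op U) c) = 0 := by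
    rw [← ConcreteCategory.comp_apply, ← NatTrans.comp_app, S.iCycles_g]
    rfl
  obtain ⟨T, hT, hT'⟩ := h U _ hz
  refine ⟨T, hT, fun V g hg => ?_⟩
  obtain ⟨w, hw⟩ := hT' g hg
  have h1 : S.cycles.map g.op c = S.toCycles.app (op V) w := by
    apply app_injective_of_mono S.iCycles (op V)
    have e1 := ConcreteCategory.congr_hom (S.iCycles.naturality g.op) c
    simp only [ConcreteCategory.comp_apply] at e1
    have e2 := ConcreteCategory.congr_hom (congrArg (fun t => t.app (op V)) S.toCycles_i) w
    simp only [NatTrans.comp_app, ConcreteCategory.comp_apply] at e2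
    rw [e1, e2, hw]
  have e3 := ConcreteCategory.congr_hom (S.homologyπ.naturality g.op) c
  simp only [ConcreteCategory.comp_apply] at e3
  rw [← e3, h1]
  rw [← ConcreteCategory.comp_apply, ← NatTrans.comp_app, S.toCycles_comp_homologyπ]
  rfl

/-- A short complex of presheaves of abelian groups in which every cycle is locally a boundary becomes
exact after sheafification. -/
theorem exact_sheafify_of_locally (S : ShortComplex (Cᵒᵖ ⥤ AddCommGrpCat.{u}))
    (h : ∀ (U : C) (z : S.X₂.obj (op U)), S.g.app (op U) z = 0 →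
      ∃ T ∈ J U, ∀ ⦃V : C⦄ (g : V ⟶ U), T g → ∃ w : S.X₁.obj (op V),
        S.f.app (op V) w = S.X₂.map g.op z) :
    (S.map (presheafToSheaf J AddCommGrpCat.{u})).Exact := by
  rw [ShortComplex.exact_iff_isZero_homology]
  refine IsZero.of_iso ?_ (S.mapHomologyIso (presheafToSheaf J AddCommGrpCat.{u}))
  exact isZero_sheafify_of_locally_zero J _ (homology_locally_zero J S h)

/-- A locally surjective morphism of presheaves of abelian groups becomes an epimorphism after
sheafification. -/
theorem epi_sheafify_of_locally_surjective {P Q : Cᵒᵖ ⥤ AddCommGrpCat.{u}} (f : P ⟶ Q)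
    (h : ∀ (U : C) (y : Q.obj (op U)), ∃ T ∈ J U, ∀ ⦃V : C⦄ (g : V ⟶ U), T g →
      ∃ x : P.obj (op V), f.app (op V) x = Q.map g.op y) :
    Epi ((presheafToSheaf J AddCommGrpCat.{u}).map f) := by
  let S : ShortComplex (Cᵒᵖ ⥤ AddCommGrpCat.{u}) :=
    ShortComplex.mk f (0 : Q ⟶ Q) comp_zero
  have hS := exact_sheafify_of_locally J S (fun U z _ => h U z)
  have hg : (S.map (presheafToSheaf J AddCommGrpCat.{u})).g = 0 :=
    (presheafToSheaf J AddCommGrpCat.{u}).map_zero _ _
  exact (ShortComplex.exact_iff_epi _ hg).1 hS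


section Complex

variable (P : ChainComplex (Cᵒᵖ ⥤ AddCommGrpCat.{u}) ℕ)

/-- The sheafification of a chain complex of presheaves of abelian groups. -/
noncomputable abbrev aCx : ChainComplex (Sheaf J AddCommGrpCat.{u}) ℕ :=
  ((presheafToSheaf J AddCommGrpCat.{u}).mapHomologicalComplex (ComplexShape.down ℕ)).obj P

/-- If every cycle of degree `n + 1` of a chain complex of presheaves is locally a boundary, the
sheafified complex has zero homology in degree `n + 1`. -/
theorem isZero_homology_sheafify (n : ℕ)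
    (h : ∀ (U : C) (z : (P.X (n + 1)).obj (op U)), (P.d (n + 1) n).app (op U) z = 0 →
      ∃ T ∈ J U, ∀ ⦃V : C⦄ (g : V ⟶ U), T g → ∃ w : (P.X (n + 2)).obj (op V),
        (P.d (n + 2) (n + 1)).app (op V) w = (P.X (n + 1)).map g.op z) :
    IsZero ((aCx J P).homology (n + 1)) := by
  rw [← HomologicalComplex.exactAt_iff_isZero_homology,
    HomologicalComplex.exactAt_iff' _ (n + 2) (n + 1) n (by simp) (by simp)]
  exact exact_sheafify_of_locally J (P.sc' (n + 2) (n + 1) n) h

/-- Degree zero homology of the sheafified complex, given a locally exact augmentation. -/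
theorem nonempty_homology_zero_iso (Z : Cᵒᵖ ⥤ AddCommGrpCat.{u}) (ε : P.X 0 ⟶ Z)
    (hε : P.d 1 0 ≫ ε = 0)
    (hsurj : ∀ (U : C) (y : Z.obj (op U)), ∃ T ∈ J U, ∀ ⦃V : C⦄ (g : V ⟶ U), T g →
      ∃ x : (P.X 0).obj (op V), ε.app (op V) x = Z.map g.op y)
    (hex : ∀ (U : C) (z : (P.X 0).obj (op U)), ε.app (op U) z = 0 →
      ∃ T ∈ J U, ∀ ⦃V : C⦄ (g : V ⟶ U), T g → ∃ w : (P.X 1).obj (op V),
        (P.d 1 0).app (op V) w = (P.X 0).map g.op z) :
    Nonempty ((aCx J P).homology 0 ≅ (presheafToSheaf J AddCommGrpCat.{u}).obj Z) := by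
  let S : ShortComplex (Cᵒᵖ ⥤ AddCommGrpCat.{u}) := ShortComplex.mk (P.d 1 0) ε hε
  have hS : (S.map (presheafToSheaf J AddCommGrpCat.{u})).Exact := exact_sheafify_of_locally J S hex
  have hepi : Epi (S.map (presheafToSheaf J AddCommGrpCat.{u})).g :=
    epi_sheafify_of_locally_surjective J ε hsurj
  have hc1 := hS.gIsCokernel
  have hc2 := (aCx J P).opcyclesIsCokernel 1 0 (by simp)
  exact ⟨(aCx J P).isoHomologyι₀ ≪≫ IsColimit.coconePointUniqueUpToIso hc2 hc1⟩

end Complex

end Groth.Agent.H1.HyperLoc
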