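import Groth.Agent.Lib.Helper1.HyperBase

/-!
# Spheres in simplicial formal coproducts from compatible faces (helper1)
-/

set_option autoImplicit false
universe u

namespace Groth.Agent.H1.HyperSphere

open CategoryTheory CategoryTheory.Limits Opposite FormalCoproduct SimplexCategory
open Groth.Agent.H1.HyperBase

variable {C : Type u} [SmallCategory C]

section

variable (K : SimplicialObject (FormalCoproduct.{u} C)) {V : C} (N : ℕ)
  (y : Fin (N + 3) → ((incl C).obj V ⟶ K.obj (op (SimplexCategory.mk (N + 1)))))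
  (hy : ∀ i j : Fin (N + 2), i ≤ j →
    y j.succ ≫ K.map (δ i).op = y i.castSucc ≫ K.map (δ j).op)

include hy in
lemma wd_lt {a : SimplexCategory} (i j : Fin (N + 2)) (hij : i ≤ j)
    (θ₁ θ₂ : a ⟶ SimplexCategory.mk (N + 1))
    (h : θ₁ ≫ δ i.castSucc = θ₂ ≫ δ j.succ) :
    y i.castSucc ≫ K.map θ₁.op = y j.succ ≫ K.map θ₂.op := by
  have hmiss : ∀ x, θ₁.toOrderHom x ≠ j := by
    intro x hx
    have h1 := congrArg (fun t => t.toOrderHom x) h
    simp only [comp_toOrderHom, OrderHom.comp_coe, Function.comp_apply] at h1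
    rw [hx] at h1
    have h2 : (δ i.castSucc).toOrderHom j = j.succ := by
      change i.castSucc.succAbove j = j.succ
      exact Fin.succAbove_of_le_castSucc _ _ (Fin.castSucc_le_castSucc_iff.2 hij)
    rw [h2] at h1
    have h3 : (δ j.succ).toOrderHom (θ₂.toOrderHom x) ≠ j.succ := by
      change j.succ.succAbove _ ≠ j.succ
      exact Fin.succAbove_ne _ _
    exact h3 h1.symm
  obtain ⟨h', rfl⟩ := eq_comp_δ_of_not_surjective' θ₁ j hmiss
  have h4 : θ₂ = h' ≫ δ i := by
    have : (h' ≫ δ i) ≫ δ j.succ = θ₂ ≫ δ j.succ := by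
      rw [Category.assoc, δ_comp_δ hij, ← Category.assoc]
      exact h
    exact ((cancel_mono (δ j.succ)).1 this).symm
  subst h4
  rw [op_comp, op_comp, K.map_comp, K.map_comp, ← Category.assoc, ← Category.assoc, hy i j hij]

include hy in
lemma wd {a : SimplexCategory} (i₁ i₂ : Fin (N + 3))
    (θ₁ θ₂ : a ⟶ SimplexCategory.mk (N + 1)) (h : θ₁ ≫ δ i₁ = θ₂ ≫ δ i₂) :
    y i₁ ≫ K.map θ₁.op = y i₂ ≫ K.map θ₂.op := by
  have key : ∀ (i₁ i₂ : Fin (N + 3)) (θ₁ θ₂ : a ⟶ SimplexCategory.mk (N + 1)),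
      i₁ < i₂ → θ₁ ≫ δ i₁ = θ₂ ≫ δ i₂ → y i₁ ≫ K.map θ₁.op = y i₂ ≫ K.map θ₂.op := by
    intro i₁ i₂ θ₁ θ₂ hlt h
    have hne0 : i₂ ≠ 0 := Fin.ne_zero_of_lt hlt
    have hnel : i₁ ≠ Fin.last (N + 2) := Fin.ne_last_of_lt hlt
    obtain ⟨j, rfl⟩ := Fin.exists_succ_eq.2 hne0
    obtain ⟨i, rfl⟩ := Fin.exists_castSucc_eq.2 hnel
    exact wd_lt K N y hy i j (Fin.castSucc_lt_succ_iff.1 hlt) θ₁ θ₂ h
  rcases lt_trichotomy i₁ i₂ with hlt | heq | hgt
  · exact key i₁ i₂ θ₁ θ₂ hlt h
  · subst heq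
    rw [(cancel_mono (δ i₁)).1 h]
  · exact (key i₂ i₁ θ₂ θ₁ hgt h.symm).symm

lemma not_surjective_of_len_le {a : SimplexCategory} (ha : a.len ≤ N + 1)
    (θ : a ⟶ SimplexCategory.mk (N + 2)) : ¬ Function.Surjective θ.toOrderHom := by
  intro hs
  have := Fintype.card_le_of_surjective _ hs
  simp only [Fintype.card_fin, SimplexCategory.len_mk] at this
  omega

/-- The section attached to `θ : a ⟶ [N+2]` (with `a.len ≤ N + 1`) by the faces `y`. -/
noncomputable def faceSec {a : SimplexCategory} (ha : a.len ≤ N + 1)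
    (θ : a ⟶ SimplexCategory.mk (N + 2)) : (incl C).obj V ⟶ K.obj (op a) :=
  y (eq_comp_δ_of_not_surjective θ (not_surjective_of_len_le N ha θ)).choose ≫
    K.map (eq_comp_δ_of_not_surjective θ (not_surjective_of_len_le N ha θ)).choose_spec.choose.op

include hy in
lemma faceSec_eq {a : SimplexCategory} (ha : a.len ≤ N + 1) (i : Fin (N + 3))
    (θ' : a ⟶ SimplexCategory.mk (N + 1)) :
    faceSec K N y ha (θ' ≫ δ i) = y i ≫ K.map θ'.op := by
  unfold faceSec
  have h := (eq_comp_δ_of_not_surjective (θ' ≫ δ i)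
    (not_surjective_of_len_le N ha (θ' ≫ δ i))).choose_spec.choose_spec
  exact wd K N y hy _ _ _ _ h.symm

include hy in
lemma sphere_nat {a a' : SimplexCategory} (ha : a.len ≤ N + 1) (ha' : a'.len ≤ N + 1)
    (ψ : a' ⟶ a) :
    (tens V (N + 2)).map ψ.op ≫ tensDesc (k := op a') (fun θ => faceSec K N y ha' θ) =
      tensDesc (k := op a) (fun θ => faceSec K N y ha θ) ≫ K.map ψ.op := by
  refine tens_hom_ext _ _ fun θ => ?_
  rw [← Category.assoc, tsec_map, tsec_tensDesc, ← Category.assoc, tsec_tensDesc]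
  obtain ⟨i, θ', rfl⟩ := eq_comp_δ_of_not_surjective θ (not_surjective_of_len_le N ha θ)
  change faceSec K N y ha' (ψ ≫ θ' ≫ δ i) = _
  rw [← Category.assoc, faceSec_eq K N y hy ha' i (ψ ≫ θ'), faceSec_eq K N y hy ha i θ',
    op_comp, K.map_comp, Category.assoc]

include hy in
/-- The truncated map `V ⊗ Δ[N+2] → K` attached to compatible faces. -/
noncomputable def sphere :
    (SimplicialObject.truncation (N + 1)).obj (tens V (N + 2)) ⟶
      (SimplicialObject.truncation (N + 1)).obj K where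
  app a := tensDesc (k := op a.unop.obj) (fun θ => faceSec K N y a.unop.property θ)
  naturality := by
    intro a a' φ
    exact sphere_nat K N y hy a.unop.property a'.unop.property φ.unop.hom

lemma sphere_face (i : Fin (N + 3)) :
    tsecT (N + 1) V (N + 2) (op ⟨SimplexCategory.mk (N + 1), le_rfl⟩) (δ i) ≫
      (sphere K N y hy).app (op ⟨SimplexCategory.mk (N + 1), le_rfl⟩) = y i := by
  have h1 : tsecT (N + 1) V (N + 2) (op ⟨SimplexCategory.mk (N + 1), le_rfl⟩) (δ i) ≫
      (sphere K N y hy).app (op ⟨SimplexCategory.mk (N + 1), le_rfl⟩) =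
      faceSec K N y (a := SimplexCategory.mk (N + 1)) le_rfl (δ i) :=
    tsec_tensDesc (k := op (SimplexCategory.mk (N + 1))) _ (δ i)
  rw [h1]
  have h2 := faceSec_eq K N y hy (a := SimplexCategory.mk (N + 1)) le_rfl i (𝟙 _)
  rw [Category.id_comp] at h2
  rw [h2]
  simp

end

/-- The sieve of arrows along which the sphere with faces `y` admits a filler. -/
def faceFillSieve (K : SimplicialObject (FormalCoproduct.{u} C)) (m : ℕ) {V : C}
    (y : Fin (m + 2) → ((incl C).obj V ⟶ K.obj (op (SimplexCategory.mk m)))) : Sieve V where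
  arrows W g := ∃ t : (incl C).obj W ⟶ K.obj (op (SimplexCategory.mk (m + 1))),
    ∀ i, t ≫ K.map (δ i).op = (incl C).map g ≫ y i
  downward_closed := by
    rintro W W' g ⟨t, ht⟩ h
    refine ⟨(incl C).map h ≫ t, fun i => ?_⟩
    rw [Category.assoc, ht i, Functor.map_comp, Category.assoc]

/-- Spheres with compatible faces can locally be filled, if the coskeleton unit is locally
surjective. -/
theorem faceFillSieve_mem (J : GrothendieckTopology C)
    (K : SimplicialObject (FormalCoproduct.{u} C)) (N : ℕ)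
    [∀ (F : (SimplexCategory.Truncated (N + 1))ᵒᵖ ⥤ FormalCoproduct.{u} C),
      (SimplexCategory.Truncated.inclusion (N + 1)).op.HasRightKanExtension F]
    (hsurj : ∀ (V : C) (r : (incl C).obj V ⟶
        ((SimplicialObject.cosk (N + 1)).obj K).obj (op (SimplexCategory.mk (N + 2)))),
      liftSieve (((SimplicialObject.coskAdj (N + 1)).unit.app K).app
        (op (SimplexCategory.mk (N + 2)))) r ∈ J V)
    {V : C} (y : Fin (N + 3) → ((incl C).obj V ⟶ K.obj (op (SimplexCategory.mk (N + 1)))))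
    (hy : ∀ i j : Fin (N + 2), i ≤ j →
      y j.succ ≫ K.map (δ i).op = y i.castSucc ≫ K.map (δ j).op) :
    faceFillSieve K (N + 1) y ∈ J V := by
  refine J.superset_covering ?_
    (fillSieve_mem J (N + 1) K (N + 2) hsurj V (sphere K N y hy))
  rintro W g ⟨t, ht⟩
  refine ⟨t, fun i => ?_⟩
  have h := fill_spec (N + 1) K ht (op ⟨SimplexCategory.mk (N + 1), le_rfl⟩) (δ i)
  rw [sphere_face K N y hy i] at h
  exact h

end Groth.Agent.H1.HyperSphere
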