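import Groth.Prelude.Def_Hyper
import Groth.Agent.Lib.Helper1.HyperSphere
import Groth.Agent.Lib.Helper1.HyperAcyclic

/-!
# Hypercoverings of the final object are locally Kan-contractible (helper1)
-/

set_option autoImplicit false
universe u

namespace Groth.Agent.H1.HyperSite

open CategoryTheory CategoryTheory.Limits Opposite FormalCoproduct
open Groth.Agent.H1.HyperBase Groth.Agent.H1.HyperSphere Groth.Agent.H1.HyperCone

variable {C : Type u} [SmallCategory C] (J : GrothendieckTopology C)
  (K : SimplicialObject (FormalCoproduct.{u} C))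

/-- The explicit simplicial presheaf of sections of `K`. -/
abbrev YK : SimplicialObject (Cᵒᵖ ⥤ Type u) := K ⋙ hF

lemma vertex_of_locSurj
    (h : Presheaf.IsLocallySurjective J
      (terminal.from ((FormalCoproduct.yoneda (C := C)).obj (K.obj (op (SimplexCategory.mk 0))))))
    (V : C) : vertexSieve (YK K) V ∈ J V := by
  have hT : IsTerminal ((⊤_ (Cᵒᵖ ⥤ Type u)).obj (op V)) :=
    terminalIsTerminal.isTerminalObj ((evaluation Cᵒᵖ (Type u)).obj (op V)) _
  let s : (⊤_ (Cᵒᵖ ⥤ Type u)).obj (op V) := ((Types.isTerminalEquivUnique _).1 hT).default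
  refine J.superset_covering ?_ (h.imageSieve_mem s)
  rintro W g ⟨t, _⟩
  exact ⟨((yonedaIso (C := C)).hom.app (K.obj (op (SimplexCategory.mk 0)))).app (op W) t⟩

/-- Local surjectivity of a map into a binary product of presheaves of types, in terms of pairs
of sections. -/
lemma pair_lift_of_locSurj {F1 F0 : Cᵒᵖ ⥤ Type u} (a b : F1 ⟶ F0)
    (h : Presheaf.IsLocallySurjective J (prod.lift a b)) (V : C)
    (p q : F0.obj (op V)) :
    ∃ S ∈ J V, ∀ ⦃W : C⦄ (g : W ⟶ V), S g → ∃ t : F1.obj (op W),
      a.app (op W) t = F0.map g.op p ∧ b.app (op W) t = F0.map g.op q := by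
  let s : (F0 ⨯ F0).obj (op V) :=
    yonedaEquiv (prod.lift (yonedaEquiv.symm p) (yonedaEquiv.symm q))
  have hs1 : (prod.fst : F0 ⨯ F0 ⟶ F0).app (op V) s = p := by
    change (prod.fst : F0 ⨯ F0 ⟶ F0).app (op V)
      (yonedaEquiv (prod.lift (yonedaEquiv.symm p) (yonedaEquiv.symm q))) = p
    rw [← yonedaEquiv_comp, prod.lift_fst, Equiv.apply_symm_apply]
  have hs2 : (prod.snd : F0 ⨯ F0 ⟶ F0).app (op V) s = q := by
    change (prod.snd : F0 ⨯ F0 ⟶ F0).app (op V)
      (yonedaEquiv (prod.lift (yonedaEquiv.symm p) (yonedaEquiv.symm q))) = q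
    rw [← yonedaEquiv_comp, prod.lift_snd, Equiv.apply_symm_apply]
  refine ⟨_, h.imageSieve_mem s, ?_⟩
  rintro W g ⟨t, ht⟩
  refine ⟨t, ?_, ?_⟩
  · have h1 := congrArg ((prod.fst : F0 ⨯ F0 ⟶ F0).app (op W)) ht
    have h2 := ConcreteCategory.congr_hom
      (NatTrans.congr_app (prod.lift_fst a b) (op W)) t
    simp only [NatTrans.comp_app, ConcreteCategory.comp_apply] at h2
    have h3 := ConcreteCategory.congr_hom ((prod.fst : F0 ⨯ F0 ⟶ F0).naturality g.op) s
    simp only [ConcreteCategory.comp_apply] at h3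
    rw [← h2, h1, h3, hs1]
  · have h1 := congrArg ((prod.snd : F0 ⨯ F0 ⟶ F0).app (op W)) ht
    have h2 := ConcreteCategory.congr_hom
      (NatTrans.congr_app (prod.lift_snd a b) (op W)) t
    simp only [NatTrans.comp_app, ConcreteCategory.comp_apply] at h2
    have h3 := ConcreteCategory.congr_hom ((prod.snd : F0 ⨯ F0 ⟶ F0).naturality g.op) s
    simp only [ConcreteCategory.comp_apply] at h3
    rw [← h2, h1, h3, hs2]

lemma face_YK {m : ℕ} {W : C} (i : Fin (m + 2)) (t : Sec (YK K) (m + 1) W) :
    face (YK K) i t = t ≫ K.δ i := rfl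

lemma res_YK {m : ℕ} {V W : C} (g : W ⟶ V) (y : Sec (YK K) m V) :
    res (YK K) g y = (incl C).map g ≫ y := rfl

/-- transport of sections along `yonedaIso`. -/
lemma toHF_face {m : ℕ} {W : C} (i : Fin (m + 2))
    (t : ((FormalCoproduct.yoneda (C := C)).obj (K.obj (op (SimplexCategory.mk (m + 1))))).obj
      (op W)) :
    face (YK K) i (((yonedaIso (C := C)).hom.app _).app (op W) t) =
      ((yonedaIso (C := C)).hom.app _).app (op W)
        (((FormalCoproduct.yoneda (C := C)).map (K.δ i)).app (op W) t) := by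
  have h := ConcreteCategory.congr_hom
    (NatTrans.congr_app ((yonedaIso (C := C)).hom.naturality (K.δ i)) (op W)) t
  simp only [NatTrans.comp_app, ConcreteCategory.comp_apply] at h
  exact h.symm

lemma fill0_of_locSurj
    (h : Presheaf.IsLocallySurjective J
      (prod.lift ((FormalCoproduct.yoneda (C := C)).map (K.δ (1 : Fin 2)))
        ((FormalCoproduct.yoneda (C := C)).map (K.δ (0 : Fin 2)))))
    (V : C) (y : Fin 2 → Sec (YK K) 0 V) : fillS (YK K) 0 y ∈ J V := by
  let e0 := (yonedaIso (C := C)).app (K.obj (op (SimplexCategory.mk 0)))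
  obtain ⟨S, hS, hS'⟩ := pair_lift_of_locSurj J _ _ h V
    (e0.inv.app (op V) (y 1)) (e0.inv.app (op V) (y 0))
  refine J.superset_covering ?_ hS
  intro W g hg
  obtain ⟨t, ht1, ht0⟩ := hS' g hg
  refine ⟨((yonedaIso (C := C)).hom.app _).app (op W) t, ?_⟩
  have key : ∀ (x : Sec (YK K) 0 V),
      e0.hom.app (op W) (((FormalCoproduct.yoneda (C := C)).obj
        (K.obj (op (SimplexCategory.mk 0)))).map g.op (e0.inv.app (op V) x)) =
        res (YK K) g x := by
    intro x
    have h1 := ConcreteCategory.congr_hom (e0.hom.naturality g.op) (e0.inv.app (op V) x)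
    simp only [ConcreteCategory.comp_apply] at h1
    rw [h1]
    have h2 := ConcreteCategory.congr_hom (NatTrans.congr_app e0.inv_hom_id (op V)) x
    simp only [NatTrans.comp_app, ConcreteCategory.comp_apply] at h2
    rw [h2]
    rfl
  intro i
  rw [toHF_face]
  fin_cases i
  · exact (congrArg (e0.hom.app (op W)) ht0).trans (key (y 0))
  · exact (congrArg (e0.hom.app (op W)) ht1).trans (key (y 1))

/-- A hypercovering of the final object (Verdier's sense) is locally Kan-contractible. -/
theorem localKan_of_isHypercoveringSite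
    [∀ (n : ℕ) (F : (SimplexCategory.Truncated n)ᵒᵖ ⥤ FormalCoproduct.{u} C),
      (SimplexCategory.Truncated.inclusion n).op.HasRightKanExtension F]
    (hK : Hyper.IsHypercoveringSite J K) : LocalKan J (YK K) where
  vertex := vertex_of_locSurj J K hK.1
  fill0 := fill0_of_locSurj J K hK.2.1
  fill N V y hy := by
    have hsurj := (locSurj_yoneda_iff J _).1 (hK.2.2 (N + 1) (by omega))
    exact faceFillSieve_mem J K N hsurj y hy

/-- The complex `ℤ[F(K)]^#` of the Prelude agrees with the one built from explicit sections. -/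
noncomputable def freeChainCxIso :
    Hyper.freeChainCx J K ≅ HyperAcyclic.freeShCx J (YK K) :=
  (AlgebraicTopology.alternatingFaceMapComplex _).mapIso
    (Functor.isoWhiskerRight
      (Functor.isoWhiskerRight (Functor.isoWhiskerLeft K (yonedaIso (C := C)))
        ((Functor.whiskeringRight Cᵒᵖ (Type u) AddCommGrpCat.{u}).obj AddCommGrpCat.free.{u}))
      (presheafToSheaf J AddCommGrpCat.{u}))

/-- Acyclicity of `ℤ[F(K)]^#` for a locally Kan-contractible `K`. -/
theorem freeChainCx_acyclic (hK : LocalKan J (YK K)) :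
    (∀ n : ℕ, IsZero ((Hyper.freeChainCx J K).homology (n + 1))) ∧
    Nonempty ((Hyper.freeChainCx J K).homology 0 ≅
      (constantSheaf J AddCommGrpCat.{u}).obj (AddCommGrpCat.of (ULift.{u} ℤ))) := by
  constructor
  · intro n
    exact IsZero.of_iso (HyperAcyclic.isZero_homology_succ J (YK K) hK n)
      ((HomologicalComplex.homologyFunctor _ _ (n + 1)).mapIso (freeChainCxIso J K))
  · obtain ⟨e⟩ := HyperAcyclic.nonempty_homology_zero_iso J (YK K) hK
    exact ⟨(HomologicalComplex.homologyFunctor _ _ 0).mapIso (freeChainCxIso J K) ≪≫ e⟩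

end Groth.Agent.H1.HyperSite
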