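import Groth.Prelude.Def_Hyper
import Groth.Agent.Lib.Helper1.HyperSphere0
import Groth.Agent.Lib.Helper1.HyperSite
import Groth.Agent.S0898

/-!
# Hypercoverings of an object are locally Kan-contractible on the over site (helper1)
-/

set_option autoImplicit false
universe u

namespace Groth.Agent.H1.HyperOver

open CategoryTheory CategoryTheory.Limits Opposite FormalCoproduct
open Groth.Agent.H1.HyperBase Groth.Agent.H1.HyperSphere Groth.Agent.H1.HyperCone
open Groth.Agent.H1.HyperSite

section General

variable {D : Type u} [SmallCategory D] (J : GrothendieckTopology D)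

/-- SR-coverings have the local lifting property for sections. -/
theorem liftSieve_mem_of_isSRCovering {K L : FormalCoproduct.{u} D} (f : K ⟶ L)
    (hf : Hyper.IsSRCovering J f) (V : D) (r : (incl D).obj V ⟶ L) : liftSieve f r ∈ J V := by
  rw [Groth.Agent.S0898.isSRCovering_iff] at hf
  have h1 := J.pullback_stable r.asSigma.snd (hf r.asSigma.fst)
  refine J.superset_covering ?_ h1
  rintro W g ⟨t, ht⟩
  refine ⟨t, ?_⟩
  rw [ht, ← Groth.Agent.S0898.map_comp_fromIncl, Hom.fromIncl_asSigma]

/-- Conversely, a morphism with the local lifting property for sections is an SR-covering. -/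
theorem isSRCovering_of_liftSieve_mem {K L : FormalCoproduct.{u} D} (f : K ⟶ L)
    (hf : ∀ (V : D) (r : (incl D).obj V ⟶ L), liftSieve f r ∈ J V) :
    Hyper.IsSRCovering J f := by
  rw [Groth.Agent.S0898.isSRCovering_iff]
  intro j
  refine J.superset_covering ?_ (hf (L.obj j) (Hom.fromIncl j (𝟙 _)))
  rintro W g ⟨t, ht⟩
  refine ⟨t, ?_⟩
  rw [ht, Groth.Agent.S0898.map_comp_fromIncl, Category.comp_id]

end General

section Over

variable {C : Type u} [SmallCategory C] (J : GrothendieckTopology C) (X : C)
  (K : SimplicialObject (FormalCoproduct.{u} (Over X)))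

lemma vertex_over
    (h0 : Sieve.ofArrows (fun i => ((K.obj (op (SimplexCategory.mk 0))).obj i).left)
      (fun i => ((K.obj (op (SimplexCategory.mk 0))).obj i).hom) ∈ J X) (V : Over X) :
    vertexSieve (YK K) V ∈ (J.over X) V := by
  rw [GrothendieckTopology.mem_over_iff]
  refine J.superset_covering ?_ (J.pullback_stable V.hom h0)
  intro Z g hg
  rw [Sieve.overEquiv_iff]
  rw [Sieve.pullback_apply, Sieve.mem_ofArrows_iff] at hg
  obtain ⟨i, a, ha⟩ := hg
  exact ⟨Hom.fromIncl i (Over.homMk a ha.symm)⟩

/-- A hypercovering of `X` is locally Kan-contractible on the over site. -/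
theorem localKan_of_isHypercovering
    [∀ (n : ℕ) (F : (SimplexCategory.Truncated n)ᵒᵖ ⥤ FormalCoproduct.{u} (Over X)),
      (SimplexCategory.Truncated.inclusion n).op.HasRightKanExtension F]
    (hK : Hyper.IsHypercovering J X K) : LocalKan (J.over X) (YK K) where
  vertex := vertex_over J X K hK.1
  fill0 V y := HyperSphere0.faceFillSieve_zero_mem (J.over X) K
    (liftSieve_mem_of_isSRCovering _ _ (hK.2 0)) y
  fill N V y hy := faceFillSieve_mem (J.over X) K N
    (liftSieve_mem_of_isSRCovering _ _ (hK.2 (N + 1))) y hy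

end Over

end Groth.Agent.H1.HyperOver
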