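import Groth.Agent.Lib.Helper1.HyperKanConv

/-!
# Fibre products of hypercoverings along special morphisms (helper1)
-/

set_option autoImplicit false
universe u

namespace Groth.Agent.H1.HyperPB

open CategoryTheory CategoryTheory.Limits Opposite FormalCoproduct SimplexCategory
open Groth.Agent.H1.HyperBase Groth.Agent.H1.HyperCone Groth.Agent.H1.HyperSite

variable {C : Type u} [SmallCategory C]

section SphereW

variable (K : SimplicialObject (FormalCoproduct.{u} C)) {V : C} (n : ℕ)
  (y : Fin (n + 2) → ((incl C).obj V ⟶ K.obj (op (SimplexCategory.mk n))))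
  (hwd : ∀ {a : SimplexCategory} (i₁ i₂ : Fin (n + 2))
    (θ₁ θ₂ : a ⟶ SimplexCategory.mk n), θ₁ ≫ δ i₁ = θ₂ ≫ δ i₂ →
      y i₁ ≫ K.map θ₁.op = y i₂ ≫ K.map θ₂.op)

lemma not_surjective_of_len_le {a : SimplexCategory} (ha : a.len ≤ n)
    (θ : a ⟶ SimplexCategory.mk (n + 1)) : ¬ Function.Surjective θ.toOrderHom := by
  intro hs
  have := Fintype.card_le_of_surjective _ hs
  simp only [Fintype.card_fin, SimplexCategory.len_mk] at this
  omega

/-- The section attached to `θ : a ⟶ [n+1]` (with `a.len ≤ n`) by the faces `y`. -/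
noncomputable def faceSecW {a : SimplexCategory} (ha : a.len ≤ n)
    (θ : a ⟶ SimplexCategory.mk (n + 1)) : (incl C).obj V ⟶ K.obj (op a) :=
  y (eq_comp_δ_of_not_surjective θ (not_surjective_of_len_le n ha θ)).choose ≫
    K.map (eq_comp_δ_of_not_surjective θ (not_surjective_of_len_le n ha θ)).choose_spec.choose.op

include hwd in
lemma faceSecW_eq {a : SimplexCategory} (ha : a.len ≤ n) (i : Fin (n + 2))
    (θ' : a ⟶ SimplexCategory.mk n) :
    faceSecW K n y ha (θ' ≫ δ i) = y i ≫ K.map θ'.op := by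
  unfold faceSecW
  have h := (eq_comp_δ_of_not_surjective (θ' ≫ δ i)
    (not_surjective_of_len_le n ha (θ' ≫ δ i))).choose_spec.choose_spec
  exact hwd _ _ _ _ h.symm

include hwd in
lemma sphereW_nat {a a' : SimplexCategory} (ha : a.len ≤ n) (ha' : a'.len ≤ n)
    (ψ : a' ⟶ a) :
    (tens V (n + 1)).map ψ.op ≫ tensDesc (k := op a') (fun θ => faceSecW K n y ha' θ) =
      tensDesc (k := op a) (fun θ => faceSecW K n y ha θ) ≫ K.map ψ.op := by
  refine tens_hom_ext _ _ fun θ => ?_
  rw [← Category.assoc, tsec_map, tsec_tensDesc, ← Category.assoc, tsec_tensDesc]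
  obtain ⟨i, θ', rfl⟩ := eq_comp_δ_of_not_surjective θ (not_surjective_of_len_le n ha θ)
  change faceSecW K n y ha' (ψ ≫ θ' ≫ δ i) = _
  rw [← Category.assoc, faceSecW_eq K n y hwd ha' i (ψ ≫ θ'), faceSecW_eq K n y hwd ha i θ',
    op_comp, K.map_comp, Category.assoc]

include hwd in
/-- The truncated map `V ⊗ Δ[n+1] → K` attached to compatible faces. -/
noncomputable def sphereW :
    (SimplicialObject.truncation n).obj (tens V (n + 1)) ⟶
      (SimplicialObject.truncation n).obj K where
  app a := tensDesc (k := op a.unop.obj) (fun θ => faceSecW K n y a.unop.property θ)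
  naturality := by
    intro a a' φ
    exact sphereW_nat K n y hwd a.unop.property a'.unop.property φ.unop.hom

lemma sphereW_app (a : (SimplexCategory.Truncated n)ᵒᵖ) (i : Fin (n + 2))
    (θ' : a.unop.obj ⟶ SimplexCategory.mk n) :
    tsecT n V (n + 1) a (θ' ≫ δ i) ≫ (sphereW K n y hwd).app a = y i ≫ K.map θ'.op := by
  have h1 : tsecT n V (n + 1) a (θ' ≫ δ i) ≫ (sphereW K n y hwd).app a =
      faceSecW K n y a.unop.property (θ' ≫ δ i) :=
    tsec_tensDesc (k := op a.unop.obj) _ (θ' ≫ δ i)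
  rw [h1, faceSecW_eq K n y hwd]

lemma sphereW_face (i : Fin (n + 2)) :
    tsecT n V (n + 1) (op ⟨SimplexCategory.mk n, le_rfl⟩) (δ i) ≫
      (sphereW K n y hwd).app (op ⟨SimplexCategory.mk n, le_rfl⟩) = y i := by
  have h := sphereW_app K n y hwd (op ⟨SimplexCategory.mk n, le_rfl⟩) i (𝟙 _)
  rw [Category.id_comp] at h
  rw [h]
  simp

end SphereW

section Lift

open SimplicialObject

variable (J : GrothendieckTopology C) (n : ℕ)
  [∀ (F : (SimplexCategory.Truncated n)ᵒᵖ ⥤ FormalCoproduct.{u} C),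
    (SimplexCategory.Truncated.inclusion n).op.HasRightKanExtension F]
  {M L : SimplicialObject (FormalCoproduct.{u} C)} (b : M ⟶ L)

omit [∀ (F : (SimplexCategory.Truncated n)ᵒᵖ ⥤ FormalCoproduct.{u} C),
    (SimplexCategory.Truncated.inclusion n).op.HasRightKanExtension F] in
lemma trunc_hom_ext {V : C} {m : ℕ} {K : SimplicialObject (FormalCoproduct.{u} C)}
    (s s' : (truncation n).obj (tens V m) ⟶ (truncation n).obj K)
    (h : ∀ (a : (SimplexCategory.Truncated n)ᵒᵖ) (f : a.unop.obj ⟶ SimplexCategory.mk m),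
      tsecT n V m a f ≫ s.app a = tsecT n V m a f ≫ s'.app a) : s = s' := by
  refine NatTrans.ext (funext fun a => ?_)
  exact tens_hom_ext (k := op a.unop.obj) _ _ (fun f => h a f)

/-- Local lifting of simplices of `L` with prescribed boundary in `M`, from the covering
property of `M_{n+1} ⟶ L_{n+1} ×_{(cosk_n L)_{n+1}} (cosk_n M)_{n+1}`. -/
theorem exists_relFill [HasPullbacks (FormalCoproduct.{u} C)]
    (hγ : ∀ (Q : FormalCoproduct.{u} C)
      (q1 : Q ⟶ L.obj (op (SimplexCategory.mk (n + 1))))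
      (q2 : Q ⟶ ((cosk n).obj M).obj (op (SimplexCategory.mk (n + 1))))
      (γ : M.obj (op (SimplexCategory.mk (n + 1))) ⟶ Q),
      IsPullback q1 q2 (((coskAdj n).unit.app L).app (op (SimplexCategory.mk (n + 1))))
        (((cosk n).map b).app (op (SimplexCategory.mk (n + 1)))) →
      γ ≫ q1 = b.app (op (SimplexCategory.mk (n + 1))) →
      γ ≫ q2 = ((coskAdj n).unit.app M).app (op (SimplexCategory.mk (n + 1))) →
      ∀ (V : C) (r : (incl C).obj V ⟶ Q), liftSieve γ r ∈ J V)
    (V : C) (l : (incl C).obj V ⟶ L.obj (op (SimplexCategory.mk (n + 1))))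
    (s : (truncation n).obj (tens V (n + 1)) ⟶ (truncation n).obj M)
    (hls : s ≫ (truncation n).map b = (truncation n).map (rho L l)) :
    ∃ S ∈ J V, ∀ ⦃W : C⦄ (g : W ⟶ V), S g →
      ∃ t : (incl C).obj W ⟶ M.obj (op (SimplexCategory.mk (n + 1))),
        t ≫ b.app (op (SimplexCategory.mk (n + 1))) = (incl C).map g ≫ l ∧
        (truncation n).map (rho M t) = (truncation n).map (tensMap g (n + 1)) ≫ s := by
  let uL := ((coskAdj n).unit.app L).app (op (SimplexCategory.mk (n + 1)))
  let uM := ((coskAdj n).unit.app M).app (op (SimplexCategory.mk (n + 1)))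
  let cb := ((cosk n).map b).app (op (SimplexCategory.mk (n + 1)))
  have hnat : b.app (op (SimplexCategory.mk (n + 1))) ≫ uL = uM ≫ cb := by
    have h := (coskAdj n).unit.naturality b
    simp only [Functor.id_obj, Functor.id_map, Functor.comp_obj, Functor.comp_map] at h
    exact congrArg (fun α => α.app (op (SimplexCategory.mk (n + 1)))) h
  let γ : M.obj (op (SimplexCategory.mk (n + 1))) ⟶ pullback uL cb :=
    pullback.lift _ _ hnat
  have hcov := hγ (pullback uL cb) (pullback.fst _ _) (pullback.snd _ _) γ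
    (IsPullback.of_hasPullback _ _) (pullback.lift_fst _ _ _) (pullback.lift_snd _ _ _)
  let α : tens V (n + 1) ⟶ (cosk n).obj M :=
    (coskAdj n).homEquiv (tens V (n + 1)) ((truncation n).obj M) s
  have e1 : rho L l ≫ (coskAdj n).unit.app L =
      (coskAdj n).homEquiv (tens V (n + 1)) ((truncation n).obj L)
        ((truncation n).map (rho L l)) := by
    rw [Adjunction.homEquiv_unit]
    have h2 := (coskAdj n).unit.naturality (rho L l)
    simp only [Functor.id_obj, Functor.id_map, Functor.comp_obj, Functor.comp_map] at h2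
    exact h2
  have e2 : α ≫ (cosk n).map b =
      (coskAdj n).homEquiv (tens V (n + 1)) ((truncation n).obj L)
        (s ≫ (truncation n).map b) := by
    rw [Adjunction.homEquiv_naturality_right]
    rfl
  have hα : rho L l ≫ (coskAdj n).unit.app L = α ≫ (cosk n).map b := by
    rw [e1, e2, hls]
  have hr : l ≫ uL = ev α ≫ cb := by
    have h := congrArg ev hα
    rw [ev_comp, ev_rho, ev_comp] at h
    exact h
  refine ⟨_, hcov V (pullback.lift l (ev α) hr), ?_⟩
  rintro W g ⟨t, ht⟩
  refine ⟨t, ?_, ?_⟩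
  · have h := congrArg (fun z => z ≫ pullback.fst uL cb) ht
    simp only [Category.assoc, pullback.lift_fst] at h
    rw [← h]
    change t ≫ _ = t ≫ γ ≫ _
    rw [pullback.lift_fst]
  · have h := congrArg (fun z => z ≫ pullback.snd uL cb) ht
    simp only [Category.assoc, pullback.lift_snd] at h
    have h' : t ≫ uM = (incl C).map g ≫ ev α := by
      rw [← h]
      change t ≫ _ = t ≫ γ ≫ _
      rw [pullback.lift_snd]
    have h1 : rho M t ≫ (coskAdj n).unit.app M = tensMap g (n + 1) ≫ α := by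
      apply ev_injective
      rw [ev_comp, ev_rho, ev_tensMap]
      exact h'
    apply ((coskAdj n).homEquiv (tens W (n + 1)) ((truncation n).obj M)).injective
    rw [Adjunction.homEquiv_naturality_left, Adjunction.homEquiv_unit]
    have h2 := (coskAdj n).unit.naturality (rho M t)
    simp only [Functor.id_obj, Functor.id_map, Functor.comp_obj, Functor.comp_map] at h2
    rw [← h2]
    exact h1

end Lift

section Main

open SimplicialObject

variable (J : GrothendieckTopology C) [HasPullbacks (FormalCoproduct.{u} C)]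
  [∀ (n : ℕ) (F : (SimplexCategory.Truncated n)ᵒᵖ ⥤ FormalCoproduct.{u} C),
    (SimplexCategory.Truncated.inclusion n).op.HasRightKanExtension F]
  {K L M P : SimplicialObject (FormalCoproduct.{u} C)} {a : K ⟶ L} {b : M ⟶ L}
  {p1 : P ⟶ K} {p2 : P ⟶ M} (hP : IsPullback p1 p2 a b)

include hP in
omit [∀ (n : ℕ) (F : (SimplexCategory.Truncated n)ᵒᵖ ⥤ FormalCoproduct.{u} C),
    (SimplexCategory.Truncated.inclusion n).op.HasRightKanExtension F] in
lemma isPullback_app (t : SimplexCategoryᵒᵖ) :
    IsPullback (p1.app t) (p2.app t) (a.app t) (b.app t) :=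
  hP.map ((evaluation _ _).obj t)

/-- The hypothesis on `b` in degree `n + 1`. -/
def GammaCovering (n : ℕ) (b : M ⟶ L) : Prop :=
  ∀ (Q : FormalCoproduct.{u} C)
    (q1 : Q ⟶ L.obj (op (SimplexCategory.mk (n + 1))))
    (q2 : Q ⟶ ((cosk n).obj M).obj (op (SimplexCategory.mk (n + 1))))
    (γ : M.obj (op (SimplexCategory.mk (n + 1))) ⟶ Q),
    IsPullback q1 q2 (((coskAdj n).unit.app L).app (op (SimplexCategory.mk (n + 1))))
      (((cosk n).map b).app (op (SimplexCategory.mk (n + 1)))) →
    γ ≫ q1 = b.app (op (SimplexCategory.mk (n + 1))) →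
    γ ≫ q2 = ((coskAdj n).unit.app M).app (op (SimplexCategory.mk (n + 1))) →
    ∀ (V : C) (r : (incl C).obj V ⟶ Q), liftSieve γ r ∈ J V

include hP in
omit [∀ (n : ℕ) (F : (SimplexCategory.Truncated n)ᵒᵖ ⥤ FormalCoproduct.{u} C),
    (SimplexCategory.Truncated.inclusion n).op.HasRightKanExtension F] in
lemma vertex_mem (hK : LocalKan J (YK K))
    (h0 : ∀ (V : C) (r : (incl C).obj V ⟶ L.obj (op (SimplexCategory.mk 0))),
      liftSieve (b.app (op (SimplexCategory.mk 0))) r ∈ J V) (V : C) :
    vertexSieve (YK P) V ∈ J V := by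
  refine J.transitive (hK.vertex V) _ ?_
  rintro V' g ⟨k⟩
  refine J.superset_covering ?_ (h0 V' (k ≫ a.app (op (SimplexCategory.mk 0))))
  rintro W g' ⟨t, ht⟩
  exact ⟨(isPullback_app hP (op (SimplexCategory.mk 0))).lift ((incl C).map g' ≫ k) t (by
    rw [Category.assoc]
    exact ht.symm)⟩

include hP in
lemma fill_mem (n : ℕ) (hγ : GammaCovering J n b) (V : C)
    (y : Fin (n + 2) → ((incl C).obj V ⟶ P.obj (op (SimplexCategory.mk n))))
    (hwd : ∀ {c : SimplexCategory} (i₁ i₂ : Fin (n + 2))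
      (θ₁ θ₂ : c ⟶ SimplexCategory.mk n), θ₁ ≫ δ i₁ = θ₂ ≫ δ i₂ →
        y i₁ ≫ P.map θ₁.op = y i₂ ≫ P.map θ₂.op)
    (hKfill : fillS (YK K) n (fun i => y i ≫ p1.app (op (SimplexCategory.mk n))) ∈ J V) :
    fillS (YK P) n y ∈ J V := by
  refine J.transitive hKfill _ ?_
  rintro V' g ⟨k, hk⟩
  have hk' : ∀ i, k ≫ K.map (δ i).op =
      (incl C).map g ≫ y i ≫ p1.app (op (SimplexCategory.mk n)) := hk
  let m : Fin (n + 2) → ((incl C).obj V' ⟶ M.obj (op (SimplexCategory.mk n))) :=
    fun i => (incl C).map g ≫ y i ≫ p2.app (op (SimplexCategory.mk n))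
  have hwdM : ∀ {c : SimplexCategory} (i₁ i₂ : Fin (n + 2))
      (θ₁ θ₂ : c ⟶ SimplexCategory.mk n), θ₁ ≫ δ i₁ = θ₂ ≫ δ i₂ →
        m i₁ ≫ M.map θ₁.op = m i₂ ≫ M.map θ₂.op := by
    intro c i₁ i₂ θ₁ θ₂ e
    change ((incl C).map g ≫ y i₁ ≫ p2.app _) ≫ M.map θ₁.op =
      ((incl C).map g ≫ y i₂ ≫ p2.app _) ≫ M.map θ₂.op
    simp only [Category.assoc]
    rw [← p2.naturality, ← p2.naturality, ← Category.assoc (y i₁), ← Category.assoc (y i₂),
      hwd i₁ i₂ θ₁ θ₂ e]
  let l := k ≫ a.app (op (SimplexCategory.mk (n + 1)))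
  have hls : sphereW M n m hwdM ≫ (truncation n).map b = (truncation n).map (rho L l) := by
    refine trunc_hom_ext n _ _ fun c f => ?_
    obtain ⟨i, θ', rfl⟩ := eq_comp_δ_of_not_surjective f
      (not_surjective_of_len_le n c.unop.property f)
    have h1 : tsecT n V' (n + 1) c (θ' ≫ δ i) ≫ ((truncation n).map (rho L l)).app c =
        l ≫ L.map (θ' ≫ δ i).op :=
      tsec_tensDesc (k := op c.unop.obj) (fun f => l ≫ L.map f.op) (θ' ≫ δ i)
    rw [h1, NatTrans.comp_app, ← Category.assoc, sphereW_app]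
    change (((incl C).map g ≫ y i ≫ p2.app _) ≫ M.map θ'.op) ≫ b.app _ =
      (k ≫ a.app _) ≫ L.map (θ' ≫ δ i).op
    have hw := (isPullback_app hP (op (SimplexCategory.mk n))).w
    rw [op_comp, L.map_comp]
    simp only [Category.assoc]
    rw [b.naturality, ← Category.assoc (p2.app _), ← hw, ← Category.assoc (a.app _),
      ← a.naturality]
    simp only [← Category.assoc]
    congr 2
    simp only [Category.assoc]
    exact (hk' i).symm
  obtain ⟨S, hS, hS'⟩ := exists_relFill J n b hγ V' l (sphereW M n m hwdM) hls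
  refine J.superset_covering ?_ hS
  intro W g' hg'
  obtain ⟨t, ht1, ht2⟩ := hS' g' hg'
  have htf : ∀ i, t ≫ M.map (δ i).op = (incl C).map g' ≫ m i := by
    intro i
    have h := fill_spec n M ht2 (op ⟨SimplexCategory.mk n, le_rfl⟩) (δ i)
    rw [sphereW_face] at h
    exact h
  refine ⟨(isPullback_app hP (op (SimplexCategory.mk (n + 1)))).lift ((incl C).map g' ≫ k) t (by
    rw [Category.assoc]
    exact ht1.symm), fun i => ?_⟩
  change _ ≫ P.map (δ i).op = (incl C).map (g' ≫ g) ≫ y i
  apply (isPullback_app hP (op (SimplexCategory.mk n))).hom_ext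
  · rw [Category.assoc, p1.naturality, ← Category.assoc, IsPullback.lift_fst, Category.assoc,
      hk' i, Functor.map_comp]
    simp only [Category.assoc]
  · rw [Category.assoc, p2.naturality, ← Category.assoc, IsPullback.lift_snd, htf i,
      Functor.map_comp]
    simp only [m, Category.assoc]

include hP in
/-- The fibre product of a locally Kan-contractible `K` with a special morphism `b : M ⟶ L` is
locally Kan-contractible. -/
theorem localKan_pullback (hK : LocalKan J (YK K))
    (h0 : ∀ (V : C) (r : (incl C).obj V ⟶ L.obj (op (SimplexCategory.mk 0))),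
      liftSieve (b.app (op (SimplexCategory.mk 0))) r ∈ J V)
    (hγ : ∀ n, GammaCovering J n b) : LocalKan J (YK P) where
  vertex := vertex_mem J hP hK h0
  fill0 V y := fill_mem J hP 0 (hγ 0) V y
    (fun i₁ i₂ θ₁ θ₂ e => HyperSphere0.wd P y i₁ i₂ θ₁ θ₂ e)
    (hK.fill0 V _)
  fill N V y hy := fill_mem J hP (N + 1) (hγ (N + 1)) V y
    (fun i₁ i₂ θ₁ θ₂ e => HyperSphere.wd P N y (fun i j hij => hy i j hij) i₁ i₂ θ₁ θ₂ e)
    (hK.fill N V _ (by
      intro i j hij
      have h := congrArg (fun z => z ≫ p1.app (op (SimplexCategory.mk N))) (hy i j hij)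
      change (y j.succ ≫ P.map _) ≫ p1.app _ = (y i.castSucc ≫ P.map _) ≫ p1.app _ at h
      rw [Category.assoc, Category.assoc, p1.naturality, p1.naturality, ← Category.assoc,
        ← Category.assoc] at h
      exact h))

end Main

end Groth.Agent.H1.HyperPB
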