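import Groth.Agent.Lib.Helper1.HyperKanConv
import Groth.Agent.Lib.Helper1.HyperEx3

/-!
# Refining a hypercovering along a covering of its `n`-th term (helper1)

`L = K ×_{R(K_n)} R(Z)`, where `R` is the right adjoint of the evaluation at `[n]`.
-/

set_option autoImplicit false
universe u

namespace Groth.Agent.H1.HyperRef

open CategoryTheory CategoryTheory.Limits Opposite FormalCoproduct
open Groth.Agent.H1.HyperBase Groth.Agent.H1.HyperCone Groth.Agent.H1.HyperSite

instance finiteHomOp (a b : SimplexCategoryᵒᵖ) : Finite (a ⟶ b) :=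
  Finite.of_equiv _ (opEquiv a b).symm

variable {D : Type u} [SmallCategory D] [HasFiniteLimits (FormalCoproduct.{u} D)]

section R

variable (n : ℕ)

/-- The right adjoint of the evaluation at `[n]`. -/
noncomputable def RR : FormalCoproduct.{u} D ⥤ SimplicialObject (FormalCoproduct.{u} D) :=
  evaluationRightAdjoint (FormalCoproduct.{u} D) (op (SimplexCategory.mk n))

variable {n}

/-- The projections of `R(Z)_t`. -/
noncomputable def proj (Z : FormalCoproduct.{u} D) {t : SimplexCategoryᵒᵖ}
    (g : t ⟶ op (SimplexCategory.mk n)) : ((RR n).obj Z).obj t ⟶ Z :=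
  Pi.π _ g

lemma proj_ext {Z A : FormalCoproduct.{u} D} {t : SimplexCategoryᵒᵖ}
    {s s' : A ⟶ ((RR n).obj Z).obj t} (h : ∀ g, s ≫ proj Z g = s' ≫ proj Z g) : s = s' :=
  Pi.hom_ext _ _ h

/-- Morphisms to `R(Z)_t` from their components. -/
noncomputable def lift {Z A : FormalCoproduct.{u} D} {t : SimplexCategoryᵒᵖ}
    (b : (t ⟶ op (SimplexCategory.mk n)) → (A ⟶ Z)) : A ⟶ ((RR n).obj Z).obj t :=
  Pi.lift b

@[simp]
lemma lift_proj {Z A : FormalCoproduct.{u} D} {t : SimplexCategoryᵒᵖ}
    (b : (t ⟶ op (SimplexCategory.mk n)) → (A ⟶ Z)) (g : t ⟶ op (SimplexCategory.mk n)) :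
    lift b ≫ proj Z g = b g :=
  Pi.lift_π _ _

@[simp]
lemma map_proj (Z : FormalCoproduct.{u} D) {t t' : SimplexCategoryᵒᵖ} (f : t ⟶ t')
    (g : t' ⟶ op (SimplexCategory.mk n)) :
    ((RR n).obj Z).map f ≫ proj Z g = proj Z (f ≫ g) :=
  Pi.lift_π _ _

@[simp]
lemma RRmap_proj {Z Z' : FormalCoproduct.{u} D} (u : Z ⟶ Z') {t : SimplexCategoryᵒᵖ}
    (g : t ⟶ op (SimplexCategory.mk n)) :
    ((RR n).map u).app t ≫ proj Z' g = proj Z g ≫ u :=
  Pi.lift_π _ _

end R

section Def

variable (n : ℕ) (K : SimplicialObject (FormalCoproduct.{u} D)) {Z : FormalCoproduct.{u} D}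
  (u : Z ⟶ K.obj (op (SimplexCategory.mk n)))

/-- The canonical map `K ⟶ R(K_n)`. -/
noncomputable def etaK : K ⟶ (RR n).obj (K.obj (op (SimplexCategory.mk n))) where
  app t := lift fun g => K.map g
  naturality t t' f := by
    refine proj_ext fun g => ?_
    rw [Category.assoc, lift_proj, Category.assoc, map_proj, lift_proj, K.map_comp]

@[simp]
lemma etaK_proj {t : SimplexCategoryᵒᵖ} (g : t ⟶ op (SimplexCategory.mk n)) :
    (etaK n K).app t ≫ proj _ g = K.map g :=
  lift_proj _ _

/-- The refinement `L = K ×_{R(K_n)} R(Z)`. -/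
noncomputable def refL : SimplicialObject (FormalCoproduct.{u} D) :=
  pullback (etaK n K) ((RR n).map u)

/-- The projection `L ⟶ K`. -/
noncomputable def refF : refL n K u ⟶ K := pullback.fst _ _

/-- The projection `L ⟶ R(Z)`. -/
noncomputable def refS : refL n K u ⟶ (RR n).obj Z := pullback.snd _ _

lemma ref_condition : refF n K u ≫ etaK n K = refS n K u ≫ (RR n).map u := pullback.condition

lemma ref_isPullback : IsPullback (refF n K u) (refS n K u) (etaK n K) ((RR n).map u) :=
  IsPullback.of_hasPullback _ _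

/-- The map `L_n ⟶ Z`. -/
noncomputable def refG : (refL n K u).obj (op (SimplexCategory.mk n)) ⟶ Z :=
  (refS n K u).app (op (SimplexCategory.mk n)) ≫ proj Z (𝟙 _)

lemma refG_comp : refG n K u ≫ u = (refF n K u).app (op (SimplexCategory.mk n)) := by
  have h := congrArg (fun α => α.app (op (SimplexCategory.mk n)) ≫ proj _ (𝟙 _))
    (ref_condition n K u)
  simp only [NatTrans.comp_app, Category.assoc, etaK_proj, RRmap_proj, K.map_id,
    Category.comp_id] at h
  unfold refG
  rw [Category.assoc]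
  exact h.symm

end Def

section Sec

variable {n : ℕ} {K : SimplicialObject (FormalCoproduct.{u} D)} {Z : FormalCoproduct.{u} D}
  {u : Z ⟶ K.obj (op (SimplexCategory.mk n))}

lemma ref_isPullback_app (t : SimplexCategoryᵒᵖ) :
    IsPullback ((refF n K u).app t) ((refS n K u).app t) ((etaK n K).app t)
      (((RR n).map u).app t) :=
  (ref_isPullback n K u).map ((evaluation _ _).obj t)

/-- The `K`-component of a section of `L`. -/
noncomputable def secA {A : FormalCoproduct.{u} D} {t : SimplexCategoryᵒᵖ}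
    (s : A ⟶ (refL n K u).obj t) : A ⟶ K.obj t :=
  s ≫ (refF n K u).app t

/-- The `Z`-components of a section of `L`. -/
noncomputable def secB {A : FormalCoproduct.{u} D} {t : SimplexCategoryᵒᵖ}
    (s : A ⟶ (refL n K u).obj t) (g : t ⟶ op (SimplexCategory.mk n)) : A ⟶ Z :=
  s ≫ (refS n K u).app t ≫ proj Z g

lemma sec_cond {A : FormalCoproduct.{u} D} {t : SimplexCategoryᵒᵖ}
    (s : A ⟶ (refL n K u).obj t) (g : t ⟶ op (SimplexCategory.mk n)) :
    secA s ≫ K.map g = secB s g ≫ u := by
  have h := congrArg (fun α => s ≫ α ≫ proj _ g) (ref_isPullback_app (u := u) t).w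
  simp only [Category.assoc, etaK_proj, RRmap_proj] at h
  unfold secA secB
  simp only [Category.assoc]
  exact h

lemma sec_ext {A : FormalCoproduct.{u} D} {t : SimplexCategoryᵒᵖ}
    {s s' : A ⟶ (refL n K u).obj t} (hA : secA s = secA s')
    (hB : ∀ g, secB s g = secB s' g) : s = s' := by
  refine (ref_isPullback_app (u := u) t).hom_ext hA ?_
  refine proj_ext fun g => ?_
  rw [Category.assoc, Category.assoc]
  exact hB g

lemma sec_mk {A : FormalCoproduct.{u} D} {t : SimplexCategoryᵒᵖ} (a : A ⟶ K.obj t)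
    (b : (t ⟶ op (SimplexCategory.mk n)) → (A ⟶ Z)) (h : ∀ g, a ≫ K.map g = b g ≫ u) :
    ∃ s : A ⟶ (refL n K u).obj t, secA s = a ∧ ∀ g, secB s g = b g := by
  have hc : a ≫ (etaK n K).app t = lift b ≫ ((RR n).map u).app t := by
    refine proj_ext fun g => ?_
    rw [Category.assoc, etaK_proj, Category.assoc, RRmap_proj, ← Category.assoc, lift_proj]
    exact h g
  refine ⟨(ref_isPullback_app (u := u) t).lift a (lift b) hc, ?_, fun g => ?_⟩
  · exact (ref_isPullback_app (u := u) t).lift_fst _ _ _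
  · unfold secB
    rw [← Category.assoc, (ref_isPullback_app (u := u) t).lift_snd, lift_proj]

lemma secA_map {A : FormalCoproduct.{u} D} {t t' : SimplexCategoryᵒᵖ}
    (s : A ⟶ (refL n K u).obj t) (f : t ⟶ t') :
    secA (s ≫ (refL n K u).map f) = secA s ≫ K.map f := by
  unfold secA
  rw [Category.assoc, Category.assoc, (refF n K u).naturality]

lemma secB_map {A : FormalCoproduct.{u} D} {t t' : SimplexCategoryᵒᵖ}
    (s : A ⟶ (refL n K u).obj t) (f : t ⟶ t') (g : t' ⟶ op (SimplexCategory.mk n)) :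
    secB (s ≫ (refL n K u).map f) g = secB s (f ≫ g) := by
  unfold secB
  rw [Category.assoc, ← Category.assoc ((refL n K u).map f), (refS n K u).naturality,
    Category.assoc, map_proj]

lemma secA_comp {A A' : FormalCoproduct.{u} D} {t : SimplexCategoryᵒᵖ} (k : A' ⟶ A)
    (s : A ⟶ (refL n K u).obj t) : secA (k ≫ s) = k ≫ secA s := by
  unfold secA
  rw [Category.assoc]

lemma secB_comp {A A' : FormalCoproduct.{u} D} {t : SimplexCategoryᵒᵖ} (k : A' ⟶ A)
    (s : A ⟶ (refL n K u).obj t) (g : t ⟶ op (SimplexCategory.mk n)) :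
    secB (k ≫ s) g = k ≫ secB s g := by
  unfold secB
  rw [Category.assoc]

end Sec

section Kan

open Groth.Agent.H1.HyperEx

variable (J : GrothendieckTopology D) {n : ℕ} {K : SimplicialObject (FormalCoproduct.{u} D)}
  {Z : FormalCoproduct.{u} D} {u : Z ⟶ K.obj (op (SimplexCategory.mk n))}
  (hu : ∀ (V : D) (r : (incl D).obj V ⟶ K.obj (op (SimplexCategory.mk n))),
    liftSieve u r ∈ J V)

/-- The sieve on which all `n`-dimensional faces of a section of `K` lift through `u`. -/
def liftAllSieve (u : Z ⟶ K.obj (op (SimplexCategory.mk n))) {m : ℕ} {V : D}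
    (a : (incl D).obj V ⟶ K.obj (op (SimplexCategory.mk m))) : Sieve V :=
  interS Set.univ (fun g : (op (SimplexCategory.mk m) ⟶ op (SimplexCategory.mk n)) =>
    liftSieve u (a ≫ K.map g))

omit [HasFiniteLimits (FormalCoproduct D)] in
include hu in
lemma liftAllSieve_mem {m : ℕ} {V : D}
    (a : (incl D).obj V ⟶ K.obj (op (SimplexCategory.mk m))) : liftAllSieve u a ∈ J V :=
  interS_mem Set.univ Set.finite_univ _ (fun _ _ => hu V _)

include hu in
lemma vertex_mem (hK : LocalKan J (YK K)) (V : D) :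
    vertexSieve (YK (refL n K u)) V ∈ J V := by
  refine J.transitive (hK.vertex V) _ ?_
  rintro V' g ⟨a⟩
  refine J.superset_covering ?_ (liftAllSieve_mem J hu a)
  intro W g' hg'
  choose c hc using fun φ => hg' φ (Set.mem_univ φ)
  obtain ⟨s, -, -⟩ := sec_mk (u := u) ((incl D).map g' ≫ a) c (fun φ => by
    rw [Category.assoc]
    exact (hc φ).symm)
  exact ⟨s⟩

include hu in
lemma fill_mem (m : ℕ) (V : D)
    (y : Fin (m + 2) → ((incl D).obj V ⟶ (refL n K u).obj (op (SimplexCategory.mk m))))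
    (hwd : ∀ (i₁ i₂ : Fin (m + 2)) (θ₁ θ₂ : SimplexCategory.mk n ⟶ SimplexCategory.mk m),
      θ₁ ≫ SimplexCategory.δ i₁ = θ₂ ≫ SimplexCategory.δ i₂ →
        y i₁ ≫ (refL n K u).map θ₁.op = y i₂ ≫ (refL n K u).map θ₂.op)
    (hKfill : fillS (YK K) m (fun i => secA (y i)) ∈ J V) :
    fillS (YK (refL n K u)) m y ∈ J V := by
  refine J.transitive hKfill _ ?_
  rintro V' g ⟨a, ha⟩
  refine J.superset_covering ?_ (liftAllSieve_mem J hu a)
  intro W g' hg'
  choose c hc using fun φ => hg' φ (Set.mem_univ φ)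
  classical
  let b : (op (SimplexCategory.mk (m + 1)) ⟶ op (SimplexCategory.mk n)) →
      ((incl D).obj W ⟶ Z) := fun φ =>
    if h : ∃ i : Fin (m + 2), ∀ x, φ.unop.toOrderHom x ≠ i then
      (incl D).map (g' ≫ g) ≫ secB (y (Classical.choose h)) (φ.unop ≫ sRet (Classical.choose h)).op
    else c φ
  have hbpos : ∀ (φ : op (SimplexCategory.mk (m + 1)) ⟶ op (SimplexCategory.mk n))
      (h : ∃ i : Fin (m + 2), ∀ x, φ.unop.toOrderHom x ≠ i),
      b φ = (incl D).map (g' ≫ g) ≫
        secB (y (Classical.choose h)) (φ.unop ≫ sRet (Classical.choose h)).op := by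
    intro φ h
    exact dif_pos h
  have hb : ∀ φ, ((incl D).map g' ≫ a) ≫ K.map φ = b φ ≫ u := by
    intro φ
    by_cases h : ∃ i : Fin (m + 2), ∀ x, φ.unop.toOrderHom x ≠ i
    · rw [hbpos φ h]
      have hi := Classical.choose_spec h
      have e : φ = (SimplexCategory.δ (Classical.choose h)).op ≫
          (φ.unop ≫ sRet (Classical.choose h)).op := by
        rw [← op_comp, comp_sRet_δ _ _ hi]
        rfl
      have hai : a ≫ K.map (SimplexCategory.δ (Classical.choose h)).op =
          (incl D).map g ≫ secA (y (Classical.choose h)) := ha (Classical.choose h)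
      rw [Category.assoc, Category.assoc, ← sec_cond, Functor.map_comp, Category.assoc]
      conv_lhs => rw [e, K.map_comp, ← Category.assoc a, hai, Category.assoc]
    · have : b φ = c φ := dif_neg h
      rw [this, Category.assoc]
      exact (hc φ).symm
  obtain ⟨s, hsA, hsB⟩ := sec_mk (u := u) ((incl D).map g' ≫ a) b hb
  refine ⟨s, fun j => ?_⟩
  change s ≫ (refL n K u).map (SimplexCategory.δ j).op = (incl D).map (g' ≫ g) ≫ y j
  refine sec_ext ?_ (fun φ' => ?_)
  · rw [secA_map, hsA, secA_comp, Category.assoc, Functor.map_comp, Category.assoc]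
    congr 1
    exact ha j
  · rw [secB_map, hsB, secB_comp]
    have h : ∃ i : Fin (m + 2), ∀ x,
        ((SimplexCategory.δ j).op ≫ φ').unop.toOrderHom x ≠ i :=
      ⟨j, fun x => δ_misses φ'.unop j x⟩
    rw [hbpos _ h]
    congr 1
    have hi := Classical.choose_spec h
    have e : (((SimplexCategory.δ j).op ≫ φ').unop ≫ sRet (Classical.choose h)) ≫
        SimplexCategory.δ (Classical.choose h) = φ'.unop ≫ SimplexCategory.δ j :=
      comp_sRet_δ _ _ hi
    have h2 := congrArg (fun z => secB z (𝟙 (op (SimplexCategory.mk n))))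
      (hwd (Classical.choose h) j _ _ e)
    simp only [secB_map, Category.comp_id] at h2
    exact h2

include hu in
/-- The refinement is locally Kan-contractible. -/
theorem localKan_refL (hK : LocalKan J (YK K)) : LocalKan J (YK (refL n K u)) where
  vertex := vertex_mem J hu hK
  fill0 V y := fill_mem J hu 0 V y
    (fun i₁ i₂ θ₁ θ₂ e => HyperSphere0.wd (refL n K u) y i₁ i₂ θ₁ θ₂ e)
    (hK.fill0 V _)
  fill N V y hy := fill_mem J hu (N + 1) V y
    (fun i₁ i₂ θ₁ θ₂ e => HyperSphere.wd (refL n K u) N y (fun i j hij => hy i j hij) i₁ i₂ θ₁ θ₂ e)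
    (hK.fill N V _ (by
      intro i j hij
      have h := congrArg secA (hy i j hij)
      change secA (y j.succ ≫ (refL n K u).map _) = secA (y i.castSucc ≫ (refL n K u).map _) at h
      rw [secA_map, secA_map] at h
      exact h))

end Kan

end Groth.Agent.H1.HyperRef
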