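import Groth.Agent.Lib.Helper1.HyperRef1

/-!
# Refining a hypercovering along a locally surjective map of presheaves (helper1)
-/

set_option autoImplicit false
universe u

namespace Groth.Agent.H1.HyperRef

open CategoryTheory CategoryTheory.Limits Opposite FormalCoproduct
open Groth.Agent.H1.HyperBase Groth.Agent.H1.HyperCone Groth.Agent.H1.HyperSite

variable {D : Type u} [SmallCategory D]

section Elts

variable (P : Dᵒᵖ ⥤ Type u) {Y : FormalCoproduct.{u} D} (v : P ⟶ hF.obj Y)

/-- The formal coproduct of all sections of `P`. -/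
def eltsZ : FormalCoproduct.{u} D := ⟨Σ V : D, P.obj (op V), fun i => i.1⟩

variable {P}

/-- The map from the formal coproduct of the sections of `P` induced by `v : P ⟶ hF(Y)`. -/
def eltsU : eltsZ P ⟶ Y :=
  ⟨fun i => (v.app (op i.1) i.2).f PUnit.unit, fun i => (v.app (op i.1) i.2).φ PUnit.unit⟩

lemma fromIncl_eltsU {W : D} (i : (eltsZ P).I) (h : W ⟶ (eltsZ P).obj i) :
    Hom.fromIncl i h ≫ eltsU v = (incl D).map h ≫ v.app (op i.1) i.2 := by
  refine FormalCoproduct.hom_ext rfl (fun j => ?_)
  cases j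
  change (h ≫ _) ≫ 𝟙 _ = h ≫ _
  rw [Category.comp_id]
  rfl

variable (J : GrothendieckTopology D)

lemma liftSieve_eltsU_mem (hv : Presheaf.IsLocallySurjective J v) (V : D)
    (r : (incl D).obj V ⟶ Y) : liftSieve (eltsU v) r ∈ J V := by
  refine J.superset_covering ?_ (hv.imageSieve_mem (U := V) r)
  rintro W g ⟨p, hp⟩
  refine ⟨Hom.fromIncl (Y := eltsZ P) ⟨W, p⟩ (𝟙 W), ?_⟩
  have e := fromIncl_eltsU v (⟨W, p⟩ : (eltsZ P).I) (𝟙 W)
  refine e.trans ?_
  exact ((congrArg (fun k => k ≫ v.app (op W) p) ((incl D).map_id W)).trans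
    (Category.id_comp _)).trans hp

variable (P) in
/-- The tautological map `hF(Z) ⟶ P`. -/
def eltsPi : hF.obj (eltsZ P) ⟶ P where
  app W := ↾(fun t => P.map (t.φ PUnit.unit).op (t.f PUnit.unit).2)
  naturality W W' g := by
    refine ConcreteCategory.hom_ext _ _ fun t => ?_
    change P.map (g.unop ≫ t.φ PUnit.unit).op (t.f PUnit.unit).2 =
      P.map g (P.map (t.φ PUnit.unit).op (t.f PUnit.unit).2)
    rw [op_comp, P.map_comp]
    rfl

lemma eltsPi_comp : eltsPi P ≫ v = hF.map (eltsU v) := by
  refine NatTrans.ext (funext fun W => ConcreteCategory.hom_ext _ _ fun t => ?_)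
  change v.app W (P.map (t.φ PUnit.unit).op (t.f PUnit.unit).2) = t ≫ eltsU v
  have h1 := ConcreteCategory.congr_hom (v.naturality (t.φ PUnit.unit).op) (t.f PUnit.unit).2
  refine h1.trans ?_
  have h2 := fromIncl_eltsU v (t.f PUnit.unit) (t.φ PUnit.unit)
  have h3 : Hom.fromIncl (t.f PUnit.unit) (t.φ PUnit.unit) = t := Hom.fromIncl_asSigma t
  exact h2.symm.trans (congrArg (fun k => k ≫ eltsU v) h3)

end Elts

section Main

variable [HasFiniteLimits (FormalCoproduct.{u} D)] (J : GrothendieckTopology D)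

/-- Refinement of a locally Kan-contractible simplicial formal coproduct along a locally
surjective map of presheaves to its `n`-th term. -/
theorem exists_refinement_presheaf (K : SimplicialObject (FormalCoproduct.{u} D))
    (hK : LocalKan J (YK K)) (n : ℕ) (P : Dᵒᵖ ⥤ Type u)
    (u : P ⟶ (FormalCoproduct.yoneda (C := D)).obj (K.obj (op (SimplexCategory.mk n))))
    (hu : Presheaf.IsLocallySurjective J u) :
    ∃ (L : SimplicialObject (FormalCoproduct.{u} D)) (f : L ⟶ K)
      (g : (FormalCoproduct.yoneda (C := D)).obj (L.obj (op (SimplexCategory.mk n))) ⟶ P),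
      LocalKan J (YK L) ∧
        g ≫ u = (FormalCoproduct.yoneda (C := D)).map (f.app (op (SimplexCategory.mk n))) := by
  let e := yonedaIso (C := D)
  let v : P ⟶ hF.obj (K.obj (op (SimplexCategory.mk n))) :=
    u ≫ e.hom.app (K.obj (op (SimplexCategory.mk n)))
  have hv : Presheaf.IsLocallySurjective J v :=
    (Presheaf.isLocallySurjective_comp_iff J u _).2 hu
  have huv : u = v ≫ e.inv.app (K.obj (op (SimplexCategory.mk n))) := by
    change u = (u ≫ e.hom.app _) ≫ e.inv.app _
    rw [Category.assoc, Iso.hom_inv_id_app, Category.comp_id]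
  refine ⟨refL n K (eltsU v), refF n K (eltsU v),
    e.hom.app _ ≫ hF.map (refG n K (eltsU v)) ≫ eltsPi P,
    localKan_refL J (liftSieve_eltsU_mem v J hv) hK, ?_⟩
  rw [huv]
  simp only [Category.assoc]
  rw [← Category.assoc (eltsPi P), eltsPi_comp, ← Category.assoc (hF.map (refG n K (eltsU v))),
    ← hF.map_comp, refG_comp, ← Category.assoc, ← e.hom.naturality, Category.assoc,
    Iso.hom_inv_id_app, Category.comp_id]

end Main

end Groth.Agent.H1.HyperRef
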