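import Groth.Agent.Lib.Helper1.HyperRef2
import Groth.Agent.Lib.Helper1.HyperCech

/-!
# Refinements of hypercoverings killing locally zero Čech cochains (helper1)
-/

set_option autoImplicit false
universe u

namespace Groth.Agent.H1.HyperRef

open CategoryTheory CategoryTheory.Limits Opposite FormalCoproduct
open Groth.Agent.H1.HyperBase Groth.Agent.H1.HyperCone Groth.Agent.H1.HyperSite
open Groth.Agent.H1.HyperCech

variable {D : Type u} [SmallCategory D]

/-- The subfunctor of sections along which a family of sections vanishes. -/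
def vanishSub (A : FormalCoproduct.{u} D) (M : Dᵒᵖ ⥤ AddCommGrpCat.{u}) (c : Fam A M) :
    Subfunctor (hF.obj A) where
  obj V := {t | M.map (t.φ PUnit.unit).op (c (t.f PUnit.unit)) = 0}
  map {V W} g := by
    intro t ht
    change M.map (g.unop ≫ t.φ PUnit.unit).op (c (t.f PUnit.unit)) = 0
    have ht' : M.map (t.φ PUnit.unit).op (c (t.f PUnit.unit)) = 0 := ht
    rw [op_comp, M.map_comp]
    change M.map g (M.map (t.φ PUnit.unit).op (c (t.f PUnit.unit))) = 0
    rw [ht']
    exact map_zero _

variable [HasFiniteLimits (FormalCoproduct.{u} D)] (J : GrothendieckTopology D)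

/-- Refinement along a locally surjective map to `hF(K_n)`. -/
theorem exists_refinement_hF (K : SimplicialObject (FormalCoproduct.{u} D))
    (hK : LocalKan J (YK K)) (n : ℕ) (P : Dᵒᵖ ⥤ Type u)
    (v : P ⟶ hF.obj (K.obj (op (SimplexCategory.mk n))))
    (hv : Presheaf.IsLocallySurjective J v) :
    ∃ (L : SimplicialObject (FormalCoproduct.{u} D)) (f : L ⟶ K)
      (g : hF.obj (L.obj (op (SimplexCategory.mk n))) ⟶ P),
      LocalKan J (YK L) ∧ g ≫ v = hF.map (f.app (op (SimplexCategory.mk n))) := by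
  refine ⟨refL n K (eltsU v), refF n K (eltsU v), hF.map (refG n K (eltsU v)) ≫ eltsPi P,
    localKan_refL J (liftSieve_eltsU_mem v J hv) hK, ?_⟩
  rw [Category.assoc, eltsPi_comp, ← hF.map_comp, refG_comp]

/-- Refinement killing a locally zero family of sections over `K_p`. -/
theorem exists_refinement_killing (K : SimplicialObject (FormalCoproduct.{u} D))
    (hK : LocalKan J (YK K)) (p : ℕ) (M : Dᵒᵖ ⥤ AddCommGrpCat.{u})
    (c : Fam (K.obj (op (SimplexCategory.mk p))) M)
    (hc : ∀ i, ∃ S ∈ J ((K.obj (op (SimplexCategory.mk p))).obj i),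
      ∀ ⦃W : D⦄ (g : W ⟶ (K.obj (op (SimplexCategory.mk p))).obj i), S g →
        M.map g.op (c i) = 0) :
    ∃ (L : SimplicialObject (FormalCoproduct.{u} D)) (f : L ⟶ K),
      LocalKan J (YK L) ∧ pullFam (f.app (op (SimplexCategory.mk p))) M c = 0 := by
  let S := vanishSub (K.obj (op (SimplexCategory.mk p))) M c
  have hv : Presheaf.IsLocallySurjective J S.ι := by
    refine ⟨fun {V} r => ?_⟩
    obtain ⟨T, hT, hT'⟩ := hc (r.f PUnit.unit)
    refine J.superset_covering ?_ (J.pullback_stable (r.φ PUnit.unit) hT)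
    intro W g hg
    exact ⟨⟨(incl D).map g ≫ r, hT' _ hg⟩, rfl⟩
  obtain ⟨L, f, g, hL, hg⟩ := exists_refinement_hF J K hK p S.toFunctor S.ι hv
  refine ⟨L, f, hL, ?_⟩
  funext j
  have h1 := ConcreteCategory.congr_hom (NatTrans.congr_app hg (op ((L.obj (op
    (SimplexCategory.mk p))).obj j))) (univ _ j)
  have h2 := (g.app (op ((L.obj (op (SimplexCategory.mk p))).obj j)) (univ _ j)).2
  have h3 : (g.app (op ((L.obj (op (SimplexCategory.mk p))).obj j)) (univ _ j)).1 =
      univ _ j ≫ f.app (op (SimplexCategory.mk p)) := h1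
  rw [h3] at h2
  have h4 : M.map (𝟙 _ ≫ (f.app (op (SimplexCategory.mk p))).φ j).op
      (c ((f.app (op (SimplexCategory.mk p))).f j)) = 0 := h2
  rw [Category.id_comp] at h4
  exact h4

end Groth.Agent.H1.HyperRef
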