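import Groth.Agent.Lib.Helper1.HyperCech
import Groth.Agent.Lib.Helper1.HyperOver
import Groth.Agent.Lib.Helper21.AbShriek
import Groth.Agent.Lib.Helper7.FreeYoneda
import Groth.Prelude.Def_CohSite

/-!
# Dimension shifting for Čech cohomology with respect to hypercoverings (helper1)
-/

set_option autoImplicit false
universe u

namespace Groth.Agent.H1.HyperShift

open CategoryTheory CategoryTheory.Limits Opposite FormalCoproduct
open Groth.Agent.H1.HyperBase Groth.Agent.H1.HyperCone Groth.Agent.H1.HyperSite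
open Groth.Agent.H1.HyperCech

section Fam

variable {C : Type u} [SmallCategory C]

/-- The map on families induced by a morphism of presheaves. -/
def mapFam {A : FormalCoproduct.{u} C} {P Q : Cᵒᵖ ⥤ AddCommGrpCat.{u}} (α : P ⟶ Q)
    (c : Fam A P) : Fam A Q :=
  fun i => α.app (op (A.obj i)) (c i)

variable {P Q : Cᵒᵖ ⥤ AddCommGrpCat.{u}} (α : P ⟶ Q)

lemma mapFam_pullFam {A B : FormalCoproduct.{u} C} (f : A ⟶ B) (c : Fam B P) :
    mapFam α (pullFam f P c) = pullFam f Q (mapFam α c) := by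
  funext i
  exact ConcreteCategory.congr_hom (α.naturality (f.φ i).op) (c (f.f i))

lemma mapFam_sub {A : FormalCoproduct.{u} C} (c c' : Fam A P) :
    mapFam α (c - c') = mapFam α c - mapFam α c' := by
  funext i
  exact map_sub _ _ _

lemma mapFam_zero {A : FormalCoproduct.{u} C} : mapFam α (0 : Fam A P) = 0 := by
  funext i
  exact map_zero _

variable (K : SimplicialObject (FormalCoproduct.{u} C))

lemma mapFam_dFam (n : ℕ) (c : Fam (Kn K n) P) :
    mapFam α (dFam K P n c) = dFam K Q n (mapFam α c) := by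
  funext j
  change α.app _ (∑ k : Fin (n + 2), (-1 : ℤ) ^ (k : ℕ) • pullFam (K.δ k) P c j) =
    ∑ k : Fin (n + 2), (-1 : ℤ) ^ (k : ℕ) • pullFam (K.δ k) Q (mapFam α c) j
  rw [map_sum]
  refine Finset.sum_congr rfl fun k _ => ?_
  rw [map_zsmul, ← mapFam_pullFam]
  rfl

lemma dFam_sub (n : ℕ) (c c' : Fam (Kn K n) P) :
    dFam K P n (c - c') = dFam K P n c - dFam K P n c' := by
  funext j
  change ∑ k : Fin (n + 2), (-1 : ℤ) ^ (k : ℕ) • pullFam (K.δ k) P (c - c') j =
    ∑ k : Fin (n + 2), (-1 : ℤ) ^ (k : ℕ) • pullFam (K.δ k) P c j -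
      ∑ k : Fin (n + 2), (-1 : ℤ) ^ (k : ℕ) • pullFam (K.δ k) P c' j
  rw [← Finset.sum_sub_distrib]
  refine Finset.sum_congr rfl fun k _ => ?_
  rw [← smul_sub]
  congr 1
  exact map_sub _ _ _

/-- The diagram chase of dimension shifting. -/
theorem chase {P1 P2 P3 : Cᵒᵖ ⥤ AddCommGrpCat.{u}} (f : P1 ⟶ P2) (g : P2 ⟶ P3)
    (hfg : f ≫ g = 0)
    (hinj : ∀ V : C, Function.Injective (f.app (op V)))
    (hex : ∀ (V : C) (y : P2.obj (op V)), g.app (op V) y = 0 → ∃ x, f.app (op V) x = y)
    (p : ℕ)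
    (hH : ∀ c : Fam (Kn K (p + 1)) P2, dFam K P2 (p + 1) c = 0 →
      ∃ b : Fam (Kn K p) P2, dFam K P2 p b = c)
    (hZ : ∀ w : Fam (Kn K p) P3, dFam K P3 p w = 0 →
      ∃ v : Fam (Kn K p) P2, dFam K P2 p v = 0 ∧ mapFam g v = w)
    (c : Fam (Kn K (p + 1)) P1) (hc : dFam K P1 (p + 1) c = 0) :
    ∃ b : Fam (Kn K p) P1, dFam K P1 p b = c := by
  have hgf : ∀ (A : FormalCoproduct.{u} C) (x : Fam A P1), mapFam g (mapFam f x) = 0 := by
    intro A x
    funext i
    have := ConcreteCategory.congr_hom (NatTrans.congr_app hfg (op (A.obj i))) (x i)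
    exact this
  obtain ⟨z, hz⟩ := hH (mapFam f c) (by rw [← mapFam_dFam, hc, mapFam_zero])
  obtain ⟨v, hv0, hvw⟩ := hZ (mapFam g z) (by rw [← mapFam_dFam, hz, hgf])
  have hz' : ∀ i, ∃ x, f.app (op ((Kn K p).obj i)) x = (z - v) i := by
    intro i
    refine hex _ _ ?_
    have := congrFun (mapFam_sub g z v) i
    rw [hvw, sub_self] at this
    exact this
  choose y hy using hz'
  refine ⟨y, ?_⟩
  have h1 : mapFam f (dFam K P1 p y) = mapFam f c := by
    rw [mapFam_dFam]
    have : mapFam f y = z - v := funext hy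
    rw [this, dFam_sub, hz, hv0, sub_zero]
  funext j
  exact hinj _ (congrFun h1 j)

/-- Surjectivity on cocycles in positive degrees. -/
theorem hZ_succ {P2 P3 : Cᵒᵖ ⥤ AddCommGrpCat.{u}} (g : P2 ⟶ P3)
    (hsurj : ∀ V : C, Function.Surjective (g.app (op V))) (p : ℕ)
    (hH : ∀ c : Fam (Kn K (p + 1)) P3, dFam K P3 (p + 1) c = 0 →
      ∃ b : Fam (Kn K p) P3, dFam K P3 p b = c)
    (w : Fam (Kn K (p + 1)) P3) (hw : dFam K P3 (p + 1) w = 0) :
    ∃ v : Fam (Kn K (p + 1)) P2, dFam K P2 (p + 1) v = 0 ∧ mapFam g v = w := by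
  obtain ⟨v0, hv0⟩ := hH w hw
  have h : ∀ i, ∃ x, g.app (op ((Kn K p).obj i)) x = v0 i := fun i => hsurj _ _
  choose v'' hv'' using h
  refine ⟨dFam K P2 p v'', dFam_dFam K P2 p v'', ?_⟩
  rw [mapFam_dFam]
  have : mapFam g v'' = v0 := funext hv''
  rw [this, hv0]

/-- Surjectivity on cocycles in degree zero, on a site with a terminal object. -/
theorem hZ_zero (J : GrothendieckTopology C) (hK : LocalKan J (YK K))
    {T : C} (hT : IsTerminal T) {P2 : Cᵒᵖ ⥤ AddCommGrpCat.{u}} (F3 : Sheaf J AddCommGrpCat.{u})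
    (g : P2 ⟶ F3.obj) (hsurj : Function.Surjective (g.app (op T)))
    (w : Fam (Kn K 0) F3.obj) (hw : dFam K F3.obj 0 w = 0) :
    ∃ v : Fam (Kn K 0) P2, dFam K P2 0 v = 0 ∧ mapFam g v = w := by
  obtain ⟨γ, hγ⟩ := exists_const_of_cocycle J K hK F3 w hw
  obtain ⟨s', hs'⟩ := hsurj (γ.app (op T) (ULift.up 1))
  refine ⟨fun i => P2.map (hT.from ((Kn K 0).obj i)).op s', ?_, ?_⟩
  · funext j
    change ∑ k : Fin 2, (-1 : ℤ) ^ (k : ℕ) •
      P2.map ((K.δ k).φ j).op (P2.map (hT.from ((Kn K 0).obj ((K.δ k).f j))).op s') = 0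
    have h : ∀ k : Fin 2,
        P2.map ((K.δ k).φ j).op (P2.map (hT.from ((Kn K 0).obj ((K.δ k).f j))).op s') =
          P2.map (hT.from ((Kn K 1).obj j)).op s' := by
      intro k
      rw [← ConcreteCategory.comp_apply, ← P2.map_comp, ← op_comp]
      have e : (K.δ k).φ j ≫ hT.from ((Kn K 0).obj ((K.δ k).f j)) =
          hT.from ((Kn K 1).obj j) := hT.hom_ext _ _
      rw [e]
    rw [Fin.sum_univ_two, h, h]
    simp
  · funext i
    change g.app _ (P2.map (hT.from ((Kn K 0).obj i)).op s') = w i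
    have h1 := ConcreteCategory.congr_hom (g.naturality (hT.from ((Kn K 0).obj i)).op) s'
    simp only [ConcreteCategory.comp_apply] at h1
    rw [h1, hs']
    have h2 := ConcreteCategory.congr_hom (γ.naturality (hT.from ((Kn K 0).obj i)).op)
      (ULift.up 1)
    simp only [ConcreteCategory.comp_apply] at h2
    rw [← h2]
    exact hγ i

end Fam

section Coh

open Groth.Agent.Lib.helper7.FreeYoneda

variable {C : Type u} [SmallCategory C] {J : GrothendieckTopology C}

/-- Sections lift along the epimorphism of a short exact sequence whose kernel has vanishing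
`H^1` on the given object. -/
lemma surjective_of_HU {S : ShortComplex (Sheaf J AddCommGrpCat.{u})} (hS : S.ShortExact) (U : C)
    (hU : Subsingleton (CohSite.HU S.X₁ 1 U)) :
    Function.Surjective (S.g.hom.app (op U)) := by
  intro s
  let t : (freeSheaf J).obj U ⟶ S.X₃ := (homEquiv J U S.X₃).symm s
  have hs : Subsingleton (Abelian.Ext.{u} ((freeSheaf J).obj U) S.X₁ 1) := hU
  obtain ⟨x₂, hx₂⟩ := Abelian.Ext.covariant_sequence_exact₃ ((freeSheaf J).obj U) hS
    (Abelian.Ext.mk₀ t) (n₁ := 1) rfl (Subsingleton.elim _ _)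
  obtain ⟨t', rfl⟩ := (Abelian.Ext.mk₀_bijective.{u} _ S.X₂).2 x₂
  rw [Abelian.Ext.mk₀_comp_mk₀] at hx₂
  have ht' : t' ≫ S.g = t := (Abelian.Ext.mk₀_bijective.{u} _ S.X₃).1 hx₂
  refine ⟨homEquiv J U S.X₂ t', ?_⟩
  rw [← homEquiv_naturality_right, ht', Equiv.apply_symm_apply]

/-- Acyclicity passes to the cokernel of an embedding into an injective sheaf. -/
lemma subsingleton_HU_X₃ {S : ShortComplex (Sheaf J AddCommGrpCat.{u})} (hS : S.ShortExact)
    [Injective S.X₂] (U : C) (q : ℕ) (h : Subsingleton (CohSite.HU S.X₁ (q + 2) U)) :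
    Subsingleton (CohSite.HU S.X₃ (q + 1) U) := by
  have hs : Subsingleton (Abelian.Ext.{u} ((freeSheaf J).obj U) S.X₁ (q + 2)) := h
  change Subsingleton (Abelian.Ext.{u} ((freeSheaf J).obj U) S.X₃ (q + 1))
  refine subsingleton_of_forall_eq 0 fun x₃ => ?_
  obtain ⟨x₂, hx₂⟩ := Abelian.Ext.covariant_sequence_exact₃ ((freeSheaf J).obj U) hS x₃
    (n₁ := q + 2) rfl (Subsingleton.elim _ _)
  rw [← hx₂, Abelian.Ext.eq_zero_of_injective x₂, Abelian.Ext.zero_comp]

lemma injective_app_of_mono {F G : Sheaf J AddCommGrpCat.{u}} (f : F ⟶ G) [Mono f] (U : C) :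
    Function.Injective (f.hom.app (op U)) := by
  have h1 : Mono ((sheafToPresheaf J AddCommGrpCat.{u}).map f) := inferInstance
  have h2 : Mono (((sheafToPresheaf J AddCommGrpCat.{u}).map f).app (op U)) := inferInstance
  exact (AddCommGrpCat.mono_iff_injective _).1 h2

lemma exact_app {S : ShortComplex (Sheaf J AddCommGrpCat.{u})} (hS : S.ShortExact) (U : C)
    (y : S.X₂.obj.obj (op U)) (hy : S.g.hom.app (op U) y = 0) :
    ∃ x, S.f.hom.app (op U) x = y := by
  have := hS.mono_f
  let E : Sheaf J AddCommGrpCat.{u} ⥤ AddCommGrpCat.{u} :=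
    sheafToPresheaf J AddCommGrpCat.{u} ⋙ (evaluation Cᵒᵖ AddCommGrpCat.{u}).obj (op U)
  have hE : (S.map E).Exact :=
    hS.exact.map_of_mono_of_preservesKernel E inferInstance inferInstance
  exact (ShortComplex.ab_exact_iff _).1 hE y hy

end Coh

section Main

open Groth.Agent.Lib.Helper21.AbShriek

variable {C : Type u} [SmallCategory C] [HasPullbacks C] (J : GrothendieckTopology C) (X : C)
  (K : SimplicialObject (FormalCoproduct.{u} (Over X)))
  [∀ (n : ℕ) (F : (SimplexCategory.Truncated n)ᵒᵖ ⥤ FormalCoproduct.{u} (Over X)),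
    (SimplexCategory.Truncated.inclusion n).op.HasRightKanExtension F]

/-- Restriction of a presheaf to the over category. -/
abbrev rP (P : Cᵒᵖ ⥤ AddCommGrpCat.{u}) : (Over X)ᵒᵖ ⥤ AddCommGrpCat.{u} :=
  (Over.forget X).op ⋙ P

/-- Restriction of a morphism of presheaves to the over category. -/
abbrev rMap {P Q : Cᵒᵖ ⥤ AddCommGrpCat.{u}} (α : P ⟶ Q) : rP X P ⟶ rP X Q :=
  Functor.whiskerLeft (Over.forget X).op α

/-- The short exact sequence `0 ⟶ F ⟶ I ⟶ I/F ⟶ 0` with `I` injective. -/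
noncomputable abbrev sesInj (F : Sheaf J AddCommGrpCat.{u}) :
    ShortComplex (Sheaf J AddCommGrpCat.{u}) :=
  ShortComplex.mk (Injective.ι F) (cokernel.π (Injective.ι F)) (cokernel.condition _)

omit [HasPullbacks C] in
lemma sesInj_shortExact (F : Sheaf J AddCommGrpCat.{u}) : (sesInj J F).ShortExact :=
  { exact := ShortComplex.exact_cokernel _ }

omit [HasPullbacks C] in
/-- Vanishing of the higher Čech cohomology of sheaves which are acyclic on all objects, in
elementwise form. -/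
theorem cech_vanish (hK : Hyper.IsHypercovering J X K) (p : ℕ) :
    ∀ (F : Sheaf J AddCommGrpCat.{u}),
      (∀ (U : C) (q : ℕ), Subsingleton (CohSite.HU F (q + 1) U)) →
      ∀ c : Fam (Kn K (p + 1)) (rP X F.obj), dFam K (rP X F.obj) (p + 1) c = 0 →
        ∃ b : Fam (Kn K p) (rP X F.obj), dFam K (rP X F.obj) p b = c := by
  have hLK := HyperOver.localKan_of_isHypercovering J X K hK
  have common : ∀ (p : ℕ) (F : Sheaf J AddCommGrpCat.{u}),
      (∀ w : Fam (Kn K p) (rP X (sesInj J F).X₃.obj), dFam K (rP X (sesInj J F).X₃.obj) p w = 0 →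
        ∃ v : Fam (Kn K p) (rP X (sesInj J F).X₂.obj),
          dFam K (rP X (sesInj J F).X₂.obj) p v = 0 ∧ mapFam (rMap X (sesInj J F).g.hom) v = w) →
      ∀ c : Fam (Kn K (p + 1)) (rP X F.obj), dFam K (rP X F.obj) (p + 1) c = 0 →
        ∃ b : Fam (Kn K p) (rP X F.obj), dFam K (rP X F.obj) p b = c := by
    intro p F hZ
    have hS := sesInj_shortExact J F
    have hI : Injective (sesInj J F).X₂ := inferInstanceAs (Injective (Injective.under F))
    let I' : Sheaf (J.over X) AddCommGrpCat.{u} := (jStar X J).obj (sesInj J F).X₂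
    have hI' : Injective I' := Functor.injective_obj _ _
    have hH := (isZero_cech_homology_succ_iff K (rP X (sesInj J F).X₂.obj) p).1
      (isZero_cech_homology_succ (J.over X) K hLK I' p)
    refine chase K (rMap X (sesInj J F).f.hom) (rMap X (sesInj J F).g.hom) ?_ ?_ ?_ p hH hZ
    · have h0 : (sesInj J F).f.hom ≫ (sesInj J F).g.hom = 0 :=
        congrArg (fun t => t.hom) (sesInj J F).zero
      change Functor.whiskerLeft _ _ ≫ Functor.whiskerLeft _ _ = 0
      rw [← Functor.whiskerLeft_comp, h0]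
      rfl
    · intro V
      have := hS.mono_f
      exact injective_app_of_mono (sesInj J F).f V.left
    · intro V y hy
      exact exact_app hS V.left y hy
  induction p with
  | zero =>
    intro F hF
    refine common 0 F ?_
    have hS := sesInj_shortExact J F
    exact hZ_zero K (J.over X) hLK Over.mkIdTerminal ((jStar X J).obj (sesInj J F).X₃)
      (rMap X (sesInj J F).g.hom) (surjective_of_HU hS X (hF X 0))
  | succ p ih =>
    intro F hF
    refine common (p + 1) F ?_
    have hS := sesInj_shortExact J F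
    have hI : Injective (sesInj J F).X₂ := inferInstanceAs (Injective (Injective.under F))
    have hQ : ∀ (U : C) (q : ℕ), Subsingleton (CohSite.HU (sesInj J F).X₃ (q + 1) U) :=
      fun U q => subsingleton_HU_X₃ hS U q (hF U (q + 1))
    refine hZ_succ K (rMap X (sesInj J F).g.hom) ?_ p (ih (sesInj J F).X₃ hQ)
    intro V
    exact surjective_of_HU hS V.left (hF V.left 0)

end Main

end Groth.Agent.H1.HyperShift
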