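import Groth.Agent.Lib.Helper1.HyperShift
import Groth.Agent.Lib.Helper1.HyperRef3

/-!
# Families of sections over refinements of hypercoverings (helper1)
-/

set_option autoImplicit false
universe u

namespace Groth.Agent.H1.HyperVerdier

open CategoryTheory CategoryTheory.Limits Opposite FormalCoproduct
open Groth.Agent.H1.HyperBase Groth.Agent.H1.HyperCone Groth.Agent.H1.HyperSite
open Groth.Agent.H1.HyperCech Groth.Agent.H1.HyperShift

section Fam

variable {D : Type u} [SmallCategory D] (P : Dᵒᵖ ⥤ AddCommGrpCat.{u})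

lemma pullFam_comp {A B E : FormalCoproduct.{u} D} (f : A ⟶ B) (g : B ⟶ E) (c : Fam E P) :
    pullFam (f ≫ g) P c = pullFam f P (pullFam g P c) := by
  funext i
  change P.map (f.φ i ≫ g.φ (f.f i)).op (c (g.f (f.f i))) =
    P.map (f.φ i).op (P.map (g.φ (f.f i)).op (c (g.f (f.f i))))
  rw [op_comp, P.map_comp]
  rfl

lemma pullFam_id {A : FormalCoproduct.{u} D} (c : Fam A P) : pullFam (𝟙 A) P c = c := by
  funext i
  change P.map (𝟙 _).op (c i) = c i
  simp

lemma pullFam_zero {A B : FormalCoproduct.{u} D} (f : A ⟶ B) : pullFam f P (0 : Fam B P) = 0 := by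
  funext i
  exact map_zero _

lemma pullFam_add {A B : FormalCoproduct.{u} D} (f : A ⟶ B) (c c' : Fam B P) :
    pullFam f P (c + c') = pullFam f P c + pullFam f P c' := by
  funext i
  exact map_add _ _ _

lemma pullFam_sub {A B : FormalCoproduct.{u} D} (f : A ⟶ B) (c c' : Fam B P) :
    pullFam f P (c - c') = pullFam f P c - pullFam f P c' := by
  funext i
  exact map_sub _ _ _

lemma pullFam_dFam {K L : SimplicialObject (FormalCoproduct.{u} D)} (f : L ⟶ K) (n : ℕ)
    (c : Fam (Kn K n) P) :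
    pullFam (f.app (op (SimplexCategory.mk (n + 1)))) P (dFam K P n c) =
      dFam L P n (pullFam (f.app (op (SimplexCategory.mk n))) P c) := by
  funext j
  change P.map _ (∑ k : Fin (n + 2), (-1 : ℤ) ^ (k : ℕ) • pullFam (K.δ k) P c _) =
    ∑ k : Fin (n + 2), (-1 : ℤ) ^ (k : ℕ) • pullFam (L.δ k) P (pullFam _ P c) j
  rw [map_sum]
  refine Finset.sum_congr rfl fun k _ => ?_
  rw [map_zsmul]
  congr 1
  have h1 : pullFam (f.app (op (SimplexCategory.mk (n + 1)))) P (pullFam (K.δ k) P c) j =
      pullFam (L.δ k) P (pullFam (f.app (op (SimplexCategory.mk n))) P c) j := by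
    rw [← pullFam_comp, ← pullFam_comp]
    have h2 : f.app (op (SimplexCategory.mk (n + 1))) ≫ K.δ k =
        L.δ k ≫ f.app (op (SimplexCategory.mk n)) := (f.naturality _).symm
    rw [h2]
  exact h1

lemma dFam_zero (K : SimplicialObject (FormalCoproduct.{u} D)) (n : ℕ) :
    dFam K P n (0 : Fam (Kn K n) P) = 0 := by
  have h := dFam_sub K (P := P) n 0 0
  rw [sub_self, sub_self] at h
  exact h

lemma dFam_add (K : SimplicialObject (FormalCoproduct.{u} D)) (n : ℕ) (c c' : Fam (Kn K n) P) :
    dFam K P n (c + c') = dFam K P n c + dFam K P n c' := by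
  have h := dFam_sub K (P := P) n (c + c') c'
  rw [add_sub_cancel_right] at h
  rw [h, sub_add_cancel]

end Fam

section RefLift

variable {D : Type u} [SmallCategory D]

/-- The subfunctor of `hF.obj A` of sections along which the family `w` lifts along `α`. -/
def liftSub (A : FormalCoproduct.{u} D) {P Q : Dᵒᵖ ⥤ AddCommGrpCat.{u}} (α : P ⟶ Q)
    (w : Fam A Q) : Subfunctor (hF.obj A) where
  obj V := {t | ∃ x : P.obj V, α.app V x = Q.map (t.φ PUnit.unit).op (w (t.f PUnit.unit))}
  map {V W} g := by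
    rintro t ⟨x, hx⟩
    refine ⟨P.map g x, ?_⟩
    change α.app W (P.map g x) = Q.map (g.unop ≫ t.φ PUnit.unit).op (w (t.f PUnit.unit))
    have h1 := ConcreteCategory.congr_hom (α.naturality g) x
    simp only [ConcreteCategory.comp_apply] at h1
    rw [h1, hx, op_comp, Q.map_comp]
    rfl

variable [HasFiniteLimits (FormalCoproduct.{u} D)] (J : GrothendieckTopology D)

/-- Refinement along which a locally liftable family of sections over `K_n` lifts. -/
theorem exists_refinement_lifting (K : SimplicialObject (FormalCoproduct.{u} D))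
    (hK : LocalKan J (YK K)) (n : ℕ) {P Q : Dᵒᵖ ⥤ AddCommGrpCat.{u}} (α : P ⟶ Q)
    (w : Fam (Kn K n) Q)
    (hw : ∀ i, ∃ S ∈ J ((Kn K n).obj i),
      ∀ ⦃W : D⦄ (g : W ⟶ (Kn K n).obj i), S g →
        ∃ x : P.obj (op W), α.app (op W) x = Q.map g.op (w i)) :
    ∃ (L : SimplicialObject (FormalCoproduct.{u} D)) (f : L ⟶ K),
      LocalKan J (YK L) ∧ ∃ v : Fam (Kn L n) P,
        mapFam α v = pullFam (f.app (op (SimplexCategory.mk n))) Q w := by
  let S := liftSub (Kn K n) α w
  have hv : Presheaf.IsLocallySurjective J S.ι := by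
    refine ⟨fun {V} r => ?_⟩
    obtain ⟨T, hT, hT'⟩ := hw (r.f PUnit.unit)
    refine J.superset_covering ?_ (J.pullback_stable (r.φ PUnit.unit) hT)
    intro W g hg
    obtain ⟨x, hx⟩ := hT' _ hg
    exact ⟨⟨(incl D).map g ≫ r, ⟨x, hx⟩⟩, rfl⟩
  obtain ⟨L, f, g, hL, hg⟩ := HyperRef.exists_refinement_hF J K hK n S.toFunctor S.ι hv
  refine ⟨L, f, hL, ?_⟩
  have key : ∀ j : (Kn L n).I, ∃ x : P.obj (op ((Kn L n).obj j)),
      α.app (op ((Kn L n).obj j)) x =
        pullFam (f.app (op (SimplexCategory.mk n))) Q w j := by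
    intro j
    have h1 := ConcreteCategory.congr_hom (NatTrans.congr_app hg (op ((Kn L n).obj j)))
      (univ _ j)
    have h2 := (g.app (op ((Kn L n).obj j)) (univ _ j)).2
    have h3 : (g.app (op ((Kn L n).obj j)) (univ _ j)).1 =
        univ _ j ≫ f.app (op (SimplexCategory.mk n)) := h1
    rw [h3] at h2
    obtain ⟨x, hx⟩ := h2
    refine ⟨x, hx.trans ?_⟩
    change Q.map (𝟙 _ ≫ (f.app (op (SimplexCategory.mk n))).φ j).op
      (w ((f.app (op (SimplexCategory.mk n))).f j)) = _
    rw [Category.id_comp]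
    rfl
  choose v hv using key
  exact ⟨v, funext hv⟩

end RefLift

section Terminal

variable {D : Type u} [SmallCategory D] (J : GrothendieckTopology D)
  (K : SimplicialObject (FormalCoproduct.{u} D))

/-- A degree zero cocycle of a sheaf comes from a section over the terminal object. -/
lemma exists_global_of_cocycle (hK : LocalKan J (YK K)) {T : D} (hT : IsTerminal T)
    (F : Sheaf J AddCommGrpCat.{u}) (c : Fam (Kn K 0) F.obj) (hc : dFam K F.obj 0 c = 0) :
    ∃ s : F.obj.obj (op T), ∀ i, F.obj.map (hT.from ((Kn K 0).obj i)).op s = c i := by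
  obtain ⟨γ, hγ⟩ := exists_const_of_cocycle J K hK F c hc
  refine ⟨γ.app (op T) (ULift.up 1), fun i => ?_⟩
  have h2 := ConcreteCategory.congr_hom (γ.naturality (hT.from ((Kn K 0).obj i)).op)
    (ULift.up 1)
  simp only [ConcreteCategory.comp_apply] at h2
  rw [← h2]
  exact hγ i

/-- A section over the terminal object vanishing on all components of `K_0` vanishes. -/
lemma eq_zero_of_restrict_eq_zero (hK : LocalKan J (YK K)) {T : D} (hT : IsTerminal T)
    (F : Sheaf J AddCommGrpCat.{u}) (s : F.obj.obj (op T))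
    (hs : ∀ i, F.obj.map (hT.from ((Kn K 0).obj i)).op s = 0) : s = 0 := by
  refine Sheaf.isSeparated F T (vertexSieve (YK K) T) (hK.vertex T) _ 0 ?_
  rintro W g ⟨v⟩
  have e : g = v.φ PUnit.unit ≫ hT.from ((Kn K 0).obj (v.f PUnit.unit)) := hT.hom_ext _ _
  subst e
  have h1 : F.obj.map (v.φ PUnit.unit ≫ hT.from ((Kn K 0).obj (v.f PUnit.unit))).op s =
      F.obj.map (v.φ PUnit.unit).op
        (F.obj.map (hT.from ((Kn K 0).obj (v.f PUnit.unit))).op s) := by
    rw [op_comp, F.obj.map_comp]
    rfl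
  refine h1.trans ?_
  rw [hs]
  exact (map_zero _).trans (map_zero _).symm

end Terminal

end Groth.Agent.H1.HyperVerdier
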