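import Groth.Agent.Lib.Helper1.HyperVerdier1
import Groth.Agent.Lib.Helper1.HyperEx5

/-!
# Classes in Čech cohomology over hypercoverings dying on refinements (helper1)
-/

set_option autoImplicit false
universe u

namespace Groth.Agent.H1.HyperVerdier

open CategoryTheory CategoryTheory.Limits Opposite FormalCoproduct
open Groth.Agent.H1.HyperBase Groth.Agent.H1.HyperCone Groth.Agent.H1.HyperSite
open Groth.Agent.H1.HyperCech Groth.Agent.H1.HyperShift

section Bdry

variable {D : Type u} [SmallCategory D]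

/-- Being zero (in degree `0`) or a coboundary (in positive degrees). -/
def IsBdry (L : SimplicialObject (FormalCoproduct.{u} D)) (P : Dᵒᵖ ⥤ AddCommGrpCat.{u}) :
    (q : ℕ) → Fam (Kn L q) P → Prop
  | 0, c => c = 0
  | (n + 1), c => ∃ b : Fam (Kn L n) P, dFam L P n b = c

lemma IsBdry.pull {L L' : SimplicialObject (FormalCoproduct.{u} D)} (f : L' ⟶ L)
    {P : Dᵒᵖ ⥤ AddCommGrpCat.{u}} {q : ℕ} {c : Fam (Kn L q) P} (h : IsBdry L P q c) :
    IsBdry L' P q (pullFam (f.app (op (SimplexCategory.mk q))) P c) := by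
  cases q with
  | zero =>
    have h' : c = 0 := h
    change pullFam _ P c = 0
    rw [h', pullFam_zero]
  | succ n =>
    obtain ⟨b, hb⟩ := h
    refine ⟨pullFam (f.app (op (SimplexCategory.mk n))) P b, ?_⟩
    rw [← pullFam_dFam, hb]

lemma IsBdry.map {L : SimplicialObject (FormalCoproduct.{u} D)}
    {P Q : Dᵒᵖ ⥤ AddCommGrpCat.{u}} (α : P ⟶ Q) {q : ℕ} {c : Fam (Kn L q) P}
    (h : IsBdry L P q c) : IsBdry L Q q (mapFam α c) := by
  cases q with
  | zero =>
    have h' : c = 0 := h
    change mapFam α c = 0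
    rw [h', mapFam_zero]
  | succ n =>
    obtain ⟨b, hb⟩ := h
    refine ⟨mapFam α b, ?_⟩
    rw [← mapFam_dFam, hb]

end Bdry

section Main

variable {C : Type u} [SmallCategory C] [HasPullbacks C] (J : GrothendieckTopology C) (X : C)

lemma locally_lifts {P Q : Cᵒᵖ ⥤ AddCommGrpCat.{u}} (α : P ⟶ Q)
    [Presheaf.IsLocallySurjective J α] (U : Over X) (s : Q.obj (op U.left)) :
    ∃ S ∈ (J.over X) U, ∀ ⦃W : Over X⦄ (g : W ⟶ U), S g →
      ∃ x : (rP X P).obj (op W), (rMap X α).app (op W) x = (rP X Q).map g.op s := by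
  refine ⟨(Sieve.overEquiv U).symm (Presheaf.imageSieve α s),
    (GrothendieckTopology.mem_over_iff J _).2 ?_, ?_⟩
  · have e : Sieve.overEquiv U ((Sieve.overEquiv U).symm (Presheaf.imageSieve α s)) =
        Presheaf.imageSieve α s := OrderIso.apply_symm_apply _ _
    exact e.symm ▸ Presheaf.imageSieve_mem J α s
  · intro W g hg
    exact (Sieve.overEquiv_symm_iff _ _).1 hg

lemma locally_zero_of_map_eq_zero {P Q : Cᵒᵖ ⥤ AddCommGrpCat.{u}} (α : P ⟶ Q)
    [Presheaf.IsLocallyInjective J α] (U : Over X) (s : P.obj (op U.left))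
    (hs : α.app (op U.left) s = 0) :
    ∃ S ∈ (J.over X) U, ∀ ⦃W : Over X⦄ (g : W ⟶ U), S g → (rP X P).map g.op s = 0 := by
  have h2 : α.app (op U.left) s = α.app (op U.left) 0 := by rw [hs, map_zero]
  refine ⟨(Sieve.overEquiv U).symm (Presheaf.equalizerSieve s 0),
    (GrothendieckTopology.mem_over_iff J _).2 ?_, ?_⟩
  · have e : Sieve.overEquiv U ((Sieve.overEquiv U).symm (Presheaf.equalizerSieve s 0)) =
        Presheaf.equalizerSieve s 0 := OrderIso.apply_symm_apply _ _
    exact e.symm ▸ Presheaf.equalizerSieve_mem J α s 0 h2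
  · intro W g hg
    have h3 : P.map g.left.op s = P.map g.left.op 0 := (Sieve.overEquiv_symm_iff _ _).1 hg
    rw [map_zero] at h3
    exact h3

/-- Every cocycle of degree `q` of the presheaf `P` over a hypercovering of `X` becomes zero
(`q = 0`) or a coboundary (`q > 0`) over a refinement. -/
def Dies (P : Cᵒᵖ ⥤ AddCommGrpCat.{u}) (q : ℕ) : Prop :=
  ∀ (K : SimplicialObject (FormalCoproduct.{u} (Over X))), LocalKan (J.over X) (YK K) →
    ∀ c : Fam (Kn K q) (rP X P), dFam K (rP X P) q c = 0 →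
      ∃ (L : SimplicialObject (FormalCoproduct.{u} (Over X))) (f : L ⟶ K),
        LocalKan (J.over X) (YK L) ∧
          IsBdry L (rP X P) q (pullFam (f.app (op (SimplexCategory.mk q))) (rP X P) c)

instance : HasFiniteLimits (FormalCoproduct.{u} (Over X)) :=
  hasFiniteLimits_of_hasTerminal_and_pullbacks

theorem dies_of_locally_bijective {P P' : Cᵒᵖ ⥤ AddCommGrpCat.{u}} (φ : P ⟶ P')
    [Presheaf.IsLocallyInjective J φ] [Presheaf.IsLocallySurjective J φ] (q : ℕ)
    (h : Dies J X P q) : Dies J X P' q := by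
  intro K hK w hw
  obtain ⟨L1, f1, hL1, v, hv⟩ := exists_refinement_lifting (J.over X) K hK q (rMap X φ) w
    (fun i => locally_lifts J X φ _ (w i))
  have h1 : mapFam (rMap X φ) (dFam L1 (rP X P) q v) = 0 := by
    rw [mapFam_dFam, hv, ← pullFam_dFam, hw, pullFam_zero]
  obtain ⟨L2, f2, hL2, h2⟩ := HyperRef.exists_refinement_killing (J.over X) L1 hL1 (q + 1)
    (rP X P) (dFam L1 (rP X P) q v)
    (fun i => locally_zero_of_map_eq_zero J X φ _ _ (congrFun h1 i))
  have h3 : dFam L2 (rP X P) q (pullFam (f2.app (op (SimplexCategory.mk q))) (rP X P) v) = 0 := by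
    rw [← pullFam_dFam]
    exact h2
  obtain ⟨L3, f3, hL3, h4⟩ := h L2 hL2 _ h3
  refine ⟨L3, f3 ≫ f2 ≫ f1, hL3, ?_⟩
  have h5 : pullFam ((f3 ≫ f2 ≫ f1).app (op (SimplexCategory.mk q))) (rP X P') w =
      mapFam (rMap X φ) (pullFam (f3.app (op (SimplexCategory.mk q))) (rP X P)
        (pullFam (f2.app (op (SimplexCategory.mk q))) (rP X P) v)) := by
    rw [NatTrans.comp_app, NatTrans.comp_app, pullFam_comp, pullFam_comp, ← hv,
      mapFam_pullFam, mapFam_pullFam]
  rw [h5]
  exact h4.map _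

theorem dies_of_locally_bijective' {P P' : Cᵒᵖ ⥤ AddCommGrpCat.{u}} (φ : P ⟶ P')
    [Presheaf.IsLocallyInjective J φ] [Presheaf.IsLocallySurjective J φ] (q : ℕ)
    (h : Dies J X P' q) : Dies J X P q := by
  intro K hK v hv
  have hw : dFam K (rP X P') q (mapFam (rMap X φ) v) = 0 := by
    rw [← mapFam_dFam, hv, mapFam_zero]
  obtain ⟨L1, f1, hL1, h1⟩ := h K hK _ hw
  cases q with
  | zero =>
    have h1' : pullFam (f1.app (op (SimplexCategory.mk 0))) (rP X P') (mapFam (rMap X φ) v) = 0 :=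
      h1
    rw [← mapFam_pullFam] at h1'
    obtain ⟨L2, f2, hL2, h2⟩ := HyperRef.exists_refinement_killing (J.over X) L1 hL1 0
      (rP X P) (pullFam (f1.app (op (SimplexCategory.mk 0))) (rP X P) v)
      (fun i => locally_zero_of_map_eq_zero J X φ _ _ (congrFun h1' i))
    refine ⟨L2, f2 ≫ f1, hL2, ?_⟩
    change pullFam _ _ v = 0
    rw [NatTrans.comp_app, pullFam_comp]
    exact h2
  | succ n =>
    obtain ⟨b, hb⟩ := h1
    obtain ⟨L2, f2, hL2, b', hb'⟩ := exists_refinement_lifting (J.over X) L1 hL1 n (rMap X φ) b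
      (fun i => locally_lifts J X φ _ (b i))
    have h2 : mapFam (rMap X φ) (pullFam (f2.app (op (SimplexCategory.mk (n + 1)))) (rP X P)
        (pullFam (f1.app (op (SimplexCategory.mk (n + 1)))) (rP X P) v) -
          dFam L2 (rP X P) n b') = 0 := by
      rw [mapFam_sub, mapFam_dFam, hb', mapFam_pullFam, mapFam_pullFam, ← hb, pullFam_dFam,
        sub_self]
    obtain ⟨L3, f3, hL3, h3⟩ := HyperRef.exists_refinement_killing (J.over X) L2 hL2 (n + 1)
      (rP X P) _ (fun i => locally_zero_of_map_eq_zero J X φ _ _ (congrFun h2 i))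
    rw [pullFam_sub, sub_eq_zero] at h3
    refine ⟨L3, f3 ≫ f2 ≫ f1, hL3, pullFam (f3.app (op (SimplexCategory.mk n))) (rP X P) b', ?_⟩
    rw [NatTrans.comp_app, NatTrans.comp_app, pullFam_comp, pullFam_comp, h3, pullFam_dFam]

end Main

section Const

variable {D : Type u} [SmallCategory D] (K : SimplicialObject (FormalCoproduct.{u} D))

/-- The family of restrictions of a section over the terminal object. -/
def constFam {T : D} (hT : IsTerminal T) (P : Dᵒᵖ ⥤ AddCommGrpCat.{u}) (s : P.obj (op T))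
    (A : FormalCoproduct.{u} D) : Fam A P :=
  fun i => P.map (hT.from (A.obj i)).op s

lemma pullFam_constFam {T : D} (hT : IsTerminal T) (P : Dᵒᵖ ⥤ AddCommGrpCat.{u})
    (s : P.obj (op T)) {A B : FormalCoproduct.{u} D} (f : A ⟶ B) :
    pullFam f P (constFam hT P s B) = constFam hT P s A := by
  funext i
  change P.map (f.φ i).op (P.map (hT.from (B.obj (f.f i))).op s) = P.map (hT.from (A.obj i)).op s
  rw [← ConcreteCategory.comp_apply, ← P.map_comp, ← op_comp]
  have e : f.φ i ≫ hT.from (B.obj (f.f i)) = hT.from (A.obj i) := hT.hom_ext _ _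
  rw [e]

lemma dFam_constFam {T : D} (hT : IsTerminal T) (P : Dᵒᵖ ⥤ AddCommGrpCat.{u})
    (s : P.obj (op T)) : dFam K P 0 (constFam hT P s (Kn K 0)) = 0 := by
  funext j
  change ∑ k : Fin 2, (-1 : ℤ) ^ (k : ℕ) • pullFam (K.δ k) P (constFam hT P s (Kn K 0)) j = 0
  rw [Fin.sum_univ_two, pullFam_constFam, pullFam_constFam]
  simp

lemma mapFam_constFam {T : D} (hT : IsTerminal T) {P Q : Dᵒᵖ ⥤ AddCommGrpCat.{u}} (α : P ⟶ Q)
    (s : P.obj (op T)) (A : FormalCoproduct.{u} D) :
    mapFam α (constFam hT P s A) = constFam hT Q (α.app (op T) s) A := by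
  funext i
  exact ConcreteCategory.congr_hom (α.naturality (hT.from (A.obj i)).op) s

end Const

section ShLevel

open Groth.Agent.Lib.helper7.FreeYoneda Groth.Agent.Lib.Helper21.AbShriek

variable {C : Type u} [SmallCategory C] [HasPullbacks C] (J : GrothendieckTopology C) (X : C)
  (F : Sheaf J AddCommGrpCat.{u})

lemma ses_map_map {A : FormalCoproduct.{u} (Over X)} (x : Fam A (rP X F.obj)) :
    mapFam (rMap X (sesInj J F).g.hom) (mapFam (rMap X (sesInj J F).f.hom) x) = 0 := by
  funext i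
  have h0 : (sesInj J F).f.hom ≫ (sesInj J F).g.hom = 0 :=
    congrArg (fun t => t.hom) (sesInj J F).zero
  exact ConcreteCategory.congr_hom (NatTrans.congr_app h0 (op (A.obj i).left)) (x i)

lemma ses_inj {A : FormalCoproduct.{u} (Over X)} (x y : Fam A (rP X F.obj))
    (h : mapFam (rMap X (sesInj J F).f.hom) x = mapFam (rMap X (sesInj J F).f.hom) y) :
    x = y := by
  have := (sesInj_shortExact J F).mono_f
  funext i
  exact injective_app_of_mono (sesInj J F).f (A.obj i).left (congrFun h i)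

lemma ses_exact {A : FormalCoproduct.{u} (Over X)} (z : Fam A (rP X (sesInj J F).X₂.obj))
    (hz : mapFam (rMap X (sesInj J F).g.hom) z = 0) :
    ∃ y : Fam A (rP X F.obj), mapFam (rMap X (sesInj J F).f.hom) y = z := by
  have h : ∀ i, ∃ x, (sesInj J F).f.hom.app (op (A.obj i).left) x = z i := fun i =>
    exact_app (sesInj_shortExact J F) (A.obj i).left (z i) (congrFun hz i)
  choose y hy using h
  exact ⟨y, funext hy⟩

lemma inj_acyclic (K : SimplicialObject (FormalCoproduct.{u} (Over X)))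
    (hK : LocalKan (J.over X) (YK K)) (p : ℕ)
    (c : Fam (Kn K (p + 1)) (rP X (sesInj J F).X₂.obj))
    (hc : dFam K (rP X (sesInj J F).X₂.obj) (p + 1) c = 0) :
    ∃ b : Fam (Kn K p) (rP X (sesInj J F).X₂.obj),
      dFam K (rP X (sesInj J F).X₂.obj) p b = c := by
  have hI : Injective (sesInj J F).X₂ := inferInstanceAs (Injective (Injective.under F))
  let I' : Sheaf (J.over X) AddCommGrpCat.{u} := (jStar X J).obj (sesInj J F).X₂
  have hI' : Injective I' := Functor.injective_obj _ _
  exact (isZero_cech_homology_succ_iff K (rP X (sesInj J F).X₂.obj) p).1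
    (isZero_cech_homology_succ (J.over X) K hK I' p) c hc

lemma ses_lift (K : SimplicialObject (FormalCoproduct.{u} (Over X)))
    (hK : LocalKan (J.over X) (YK K)) (n : ℕ) (w : Fam (Kn K n) (rP X (sesInj J F).X₃.obj)) :
    ∃ (L : SimplicialObject (FormalCoproduct.{u} (Over X))) (f : L ⟶ K),
      LocalKan (J.over X) (YK L) ∧ ∃ v : Fam (Kn L n) (rP X (sesInj J F).X₂.obj),
        mapFam (rMap X (sesInj J F).g.hom) v =
          pullFam (f.app (op (SimplexCategory.mk n))) (rP X (sesInj J F).X₃.obj) w := by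
  have := (sesInj_shortExact J F).epi_g
  have hls : Presheaf.IsLocallySurjective J (sesInj J F).g.hom :=
    (Sheaf.isLocallySurjective_iff_epi' AddCommGrpCat.{u} (sesInj J F).g).2 inferInstance
  exact exists_refinement_lifting (J.over X) K hK n (rMap X (sesInj J F).g.hom) w
    (fun i => locally_lifts J X (sesInj J F).g.hom _ (w i))

end ShLevel

end Groth.Agent.H1.HyperVerdier
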