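import Groth.Agent.Lib.Helper1.HyperVerdier2

/-!
# Vanishing of cohomology and classes dying on refinements of hypercoverings (helper1)
-/

set_option autoImplicit false
universe u

namespace Groth.Agent.H1.HyperVerdier

open CategoryTheory CategoryTheory.Limits Opposite FormalCoproduct
open Groth.Agent.H1.HyperBase Groth.Agent.H1.HyperCone Groth.Agent.H1.HyperSite
open Groth.Agent.H1.HyperCech Groth.Agent.H1.HyperShift
open Groth.Agent.Lib.helper7.FreeYoneda Groth.Agent.Lib.Helper21.AbShriek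

variable {C : Type u} [SmallCategory C] [HasPullbacks C] (J : GrothendieckTopology C) (X : C)
  (F : Sheaf J AddCommGrpCat.{u})

omit [HasPullbacks C] in
lemma subsingleton_sections_iff :
    Subsingleton (CohSite.HU F 0 X) ↔ Subsingleton (F.obj.obj (op X)) := by
  change Subsingleton (Abelian.Ext.{u} ((freeSheaf J).obj X) F 0) ↔ _
  constructor
  · intro h
    refine ⟨fun s t => ?_⟩
    have h1 : Abelian.Ext.mk₀ ((homEquiv J X F).symm s) =
        Abelian.Ext.mk₀ ((homEquiv J X F).symm t) := Subsingleton.elim _ _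
    have h2 := (Abelian.Ext.mk₀_bijective.{u} _ F).1 h1
    exact (homEquiv J X F).symm.injective h2
  · intro h
    refine ⟨fun a b => ?_⟩
    obtain ⟨a', rfl⟩ := (Abelian.Ext.mk₀_bijective.{u} _ F).2 a
    obtain ⟨b', rfl⟩ := (Abelian.Ext.mk₀_bijective.{u} _ F).2 b
    have : a' = b' := (homEquiv J X F).injective (Subsingleton.elim _ _)
    rw [this]

theorem dies_zero (h : Subsingleton (CohSite.HU F 0 X)) : Dies J X F.obj 0 := by
  have hF := (subsingleton_sections_iff J X F).1 h
  intro K hK c hc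
  obtain ⟨s, hs⟩ := exists_global_of_cocycle (J.over X) K hK Over.mkIdTerminal
    ((jStar X J).obj F) c hc
  have hs0 : s = 0 := Subsingleton.elim (α := F.obj.obj (op X)) _ _
  refine ⟨K, 𝟙 K, hK, ?_⟩
  change pullFam (𝟙 _) (rP X F.obj) c = 0
  rw [pullFam_id]
  funext i
  rw [← hs i, hs0]
  exact map_zero _

theorem dies_one (h : Subsingleton (CohSite.HU F 1 X)) : Dies J X F.obj 1 := by
  intro K hK c hc
  have hS := sesInj_shortExact J F
  have hb : ∃ b : Fam (Kn K 0) (rP X F.obj), dFam K (rP X F.obj) 0 b = c := by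
    refine chase K (rMap X (sesInj J F).f.hom) (rMap X (sesInj J F).g.hom) ?_ ?_ ?_ 0
      (inj_acyclic J X F K hK 0) ?_ c hc
    · have h0 : (sesInj J F).f.hom ≫ (sesInj J F).g.hom = 0 :=
        congrArg (fun t => t.hom) (sesInj J F).zero
      change Functor.whiskerLeft _ _ ≫ Functor.whiskerLeft _ _ = 0
      rw [← Functor.whiskerLeft_comp, h0]
      rfl
    · intro V
      have := hS.mono_f
      exact injective_app_of_mono (sesInj J F).f V.left
    · intro V y hy
      exact exact_app hS V.left y hy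
    · exact hZ_zero K (J.over X) hK Over.mkIdTerminal ((jStar X J).obj (sesInj J F).X₃)
        (rMap X (sesInj J F).g.hom) (surjective_of_HU hS X h)
  obtain ⟨b, hb⟩ := hb
  refine ⟨K, 𝟙 K, hK, b, ?_⟩
  change _ = pullFam (𝟙 _) (rP X F.obj) c
  rw [pullFam_id, hb]

theorem dies_succ_succ (p : ℕ) (h : Dies J X (sesInj J F).X₃.obj (p + 1)) :
    Dies J X F.obj (p + 2) := by
  intro K hK c hc
  obtain ⟨z, hz⟩ := inj_acyclic J X F K hK (p + 1) (mapFam (rMap X (sesInj J F).f.hom) c)
    (by rw [← mapFam_dFam, hc, mapFam_zero])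
  have hw : dFam K (rP X (sesInj J F).X₃.obj) (p + 1)
      (mapFam (rMap X (sesInj J F).g.hom) z) = 0 := by
    rw [← mapFam_dFam, hz, ses_map_map]
  obtain ⟨L1, f1, hL1, b, hb⟩ := h K hK _ hw
  obtain ⟨L2, f2, hL2, b', hb'⟩ := ses_lift J X F L1 hL1 p b
  -- z' := pull z - d b'
  have hz' : mapFam (rMap X (sesInj J F).g.hom)
      (pullFam (f2.app (op (SimplexCategory.mk (p + 1)))) (rP X (sesInj J F).X₂.obj)
        (pullFam (f1.app (op (SimplexCategory.mk (p + 1)))) (rP X (sesInj J F).X₂.obj) z) -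
        dFam L2 (rP X (sesInj J F).X₂.obj) p b') = 0 := by
    rw [mapFam_sub, mapFam_dFam, hb', mapFam_pullFam, mapFam_pullFam, ← hb, pullFam_dFam,
      sub_self]
  obtain ⟨y, hy⟩ := ses_exact J X F _ hz'
  refine ⟨L2, f2 ≫ f1, hL2, y, ?_⟩
  apply ses_inj J X F
  rw [mapFam_dFam, hy, dFam_sub, dFam_dFam, sub_zero, ← pullFam_dFam, ← pullFam_dFam, hz,
    NatTrans.comp_app, pullFam_comp, mapFam_pullFam, mapFam_pullFam]

omit [HasPullbacks C] in
lemma exists_localKan :
    ∃ K : SimplicialObject (FormalCoproduct.{u} (Over X)), LocalKan (J.over X) (YK K) := by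
  refine ⟨HyperEx.exK (fun _ : Over X => True), HyperEx.localKan_exK (J.over X) fun V => ?_⟩
  refine (J.over X).superset_covering ?_ ((J.over X).top_mem V)
  intro W g _
  exact ⟨W, 𝟙 W, g, trivial, Category.id_comp _⟩

theorem subsingleton_zero (h : Dies J X F.obj 0) : Subsingleton (CohSite.HU F 0 X) := by
  rw [subsingleton_sections_iff]
  suffices H : ∀ s : F.obj.obj (op X), s = 0 from ⟨fun s t => (H s).trans (H t).symm⟩
  intro s
  obtain ⟨K, hK⟩ := exists_localKan J X
  obtain ⟨L, f, hL, hf⟩ := h K hK (constFam Over.mkIdTerminal (rP X F.obj) s (Kn K 0))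
    (dFam_constFam K Over.mkIdTerminal (rP X F.obj) s)
  have hf' : pullFam (f.app (op (SimplexCategory.mk 0))) (rP X F.obj)
      (constFam Over.mkIdTerminal (rP X F.obj) s (Kn K 0)) = 0 := hf
  rw [pullFam_constFam] at hf'
  exact eq_zero_of_restrict_eq_zero (J.over X) L hL Over.mkIdTerminal ((jStar X J).obj F) s
    (fun i => congrFun hf' i)

/-- A global section of the quotient lifts as soon as degree one classes of the kernel die. -/
theorem lifts_of_dies_one (h : Dies J X F.obj 1) (sbar : (sesInj J F).X₃.obj.obj (op X)) :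
    ∃ t' : (sesInj J F).X₂.obj.obj (op X), (sesInj J F).g.hom.app (op X) t' = sbar := by
  obtain ⟨K, hK⟩ := exists_localKan J X
  obtain ⟨L1, f1, hL1, v, hv⟩ := ses_lift J X F K hK 0
    (constFam Over.mkIdTerminal (rP X (sesInj J F).X₃.obj) sbar (Kn K 0))
  rw [pullFam_constFam] at hv
  have hdv : mapFam (rMap X (sesInj J F).g.hom) (dFam L1 (rP X (sesInj J F).X₂.obj) 0 v) = 0 := by
    rw [mapFam_dFam, hv, dFam_constFam]
  obtain ⟨y, hy⟩ := ses_exact J X F _ hdv
  have hdy : dFam L1 (rP X F.obj) 1 y = 0 := by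
    apply ses_inj J X F
    rw [mapFam_dFam, hy, dFam_dFam, mapFam_zero]
  obtain ⟨L2, f2, hL2, b, hb⟩ := h L1 hL1 y hdy
  have hv' : dFam L2 (rP X (sesInj J F).X₂.obj) 0
      (pullFam (f2.app (op (SimplexCategory.mk 0))) (rP X (sesInj J F).X₂.obj) v -
        mapFam (rMap X (sesInj J F).f.hom) b) = 0 := by
    rw [dFam_sub, ← pullFam_dFam, ← hy, ← mapFam_dFam, hb, mapFam_pullFam, sub_self]
  obtain ⟨t', ht'⟩ : ∃ t' : (sesInj J F).X₂.obj.obj (op X), ∀ i,
      (rP X (sesInj J F).X₂.obj).map (Over.mkIdTerminal.from ((Kn L2 0).obj i)).op t' =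
        (pullFam (f2.app (op (SimplexCategory.mk 0))) (rP X (sesInj J F).X₂.obj) v -
          mapFam (rMap X (sesInj J F).f.hom) b) i :=
    exists_global_of_cocycle (J.over X) L2 hL2 Over.mkIdTerminal
      ((jStar X J).obj (sesInj J F).X₂) _ hv'
  refine ⟨t', ?_⟩
  have h0 : (sesInj J F).g.hom.app (op X) t' - sbar = 0 := by
    refine eq_zero_of_restrict_eq_zero (J.over X) L2 hL2 Over.mkIdTerminal
      ((jStar X J).obj (sesInj J F).X₃) _ (fun i => ?_)
    have h1 : mapFam (rMap X (sesInj J F).g.hom)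
        (constFam Over.mkIdTerminal (rP X (sesInj J F).X₂.obj) t' (Kn L2 0)) =
        constFam Over.mkIdTerminal (rP X (sesInj J F).X₃.obj) sbar (Kn L2 0) := by
      have e : constFam Over.mkIdTerminal (rP X (sesInj J F).X₂.obj) t' (Kn L2 0) =
          pullFam (f2.app (op (SimplexCategory.mk 0))) (rP X (sesInj J F).X₂.obj) v -
            mapFam (rMap X (sesInj J F).f.hom) b := funext ht'
      rw [e, mapFam_sub, ses_map_map, sub_zero, mapFam_pullFam, hv, pullFam_constFam]
    rw [mapFam_constFam] at h1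
    have h2 : (rP X (sesInj J F).X₃.obj).map (Over.mkIdTerminal.from ((Kn L2 0).obj i)).op
        ((sesInj J F).g.hom.app (op X) t') =
        (rP X (sesInj J F).X₃.obj).map (Over.mkIdTerminal.from ((Kn L2 0).obj i)).op sbar :=
      congrFun h1 i
    exact (map_sub _ _ _).trans (sub_eq_zero.2 h2)
  exact sub_eq_zero.1 h0

theorem subsingleton_one (h : Dies J X F.obj 1) : Subsingleton (CohSite.HU F 1 X) := by
  have hS := sesInj_shortExact J F
  have hI : Injective (sesInj J F).X₂ := inferInstanceAs (Injective (Injective.under F))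
  change Subsingleton (Abelian.Ext.{u} ((freeSheaf J).obj X) F 1)
  refine subsingleton_of_forall_eq 0 fun α => ?_
  obtain ⟨x₃, hx₃⟩ := Abelian.Ext.covariant_sequence_exact₁ ((freeSheaf J).obj X) hS α
    (Abelian.Ext.eq_zero_of_injective _) (n₀ := 0) rfl
  obtain ⟨t, rfl⟩ := (Abelian.Ext.mk₀_bijective.{u} _ (sesInj J F).X₃).2 x₃
  obtain ⟨t', ht'⟩ := lifts_of_dies_one J X F h (homEquiv J X (sesInj J F).X₃ t)
  have ht : (homEquiv J X (sesInj J F).X₂).symm t' ≫ (sesInj J F).g = t := by
    apply (homEquiv J X _).injective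
    rw [homEquiv_naturality_right, Equiv.apply_symm_apply, ht']
  rw [← hx₃, ← ht, ← Abelian.Ext.mk₀_comp_mk₀, Abelian.Ext.comp_assoc_of_second_deg_zero,
    hS.comp_extClass, Abelian.Ext.comp_zero]

theorem dies_quot (p : ℕ) (h : Dies J X F.obj (p + 2)) :
    Dies J X (sesInj J F).X₃.obj (p + 1) := by
  intro K hK w hw
  obtain ⟨L1, f1, hL1, v, hv⟩ := ses_lift J X F K hK (p + 1) w
  have hdv : mapFam (rMap X (sesInj J F).g.hom)
      (dFam L1 (rP X (sesInj J F).X₂.obj) (p + 1) v) = 0 := by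
    rw [mapFam_dFam, hv, ← pullFam_dFam, hw, pullFam_zero]
  obtain ⟨y, hy⟩ := ses_exact J X F _ hdv
  have hdy : dFam L1 (rP X F.obj) (p + 2) y = 0 := by
    apply ses_inj J X F
    rw [mapFam_dFam, hy, dFam_dFam, mapFam_zero]
  obtain ⟨L2, f2, hL2, b, hb⟩ := h L1 hL1 y hdy
  have hv' : dFam L2 (rP X (sesInj J F).X₂.obj) (p + 1)
      (pullFam (f2.app (op (SimplexCategory.mk (p + 1)))) (rP X (sesInj J F).X₂.obj) v -
        mapFam (rMap X (sesInj J F).f.hom) b) = 0 := by
    rw [dFam_sub, ← pullFam_dFam, ← hy, ← mapFam_dFam, hb, mapFam_pullFam, sub_self]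
  obtain ⟨u', hu'⟩ := inj_acyclic J X F L2 hL2 p _ hv'
  refine ⟨L2, f2 ≫ f1, hL2, mapFam (rMap X (sesInj J F).g.hom) u', ?_⟩
  rw [← mapFam_dFam, hu', mapFam_sub, ses_map_map, sub_zero, mapFam_pullFam, hv,
    NatTrans.comp_app, pullFam_comp]

theorem subsingleton_succ_succ (p : ℕ)
    (h : Subsingleton (CohSite.HU (sesInj J F).X₃ (p + 1) X)) :
    Subsingleton (CohSite.HU F (p + 2) X) := by
  have hS := sesInj_shortExact J F
  have hI : Injective (sesInj J F).X₂ := inferInstanceAs (Injective (Injective.under F))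
  have hs : Subsingleton (Abelian.Ext.{u} ((freeSheaf J).obj X) (sesInj J F).X₃ (p + 1)) := h
  change Subsingleton (Abelian.Ext.{u} ((freeSheaf J).obj X) F (p + 2))
  refine subsingleton_of_forall_eq 0 fun α => ?_
  obtain ⟨x₃, hx₃⟩ := Abelian.Ext.covariant_sequence_exact₁ ((freeSheaf J).obj X) hS α
    (Abelian.Ext.eq_zero_of_injective _) (n₀ := p + 1) rfl
  rw [← hx₃, Subsingleton.elim x₃ 0, Abelian.Ext.zero_comp]

/-- The cohomology group `H^q(X, F)` vanishes if and only if all degree `q` cocycles of `F`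
over hypercoverings of `X` die on refinements. -/
theorem subsingleton_iff_dies (q : ℕ) :
    ∀ F : Sheaf J AddCommGrpCat.{u}, Subsingleton (CohSite.HU F q X) ↔ Dies J X F.obj q := by
  cases q with
  | zero => exact fun F => ⟨dies_zero J X F, subsingleton_zero J X F⟩
  | succ q =>
    induction q with
    | zero => exact fun F => ⟨dies_one J X F, subsingleton_one J X F⟩
    | succ p ih =>
      intro F
      have hS := sesInj_shortExact J F
      have hI : Injective (sesInj J F).X₂ := inferInstanceAs (Injective (Injective.under F))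
      constructor
      · intro h
        exact dies_succ_succ J X F p ((ih (sesInj J F).X₃).1 (subsingleton_HU_X₃ hS X p h))
      · intro h
        exact subsingleton_succ_succ J X F p ((ih (sesInj J F).X₃).2 (dies_quot J X F p h))

end Groth.Agent.H1.HyperVerdier
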