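import Groth.Agent.Lib.Helper1.HyperVerdier3
import Groth.Agent.Lib.Helper1.HyperKanConv
import Groth.Prelude.Def_Hyper2

/-!
# Translation between cocycles in families and Čech cohomology classes (helper1)
-/

set_option autoImplicit false
universe u

namespace Groth.Agent.H1.HyperVerdier

open CategoryTheory CategoryTheory.Limits Opposite FormalCoproduct
open Groth.Agent.H1.HyperBase Groth.Agent.H1.HyperCone Groth.Agent.H1.HyperSite
open Groth.Agent.H1.HyperCech Groth.Agent.H1.HyperShift

section Cx

variable (Cx : CochainComplex AddCommGrpCat.{u} ℕ)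

lemma exists_cycle (q : ℕ) (x : Cx.X q) (hx : Cx.d q (q + 1) x = 0) :
    ∃ z : Cx.cycles q, Cx.iCycles q z = x := by
  let S : ShortComplex AddCommGrpCat.{u} :=
    ShortComplex.mk (Cx.iCycles q) (Cx.d q (q + 1)) (Cx.iCycles_d q (q + 1))
  have hS : S.Exact := ShortComplex.exact_of_f_is_kernel S (Cx.cyclesIsKernel q (q + 1) (by simp))
  exact (ShortComplex.ab_exact_iff S).1 hS x hx

lemma iCycles_injective (q : ℕ) : Function.Injective (Cx.iCycles q) :=
  (AddCommGrpCat.mono_iff_injective (Cx.iCycles q)).1 inferInstance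

lemma exists_toCycles (i j : ℕ) (hi : (ComplexShape.up ℕ).prev j = i) (z : Cx.cycles j)
    (hz : Cx.homologyπ j z = 0) : ∃ y : Cx.X i, Cx.toCycles i j y = z := by
  let S : ShortComplex AddCommGrpCat.{u} :=
    ShortComplex.mk (Cx.toCycles i j) (Cx.homologyπ j) (Cx.toCycles_comp_homologyπ i j)
  have hS : S.Exact := ShortComplex.exact_of_g_is_cokernel S (Cx.homologyIsCokernel i j hi)
  exact (ShortComplex.ab_exact_iff S).1 hS z hz

lemma homologyπ_eq_zero_iff_succ (n : ℕ) (z : Cx.cycles (n + 1)) :
    Cx.homologyπ (n + 1) z = 0 ↔ ∃ y : Cx.X n, Cx.d n (n + 1) y = Cx.iCycles (n + 1) z := by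
  constructor
  · intro hz
    obtain ⟨y, hy⟩ := exists_toCycles Cx n (n + 1) (CochainComplex.prev_nat_succ n) z hz
    refine ⟨y, ?_⟩
    rw [← hy]
    exact (ConcreteCategory.congr_hom (Cx.toCycles_i n (n + 1)) y).symm
  · rintro ⟨y, hy⟩
    have h1 : Cx.toCycles n (n + 1) y = z := by
      apply iCycles_injective
      rw [← hy]
      exact ConcreteCategory.congr_hom (Cx.toCycles_i n (n + 1)) y
    rw [← h1]
    exact ConcreteCategory.congr_hom (Cx.toCycles_comp_homologyπ n (n + 1)) y

lemma homologyπ_eq_zero_iff_zero (z : Cx.cycles 0) :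
    Cx.homologyπ 0 z = 0 ↔ Cx.iCycles 0 z = 0 := by
  constructor
  · intro hz
    obtain ⟨y, hy⟩ := exists_toCycles Cx 0 0 CochainComplex.prev_nat_zero z hz
    rw [← hy]
    have h1 := ConcreteCategory.congr_hom (Cx.toCycles_i 0 0) y
    have h2 : Cx.d 0 0 = 0 := Cx.shape _ _ (by simp)
    rw [h2] at h1
    exact h1
  · intro hz
    have h1 : z = 0 := by
      apply iCycles_injective
      rw [hz, map_zero]
    rw [h1, map_zero]

end Cx

section Translate

variable {C : Type u} [SmallCategory C]

lemma toFam_cechMap (X : C)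
    {K L : SimplicialObject (FormalCoproduct.{u} (Over X))} (f : L ⟶ K)
    (N : Cᵒᵖ ⥤ AddCommGrpCat.{u}) (p : ℕ) (x : (Hyper.cechCx X K N).X p) :
    toFam (L.obj (op (SimplexCategory.mk p))) ((Over.forget X).op ⋙ N)
      ((Hyper.cechMap X f N).f p x) =
      pullFam (f.app (op (SimplexCategory.mk p))) ((Over.forget X).op ⋙ N)
        (toFam (K.obj (op (SimplexCategory.mk p))) ((Over.forget X).op ⋙ N) x) := by
  funext j
  have h : (Hyper.cechMap X f N).f p ≫
      Pi.π (fun j : (L.obj (op (SimplexCategory.mk p))).I =>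
        ((Over.forget X).op ⋙ N).obj (op ((L.obj (op (SimplexCategory.mk p))).obj j))) j =
      Pi.π (fun i : (K.obj (op (SimplexCategory.mk p))).I =>
        ((Over.forget X).op ⋙ N).obj (op ((K.obj (op (SimplexCategory.mk p))).obj i)))
        ((f.app (op (SimplexCategory.mk p))).f j) ≫
        ((Over.forget X).op ⋙ N).map ((f.app (op (SimplexCategory.mk p))).φ j).op :=
    Pi.lift_π _ _
  exact ConcreteCategory.congr_hom h x

variable [HasPullbacks C] (J : GrothendieckTopology C) (X : C)
  [∀ (n : ℕ) (F : (SimplexCategory.Truncated n)ᵒᵖ ⥤ Limits.FormalCoproduct.{u} (Over X)),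
      (SimplexCategory.Truncated.inclusion n).op.HasRightKanExtension F]

/-- The class of a cycle maps to zero under refinement iff the pulled back family is a
coboundary. -/
lemma cechHMap_eq_zero_iff {K L : SimplicialObject (FormalCoproduct.{u} (Over X))} (f : L ⟶ K)
    (P : Cᵒᵖ ⥤ AddCommGrpCat.{u}) (q : ℕ) (z : (Hyper.cechCx X K P).cycles q) :
    Hyper.cechHMap X f P q ((Hyper.cechCx X K P).homologyπ q z) = 0 ↔
      IsBdry L (rP X P) q (pullFam (f.app (op (SimplexCategory.mk q))) (rP X P)
        (toFam (Kn K q) (rP X P) ((Hyper.cechCx X K P).iCycles q z))) := by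
  have h4 := ConcreteCategory.congr_hom
    (HomologicalComplex.homologyπ_naturality (Hyper.cechMap X f P) q) z
  simp only [ConcreteCategory.comp_apply] at h4
  have h3 := ConcreteCategory.congr_hom
    (HomologicalComplex.cyclesMap_i (Hyper.cechMap X f P) q) z
  simp only [ConcreteCategory.comp_apply] at h3
  change HomologicalComplex.homologyMap (Hyper.cechMap X f P) q
    ((Hyper.cechCx X K P).homologyπ q z) = 0 ↔ _
  rw [h4, ← toFam_cechMap, ← h3]
  cases q with
  | zero =>
    rw [homologyπ_eq_zero_iff_zero]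
    constructor
    · intro h
      change toFam _ _ _ = 0
      rw [h]
      exact toFam_zero _ _
    · intro h
      have h' : toFam (Kn L 0) (rP X P) ((Hyper.cechCx X L P).iCycles 0
          (HomologicalComplex.cyclesMap (Hyper.cechMap X f P) 0 z)) = 0 := h
      apply toFam_injective (Kn L 0) (rP X P)
      exact h'.trans (toFam_zero _ _).symm
  | succ n =>
    rw [homologyπ_eq_zero_iff_succ]
    constructor
    · rintro ⟨y, hy⟩
      refine ⟨toFam (Kn L n) (rP X P) y, ?_⟩
      rw [← hy]
      exact (toFam_d' L (rP X P) n y).symm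
    · rintro ⟨b, hb⟩
      obtain ⟨y, rfl⟩ := toFam_surjective (Kn L n) (rP X P) b
      refine ⟨y, ?_⟩
      apply toFam_injective (Kn L (n + 1)) (rP X P)
      rw [← hb]
      exact toFam_d' L (rP X P) n y

theorem dies_iff_classes_die (P : Cᵒᵖ ⥤ AddCommGrpCat.{u}) (q : ℕ) :
    Dies J X P q ↔
      ∀ (K : SimplicialObject (FormalCoproduct.{u} (Over X))), Hyper.IsHypercovering J X K →
        ∀ ξ : Hyper.cechH X K P q, ∃ (L : SimplicialObject (FormalCoproduct.{u} (Over X)))
          (f : L ⟶ K), Hyper.IsHypercovering J X L ∧ Hyper.cechHMap X f P q ξ = 0 := by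
  constructor
  · intro h K hK ξ
    obtain ⟨z, rfl⟩ : ∃ z : (Hyper.cechCx X K P).cycles q,
        (Hyper.cechCx X K P).homologyπ q z = ξ :=
      (AddCommGrpCat.epi_iff_surjective _).1 inferInstance ξ
    have hc : dFam K (rP X P) q (toFam (Kn K q) (rP X P)
        ((Hyper.cechCx X K P).iCycles q z)) = 0 := by
      rw [← toFam_d']
      have h1 := ConcreteCategory.congr_hom ((Hyper.cechCx X K P).iCycles_d q (q + 1)) z
      simp only [ConcreteCategory.comp_apply] at h1
      change toFam _ _ ((Hyper.cechCx X K P).d q (q + 1) _) = 0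
      rw [h1]
      exact toFam_zero _ _
    obtain ⟨L, f, hL, hf⟩ := h K (HyperOver.localKan_of_isHypercovering J X K hK) _ hc
    exact ⟨L, f, HyperKanConv.isHypercovering_of_localKan J X L hL,
      (cechHMap_eq_zero_iff X f P q z).2 hf⟩
  · intro h K hK c hc
    obtain ⟨x, rfl⟩ := toFam_surjective (Kn K q) (rP X P) c
    have hx : (Hyper.cechCx X K P).d q (q + 1) x = 0 := by
      apply toFam_injective (Kn K (q + 1)) (rP X P)
      refine Eq.trans ?_ (toFam_zero _ _).symm
      refine Eq.trans ?_ hc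
      exact toFam_d' K (rP X P) q x
    obtain ⟨z, rfl⟩ := exists_cycle (Hyper.cechCx X K P) q x hx
    obtain ⟨L, f, hL, hf⟩ := h K (HyperKanConv.isHypercovering_of_localKan J X K hK)
      ((Hyper.cechCx X K P).homologyπ q z)
    exact ⟨L, f, HyperOver.localKan_of_isHypercovering J X L hL,
      (cechHMap_eq_zero_iff X f P q z).1 hf⟩

end Translate

end Groth.Agent.H1.HyperVerdier
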