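import Mathlib

/-!
# Cofinite-type objects: abstract structure theory (helper1)

Abstract setting: an abelian category `𝒜`, a class `P` of "small" objects closed under kernels
and cokernels, satisfying DCC on `P`-subobjects, detecting zero maps, and a torsion condition `U`
relative to a fixed natural number `n`.  `Cof P n A` says all `A[n^k]` are in `P`.
-/

open CategoryTheory CategoryTheory.Limits

universe v u

namespace Groth.Agent.H1.IndCof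

variable {𝒜 : Type u} [Category.{v} 𝒜] [Abelian 𝒜]

/-- The abstract context. -/
structure Ctx (P : 𝒜 → Prop) (n : ℕ) : Prop where
  iso : ∀ {X Y : 𝒜}, (X ≅ Y) → P X → P Y
  ker : ∀ {X Y : 𝒜} (f : X ⟶ Y), P X → P Y → P (kernel f)
  coker : ∀ {X Y : 𝒜} (f : X ⟶ Y), P X → P Y → P (cokernel f)
  dcc : ∀ {Z : 𝒜}, P Z → ∀ S : ℕ → Subobject Z, Antitone S → (∀ m, P (S m : 𝒜)) →
    ∃ N, ∀ m, N ≤ m → S m = S N
  sep : ∀ {A Z : 𝒜} (g : A ⟶ Z), (∀ X, P X → ∀ x : X ⟶ A, x ≫ g = 0) → g = 0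
  U : ∀ X, P X → ∃ j c : ℕ, (n ^ (j + 1) * c) • 𝟙 X = n ^ j • 𝟙 X

/-- Cofinite type (relative to `n`): all `A[n^k]` lie in `P`. -/
def Cof (P : 𝒜 → Prop) (n : ℕ) (A : 𝒜) : Prop := ∀ k : ℕ, P (kernel ((n ^ k) • 𝟙 A))

section basic

lemma smul_id_comp {A B : 𝒜} (m : ℕ) (f : A ⟶ B) : (m • 𝟙 A) ≫ f = m • f := by
  rw [Preadditive.nsmul_comp, Category.id_comp]

lemma comp_smul_id {A B : 𝒜} (m : ℕ) (f : A ⟶ B) : f ≫ (m • 𝟙 B) = m • f := by
  rw [Preadditive.comp_nsmul, Category.comp_id]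

lemma smul_id_comp_smul_id {A : 𝒜} (a b : ℕ) : (a • 𝟙 A) ≫ (b • 𝟙 A) = (a * b) • 𝟙 A := by
  rw [smul_id_comp, mul_nsmul']

/-- Lift an element killed by `m` to the kernel of `m`. -/
noncomputable def tl {W A : 𝒜} (m : ℕ) (x : W ⟶ A) (h : m • x = 0) : W ⟶ kernel (m • 𝟙 A) :=
  kernel.lift _ x (by rw [comp_smul_id]; exact h)

@[reassoc (attr := simp)]
lemma tl_ι {W A : 𝒜} (m : ℕ) (x : W ⟶ A) (h : m • x = 0) :
    tl m x h ≫ kernel.ι (m • 𝟙 A) = x := by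
  unfold tl; exact kernel.lift_ι _ _ _

lemma smul_ι {A : 𝒜} (m : ℕ) : m • kernel.ι (m • 𝟙 A) = 0 := by
  rw [← comp_smul_id m (kernel.ι (m • 𝟙 A))]; exact kernel.condition _

lemma smul_π {A : 𝒜} (m : ℕ) : m • cokernel.π (m • 𝟙 A) = 0 := by
  rw [← smul_id_comp m (cokernel.π (m • 𝟙 A))]; exact cokernel.condition _

lemma smul_comp_ι {W A : 𝒜} (m : ℕ) (x : W ⟶ kernel (m • 𝟙 A)) : m • (x ≫ kernel.ι _) = 0 := by
  rw [← Preadditive.comp_nsmul, smul_ι, comp_zero]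

/-- Multiplication by `b` as a map `A[a] ⟶ A[c]` when `a = b * c`. -/
noncomputable def mulK (A : 𝒜) (a b c : ℕ) (h : a = b * c) :
    kernel (a • 𝟙 A) ⟶ kernel (c • 𝟙 A) :=
  kernel.lift _ (kernel.ι _ ≫ (b • 𝟙 A)) (by
    rw [Category.assoc, smul_id_comp_smul_id, ← h]; exact kernel.condition _)

@[reassoc (attr := simp)]
lemma mulK_ι (A : 𝒜) (a b c : ℕ) (h : a = b * c) :
    mulK A a b c h ≫ kernel.ι _ = kernel.ι _ ≫ (b • 𝟙 A) := kernel.lift_ι _ _ _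

lemma exists_of_image_le {P₀ R Z : 𝒜} (f : P₀ ⟶ Z) (g : R ⟶ Z)
    (h : imageSubobject f ≤ imageSubobject g) {W : 𝒜} (x : W ⟶ P₀) :
    ∃ (W' : 𝒜) (π : W' ⟶ W) (_ : Epi π) (x' : W' ⟶ R), π ≫ x ≫ f = x' ≫ g := by
  obtain ⟨W', π, hπ, x', hx'⟩ := surjective_up_to_refinements_of_epi
    (factorThruImageSubobject g) (x ≫ factorThruImageSubobject f ≫ Subobject.ofLE _ _ h)
  refine ⟨W', π, hπ, x', ?_⟩
  have := hx' =≫ (imageSubobject g).arrow
  simpa using this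

end basic

section ctx

variable {P : 𝒜 → Prop} {n : ℕ}

lemma Ctx.of_exact (hC : Ctx P n) {R P₀ Z : 𝒜} (h : R ⟶ P₀) (g : P₀ ⟶ Z) (w : h ≫ g = 0)
    (hex : (ShortComplex.mk h g w).Exact) (hg : Epi g) (hR : P R) (hP : P P₀) : P Z := by
  have h1 : Mono (cokernel.desc h g w) := (ShortComplex.exact_iff_mono_cokernel_desc _).1 hex
  have h2 : Epi (cokernel.desc h g w) := by
    have : Epi (cokernel.π h ≫ cokernel.desc h g w) := by simpa using hg
    exact epi_of_epi (cokernel.π h) _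
  have : IsIso (cokernel.desc h g w) := isIso_of_mono_of_epi _
  exact hC.iso (asIso (cokernel.desc h g w)) (hC.coker h hR hP)

lemma Ctx.image (hC : Ctx P n) {X Y : 𝒜} (f : X ⟶ Y) (hX : P X) (hY : P Y) :
    P ((imageSubobject f : Subobject Y) : 𝒜) := by
  have h1 : P (Abelian.image f) := hC.ker _ hY (hC.coker f hX hY)
  exact hC.iso (Abelian.imageIsoImage f ≪≫ (imageSubobjectIso f).symm) h1

lemma Cof.of_iso (hC : Ctx P n) {A B : 𝒜} (e : A ≅ B) (hA : Cof P n A) : Cof P n B := by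
  intro k
  refine hC.iso (kernel.mapIso _ _ e e ?_) (hA k)
  rw [smul_id_comp, comp_smul_id]

/-- Objects of `P` are of cofinite type. -/
lemma Cof.of_P (hC : Ctx P n) {X : 𝒜} (hX : P X) : Cof P n X := fun _ => hC.ker _ hX hX

end ctx

section ST

variable {P : 𝒜 → Prop} {n : ℕ}

/-- `e k : A[n^(k+1)] ⟶ A[n]`, multiplication by `n^k`. -/
noncomputable def e (n : ℕ) (A : 𝒜) (k : ℕ) :
    kernel ((n ^ (k + 1)) • 𝟙 A) ⟶ kernel ((n ^ 1) • 𝟙 A) :=
  mulK A (n ^ (k + 1)) (n ^ k) (n ^ 1) (by ring)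

lemma e_succ (n : ℕ) (A : 𝒜) (k : ℕ) :
    e n A (k + 1) = mulK A (n ^ (k + 1 + 1)) n (n ^ (k + 1)) (by ring) ≫ e n A k := by
  apply (cancel_mono (kernel.ι _)).1
  simp only [e, mulK_ι, Category.assoc, mulK_ι_assoc, smul_id_comp_smul_id]
  congr 2
  ring

lemma key_claim (A : 𝒜) (k₀ : ℕ)
    (hE : ∀ k, k₀ ≤ k → imageSubobject (e n A k) ≤ imageSubobject (e n A (k + 1)))
    (k : ℕ) (hk : k₀ ≤ k) :
    ∀ (i : ℕ) (W : 𝒜) (x : W ⟶ A), n ^ i • x = 0 →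
      x ≫ (n ^ k • cokernel.π ((n ^ (k + 1)) • 𝟙 A)) = 0 := by
  intro i
  induction i with
  | zero =>
    intro W x hx
    simp only [pow_zero, one_smul] at hx
    rw [hx, zero_comp]
  | succ i ih =>
    intro W x hx
    by_cases hik : i + 1 ≤ k
    · rw [Preadditive.comp_nsmul, ← Preadditive.nsmul_comp]
      have : n ^ k • x = 0 := by
        obtain ⟨d, rfl⟩ := Nat.exists_eq_add_of_le hik
        rw [pow_add, mul_comm, mul_nsmul', hx, smul_zero]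
      rw [this, zero_comp]
    · have hki : k ≤ i := by omega
      obtain ⟨W', π, hπ, x₁, hx₁⟩ := exists_of_image_le (e n A i) (e n A (i + 1))
        (hE i (hk.trans hki)) (tl (n ^ (i + 1)) x hx)
      have h2 : π ≫ (n ^ i • x) = n ^ (i + 1) • (x₁ ≫ kernel.ι _) := by
        have := hx₁ =≫ kernel.ι _
        simp only [e, Category.assoc, mulK_ι, tl_ι_assoc] at this
        rw [comp_smul_id, ← Category.assoc, comp_smul_id] at this
        exact this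
      have hz : n ^ i • (π ≫ x - n • (x₁ ≫ kernel.ι _)) = 0 := by
        rw [smul_sub, ← Preadditive.comp_nsmul, h2, ← mul_nsmul', ← pow_succ, sub_self]
      have h3 := ih W' _ hz
      rw [Preadditive.sub_comp, sub_eq_zero] at h3
      rw [← cancel_epi π, comp_zero, ← Category.assoc, h3]
      have hq : n ^ (k + 1) • cokernel.π ((n ^ (k + 1)) • 𝟙 A) = 0 := smul_π _
      rw [Preadditive.comp_nsmul, Preadditive.nsmul_comp, ← mul_nsmul', ← pow_succ,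
        ← Preadditive.comp_nsmul, hq, comp_zero]

theorem ST1 (hC : Ctx P n) {A : 𝒜} (hA : Cof P n A) :
    ∃ k₀, ∀ k, k₀ ≤ k → (n ^ k • 𝟙 A) ≫ cokernel.π ((n ^ (k + 1)) • 𝟙 A) = 0 := by
  let E : ℕ → Subobject (kernel ((n ^ 1) • 𝟙 A)) := fun k => imageSubobject (e n A k)
  have hanti : Antitone E := antitone_nat_of_succ_le (fun k => by
    show imageSubobject (e n A (k + 1)) ≤ imageSubobject (e n A k)
    rw [e_succ]; exact imageSubobject_comp_le _ _)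
  have hP : ∀ m, P (E m : 𝒜) := fun m => hC.image _ (hA _) (hA _)
  obtain ⟨k₀, hk₀⟩ := hC.dcc (hA 1) E hanti hP
  refine ⟨k₀, fun k hk => ?_⟩
  have hE : ∀ k, k₀ ≤ k → imageSubobject (e n A k) ≤ imageSubobject (e n A (k + 1)) := by
    intro k hk
    have h1 : E k = E k₀ := hk₀ k hk
    have h2 : E (k + 1) = E k₀ := hk₀ (k + 1) (by omega)
    exact le_of_eq (h1.trans h2.symm)
  rw [smul_id_comp]
  apply hC.sep
  intro X hX x
  obtain ⟨j, c, hjc⟩ := hC.U X hX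
  have hx' : n ^ j • (x - (n * c) • x) = 0 := by
    rw [smul_sub, ← mul_nsmul', sub_eq_zero]
    have := congrArg (fun t => t ≫ x) hjc
    simp only [Preadditive.nsmul_comp, Category.id_comp] at this
    rw [← this]; congr 1; ring
  have h1 := key_claim A k₀ hE k hk j X _ hx'
  rw [Preadditive.sub_comp, sub_eq_zero] at h1
  rw [h1, Preadditive.comp_nsmul, Preadditive.nsmul_comp, ← mul_nsmul']
  have h2 : n ^ k * (n * c) = c * n ^ (k + 1) := by ring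
  rw [h2, mul_nsmul', ← Preadditive.comp_nsmul, smul_π, comp_zero, smul_zero]

lemma div_step {A : 𝒜} {k : ℕ} (h : (n ^ k • 𝟙 A) ≫ cokernel.π ((n ^ (k + 1)) • 𝟙 A) = 0)
    {W : 𝒜} (x : W ⟶ A) : ∃ (W' : 𝒜) (π : W' ⟶ W) (_ : Epi π) (x' : W' ⟶ A),
      π ≫ (n ^ k • x) = n ^ (k + 1) • x' := by
  have hx : (n ^ k • x) ≫ cokernel.π ((n ^ (k + 1)) • 𝟙 A) = 0 := by
    rw [← comp_smul_id (n ^ k) x, Category.assoc, h, comp_zero]
  obtain ⟨W', π, hπ, x', hx'⟩ :=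
    (ShortComplex.exact_cokernel ((n ^ (k + 1)) • 𝟙 A)).exact_up_to_refinements _ hx
  refine ⟨W', π, hπ, x', ?_⟩
  rw [hx']; exact comp_smul_id _ _

lemma div_iter {A : 𝒜} {k : ℕ} (h : (n ^ k • 𝟙 A) ≫ cokernel.π ((n ^ (k + 1)) • 𝟙 A) = 0)
    (j : ℕ) {W : 𝒜} (x : W ⟶ A) : ∃ (W' : 𝒜) (π : W' ⟶ W) (_ : Epi π) (x' : W' ⟶ A),
      π ≫ (n ^ k • x) = n ^ (k + j) • x' := by
  induction j with
  | zero => exact ⟨W, 𝟙 W, inferInstance, x, by simp⟩
  | succ j ih =>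
    obtain ⟨W₁, π₁, hπ₁, x₁, hx₁⟩ := ih
    obtain ⟨W₂, π₂, hπ₂, x₂, hx₂⟩ := div_step h x₁
    refine ⟨W₂, π₂ ≫ π₁, epi_comp _ _, x₂, ?_⟩
    rw [Category.assoc, hx₁, pow_add, mul_comm, mul_nsmul', Preadditive.comp_nsmul, hx₂,
      ← mul_nsmul']
    congr 1; ring

theorem ST2 (hC : Ctx P n) {A : 𝒜} (hA : Cof P n A) (j : ℕ) :
    P (cokernel ((n ^ j) • 𝟙 A)) := by
  obtain ⟨k₀, hk₀⟩ := ST1 hC hA
  have h0 := hk₀ k₀ le_rfl
  let h : kernel ((n ^ (k₀ + j)) • 𝟙 A) ⟶ kernel ((n ^ k₀) • 𝟙 A) :=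
    mulK A _ (n ^ j) (n ^ k₀) (by ring)
  let g : kernel ((n ^ k₀) • 𝟙 A) ⟶ cokernel ((n ^ j) • 𝟙 A) := kernel.ι _ ≫ cokernel.π _
  have w : h ≫ g = 0 := by
    simp only [h, g, mulK_ι_assoc, cokernel.condition, comp_zero]
  refine hC.of_exact h g w ?_ ?_ (hA _) (hA _)
  · rw [ShortComplex.exact_iff_exact_up_to_refinements]
    intro W x₂ hx₂
    dsimp at x₂ hx₂ ⊢
    obtain ⟨W₁, π₁, hπ₁, a', ha'⟩ :=
      (ShortComplex.exact_cokernel ((n ^ j) • 𝟙 A)).exact_up_to_refinements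
        (x₂ ≫ kernel.ι _) (by simpa [g] using hx₂)
    dsimp at a' ha'
    rw [comp_smul_id] at ha'
    have hk : n ^ (k₀ + j) • a' = 0 := by
      rw [pow_add, mul_nsmul', ← ha', ← Preadditive.comp_nsmul, smul_comp_ι, comp_zero]
    refine ⟨W₁, π₁, hπ₁, tl _ a' hk, ?_⟩
    apply (cancel_mono (kernel.ι _)).1
    simp only [Category.assoc, h, mulK_ι, tl_ι_assoc]
    rw [comp_smul_id]
    exact ha'
  · rw [epi_iff_surjective_up_to_refinements]
    intro W y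
    obtain ⟨W₁, π₁, hπ₁, a, ha⟩ :=
      surjective_up_to_refinements_of_epi (cokernel.π ((n ^ j) • 𝟙 A)) y
    obtain ⟨W₂, π₂, hπ₂, a', ha'⟩ := div_iter h0 j a
    have hk : n ^ k₀ • (π₂ ≫ a - n ^ j • a') = 0 := by
      rw [smul_sub, ← Preadditive.comp_nsmul, ha', ← mul_nsmul', ← pow_add, sub_self]
    refine ⟨W₂, π₂ ≫ π₁, epi_comp _ _, tl _ _ hk, ?_⟩
    simp only [g, tl_ι_assoc, Category.assoc, Preadditive.sub_comp, ha]
    rw [Preadditive.nsmul_comp, ← Preadditive.comp_nsmul, smul_π, comp_zero, sub_zero]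

end ST

end Groth.Agent.H1.IndCof
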