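import Groth.Agent.Lib.Helper1.IndCofA

/-!
# Cofinite-type objects: kernels and cokernels (helper1)
-/

open CategoryTheory CategoryTheory.Limits

universe v u

namespace Groth.Agent.H1.IndCof

variable {𝒜 : Type u} [Category.{v} 𝒜] [Abelian 𝒜] {P : 𝒜 → Prop} {n : ℕ}

/-- The map `A[m] ⟶ B[m]` induced by `f`. -/
noncomputable def tmap {A B : 𝒜} (f : A ⟶ B) (m : ℕ) :
    kernel (m • 𝟙 A) ⟶ kernel (m • 𝟙 B) :=
  kernel.map _ _ f f (by rw [smul_id_comp, comp_smul_id])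

@[reassoc (attr := simp)]
lemma tmap_ι {A B : 𝒜} (f : A ⟶ B) (m : ℕ) :
    tmap f m ≫ kernel.ι (m • 𝟙 B) = kernel.ι (m • 𝟙 A) ≫ f := by
  unfold tmap; exact kernel.lift_ι _ _ _

instance {A B : 𝒜} (f : A ⟶ B) [Mono f] (m : ℕ) : Mono (tmap f m) := by
  have : Mono (tmap f m ≫ kernel.ι (m • 𝟙 B)) := by rw [tmap_ι]; exact mono_comp _ _
  exact mono_of_mono (tmap f m) (kernel.ι (m • 𝟙 B))

/-- `(ker f)[m] ≅ ker(A[m] ⟶ B[m])`. -/
noncomputable def kerTorsIso {A B : 𝒜} (f : A ⟶ B) (m : ℕ) :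
    kernel (m • 𝟙 (kernel f)) ≅ kernel (tmap f m) where
  hom := kernel.lift _ (kernel.lift _ (kernel.ι _ ≫ kernel.ι f) (by
      rw [Category.assoc, comp_smul_id m (kernel.ι f), ← smul_id_comp m (kernel.ι f),
        kernel.condition_assoc, zero_comp])) (by
      apply (cancel_mono (kernel.ι (m • 𝟙 B))).1
      rw [Category.assoc, tmap_ι, kernel.lift_ι_assoc, Category.assoc, kernel.condition,
        comp_zero, zero_comp])
  inv := kernel.lift _ (kernel.lift f (kernel.ι _ ≫ kernel.ι _) (by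
      rw [Category.assoc, ← tmap_ι, kernel.condition_assoc, zero_comp])) (by
      apply (cancel_mono (kernel.ι f)).1
      rw [Category.assoc, smul_id_comp m (kernel.ι f), ← comp_smul_id m (kernel.ι f),
        kernel.lift_ι_assoc, Category.assoc, kernel.condition, comp_zero, zero_comp])
  hom_inv_id := by
    apply (cancel_mono (kernel.ι _)).1
    apply (cancel_mono (kernel.ι f)).1
    simp
  inv_hom_id := by
    apply (cancel_mono (kernel.ι _)).1
    apply (cancel_mono (kernel.ι _)).1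
    simp

theorem cof_kernel (hC : Ctx P n) {A B : 𝒜} (f : A ⟶ B) (hA : Cof P n A) (hB : Cof P n B) :
    Cof P n (kernel f) :=
  fun k => hC.iso (kerTorsIso f _).symm (hC.ker _ (hA k) (hB k))

theorem cof_cokernel_of_mono (hC : Ctx P n) {K A : 𝒜} (i : K ⟶ A) [Mono i]
    (hK : Cof P n K) (hA : Cof P n A) : Cof P n (cokernel i) := by
  intro e'
  obtain ⟨k₀, hk₀⟩ := ST1 hC hK
  have h0 := hk₀ k₀ le_rfl
  let h : kernel ((n ^ (k₀ + e')) • 𝟙 K) ⟶ kernel ((n ^ (k₀ + e')) • 𝟙 A) := tmap i _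
  let ψ : kernel ((n ^ (k₀ + e')) • 𝟙 A) ⟶ cokernel i := kernel.ι _ ≫ cokernel.π i
  have w : h ≫ ψ = 0 := by
    simp only [h, ψ, tmap_ι_assoc, cokernel.condition, comp_zero]
  have hex : (ShortComplex.mk h ψ w).Exact := by
    rw [ShortComplex.exact_iff_exact_up_to_refinements]
    intro W x₂ hx₂
    dsimp at x₂ hx₂ ⊢
    obtain ⟨W₁, π₁, hπ₁, κ, hκ⟩ := (ShortComplex.exact_cokernel i).exact_up_to_refinements
      (x₂ ≫ kernel.ι _) (by simpa [ψ] using hx₂)
    dsimp at κ hκ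
    have hk : n ^ (k₀ + e') • κ = 0 := by
      apply (cancel_mono i).1
      rw [Preadditive.nsmul_comp, ← hκ, zero_comp, ← Preadditive.comp_nsmul, smul_comp_ι,
        comp_zero]
    refine ⟨W₁, π₁, hπ₁, tl _ κ hk, ?_⟩
    apply (cancel_mono (kernel.ι _)).1
    simp only [Category.assoc, h, tmap_ι, tl_ι_assoc]
    exact hκ
  have hJ : P (cokernel h) := hC.coker h (hK _) (hA _)
  let j : cokernel h ⟶ cokernel i := cokernel.desc h ψ w
  have hj : Mono j := (ShortComplex.exact_iff_mono_cokernel_desc _).1 hex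
  let c : kernel ((n ^ e') • 𝟙 (cokernel h)) ⟶ kernel ((n ^ e') • 𝟙 (cokernel i)) := tmap j _
  have hc1 : Mono c := inferInstance
  have hc2 : Epi c := by
    rw [epi_iff_surjective_up_to_refinements]
    intro W x
    obtain ⟨W₁, π₁, hπ₁, a, ha⟩ :=
      surjective_up_to_refinements_of_epi (cokernel.π i) (x ≫ kernel.ι _)
    have h1 : (n ^ e' • a) ≫ cokernel.π i = 0 := by
      rw [Preadditive.nsmul_comp, ← ha, ← Preadditive.comp_nsmul, smul_comp_ι, comp_zero]
    obtain ⟨W₂, π₂, hπ₂, κ, hκ⟩ :=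
      (ShortComplex.exact_cokernel i).exact_up_to_refinements (n ^ e' • a) h1
    dsimp at κ hκ
    obtain ⟨W₃, π₃, hπ₃, κ', hκ'⟩ := div_iter h0 e' κ
    have ha' : n ^ (k₀ + e') • (π₃ ≫ π₂ ≫ a - κ' ≫ i) = 0 := by
      rw [smul_sub, sub_eq_zero]
      calc n ^ (k₀ + e') • (π₃ ≫ π₂ ≫ a) = π₃ ≫ (n ^ k₀ • (π₂ ≫ (n ^ e' • a))) := by
            simp only [Preadditive.comp_nsmul, ← mul_nsmul', ← pow_add]
        _ = (π₃ ≫ (n ^ k₀ • κ)) ≫ i := by
            rw [hκ]
            simp only [Preadditive.comp_nsmul, Preadditive.nsmul_comp, Category.assoc]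
        _ = n ^ (k₀ + e') • (κ' ≫ i) := by rw [hκ', Preadditive.nsmul_comp]
    have ha'π : (π₃ ≫ π₂ ≫ a - κ' ≫ i) ≫ cokernel.π i = π₃ ≫ π₂ ≫ π₁ ≫ x ≫ kernel.ι _ := by
      rw [Preadditive.sub_comp, Category.assoc, Category.assoc, Category.assoc, cokernel.condition,
        comp_zero, sub_zero, ha]
    have hy₀ : (tl _ _ ha' ≫ cokernel.π h) ≫ j = π₃ ≫ π₂ ≫ π₁ ≫ x ≫ kernel.ι _ := by
      simp only [j, ψ, Category.assoc, cokernel.π_desc, tl_ι_assoc]
      exact ha'π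
    have hy₀' : n ^ e' • (tl _ _ ha' ≫ cokernel.π h) = 0 := by
      apply (cancel_mono j).1
      rw [Preadditive.nsmul_comp, hy₀, zero_comp]
      simp only [← Preadditive.comp_nsmul, smul_ι, comp_zero]
    refine ⟨W₃, π₃ ≫ π₂ ≫ π₁, inferInstance, tl _ _ hy₀', ?_⟩
    apply (cancel_mono (kernel.ι _)).1
    simp only [c, Category.assoc, tmap_ι, tl_ι_assoc]
    rw [← hy₀, Category.assoc]
  have : IsIso c := isIso_of_mono_of_epi c
  exact hC.iso (asIso c) (hC.ker _ hJ hJ)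

theorem cof_cokernel (hC : Ctx P n) {A B : 𝒜} (f : A ⟶ B) (hA : Cof P n A) (hB : Cof P n B) :
    Cof P n (cokernel f) := by
  have hK : Cof P n (kernel f) := cof_kernel hC f hA hB
  have hI : Cof P n (Abelian.coimage f) := cof_cokernel_of_mono hC (kernel.ι f) hK hA
  have hQ : Cof P n (cokernel (Abelian.factorThruCoimage f)) :=
    cof_cokernel_of_mono hC _ hI hB
  refine Cof.of_iso hC ?_ hQ
  exact (cokernelEpiComp (Abelian.coimage.π f) (Abelian.factorThruCoimage f)).symm ≪≫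
    cokernelIsoOfEq (Abelian.coimage.fac f)

theorem image_stab {A : 𝒜} {k₀ : ℕ}
    (h : ∀ k, k₀ ≤ k → (n ^ k • 𝟙 A) ≫ cokernel.π ((n ^ (k + 1)) • 𝟙 A) = 0) :
    ∀ k, k₀ ≤ k → imageSubobject ((n ^ k) • 𝟙 A) = imageSubobject ((n ^ k₀) • 𝟙 A) := by
  intro k hk
  induction k, hk using Nat.le_induction with
  | base => rfl
  | succ k hk ih =>
    rw [← ih]
    apply le_antisymm
    · have : (n ^ (k + 1)) • 𝟙 A = (n • 𝟙 A) ≫ ((n ^ k) • 𝟙 A) := by
        rw [smul_id_comp_smul_id, pow_succ']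
      rw [this]
      exact imageSubobject_comp_le _ _
    · have h1 : imageSubobject ((n ^ (k + 1)) • 𝟙 A) =
          kernelSubobject (cokernel.π ((n ^ (k + 1)) • 𝟙 A)) :=
        (ShortComplex.exact_iff_image_eq_kernel _).1 (ShortComplex.exact_cokernel _)
      rw [h1]
      exact imageSubobject_le _ (factorThruKernelSubobject _ _ (h k hk))
        (factorThruKernelSubobject_comp_arrow _ _ _)

end Groth.Agent.H1.IndCof
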