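import Groth.Agent.Lib.Helper1.IndCofB

/-!
# Cofinite-type ind-objects: the concrete context `Ind C` (helper1)
-/

open CategoryTheory CategoryTheory.Limits

universe v

namespace Groth.Agent.H1.IndCof

variable {C : Type v} [SmallCategory C] [Abelian C]

/-- Being isomorphic to an object of `C`. -/
abbrev IsC (Z : Ind C) : Prop := (Ind.yoneda (C := C)).essImage Z

instance yAdditive : (Ind.yoneda (C := C)).Additive :=
  Functor.additive_of_preserves_binary_products _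

lemma isC_iso {X Y : Ind C} (e : X ≅ Y) (h : IsC X) : IsC Y := Functor.essImage.ofIso e h

lemma isC_ker {X Y : Ind C} (f : X ⟶ Y) (hX : IsC X) (hY : IsC Y) : IsC (kernel f) := by
  obtain ⟨X₀, ⟨e₁⟩⟩ := hX
  obtain ⟨Y₀, ⟨e₂⟩⟩ := hY
  let g : X₀ ⟶ Y₀ := (Ind.yoneda).preimage (e₁.hom ≫ f ≫ e₂.inv)
  have hg : Ind.yoneda.map g = e₁.hom ≫ f ≫ e₂.inv := Functor.map_preimage _ _
  refine ⟨kernel g, ⟨PreservesKernel.iso _ g ≪≫ kernel.mapIso _ _ e₁ e₂ ?_⟩⟩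
  rw [hg]; simp

lemma isC_coker {X Y : Ind C} (f : X ⟶ Y) (hX : IsC X) (hY : IsC Y) : IsC (cokernel f) := by
  obtain ⟨X₀, ⟨e₁⟩⟩ := hX
  obtain ⟨Y₀, ⟨e₂⟩⟩ := hY
  let g : X₀ ⟶ Y₀ := (Ind.yoneda).preimage (e₁.hom ≫ f ≫ e₂.inv)
  have hg : Ind.yoneda.map g = e₁.hom ≫ f ≫ e₂.inv := Functor.map_preimage _ _
  refine ⟨cokernel g, ⟨PreservesCokernel.iso _ g ≪≫ cokernel.mapIso _ _ e₁ e₂ ?_⟩⟩
  rw [hg]; simp

lemma isC_sep {A Z : Ind C} (g : A ⟶ Z) (h : ∀ X, IsC X → ∀ x : X ⟶ A, x ≫ g = 0) : g = 0 := by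
  apply Ind.isSeparating_range_yoneda g 0
  intro G hG x
  rw [comp_zero]
  obtain ⟨X⟩ := hG
  exact h _ (Functor.obj_mem_essImage _ _) x

lemma isC_dcc (hart : ∀ X : C, IsArtinianObject X) {Z : Ind C} (hZ : IsC Z)
    (S : ℕ → Subobject Z) (hS : Antitone S) (hP : ∀ m, IsC (S m : Ind C)) :
    ∃ N, ∀ m, N ≤ m → S m = S N := by
  obtain ⟨X, ⟨e⟩⟩ := hZ
  choose Xm hXm using hP
  let em : ∀ m, Ind.yoneda.obj (Xm m) ≅ (S m : Ind C) := fun m => (hXm m).some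
  let g : ∀ m, Xm m ⟶ X := fun m =>
    Ind.yoneda.preimage ((em m).hom ≫ (S m).arrow ≫ e.inv)
  have hg : ∀ m, Ind.yoneda.map (g m) = (em m).hom ≫ (S m).arrow ≫ e.inv :=
    fun m => Functor.map_preimage _ _
  have hmono : ∀ m, Mono (g m) := fun m => by
    apply Functor.mono_of_mono_map Ind.yoneda
    rw [hg]; infer_instance
  let T : ℕ → Subobject X := fun m => Subobject.mk (g m)
  have key : ∀ m m', T m ≤ T m' ↔ S m ≤ S m' := by
    intro m m'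
    constructor
    · intro h
      let u := Subobject.ofMkLEMk (g m) (g m') h
      have hu : u ≫ g m' = g m := Subobject.ofMkLEMk_comp h
      refine Subobject.le_of_comm ((em m).inv ≫ Ind.yoneda.map u ≫ (em m').hom) ?_
      have h2 := congrArg (fun t => Ind.yoneda.map t) hu
      simp only [Functor.map_comp, hg] at h2
      have h3 := congrArg (fun t => (em m).inv ≫ t ≫ e.hom) h2
      simpa using h3
    · intro h
      let u : Xm m ⟶ Xm m' :=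
        Ind.yoneda.preimage ((em m).hom ≫ Subobject.ofLE _ _ h ≫ (em m').inv)
      refine Subobject.mk_le_mk_of_comm u ?_
      apply Ind.yoneda.map_injective
      simp [u, hg]
  have hT : Antitone T := fun a b hab => (key b a).2 (hS hab)
  have := hart X
  obtain ⟨N, hN⟩ := antitone_chain_condition_of_isArtinianObject (X := X)
    ⟨fun m => OrderDual.toDual (T m), fun a b hab => hT hab⟩
  refine ⟨N, fun m hm => ?_⟩
  have h1 : T N = T m := hN m hm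
  exact le_antisymm ((key m N).1 (le_of_eq h1.symm)) ((key N m).1 (le_of_eq h1))

lemma smul_id_of_iso {X : C} {Z : Ind C} (e : Ind.yoneda.obj X ≅ Z) (a : ℕ) :
    a • 𝟙 Z = e.inv ≫ Ind.yoneda.map (a • 𝟙 X) ≫ e.hom := by
  rw [Functor.map_nsmul, CategoryTheory.Functor.map_id, smul_id_comp, Preadditive.comp_nsmul,
    e.inv_hom_id]

theorem ctx (hart : ∀ X : C, IsArtinianObject X) (n : ℕ)
    (hU : ∀ X : C, ∃ j c : ℕ, (n ^ (j + 1) * c) • 𝟙 X = n ^ j • 𝟙 X) :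
    Ctx (IsC (C := C)) n where
  iso := isC_iso
  ker := isC_ker
  coker := isC_coker
  dcc := isC_dcc hart
  sep := isC_sep
  U := by
    rintro Z ⟨X, ⟨e⟩⟩
    obtain ⟨j, c, h⟩ := hU X
    exact ⟨j, c, by rw [smul_id_of_iso e, smul_id_of_iso e (n ^ j), h]⟩

lemma hU_of_pow {p : ℕ} (htor : ∀ X : C, ∃ n : ℕ, (p ^ n) • 𝟙 X = 0) :
    ∀ X : C, ∃ j c : ℕ, (p ^ (j + 1) * c) • 𝟙 X = p ^ j • 𝟙 X := by
  intro X
  obtain ⟨k, hk⟩ := htor X
  exact ⟨k, 0, by rw [hk, Nat.mul_zero, zero_smul]⟩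

lemma exists_pow_mul (N : ℕ) (hN : 0 < N) (n : ℕ) :
    ∃ j c : ℕ, n ^ (j + 1) * c ≡ n ^ j [MOD N] := by
  have : NeZero N := ⟨hN.ne'⟩
  obtain ⟨j, y, hy⟩ := IsArtinian.exists_pow_succ_smul_dvd (R := ZMod N) (M := ZMod N)
    (n : ZMod N) 1
  refine ⟨j, y.val, ?_⟩
  rw [← ZMod.natCast_eq_natCast_iff]
  push_cast
  rw [ZMod.natCast_zmod_val]
  simpa using hy

lemma nsmul_eq_of_modEq {G : Type*} [AddCommGroup G] {x : G} {N a b : ℕ} (h : N • x = 0)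
    (hab : a ≡ b [MOD N]) : a • x = b • x := by
  have key : ∀ a : ℕ, a • x = (a % N) • x := fun a => by
    conv_lhs => rw [← Nat.mod_add_div a N, add_nsmul, mul_nsmul, h, smul_zero, add_zero]
  rw [key a, key b, hab]

lemma hU_of_tors (htor : ∀ X : C, ∃ n : ℕ, 0 < n ∧ n • 𝟙 X = 0) (n : ℕ) :
    ∀ X : C, ∃ j c : ℕ, (n ^ (j + 1) * c) • 𝟙 X = n ^ j • 𝟙 X := by
  intro X
  obtain ⟨N, hN, hNX⟩ := htor X
  obtain ⟨j, c, h⟩ := exists_pow_mul N hN n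
  exact ⟨j, c, nsmul_eq_of_modEq hNX h⟩

end Groth.Agent.H1.IndCof
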