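import Groth.Agent.Lib.Helper1.IndCofB

/-!
# Cofinite-type objects: DCC on cofinite-type subobjects (helper1)
-/

open CategoryTheory CategoryTheory.Limits

universe v u

namespace Groth.Agent.H1.IndCof

variable {𝒜 : Type u} [Category.{v} 𝒜] [Abelian 𝒜] {P : 𝒜 → Prop} {n : ℕ}

lemma tmap_comp {A B D : 𝒜} (f : A ⟶ B) (g : B ⟶ D) (m : ℕ) :
    tmap (f ≫ g) m = tmap f m ≫ tmap g m := by
  apply (cancel_mono (kernel.ι (m • 𝟙 D))).1
  simp only [tmap_ι, Category.assoc, tmap_ι_assoc]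

lemma tmap_mulK {A B : 𝒜} (f : A ⟶ B) (a b c : ℕ) (h : a = b * c) :
    tmap f a ≫ mulK B a b c h = mulK A a b c h ≫ tmap f c := by
  apply (cancel_mono (kernel.ι (c • 𝟙 B))).1
  simp only [Category.assoc, mulK_ι, tmap_ι_assoc, tmap_ι, mulK_ι_assoc]
  rw [comp_smul_id, smul_id_comp]

/-- The map `S[n^(k+1)] ⟶ A[n]`, multiplication by `n^k` followed by the inclusion. -/
noncomputable def Fmap (n : ℕ) {A : 𝒜} (S : Subobject A) (k : ℕ) :
    kernel ((n ^ (k + 1)) • 𝟙 (S : 𝒜)) ⟶ kernel ((n ^ 1) • 𝟙 A) :=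
  tmap S.arrow _ ≫ e n A k

lemma Fmap_ι (n : ℕ) {A : 𝒜} (S : Subobject A) (k : ℕ) :
    Fmap n S k ≫ kernel.ι _ = n ^ k • (kernel.ι _ ≫ S.arrow) := by
  simp only [Fmap, e, Category.assoc, mulK_ι, tmap_ι_assoc]
  rw [← Category.assoc, comp_smul_id]

lemma Fmap_succ (n : ℕ) {A : 𝒜} (S : Subobject A) (k : ℕ) :
    Fmap n S (k + 1) = mulK (S : 𝒜) (n ^ (k + 1 + 1)) n (n ^ (k + 1)) (by ring) ≫ Fmap n S k := by
  simp only [Fmap, e_succ]
  rw [← Category.assoc, tmap_mulK, Category.assoc]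

lemma Fmap_of_le (n : ℕ) {A : 𝒜} {S' S : Subobject A} (h : S' ≤ S) (k : ℕ) :
    Fmap n S' k = tmap (Subobject.ofLE S' S h) _ ≫ Fmap n S k := by
  simp only [Fmap]
  rw [← Category.assoc, ← tmap_comp, Subobject.ofLE_arrow]

theorem dcc_cof (hC : Ctx P n) (hU0 : ∀ X, P X → ∃ j, n ^ j • 𝟙 X = 0) {A : 𝒜}
    (hA : Cof P n A) (S : ℕ → Subobject A) (hS : Antitone S)
    (hcof : ∀ m, Cof P n (S m : 𝒜)) : ∃ N, ∀ m, N ≤ m → S m = S N := by
  -- the two-parameter family
  let F : ℕ → ℕ → Subobject (kernel ((n ^ 1) • 𝟙 A)) := fun k m => imageSubobject (Fmap n (S m) k)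
  have hFk : ∀ m, Antitone (fun k => F k m) := fun m => antitone_nat_of_succ_le (fun k => by
    show imageSubobject (Fmap n (S m) (k + 1)) ≤ imageSubobject (Fmap n (S m) k)
    rw [Fmap_succ]; exact imageSubobject_comp_le _ _)
  have hFm : ∀ k, Antitone (fun m => F k m) := fun k a b hab => by
    show imageSubobject (Fmap n (S b) k) ≤ imageSubobject (Fmap n (S a) k)
    rw [Fmap_of_le n (hS hab)]; exact imageSubobject_comp_le _ _
  have hFP : ∀ k m, P ((F k m : Subobject _) : 𝒜) := fun k m =>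
    hC.image _ (hcof m _) (hA _)
  have hG : Antitone (fun m => F m m) := fun a b hab =>
    (hFk b hab).trans (hFm a hab)
  obtain ⟨m₁, hm₁⟩ := hC.dcc (hA 1) (fun m => F m m) hG (fun m => hFP m m)
  have hF : ∀ k m, m₁ ≤ k → m₁ ≤ m → F k m = F m₁ m₁ := by
    intro k m hk hm
    apply le_antisymm
    · exact (hFk m hk).trans (hFm m₁ hm)
    · have h1 : F (max k m) (max k m) = F m₁ m₁ := hm₁ _ (le_trans hk (le_max_left _ _))
      rw [← h1]
      exact (hFk _ (le_max_left k m)).trans (hFm k (le_max_right k m))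
  -- the chain of n^m₁-torsion
  let H : ℕ → Subobject (kernel ((n ^ m₁) • 𝟙 A)) := fun m => Subobject.mk (tmap (S m).arrow _)
  have hH : Antitone H := fun a b hab =>
    Subobject.mk_le_mk_of_comm (tmap (Subobject.ofLE _ _ (hS hab)) _) (by
      rw [← tmap_comp, Subobject.ofLE_arrow])
  have hHP : ∀ m, P ((H m : Subobject _) : 𝒜) := fun m =>
    hC.iso (Subobject.underlyingIso _).symm (hcof m _)
  obtain ⟨m₂, hm₂⟩ := hC.dcc (hA m₁) H hH hHP
  refine ⟨max m₁ m₂, fun m hm => ?_⟩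
  have hm1 : m₁ ≤ m := le_trans (le_max_left _ _) hm
  have hm2 : m₂ ≤ m := le_trans (le_max_right _ _) hm
  refine le_antisymm (hS hm) ?_
  -- notation
  obtain ⟨S₀, hS₀⟩ : ∃ S₀, S₀ = S (max m₁ m₂) := ⟨_, rfl⟩
  obtain ⟨S', hS'⟩ : ∃ S', S' = S m := ⟨_, rfl⟩
  have hle : S' ≤ S₀ := by rw [hS', hS₀]; exact hS hm
  have hHeq : Subobject.mk (tmap S₀.arrow (n ^ m₁)) ≤ Subobject.mk (tmap S'.arrow (n ^ m₁)) := by
    rw [hS', hS₀]
    have h1 : H (max m₁ m₂) = H m₂ := hm₂ _ (le_max_right _ _)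
    have h2 : H m = H m₂ := hm₂ _ hm2
    exact le_of_eq (h1.trans h2.symm)
  have hFeq : ∀ k, m₁ ≤ k → imageSubobject (Fmap n S₀ k) ≤ imageSubobject (Fmap n S' k) := by
    intro k hk
    rw [hS', hS₀]
    have h1 : F k (max m₁ m₂) = F m₁ m₁ := hF _ _ hk (le_max_left _ _)
    have h2 : F k m = F m₁ m₁ := hF _ _ hk hm1
    exact le_of_eq (h1.trans h2.symm)
  rw [← hS', ← hS₀]
  -- key claim
  have claim : ∀ (i : ℕ) (W : 𝒜) (x : W ⟶ (S₀ : 𝒜)), n ^ i • x = 0 →
      x ≫ S₀.arrow ≫ cokernel.π S'.arrow = 0 := by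
    intro i
    induction i with
    | zero =>
      intro W x hx
      simp only [pow_zero, one_smul] at hx
      rw [hx, zero_comp]
    | succ i ih =>
      intro W x hx
      by_cases hik : i + 1 ≤ m₁
      · have hx' : n ^ m₁ • x = 0 := by
          obtain ⟨d, hd⟩ := Nat.exists_eq_add_of_le hik
          rw [hd, pow_add, mul_comm, mul_nsmul', hx, smul_zero]
        let φ := Subobject.ofMkLEMk _ _ hHeq
        have hφ : φ ≫ tmap S'.arrow (n ^ m₁) = tmap S₀.arrow (n ^ m₁) :=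
          Subobject.ofMkLEMk_comp hHeq
        have h1 : x ≫ S₀.arrow = (tl _ x hx' ≫ φ ≫ kernel.ι _) ≫ S'.arrow := by
          have h2 := congrArg (fun t => tl _ x hx' ≫ t ≫ kernel.ι _) hφ
          simp only [Category.assoc, tmap_ι, tl_ι_assoc] at h2
          rw [Category.assoc, Category.assoc, h2]
        rw [← Category.assoc, h1, Category.assoc, cokernel.condition, comp_zero]
      · have hki : m₁ ≤ i := by omega
        obtain ⟨W', π, hπ, x₁, hx₁⟩ := exists_of_image_le (Fmap n S₀ i) (Fmap n S' i)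
          (hFeq i hki) (tl (n ^ (i + 1)) x hx)
        have h2 := hx₁ =≫ kernel.ι _
        simp only [Category.assoc, Fmap_ι] at h2
        rw [Preadditive.comp_nsmul, Preadditive.comp_nsmul, tl_ι_assoc] at h2
        -- h2 : n^i • (π ≫ x ≫ S₀.arrow) = n^i • (x₁ ≫ ι ≫ S'.arrow)
        have hz : n ^ i • (π ≫ x - x₁ ≫ kernel.ι _ ≫ Subobject.ofLE S' S₀ hle) = 0 := by
          apply (cancel_mono S₀.arrow).1
          rw [zero_comp, Preadditive.nsmul_comp, Preadditive.sub_comp, smul_sub]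
          simp only [Category.assoc, Subobject.ofLE_arrow]
          rw [h2, Preadditive.comp_nsmul, sub_self]
        have h3 := ih W' _ hz
        rw [Preadditive.sub_comp, sub_eq_zero] at h3
        rw [← cancel_epi π, comp_zero, ← Category.assoc, h3]
        simp only [Category.assoc, Subobject.ofLE_arrow_assoc, cokernel.condition, comp_zero]
  -- conclude via sep
  have hzero : S₀.arrow ≫ cokernel.π S'.arrow = 0 := by
    apply hC.sep
    intro X hX x
    obtain ⟨j, hj⟩ := hU0 X hX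
    apply claim j X x
    have := congrArg (fun t => t ≫ x) hj
    simpa [Preadditive.nsmul_comp] using this
  -- S₀ factors through S'
  have hex := ShortComplex.exact_cokernel S'.arrow
  have hmono : Mono S'.arrow := inferInstance
  let lift : (S₀ : 𝒜) ⟶ (S' : 𝒜) := hex.lift S₀.arrow hzero
  exact Subobject.le_of_comm lift (hex.lift_f _ _)

end Groth.Agent.H1.IndCof
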