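import Groth.Agent.Lib.Helper1.IndCofC
import Groth.Agent.Lib.Helper1.IndCofD

/-!
# Cofinite-type ind-objects: DCC in `Ind C` (helper1)
-/

open CategoryTheory CategoryTheory.Limits

universe v

namespace Groth.Agent.H1.IndCof

variable {C : Type v} [SmallCategory C] [Abelian C]

lemma hU0_of_pow {p : ℕ} (htor : ∀ X : C, ∃ n : ℕ, (p ^ n) • 𝟙 X = 0) :
    ∀ Z : Ind C, IsC Z → ∃ j, p ^ j • 𝟙 Z = 0 := by
  rintro Z ⟨X, ⟨e⟩⟩
  obtain ⟨k, hk⟩ := htor X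
  exact ⟨k, by rw [smul_id_of_iso e, hk, Functor.map_zero, zero_comp, comp_zero]⟩

end Groth.Agent.H1.IndCof
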