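import Groth.Agent.Lib.Helper1.DecentDim
import Groth.Agent.S5067

set_option autoImplicit false
universe u
open CategoryTheory CategoryTheory.Limits AlgebraicGeometry Topology TopologicalSpace
open AlgSp

namespace Groth.Agent.H1.IntegralDim

open Order

section Ring

variable {R S : Type*} [CommRing R] [CommRing S]

theorem comap_strictMono (φ : R →+* S) (hφ : φ.IsIntegral) :
    StrictMono (PrimeSpectrum.comap φ) := by
  letI := φ.toAlgebra
  haveI : Algebra.IsIntegral R S := ⟨hφ⟩
  intro p q hpq
  haveI := p.isPrime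
  exact Ideal.IsIntegral.comap_lt_comap (R := R) (I := p.asIdeal) (J := q.asIdeal) hpq

theorem ringKrullDim_le_of_isIntegral (φ : R →+* S) (hφ : φ.IsIntegral) :
    ringKrullDim S ≤ ringKrullDim R :=
  Order.krullDim_le_of_strictMono _ (comap_strictMono φ hφ)

theorem coheight_comap_eq (φ : R →+* S) (hφ : φ.IsIntegral) (q : PrimeSpectrum S) :
    coheight q = coheight (PrimeSpectrum.comap φ q) := by
  refine coheight_eq_of_strictMono _ (comap_strictMono φ hφ) ?_ q
  intro q p hlt
  letI := φ.toAlgebra
  haveI : Algebra.IsIntegral R S := ⟨hφ⟩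
  haveI := q.isPrime
  haveI := p.isPrime
  obtain ⟨Q, hQ, hQp, hQc⟩ :=
    Ideal.exists_ideal_over_prime_of_isIntegral_of_isPrime p.asIdeal q.asIdeal hlt.le
  have hQe : PrimeSpectrum.comap φ ⟨Q, hQp⟩ = p := PrimeSpectrum.ext hQc
  refine ⟨⟨Q, hQp⟩, lt_of_le_of_ne hQ ?_, hQe⟩
  rintro rfl
  rw [hQe] at hlt
  exact lt_irrefl _ hlt

theorem ringKrullDim_eq_of_isIntegral_of_surjective (φ : R →+* S) (hφ : φ.IsIntegral)
    (hs : Function.Surjective (PrimeSpectrum.comap φ)) :
    ringKrullDim S = ringKrullDim R := by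
  refine le_antisymm (ringKrullDim_le_of_isIntegral φ hφ) ?_
  unfold ringKrullDim
  rw [krullDim_eq_iSup_coheight, krullDim_eq_iSup_coheight]
  refine iSup_le fun p => ?_
  obtain ⟨q, rfl⟩ := hs p
  rw [← coheight_comap_eq φ hφ q]
  exact le_iSup (fun q : PrimeSpectrum S => ((coheight q : ℕ∞) : WithBot ℕ∞)) q

end Ring

section Sch

theorem topologicalKrullDim_eq_ringKrullDim_of_isAffine (W : Scheme.{u}) [IsAffine W] :
    topologicalKrullDim W = ringKrullDim Γ(W, ⊤) := by
  rw [← PrimeSpectrum.topologicalKrullDim_eq_ringKrullDim]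
  exact IsHomeomorph.topologicalKrullDim_eq _ (W.isoSpec.hom.homeomorph).isHomeomorph

theorem topologicalKrullDim_le_of_isIntegralHom {W Z : Scheme.{u}} (f : W ⟶ Z) [IsAffine W]
    [IsAffine Z] [IsIntegralHom f] : topologicalKrullDim W ≤ topologicalKrullDim Z := by
  rw [topologicalKrullDim_eq_ringKrullDim_of_isAffine, topologicalKrullDim_eq_ringKrullDim_of_isAffine]
  have h := (HasAffineProperty.iff_of_isAffine (P := @IsIntegralHom) (f := f)).1 inferInstance
  exact ringKrullDim_le_of_isIntegral _ h.2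

theorem topologicalKrullDim_eq_of_isIntegralHom_of_surjective {W Z : Scheme.{u}} (f : W ⟶ Z)
    [IsAffine W] [IsAffine Z] [IsIntegralHom f] [Surjective f] :
    topologicalKrullDim W = topologicalKrullDim Z := by
  rw [topologicalKrullDim_eq_ringKrullDim_of_isAffine, topologicalKrullDim_eq_ringKrullDim_of_isAffine]
  have h := (HasAffineProperty.iff_of_isAffine (P := @IsIntegralHom) (f := f)).1 inferInstance
  refine ringKrullDim_eq_of_isIntegral_of_surjective _ h.2 ?_
  have hsq : f ≫ Z.isoSpec.hom = W.isoSpec.hom ≫ Spec.map f.appTop :=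
    (Scheme.isoSpec_hom_naturality f).symm
  have hsurj : Surjective (Spec.map f.appTop) := by
    have : Surjective (W.isoSpec.hom ≫ Spec.map f.appTop) := by
      rw [← hsq]; infer_instance
    exact (MorphismProperty.cancel_left_of_respectsIso @Surjective W.isoSpec.hom _).1 this
  exact hsurj.surj

open Groth.Agent.H1.DecentDim in
theorem genLift_of_etale {P W : Scheme.{u}} (g : P ⟶ W) [Etale g] : GenLift (g : P → W) where
  cont := g.continuous
  inj := by
    intro a a' hs he
    haveI : LocallyQuasiFinite g := Groth.Agent.S5067.locallyQuasiFinite_of_unramified g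
    have hd := g.isDiscrete_preimage_singleton (g a)
    obtain ⟨O, hO, hOe⟩ := (isDiscrete_iff_forall_mem_exists_isOpen.1 hd) a rfl
    have haO : a ∈ O := by
      have : a ∈ O ∩ g ⁻¹' {g a} := by rw [hOe]; rfl
      exact this.1
    have ha'O : a' ∈ O := hs.mem_open hO haO
    have : a' ∈ O ∩ g ⁻¹' {g a} := ⟨ha'O, he.symm⟩
    rw [hOe] at this
    exact this.symm
  lift := by
    intro a b hb
    exact (Flat.generalizingMap g) hb

open Groth.Agent.H1.DecentDim in
theorem coheight_le_topologicalKrullDim (W : Scheme.{u}) (w : W) :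
    ((@coheight W (specializationPreorder W) w : ℕ∞) : WithBot ℕ∞) ≤ topologicalKrullDim W := by
  rw [topologicalKrullDim_eq_iSup_coheight]
  exact le_iSup (fun w : W => ((@coheight W (specializationPreorder W) w : ℕ∞) : WithBot ℕ∞)) w

end Sch

end Groth.Agent.H1.IntegralDim
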