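import Mathlib
import Groth.Agent.Lib.Helper25.DerivedAdj

/-!
# Right adjoints of exact functors preserve K-injective complexes (helper1)
-/

set_option autoImplicit false

namespace Groth.Agent.H1.KInjAdj

open CategoryTheory Limits

universe v₁ v₂ u₁ u₂

variable {A : Type u₁} [Category.{v₁} A] [Abelian A] {B : Type u₂} [Category.{v₂} B] [Abelian B]
  {G : A ⥤ B} {F : B ⥤ A} [G.Additive] [F.Additive] (adj : G ⊣ F)
  [PreservesFiniteLimits G] [PreservesFiniteColimits G]

include adj in
theorem isKInjective_map (I : CochainComplex B ℤ) [I.IsKInjective] :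
    CochainComplex.IsKInjective ((F.mapHomologicalComplex (ComplexShape.up ℤ)).obj I) where
  nonempty_homotopy_zero {K} f hK := by
    let adjC := Groth.Agent.Lib.helper25.DerivedAdj.mapHomologicalComplexAdj adj (ComplexShape.up ℤ)
    let f' : (G.mapHomologicalComplex (ComplexShape.up ℤ)).obj K ⟶ I := (adjC.homEquiv _ _).symm f
    have hK' : HomologicalComplex.Acyclic ((G.mapHomologicalComplex (ComplexShape.up ℤ)).obj K) :=
      fun n => (hK n).map G
    have h := CochainComplex.IsKInjective.homotopyZero f' hK'
    have hf : f = adjC.unit.app K ≫ (F.mapHomologicalComplex (ComplexShape.up ℤ)).map f' := by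
      have := (adjC.homEquiv K I).apply_symm_apply f
      rw [Adjunction.homEquiv_unit] at this
      exact this.symm
    exact ⟨(Homotopy.ofEq hf).trans (((F.mapHomotopy h).compLeft (adjC.unit.app K)).trans
      (Homotopy.ofEq (by simp)))⟩

end Groth.Agent.H1.KInjAdj
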