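import Mathlib

set_option autoImplicit false
universe u

namespace Groth.Agent.H1.KummerRing

open Polynomial

/-- the standard etale pair `(X^n - a, 1)` -/
noncomputable def pair (A : Type u) [CommRing A] (n : ℕ) (hn : 0 < n) (hnA : IsUnit (n : A))
    (a : Aˣ) : StandardEtalePair A where
  f := X ^ n - C (a : A)
  monic_f := monic_X_pow_sub_C (a : A) hn.ne'
  g := 1
  cond := by
    obtain ⟨m, hm⟩ := hnA
    refine ⟨C ((↑m⁻¹ : A) * (↑a⁻¹ : A)) * X, - C (↑a⁻¹ : A), 0, ?_⟩
    have h1 : (X : A[X]) ^ n = X ^ (n - 1) * X := by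
      rw [← pow_succ, Nat.sub_add_cancel hn]
    have h2 : (C (n : A) : A[X]) * C ((↑m⁻¹ : A) * (↑a⁻¹ : A)) = C (↑a⁻¹ : A) := by
      rw [← C_mul, ← hm, ← mul_assoc, Units.mul_inv, one_mul]
    have h3 : (C (a : A) : A[X]) * C (↑a⁻¹ : A) = 1 := by
      rw [← C_mul, Units.mul_inv, C_1]
    rw [derivative_sub, derivative_C, sub_zero, derivative_X_pow, pow_zero]
    calc C (n : A) * X ^ (n - 1) * (C ((↑m⁻¹ : A) * (↑a⁻¹ : A)) * X) +
          (X ^ n - C (a : A)) * -C (↑a⁻¹ : A)
        = (C (n : A) * C ((↑m⁻¹ : A) * (↑a⁻¹ : A))) * (X ^ (n - 1) * X) -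
          X ^ n * C (↑a⁻¹ : A) + C (a : A) * C (↑a⁻¹ : A) := by ring
      _ = 1 := by rw [h2, h3, ← h1]; ring

variable (A : Type u) [CommRing A] (n : ℕ) (hn : 0 < n) (hnA : IsUnit (n : A)) (a : Aˣ)

theorem root_pow : (pair A n hn hnA a).X ^ n = algebraMap A (pair A n hn hnA a).Ring (a : A) := by
  have h := (StandardEtalePair.hasMap_X (P := pair A n hn hnA a)).1
  have e : (pair A n hn hnA a).f = X ^ n - C (a : A) := rfl
  rw [e, map_sub, map_pow, aeval_X, aeval_C, sub_eq_zero] at h
  exact h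

theorem isUnit_root : IsUnit (pair A n hn hnA a).X := by
  have h : IsUnit ((pair A n hn hnA a).X ^ n) := by
    rw [root_pow]
    exact a.isUnit.map _
  exact (isUnit_pow_iff hn.ne').1 h

theorem comap_surjective :
    Function.Surjective (PrimeSpectrum.comap (algebraMap A (pair A n hn hnA a).Ring)) := by
  intro p
  let K := AlgebraicClosure p.asIdeal.ResidueField
  have hdeg : (X ^ n - C (algebraMap A K (a : A)) : K[X]).degree ≠ 0 := by
    rw [degree_X_pow_sub_C hn]
    exact_mod_cast hn.ne'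
  obtain ⟨r, hr⟩ := IsAlgClosed.exists_root _ hdeg
  have hmap : (pair A n hn hnA a).HasMap r := by
    constructor
    · have e : (pair A n hn hnA a).f = X ^ n - C (a : A) := rfl
      rw [e, map_sub, map_pow, aeval_X, aeval_C]
      simpa [IsRoot.def] using hr
    · have e : (pair A n hn hnA a).g = 1 := rfl
      rw [e, map_one]
      exact isUnit_one
  let φ : (pair A n hn hnA a).Ring →ₐ[A] K := (pair A n hn hnA a).lift r hmap
  refine ⟨⟨RingHom.ker φ.toRingHom, RingHom.ker_isPrime _⟩, ?_⟩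
  apply PrimeSpectrum.ext
  change Ideal.comap (algebraMap A (pair A n hn hnA a).Ring) (RingHom.ker φ.toRingHom) = p.asIdeal
  rw [RingHom.comap_ker]
  have e : φ.toRingHom.comp (algebraMap A (pair A n hn hnA a).Ring) = algebraMap A K := by
    ext x
    exact φ.commutes x
  rw [e, IsScalarTower.algebraMap_eq A p.asIdeal.ResidueField K, ← RingHom.comap_ker,
    (RingHom.injective_iff_ker_eq_bot _).1 (algebraMap p.asIdeal.ResidueField K).injective]
  rw [← RingHom.ker_eq_comap_bot, Ideal.ker_algebraMap_residueField]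

end Groth.Agent.H1.KummerRing
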