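import Groth.Agent.Lib.Helper1.GmSec
import Groth.Agent.Lib.Helper1.KummerRing

set_option autoImplicit false
universe u

namespace Groth.Agent.H1.KummerCover

open CategoryTheory CategoryTheory.Limits Opposite AlgebraicGeometry
open Groth.Agent.H1.GmSec Groth.Agent.H1.KummerRing

variable {S : Scheme.{u}}

theorem exists_affine_nhd (Y : Scheme.{u}) (x : Y) :
    ∃ (R : CommRingCat.{u}) (ι : Spec R ⟶ Y) (_ : IsOpenImmersion ι) (x' : Spec R),
      ι.base x' = x := by
  obtain ⟨_, ⟨W, hW, rfl⟩, hx, -⟩ :=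
    Y.isBasis_affineOpens.exists_subset_of_mem_open (Set.mem_univ x) isOpen_univ
  have : x ∈ Set.range hW.fromSpec.base := by
    rw [hW.range_fromSpec]
    exact hx
  obtain ⟨x', hx'⟩ := this
  exact ⟨Γ(Y, W), hW.fromSpec, inferInstance, x', hx'⟩

theorem exists_root_cover (n : ℕ) (hn0 : 0 < n) (hn : IsUnit (n : Γ(S, ⊤))) (U : S.Etale)
    (s : (EtCoh.Gm S).obj.obj (op U)) (x : U.left) :
    ∃ (V : S.Etale) (k : V ⟶ U) (y : V.left) (t : (EtCoh.Gm S).obj.obj (op V)),
      k.left.base y = x ∧ n • t = (EtCoh.Gm S).obj.map k.op s := by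
  obtain ⟨R, ι, hι, x', hx'⟩ := exists_affine_nhd U.left x
  let a : (R : Type u)ˣ :=
    Units.map ((Scheme.ΓSpecIso R).hom.hom.comp ι.appTop.hom).toMonoidHom (ofGm U s)
  have hnR : IsUnit (n : R) := by
    have := hn.map ((Scheme.ΓSpecIso R).hom.hom.comp ((ι ≫ U.hom).appTop.hom))
    rwa [map_natCast] at this
  let P := KummerRing.pair R n hn0 hnR a
  let B : CommRingCat.{u} := CommRingCat.of P.Ring
  let ψ : R ⟶ B := CommRingCat.ofHom (algebraMap R P.Ring)
  have hψ : Etale (Spec.map ψ) :=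
    (HasRingHomProperty.Spec_iff (P := @Etale)).2 (RingHom.etale_algebraMap.2 inferInstance)
  have hU : Etale U.hom := U.prop
  let V : S.Etale := Scheme.Etale.mk (Spec.map ψ ≫ ι ≫ U.hom)
  let k : V ⟶ U := MorphismProperty.Over.homMk (Spec.map ψ ≫ ι) rfl trivial
  obtain ⟨q, hq⟩ := KummerRing.comap_surjective R n hn0 hnR a x'
  let b : (B : Type u)ˣ := (isUnit_root R n hn0 hnR a).unit
  have hb : b ^ n = Units.map ψ.hom.toMonoidHom a := by
    apply Units.ext
    exact root_pow R n hn0 hnR a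
  refine ⟨V, k, q, toGm V (Units.map (Scheme.ΓSpecIso B).inv.hom.toMonoidHom b), ?_, ?_⟩
  · change ι.base ((Spec.map ψ).base q) = x
    rw [← hx']
    exact congrArg ι.base hq
  · have e1 : ofGm V (n • toGm V (Units.map (Scheme.ΓSpecIso B).inv.hom.toMonoidHom b)) =
        Units.map (Scheme.ΓSpecIso B).inv.hom.toMonoidHom (Units.map ψ.hom.toMonoidHom a) := by
      rw [ofGm_nsmul, ofGm_toGm]
      exact ((map_pow (Units.map (Scheme.ΓSpecIso B).inv.hom.toMonoidHom) b n).symm).trans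
        (congrArg (Units.map (Scheme.ΓSpecIso B).inv.hom.toMonoidHom) hb)
    have e2 : ofGm V ((EtCoh.Gm S).obj.map k.op s) =
        Units.map (Scheme.ΓSpecIso B).inv.hom.toMonoidHom (Units.map ψ.hom.toMonoidHom a) := by
      rw [ofGm_map]
      apply Units.ext
      change (Spec.map ψ ≫ ι).appTop.hom (ofGm U s : Γ(U.left, ⊤)) =
        (Scheme.ΓSpecIso B).inv.hom (ψ.hom ((Scheme.ΓSpecIso R).hom.hom (ι.appTop.hom (ofGm U s))))
      rw [Scheme.Hom.comp_appTop]
      have := Scheme.ΓSpecIso_naturality ψ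
      have h2 : (Spec.map ψ).appTop = (Scheme.ΓSpecIso R).hom ≫ ψ ≫ (Scheme.ΓSpecIso B).inv := by
        rw [← Category.assoc, ← this, Category.assoc, Iso.hom_inv_id, Category.comp_id]
      rw [h2]
      rfl
    have : ofGm V (n • toGm V (Units.map (Scheme.ΓSpecIso B).inv.hom.toMonoidHom b)) =
        ofGm V ((EtCoh.Gm S).obj.map k.op s) := e1.trans e2.symm
    exact congrArg (toGm V) this

end Groth.Agent.H1.KummerCover
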