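import Mathlib.AlgebraicGeometry.Sites.Etale
import Mathlib.AlgebraicGeometry.Sites.Fpqc
import Mathlib.AlgebraicGeometry.Morphisms.UniversallyOpen
import Mathlib.CategoryTheory.MorphismProperty.Local

set_option autoImplicit false
universe u
open CategoryTheory AlgebraicGeometry

namespace Groth.Agent.Lib.helper1

variable (Q : MorphismProperty Scheme.{u}) (P : MorphismProperty Scheme.{u})
  [P.IsLocalAtSource (Scheme.precoverage Q)]

/-- Precomposition with a `Q`-morphism preserves `P`. -/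
theorem precomp_of_isLocalAtSource (hQid : ∀ X : Scheme.{u}, Q (𝟙 X))
    {X' X Y : Scheme.{u}} (g : X' ⟶ X) (hg : Q g) (f : X ⟶ Y) (hf : P f) : P (g ≫ f) := by
  let Xs : Bool → Scheme.{u} := fun b => cond b X' X
  let fs : ∀ b, Xs b ⟶ X := fun b => match b with
    | true => g
    | false => 𝟙 X
  have hR : Presieve.ofArrows Xs fs ∈ Scheme.precoverage Q X := by
    rw [Scheme.ofArrows_mem_precoverage_iff]
    refine ⟨fun x => ⟨false, x, rfl⟩, fun b => ?_⟩
    cases b
    · exact hQid X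
    · exact hg
  exact MorphismProperty.IsLocalAtSource.comp (P := P) hR (fs true) (Presieve.ofArrows.mk true) hf

/-- Descent of `P` along a surjective `Q`-morphism. -/
theorem descend_of_isLocalAtSource
    {X' X Y : Scheme.{u}} (g : X' ⟶ X) (hg : Q g) (hs : Function.Surjective g.base)
    (f : X ⟶ Y) (hf : P (g ≫ f)) : P f := by
  have hR : Presieve.singleton g ∈ Scheme.precoverage Q X := by
    rw [Scheme.singleton_mem_precoverage_iff]
    exact ⟨hs, hg⟩
  refine MorphismProperty.IsLocalAtSource.of_forall_comp (P := P) hR ?_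
  intro U g' hg'
  cases hg'
  exact hf

/-- Zariski gluing on the source. -/
theorem iSup_of_isLocalAtSource (hQ : ∀ {A B : Scheme.{u}} (k : A ⟶ B), IsOpenImmersion k → Q k)
    {X Y : Scheme.{u}} (f : X ⟶ Y) {ι : Type*} (W : ι → X.Opens) (h : ∀ i, P ((W i).ι ≫ f)) :
    P ((⨆ i, W i).ι ≫ f) := by
  have hR : Presieve.ofArrows (fun i => (W i).toScheme) (fun i => X.homOfLE (le_iSup W i)) ∈
      Scheme.precoverage Q (⨆ i, W i).toScheme := by
    rw [Scheme.ofArrows_mem_precoverage_iff]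
    refine ⟨fun x => ?_, fun i => hQ _ inferInstance⟩
    obtain ⟨x, hx⟩ := x
    obtain ⟨i, hi⟩ := TopologicalSpace.Opens.mem_iSup.mp hx
    refine ⟨i, ⟨x, hi⟩, ?_⟩
    apply Subtype.ext
    simp [Scheme.homOfLE_apply]
  refine MorphismProperty.IsLocalAtSource.of_forall_comp (P := P) hR ?_
  intro U g' hg'
  cases hg' with
  | mk i =>
    rw [← Category.assoc, Scheme.homOfLE_ι]
    exact h i

/-- The generic statement: existence of the largest open where `P` holds and its compatibility with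
`Q`-morphisms. -/
theorem exists_largest_open (hQ : ∀ {A B : Scheme.{u}} (k : A ⟶ B), IsOpenImmersion k → Q k)
    [Q.IsStableUnderBaseChange] [Q.IsStableUnderComposition] (hopen : ∀ {A B : Scheme.{u}} (k : A ⟶ B), Q k → IsOpenMap k.base)
    {X Y : Scheme.{u}} (f : X ⟶ Y) :
    ∃ W : X.Opens, (P (W.ι ≫ f) ∧ ∀ W' : X.Opens, P (W'.ι ≫ f) → W' ≤ W) ∧
      ∀ (X' : Scheme.{u}) (g : X' ⟶ X) (_ : Q g) (V : X'.Opens),
        (P (V.ι ≫ g ≫ f) ∧ ∀ V' : X'.Opens, P (V'.ι ≫ g ≫ f) → V' ≤ V) → V = g ⁻¹ᵁ W := by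
  have hQid : ∀ X : Scheme.{u}, Q (𝟙 X) := fun X => hQ _ inferInstance
  let S := {W' : X.Opens // P (W'.ι ≫ f)}
  let W : X.Opens := ⨆ i : S, i.1
  have hW : P (W.ι ≫ f) := iSup_of_isLocalAtSource Q P hQ f (fun i : S => i.1) (fun i => i.2)
  have hmax : ∀ W' : X.Opens, P (W'.ι ≫ f) → W' ≤ W := fun W' h => le_iSup (fun i : S => i.1) ⟨W', h⟩
  refine ⟨W, ⟨hW, hmax⟩, ?_⟩
  intro X' g hg V ⟨hV, hVmax⟩
  apply le_antisymm
  · -- `V ≤ g ⁻¹ᵁ W`
    let h : V.toScheme ⟶ X := V.ι ≫ g
    have hQh : Q h := Q.comp_mem _ _ (hQ V.ι inferInstance) hg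
    have hopenh : IsOpenMap h.base := hopen _ hQh
    let O : X.Opens := ⟨Set.range h.base, hopenh.isOpen_range⟩
    have hres : Q (h ∣_ O) := MorphismProperty.of_isPullback (isPullback_morphismRestrict h O).flip hQh
    have hsurj : Function.Surjective (h ∣_ O).base := by
      rintro ⟨y, v, rfl⟩
      refine ⟨⟨v, ⟨v, rfl⟩⟩, ?_⟩
      apply Subtype.ext
      exact morphismRestrict_base_coe h O _
    have h1 : P ((h ⁻¹ᵁ O).ι ≫ h ≫ f) :=
      precomp_of_isLocalAtSource Q P hQid _ (hQ _ inferInstance) _ (by simpa [h] using hV)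
    rw [← Category.assoc, ← morphismRestrict_ι, Category.assoc] at h1
    have h2 : P (O.ι ≫ f) := descend_of_isLocalAtSource Q P _ hres hsurj _ h1
    have hOW : O ≤ W := hmax O h2
    intro x hx
    exact hOW ⟨⟨x, hx⟩, rfl⟩
  · -- `g ⁻¹ᵁ W ≤ V`
    apply hVmax
    have hres : Q (g ∣_ W) := MorphismProperty.of_isPullback (isPullback_morphismRestrict g W).flip hg
    have := precomp_of_isLocalAtSource Q P hQid (g ∣_ W) hres (W.ι ≫ f) hW
    rwa [← Category.assoc, morphismRestrict_ι, Category.assoc] at this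

end Groth.Agent.Lib.helper1
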