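import Groth.Agent.Lib.Helper1.LimCohPullB

/-!
# Systems of sheaves pulled back from a base to a tower over it (helper1)

For an inverse system `(Y_i)` of schemes over a base `Y` (`e i : Y_i ⟶ Y`, compatible with the transitions) with
limit `Y'` (`g' : Y' ⟶ Y`), and a sheaf `G` on `Y`: the system `eSys` of the pullbacks `e_i⁻¹ G`, with limit datum
`eLim` (`𝓕 = g'⁻¹ G`); `e_colim`: `H^n(Y', g'⁻¹G) = colim_i H^n(Y_i, e_i⁻¹G)`, and the `H⁰` statements.
-/

set_option autoImplicit false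
set_option linter.unusedSectionVars false
universe u
open CategoryTheory CategoryTheory.Limits AlgebraicGeometry Opposite CategoryTheory.Abelian

namespace Groth.Agent.H1.LimCoh

open Groth.Agent.Lib.helper27 Groth.Agent.Lib.helper27.PullFunEt
  Groth.Agent.Lib.helper27.HpullHmap Groth.Agent.H1.EtCartan

section ESys

variable {ι : Type u} [Preorder ι] {Ys : ιᵒᵖ ⥤ Scheme.{u}} (c : Cone Ys) {Y : Scheme.{u}}
  (e : ∀ i : ι, Ys.obj (op i) ⟶ Y) (he : ∀ ⦃i j : ι⦄ (h : i ≤ j), tr Ys h ≫ e i = e j)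
  (g' : c.pt ⟶ Y) (hg : ∀ i : ι, pj Ys c i ≫ e i = g') (G : EtCoh.Ab Y)

/-- the system of the pullbacks of `G` -/
noncomputable def eSys : Sys Ys where
  F j := (EtCoh.pull (e j)).obj G
  θ j k h := θ G (tr Ys h) (e j) (e k) (he h)
  cocycle i j k hij hjk := θ_comp' G (tr Ys hjk) (tr Ys hij) (tr Ys (hij.trans hjk))
    (tr_comp Ys hij hjk) _ _ _ _ _ _
  unit i := θ_id' G _ (tr_refl Ys i) _ _

/-- its limit datum: the pullback of `G` to the limit -/
noncomputable def eLim : LimData c (eSys e he G) where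
  𝓕 := (EtCoh.pull g').obj G
  lam j := θ G (pj Ys c j) (e j) g' (hg j)
  compat i j h := θ_comp' G (pj Ys c j) (tr Ys h) (pj Ys c i) (pj_tr Ys c h) _ _ _ _ _ _

variable {c} [IsDirected ι (· ≤ ·)] [Nonempty ι] (hc : IsLimit c)
  (haff : ∀ ⦃a b : ιᵒᵖ⦄ (h : a ⟶ b), IsAffineHom (Ys.map h))
  [∀ i : ι, CompactSpace (Ys.obj (op i))] [∀ i : ι, QuasiSeparatedSpace (Ys.obj (op i))]

include hc haff in
/-- `H^n(Y', g'⁻¹G) = colim_j H^n(Y_j, e_j⁻¹G)` -/
theorem e_colim (n : ℕ) :
    SurjA (eSys e he G) (eLim c e he g' hg G) n ∧ InjA (eSys e he G) (eLim c e he g' hg G) n :=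
  colim_of_iso hc haff (eLim c e he g' hg G)
    (fun j => isIso_flat_θ G (pj Ys c j) (e j) g' (hg j)) n

include hc haff in
theorem e_h0Inj : H0Inj (eSys e he G) (eLim c e he g' hg G) :=
  h0Inj_of_mono hc haff (eLim c e he g' hg G) (fun j => by
    haveI : IsIso (flat (pj Ys c j) ((eLim c e he g' hg G).lam j)) :=
      isIso_flat_θ G (pj Ys c j) (e j) g' (hg j)
    infer_instance)

include hc haff in
theorem e_h0Surj : H0Surj (eSys e he G) (eLim c e he g' hg G) :=
  h0Surj_of_locRep hc haff (eLim c e he g' hg G) (e_h0Inj e he g' hg G hc haff)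
    (locRep_of_epi hc haff (eLim c e he g' hg G) (fun j => by
      haveI : IsIso (flat (pj Ys c j) ((eLim c e he g' hg G).lam j)) :=
        isIso_flat_θ G (pj Ys c j) (e j) g' (hg j)
      infer_instance))

end ESys

end Groth.Agent.H1.LimCoh
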