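import Groth.Agent.Lib.Helper1.LimCohH0
import Groth.Agent.Lib.Helper9.FPModelCover

/-!
# Descent of étale neighbourhoods along a cofiltered limit (helper1)

`objDesc`: for a cofiltered limit `X = lim X_i` of qcqs schemes with affine transition maps, a qcqs étale
`N ⟶ X` with a morphism to the base change of a qcqs étale `V' ⟶ X_i` is the base change of an étale
`W ⟶ X_k` with a morphism to the base change of `V'` to `X_k`, for some `k ⟶ i`.
-/

set_option autoImplicit false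
set_option linter.unusedSectionVars false
universe u
open CategoryTheory CategoryTheory.Limits AlgebraicGeometry Opposite

namespace Groth.Agent.H1.LimCoh

open Groth.Agent.Lib.helper27 Groth.Agent.Lib.helper27.PullFunEt Groth.Agent.H1.EtCartan
  Groth.Agent.Lib.helper9

section Aux

variable {C : Type*} [Category C]

lemma cond_aux {A B₂ B₁ V S₀ S₁ S₂ : C} (h : A ⟶ B₂) (s₂ : B₂ ⟶ B₁) (s₁ : B₁ ⟶ V) (v : V ⟶ S₀)
    (f₁ : B₁ ⟶ S₁) (d₁ : S₁ ⟶ S₀) (f₂ : B₂ ⟶ S₂) (d₂ : S₂ ⟶ S₁) (m : A ⟶ S₂) (d : S₂ ⟶ S₀)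
    (e1 : s₁ ≫ v = f₁ ≫ d₁) (e2 : s₂ ≫ f₁ = f₂ ≫ d₂) (h1 : h ≫ f₂ = m) (hd : d₂ ≫ d₁ = d) :
    (h ≫ s₂ ≫ s₁) ≫ v = m ≫ d := by
  rw [← h1, ← hd]
  simp only [Category.assoc]
  rw [e1, reassoc_of% e2]

lemma chase_aux {P N Q R Vl Wl K B₂ B₁ : C} (eh : N ⟶ P) (el : P ⟶ N) (bl : N ⟶ Q) (prV : Q ⟶ Vl)
    (m1 : P ⟶ R) (t : R ⟶ Q) (prk' : R ⟶ K) (pra : K ⟶ Vl) (prW : P ⟶ Wl) (gl : Wl ⟶ K)
    (h₀ : Wl ⟶ B₂) (s₂ : B₂ ⟶ B₁) (s₁ : B₁ ⟶ Vl) (Mg : N ⟶ Wl) (G : Q ⟶ B₂) (G₁ : Q ⟶ B₁)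
    (hee : eh ≫ el = 𝟙 N) (hee' : el ≫ eh = 𝟙 P)
    (c1 : t ≫ prV = prk' ≫ pra) (c2 : m1 ≫ prk' = prW ≫ gl) (c3 : gl ≫ pra = h₀ ≫ s₂ ≫ s₁)
    (c4 : eh ≫ prW = Mg) (c5 : Mg ≫ h₀ = bl ≫ G) (c6 : G ≫ s₂ = G₁) (c7 : G₁ ≫ s₁ = prV) :
    (el ≫ bl) ≫ prV = (m1 ≫ t) ≫ prV := by
  have h : el ≫ (eh ≫ el ≫ bl) ≫ prV = el ≫ (eh ≫ m1 ≫ t) ≫ prV := by
    congr 1
    simp only [Category.assoc]
    rw [reassoc_of% hee, c1, reassoc_of% c2, c3, reassoc_of% c4, reassoc_of% c5, reassoc_of% c6, c7]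
  simp only [Category.assoc] at h
  rw [reassoc_of% hee, reassoc_of% hee'] at h
  simpa only [Category.assoc] using h

end Aux

section JS

/-- joint surjectivity of a finite family in the small étale site -/
def JS {Y : Scheme.{u}} {V : Y.Etale} {n : ℕ} (W : Fin n → Y.Etale) (g : ∀ a, W a ⟶ V) : Prop :=
  ∀ x : V.left, ∃ (a : Fin n) (y : (W a).left), (g a).left.base y = x

theorem JS.mem {Y : Scheme.{u}} {V : Y.Etale} {n : ℕ} {W : Fin n → Y.Etale} {g : ∀ a, W a ⟶ V}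
    (h : JS W g) : Sieve.ofArrows W g ∈ Y.smallEtaleTopology V := by
  apply Groth.Agent.H1.ClosedDense.mem_smallEtaleTopology
  intro x
  obtain ⟨a, y, hy⟩ := h x
  exact ⟨W a, g a, y, Sieve.ofArrows_mk W g a, hy⟩

theorem JS.bc {X' Y : Scheme.{u}} (f : X' ⟶ Y) {V : Y.Etale} {n : ℕ} {W : Fin n → Y.Etale}
    {g : ∀ a, W a ⟶ V} (h : JS W g) :
    JS (fun a => (EtCoh.bc f).obj (W a)) (fun a => (EtCoh.bc f).map (g a)) := by
  intro x
  obtain ⟨a, y, hy⟩ := h ((pr f V).base x)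
  obtain ⟨z, hz, -⟩ := Scheme.exists_preimage_of_isPullback
    (EtCoh.isPullback_bc_map f (g a)) x y hy.symm
  exact ⟨a, z, hz⟩

theorem JS.comp_iso {Y : Scheme.{u}} {V V' : Y.Etale} {n : ℕ} {W : Fin n → Y.Etale}
    {g : ∀ a, W a ⟶ V} (h : JS W g) (e : V ≅ V') : JS W (fun a => g a ≫ e.hom) := by
  intro x
  obtain ⟨a, y, hy⟩ := h (e.inv.left.base x)
  refine ⟨a, y, ?_⟩
  change (g a ≫ e.hom).left.base y = x
  have h1 : (g a ≫ e.hom).left = (g a).left ≫ e.hom.left := rfl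
  rw [h1, Scheme.Hom.comp_base, TopCat.comp_app, hy, ← TopCat.comp_app, ← Scheme.Hom.comp_base]
  have h2 : e.inv.left ≫ e.hom.left = 𝟙 _ := congrArg (fun k => k.left) e.inv_hom_id
  rw [h2]
  rfl

end JS

section General

variable {I : Type u} [SmallCategory I] [IsCofiltered I] (D : I ⥤ Scheme.{u}) (c : Cone D)
  (hc : IsLimit c) [hD : ∀ (i j : I) (f : i ⟶ j), IsAffineHom (D.map f)]
  [∀ i, CompactSpace (D.obj i)] [∀ i, QuasiSeparatedSpace (D.obj i)]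

include hc in
theorem qcqs_pt [Nonempty I] : CompactSpace c.pt ∧ QuasiSeparatedSpace c.pt := by
  obtain ⟨i⟩ := ‹Nonempty I›
  have hD' : ∀ {i j : I} (f : i ⟶ j), IsAffineHom (D.map f) := fun f => hD _ _ f
  haveI : IsAffineHom (c.π.app i) := isAffineHom_π_app D c hc i
  exact ⟨QuasiCompact.compactSpace_of_compactSpace (c.π.app i),
    quasiSeparatedSpace_of_quasiSeparated (c.π.app i)⟩

/-- the tautological model of a base change -/
noncomputable def bcModel (i₀ : I) (V' : (D.obj i₀).Etale) (hV' : good V') :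
    FPModel D c ((EtCoh.bc (c.π.app i₀)).obj V').hom i₀ :=
  haveI := hV'.1
  haveI := hV'.2
  haveI : Etale V'.hom := V'.prop
  { X₀ := V'.left
    f₀ := V'.hom
    g := pr (c.π.app i₀) V'
    lfp := inferInstance
    qc := inferInstance
    qs := inferInstance
    pb := IsPullback.of_hasPullback V'.hom (c.π.app i₀) }

include hc in
theorem objDesc_gen [Nonempty I] (i₀ : I) (V' : (D.obj i₀).Etale) (hV' : good V') (N : c.pt.Etale)
    (hN : good N) (b : N ⟶ (EtCoh.bc (c.π.app i₀)).obj V') :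
    ∃ (k : I) (a : k ⟶ i₀) (W : (D.obj k).Etale) (_ : good W)
      (g : W ⟶ (EtCoh.bc (D.map a)).obj V') (ε : (EtCoh.bc (c.π.app k)).obj W ≅ N),
      ε.hom ≫ b = (EtCoh.bc (c.π.app k)).map g ≫
        (bcTri (c.π.app k) (D.map a) (c.π.app i₀) (c.w a)).hom.app V' := by
  obtain ⟨hcp, hqs⟩ := qcqs_pt D c hc
  haveI := hcp
  haveI := hqs
  haveI := hN.1
  haveI := hN.2
  haveI : Etale N.hom := N.prop
  haveI : CompactSpace ↥((𝟭 Scheme).obj N.left) := hN.1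
  haveI : QuasiSeparatedSpace ↥((𝟭 Scheme).obj N.left) := hN.2
  haveI : QuasiCompact N.hom := quasiCompact_of_compactSpace (Y := c.pt) N.hom
  haveI : QuasiSeparated N.hom := QuasiSeparated.of_quasiSeparatedSpace (Y := c.pt) N.hom
  -- an étale model of `N`
  obtain ⟨l, ⟨M⟩⟩ := FPModel.exists_model_over hc i₀ N.hom
  haveI : CompactSpace M.X₀ := M.compactSpace_X₀
  obtain ⟨k₁, b₁, hk₁⟩ := M.exists_rebase_of_descent @Etale
    (fun h => exists_etale_stageMap D c hc l.left M.f₀ (𝟙 _) h) inferInstance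
  obtain ⟨M₁, hM₁⟩ : ∃ M₁ : FPModel D c N.hom k₁, Etale M₁.f₀ := ⟨M.rebase b₁, hk₁⟩
  obtain ⟨a₁, -⟩ : ∃ a₁ : k₁ ⟶ i₀, True := ⟨b₁ ≫ l.hom, trivial⟩
  -- the morphism descends
  obtain ⟨k, a₂, ⟨φ⟩⟩ := FPModel.exists_hom hc M₁ ((bcModel D c i₀ V' hV').rebase a₁) b.left
    (MorphismProperty.Over.w b)
  haveI : Etale (M₁.rebase a₂).f₀ := MorphismProperty.pullback_fst (P := @Etale) _ _ hM₁
  have hgW : good (Scheme.Etale.mk (M₁.rebase a₂).f₀) :=
    ⟨(M₁.rebase a₂).compactSpace_X₀, (M₁.rebase a₂).quasiSeparatedSpace_X₀⟩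
  -- the morphism `g`
  have e1 : pullback.snd (D.map a₁) V'.hom ≫ V'.hom = pullback.fst (D.map a₁) V'.hom ≫ D.map a₁ :=
    pullback.condition.symm
  have e2 : pullback.snd (D.map a₂) (pullback.fst (D.map a₁) V'.hom) ≫
      pullback.fst (D.map a₁) V'.hom =
        pullback.fst (D.map a₂) (pullback.fst (D.map a₁) V'.hom) ≫ D.map a₂ :=
    pullback.condition.symm
  have h1 : φ.h₀ ≫ pullback.fst (D.map a₂) (pullback.fst (D.map a₁) V'.hom) =
      (M₁.rebase a₂).f₀ := φ.w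
  have hcond : (φ.h₀ ≫ pullback.snd (D.map a₂) (pullback.fst (D.map a₁) V'.hom) ≫
      pullback.snd (D.map a₁) V'.hom) ≫ V'.hom = (M₁.rebase a₂).f₀ ≫ D.map (a₂ ≫ a₁) :=
    cond_aux φ.h₀ _ _ V'.hom _ (D.map a₁) _ (D.map a₂) _ _ e1 e2 h1 (D.map_comp a₂ a₁).symm
  let g : Scheme.Etale.mk (M₁.rebase a₂).f₀ ⟶ (EtCoh.bc (D.map (a₂ ≫ a₁))).obj V' :=
    MorphismProperty.Over.homMk (pullback.lift _ _ hcond) (pullback.lift_snd _ _ _) trivial
  have hgl : g.left ≫ pr (D.map (a₂ ≫ a₁)) V' =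
      φ.h₀ ≫ pullback.snd (D.map a₂) (pullback.fst (D.map a₁) V'.hom) ≫
        pullback.snd (D.map a₁) V'.hom := pullback.lift_fst _ _ _
  -- the isomorphism `ε`
  let e := (M₁.rebase a₂).pb.isoPullback
  have he1 : e.hom ≫ pullback.fst (M₁.rebase a₂).f₀ (c.π.app k) = (M₁.rebase a₂).g :=
    (M₁.rebase a₂).pb.isoPullback_hom_fst
  have he2 : e.hom ≫ pullback.snd (M₁.rebase a₂).f₀ (c.π.app k) = N.hom :=
    (M₁.rebase a₂).pb.isoPullback_hom_snd
  let ε : (EtCoh.bc (c.π.app k)).obj (Scheme.Etale.mk (M₁.rebase a₂).f₀) ≅ N :=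
    MorphismProperty.Over.isoMk e.symm (by
      change e.inv ≫ N.hom = pullback.snd (M₁.rebase a₂).f₀ (c.π.app k)
      rw [Iso.inv_comp_eq]
      exact he2.symm)
  have hεl : ε.hom.left = e.inv := rfl
  refine ⟨k, a₂ ≫ a₁, _, hgW, g, ε, ?_⟩
  apply bc_hom_ext
  -- the chase
  have hwg : (M₁.rebase a₂).g ≫ φ.h₀ =
      b.left ≫ (((bcModel D c i₀ V' hV').rebase a₁).rebase a₂).g := φ.wg
  have hg1 : (((bcModel D c i₀ V' hV').rebase a₁).rebase a₂).g ≫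
      pullback.snd (D.map a₂) (pullback.fst (D.map a₁) V'.hom) =
        ((bcModel D c i₀ V' hV').rebase a₁).g := pullback.lift_snd _ _ _
  have hg2 : ((bcModel D c i₀ V' hV').rebase a₁).g ≫ pullback.snd (D.map a₁) V'.hom =
      pr (c.π.app i₀) V' := pullback.lift_snd _ _ _
  exact chase_aux e.hom e.inv b.left (pr (c.π.app i₀) V')
    ((EtCoh.bc (c.π.app k)).map g).left
    ((bcTri (c.π.app k) (D.map (a₂ ≫ a₁)) (c.π.app i₀) (c.w (a₂ ≫ a₁))).hom.app V').left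
    (pr (c.π.app k) ((EtCoh.bc (D.map (a₂ ≫ a₁))).obj V')) (pr (D.map (a₂ ≫ a₁)) V')
    (pr (c.π.app k) (Scheme.Etale.mk (M₁.rebase a₂).f₀)) g.left φ.h₀ _ _ (M₁.rebase a₂).g _ _
    e.hom_inv_id e.inv_hom_id
    (bcTri_hom_pr (c.π.app k) (D.map (a₂ ≫ a₁)) (c.π.app i₀) (c.w (a₂ ≫ a₁)) V')
    (bc_map_pr (c.π.app k) g) hgl he1 hwg hg1 hg2

include hc in
theorem DL_gen (j₀ : I) (V : (D.obj j₀).Etale) (hV : good V) {n : ℕ}
    (W : Fin n → (D.obj j₀).Etale) (g : ∀ a, W a ⟶ V)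
    (h : JS (fun a => (EtCoh.bc (c.π.app j₀)).obj (W a))
      (fun a => (EtCoh.bc (c.π.app j₀)).map (g a))) :
    ∃ (k : I) (φ : k ⟶ j₀), JS (fun a => (EtCoh.bc (D.map φ)).obj (W a))
      (fun a => (EtCoh.bc (D.map φ)).map (g a)) := by
  by_contra hcon
  push Not at hcon
  haveI := hV.1
  have hO : IsOpen (⋃ a, Set.range (g a).left.base) := isOpen_iUnion fun a => by
    haveI := Groth.Agent.H1.EtGerm.etale_left (g a)
    exact (g a).left.isOpenMap.isOpen_range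
  obtain ⟨O, hOdef⟩ : ∃ O : Set V.left, O = ⋃ a, Set.range (g a).left.base := ⟨_, rfl⟩
  rw [← hOdef] at hO
  let Zc : TopologicalSpace.Closeds V.left := ⟨Oᶜ, hO.isClosed_compl⟩
  let ιT := (Scheme.IdealSheafData.vanishingIdeal Zc).subschemeι
  have hrange : Set.range ιT.base = Oᶜ := by
    have h1 := (Scheme.IdealSheafData.vanishingIdeal Zc).range_subschemeι
    rw [Scheme.IdealSheafData.coe_support_vanishingIdeal] at h1
    exact h1
  haveI : CompactSpace ↥(Scheme.IdealSheafData.vanishingIdeal Zc).subscheme :=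
    isCompact_iff_compactSpace.mp hO.isClosed_compl.isCompact
  have hne : ∀ (l : I) (φ : l ⟶ j₀), Nonempty ↥(pullback (D.map φ) (ιT ≫ V.hom)) := by
    intro l φ
    have h1 := hcon l φ
    unfold JS at h1
    push Not at h1
    obtain ⟨y, hy⟩ := h1
    have hpr : (pr (D.map φ) V).base y ∉ O := by
      intro hmem
      rw [hOdef] at hmem
      obtain ⟨a, w, hw⟩ := Set.mem_iUnion.1 hmem
      obtain ⟨z, hz, -⟩ := Scheme.exists_preimage_of_isPullback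
        (EtCoh.isPullback_bc_map (D.map φ) (g a)) y w hw.symm
      exact hy a z hz
    obtain ⟨t, ht⟩ : ∃ t, ιT.base t = (pr (D.map φ) V).base y := by
      have h2 : (pr (D.map φ) V).base y ∈ Set.range ιT.base := by
        rw [hrange]
        exact hpr
      exact h2
    have hxy : (D.map φ).base (((EtCoh.bc (D.map φ)).obj V).hom.base y) = (ιT ≫ V.hom).base t := by
      have h3 := congrArg (fun k => k.base y) (pr_condition (D.map φ) V)
      simp only [Scheme.Hom.comp_base, TopCat.comp_app] at h3 ⊢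
      rw [ht, h3]
    obtain ⟨z, -⟩ := Scheme.Pullback.exists_preimage_pullback (f := D.map φ) (g := ιT ≫ V.hom)
      _ t hxy
    exact ⟨z⟩
  obtain ⟨z⟩ := nonempty_pullback_π D c j₀ (ιT ≫ V.hom) hc hne
  have hz := congrArg (fun k => k.base z) (pullback.condition (f := c.π.app j₀) (g := ιT ≫ V.hom))
  simp only [Scheme.Hom.comp_base, TopCat.comp_app] at hz
  obtain ⟨x, hx1, hx2⟩ := Scheme.Pullback.exists_preimage_pullback (f := V.hom) (g := c.π.app j₀)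
    _ _ hz.symm
  obtain ⟨a, w, hw⟩ := h x
  have hmem : (pr (c.π.app j₀) V).base x ∈ O := by
    rw [hOdef]
    refine Set.mem_iUnion.2 ⟨a, (pr (c.π.app j₀) (W a)).base w, ?_⟩
    have h4 := congrArg (fun k => k.base w) (bc_map_pr (c.π.app j₀) (g a))
    simp only [Scheme.Hom.comp_base, TopCat.comp_app] at h4
    rw [← h4]
    exact congrArg _ hw
  have hmem' : (pr (c.π.app j₀) V).base x ∈ Oᶜ := by
    rw [← hrange]
    exact ⟨_, hx1.symm⟩
  exact hmem' hmem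

end General

section Directed

variable {ι : Type u} [Preorder ι] [IsDirected ι (· ≤ ·)] [Nonempty ι] {Xs : ιᵒᵖ ⥤ Scheme.{u}}
  {c : Cone Xs} (hc : IsLimit c) (haff : ∀ ⦃a b : ιᵒᵖ⦄ (h : a ⟶ b), IsAffineHom (Xs.map h))
  [∀ i : ι, CompactSpace (Xs.obj (op i))] [∀ i : ι, QuasiSeparatedSpace (Xs.obj (op i))]

include hc haff in
theorem objDesc (i : ι) (V' : (Xs.obj (op i)).Etale) (hV' : good V') (N : c.pt.Etale)
    (hN : good N) (b : N ⟶ (EtCoh.bc (pj Xs c i)).obj V') :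
    ∃ (k : ι) (hk : i ≤ k) (W : (Xs.obj (op k)).Etale) (_ : good W)
      (g : W ⟶ (EtCoh.bc (tr Xs hk)).obj V') (ε : (EtCoh.bc (pj Xs c k)).obj W ≅ N),
      ε.hom ≫ b = (EtCoh.bc (pj Xs c k)).map g ≫
        (bcTri (pj Xs c k) (tr Xs hk) (pj Xs c i) (pj_tr Xs c hk)).hom.app V' := by
  haveI : ∀ (a b : ιᵒᵖ) (f : a ⟶ b), IsAffineHom (Xs.map f) := fun _ _ f => haff f
  haveI : ∀ a : ιᵒᵖ, CompactSpace (Xs.obj a) := fun a =>
    (inferInstance : CompactSpace (Xs.obj (op a.unop)))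
  haveI : ∀ a : ιᵒᵖ, QuasiSeparatedSpace (Xs.obj a) := fun a =>
    (inferInstance : QuasiSeparatedSpace (Xs.obj (op a.unop)))
  obtain ⟨k', a, W, hW, g, ε, h⟩ := objDesc_gen Xs c hc (op i) V' hV' N hN b
  obtain ⟨k⟩ := k'
  have hk : i ≤ k := leOfHom a.unop
  obtain rfl : a = (homOfLE hk).op := Subsingleton.elim _ _
  exact ⟨k, hk, W, hW, g, ε, h⟩

include hc haff in
theorem DL (j : ι) (V : (Xs.obj (op j)).Etale) (hV : good V) {n : ℕ}
    (W : Fin n → (Xs.obj (op j)).Etale) (g : ∀ a, W a ⟶ V)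
    (h : JS (fun a => (EtCoh.bc (pj Xs c j)).obj (W a))
      (fun a => (EtCoh.bc (pj Xs c j)).map (g a))) :
    ∃ (k : ι) (hk : j ≤ k), JS (fun a => (EtCoh.bc (tr Xs hk)).obj (W a))
      (fun a => (EtCoh.bc (tr Xs hk)).map (g a)) := by
  haveI : ∀ (a b : ιᵒᵖ) (f : a ⟶ b), IsAffineHom (Xs.map f) := fun _ _ f => haff f
  haveI : ∀ a : ιᵒᵖ, CompactSpace (Xs.obj a) := fun a =>
    (inferInstance : CompactSpace (Xs.obj (op a.unop)))
  haveI : ∀ a : ιᵒᵖ, QuasiSeparatedSpace (Xs.obj a) := fun a =>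
    (inferInstance : QuasiSeparatedSpace (Xs.obj (op a.unop)))
  obtain ⟨k', a, h'⟩ := DL_gen Xs c hc (op j) V hV W g h
  obtain ⟨k⟩ := k'
  have hk : j ≤ k := leOfHom a.unop
  obtain rfl : a = (homOfLE hk).op := Subsingleton.elim _ _
  exact ⟨k, hk, h'⟩

end Directed

end Groth.Agent.H1.LimCoh
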