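import Groth.Agent.Lib.Helper1.LimCohRed
import Groth.Agent.Lib.Helper1.EtLocTors
import Groth.Agent.Lib.Helper1.EtPushColim

/-!
# The sectionwise colimit property of a system of sheaves (helper1)

`H0Inj S L`, `H0Surj S L`: sections of `𝓕` over the base change of a qcqs étale `V ⟶ X_i` are the colimit
of the sections of the `F_j` over the base changes of `V`.  They imply that the cocones `coconeK k L` are
colimit cocones (`isColimit_coconeK`), hence (`a_of_p`) the reduction to pushforward systems.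
-/

set_option autoImplicit false
set_option linter.unusedSectionVars false
universe u
open CategoryTheory CategoryTheory.Limits AlgebraicGeometry Opposite CategoryTheory.Abelian

namespace Groth.Agent.H1.LimCoh

open Groth.Agent.Lib.helper27 Groth.Agent.Lib.helper27.PullFunEt
  Groth.Agent.Lib.helper27.HpullHmap Groth.Agent.H1.EtCartan Groth.Agent.H1.EtFiltH

variable {ι : Type u} [Preorder ι] {Xs : ιᵒᵖ ⥤ Scheme.{u}} {c : Cone Xs}

theorem good_bc' {X Y : Scheme.{u}} (f : X ⟶ Y) [QuasiCompact f] [QuasiSeparated f] (V : Y.Etale)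
    (hV : good V) : good ((EtCoh.bc f).obj V) := by
  haveI := hV.1
  haveI := hV.2
  let p : ((EtCoh.bc f).obj V).left ⟶ V.left := pullback.fst V.hom f
  haveI : QuasiCompact p := inferInstanceAs (QuasiCompact (pullback.fst V.hom f))
  haveI : QuasiSeparated p := inferInstanceAs (QuasiSeparated (pullback.fst V.hom f))
  exact ⟨QuasiCompact.compactSpace_of_compactSpace p, quasiSeparatedSpace_of_quasiSeparated p⟩

/-- a section at stage `j` dying on the limit dies at a later stage -/
def H0Inj (S : Sys Xs) (L : LimData c S) : Prop :=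
  ∀ (j : ι) (W : (Xs.obj (op j)).Etale), good W → ∀ s : (S.F j).obj.obj (op W),
    (L.lam j).hom.app (op W) s = 0 → ∃ (k : ι) (hk : j ≤ k), (S.θ hk).hom.app (op W) s = 0

/-- a section on the limit comes from a stage -/
def H0Surj (S : Sys Xs) (L : LimData c S) : Prop :=
  ∀ (i : ι) (V : (Xs.obj (op i)).Etale), good V →
    ∀ σ : L.𝓕.obj.obj (op ((EtCoh.bc (pj Xs c i)).obj V)),
      ∃ (j : ι) (hj : i ≤ j) (s : (S.F j).obj.obj (op ((EtCoh.bc (tr Xs hj)).obj V))),
        L.𝓕.obj.map ((bcTri (pj Xs c j) (tr Xs hj) (pj Xs c i) (pj_tr Xs c hj)).inv.app V).op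
          ((L.lam j).hom.app (op ((EtCoh.bc (tr Xs hj)).obj V)) s) = σ

section

variable [IsDirected ι (· ≤ ·)] (haff : ∀ ⦃a b : ιᵒᵖ⦄ (h : a ⟶ b), IsAffineHom (Xs.map h))
  {S : Sys Xs} (L : LimData c S)

lemma coconeK_app (k : ι) (l : {l : ι // k ≤ l}) (U : (Xs.obj (op k)).Etale)
    (t : (S.F l.1).obj.obj (op ((EtCoh.bc (tr Xs l.2)).obj U))) :
    ((coconeK k L).ι.app l).hom.app (op U) t =
      L.𝓕.obj.map ((bcTri (pj Xs c l.1) (tr Xs l.2) (pj Xs c k) (pj_tr Xs c l.2)).inv.app U).op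
        ((L.lam l.1).hom.app (op ((EtCoh.bc (tr Xs l.2)).obj U)) t) := by
  have h1 := pushTri_hom_app (pj Xs c l.1) (tr Xs l.2) (pj Xs c k) (pj_tr Xs c l.2) L.𝓕 U
  exact ConcreteCategory.congr_hom h1 ((L.lam l.1).hom.app (op ((EtCoh.bc (tr Xs l.2)).obj U)) t)

lemma Dk_map_app (k : ι) {l m : {l : ι // k ≤ l}} (f : l ⟶ m) (U : (Xs.obj (op k)).Etale)
    (t : (S.F l.1).obj.obj (op ((EtCoh.bc (tr Xs l.2)).obj U))) :
    ((Dk S k).map f).hom.app (op U) t =
      (S.F m.1).obj.map ((bcTri (tr Xs (leOfHom f)) (tr Xs l.2) (tr Xs m.2)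
        (tr_comp Xs l.2 (leOfHom f))).inv.app U).op
        ((S.θ (leOfHom f)).hom.app (op ((EtCoh.bc (tr Xs l.2)).obj U)) t) := by
  have h1 := pushTri_hom_app (tr Xs (leOfHom f)) (tr Xs l.2) (tr Xs m.2)
    (tr_comp Xs l.2 (leOfHom f)) (S.F m.1) U
  exact ConcreteCategory.congr_hom h1
    ((S.θ (leOfHom f)).hom.app (op ((EtCoh.bc (tr Xs l.2)).obj U)) t)

include haff in
theorem isIso_desc (hI : H0Inj S L) (hS : H0Surj S L) (k : ι) :
    IsIso (colimit.desc (Dk S k) (coconeK k L)) := by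
  apply isIso_of_bijective_affine
  intro U hU
  have hgU : good U := good_of_isAffine U hU
  constructor
  · rw [injective_iff_map_eq_zero]
    intro t ht
    obtain ⟨l, tl, rfl⟩ := sec_rep (Dk S k) (colimit.cocone (Dk S k)) (colimit.isColimit _) U hgU t
    have h1 : ((coconeK k L).ι.app l).hom.app (op U) tl = 0 := by
      rw [← ht, ← colimit.ι_desc (coconeK k L) l]
      rfl
    have h1' := (coconeK_app L k l U tl).symm.trans h1
    haveI : IsAffineHom (tr Xs l.2) := haff _
    have hgW : good ((EtCoh.bc (tr Xs l.2)).obj U) := good_bc' (tr Xs l.2) U hgU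
    have h2 : (L.lam l.1).hom.app (op ((EtCoh.bc (tr Xs l.2)).obj U)) tl = 0 := by
      have hinj : Function.Injective (L.𝓕.obj.map
          ((bcTri (pj Xs c l.1) (tr Xs l.2) (pj Xs c k) (pj_tr Xs c l.2)).inv.app U).op) := by
        have : IsIso (L.𝓕.obj.map
          ((bcTri (pj Xs c l.1) (tr Xs l.2) (pj Xs c k) (pj_tr Xs c l.2)).inv.app U).op) :=
          inferInstance
        exact (ConcreteCategory.bijective_of_isIso _).1
      apply hinj
      exact h1'.trans (map_zero _).symm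
    obtain ⟨m, hlm, h3⟩ := hI l.1 _ hgW tl h2
    let m' : {l : ι // k ≤ l} := ⟨m, l.2.trans hlm⟩
    let f : l ⟶ m' := homOfLE hlm
    have h4 : ((Dk S k).map f).hom.app (op U) tl = 0 := by
      have : (S.θ (leOfHom f)).hom.app (op ((EtCoh.bc (tr Xs l.2)).obj U)) tl = 0 := h3
      exact (Dk_map_app k f U tl).trans ((congrArg _ this).trans (map_zero _))
    have h5 : (colimit.ι (Dk S k) l).hom.app (op U) tl =
        (colimit.ι (Dk S k) m').hom.app (op U) (((Dk S k).map f).hom.app (op U) tl) := by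
      rw [← colimit.w (Dk S k) f]
      rfl
    exact h5.trans ((congrArg _ h4).trans (map_zero _))
  · intro σ
    obtain ⟨j, hj, s, hs⟩ := hS k U hgU σ
    refine ⟨(colimit.ι (Dk S k) ⟨j, hj⟩).hom.app (op U) s, ?_⟩
    have h1 : ((coconeK k L).ι.app ⟨j, hj⟩).hom.app (op U) s = σ :=
      (coconeK_app L k ⟨j, hj⟩ U s).trans hs
    rw [← h1, ← colimit.ι_desc (coconeK k L) ⟨j, hj⟩]
    rfl

include haff in
/-- the cocones `coconeK` are colimit cocones -/
noncomputable def isColimit_coconeK (hI : H0Inj S L) (hS : H0Surj S L) (k : ι) :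
    IsColimit (coconeK k L) := by
  haveI : IsIso ((colimit.isColimit (Dk S k)).desc (coconeK k L)) := isIso_desc haff L hI hS k
  exact IsColimit.ofPointIso (colimit.isColimit (Dk S k))

variable [∀ i : ι, CompactSpace (Xs.obj (op i))] [∀ i : ι, QuasiSeparatedSpace (Xs.obj (op i))]

include haff in
theorem a_of_p (hI : H0Inj S L) (hS : H0Surj S L) (n : ℕ)
    (hP : SurjA (pushSys c L.𝓕) (pushLim c L.𝓕) n ∧ InjA (pushSys c L.𝓕) (pushLim c L.𝓕) n) :
    SurjA S L n ∧ InjA S L n :=
  ⟨red_surj L (isColimit_coconeK haff L hI hS) n hP.1,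
    red_inj L (isColimit_coconeK haff L hI hS) n hP.2⟩

end

end Groth.Agent.H1.LimCoh
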