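import Groth.Agent.Lib.Helper27.HpullHmap

/-!
# Complements on `Hmap` (helper1): generalized associativity/unit laws of `pushTri`, the connecting
homomorphism and `Hmap`, `Hmap` in degree zero.
-/

set_option autoImplicit false
set_option linter.unusedSectionVars false
universe u
open CategoryTheory CategoryTheory.Limits AlgebraicGeometry Opposite CategoryTheory.Abelian

namespace Groth.Agent.H1.LimCoh

open Groth.Agent.Lib.helper27 Groth.Agent.Lib.helper27.PullFunEt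
  Groth.Agent.Lib.helper27.HpullHmap

section PushTri

lemma pushTri_assoc_gen {Y'' Y' Y S : Scheme.{u}} (h : Y'' ⟶ Y') (g : Y' ⟶ Y) (a : Y ⟶ S)
    (b : Y'' ⟶ Y) (a' : Y' ⟶ S) (a'' : Y'' ⟶ S) (wb : h ≫ g = b) (w : g ≫ a = a')
    (w' : h ≫ a' = a'') (w'' : b ≫ a = a'') (M : EtCoh.Ab Y'') :
    (EtCoh.push a).map ((pushTri h g b wb).hom.app M) ≫ (pushTri b a a'' w'').hom.app M =
      (pushTri g a a' w).hom.app ((EtCoh.push h).obj M) ≫ (pushTri h a' a'' w').hom.app M := by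
  subst wb
  exact pushTri_assoc h g a a' a'' w w' w'' M

lemma pushTri_assoc_gen_inv {Y'' Y' Y S : Scheme.{u}} (h : Y'' ⟶ Y') (g : Y' ⟶ Y) (a : Y ⟶ S)
    (b : Y'' ⟶ Y) (a' : Y' ⟶ S) (a'' : Y'' ⟶ S) (wb : h ≫ g = b) (w : g ≫ a = a')
    (w' : h ≫ a' = a'') (w'' : b ≫ a = a'') (M : EtCoh.Ab Y'') :
    (pushTri b a a'' w'').inv.app M ≫ (EtCoh.push a).map ((pushTri h g b wb).inv.app M) =
      (pushTri h a' a'' w').inv.app M ≫ (pushTri g a a' w).inv.app ((EtCoh.push h).obj M) := by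
  have h1 := pushTri_assoc_gen h g a b a' a'' wb w w' w'' M
  rw [← cancel_mono ((EtCoh.push a).map ((pushTri h g b wb).hom.app M)),
    ← cancel_mono ((pushTri b a a'' w'').hom.app M)]
  simp only [Category.assoc]
  rw [← Functor.map_comp_assoc, Iso.inv_hom_id_app, CategoryTheory.Functor.map_id, Category.id_comp,
    Iso.inv_hom_id_app, h1, Iso.inv_hom_id_app_assoc, Iso.inv_hom_id_app]

/-- `g_* ≅ 𝟭` for `g = 𝟙` -/
noncomputable def pushIdIso' {Y : Scheme.{u}} (g : Y ⟶ Y) (hg : g = 𝟙 Y) :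
    EtCoh.push g ≅ 𝟭 (EtCoh.Ab Y) :=
  EtCoh.pushCongr hg ≪≫ pushIdIso Y

lemma pushIdIso'_refl (Y : Scheme.{u}) : pushIdIso' (𝟙 Y) rfl = pushIdIso Y := by
  ext M : 3
  rw [pushIdIso', Iso.trans_hom, NatTrans.comp_app, pushCongr_refl_hom_app, Category.id_comp]

lemma pushTri_left_unit {Y S : Scheme.{u}} (g : Y ⟶ Y) (hg : g = 𝟙 Y) (a : Y ⟶ S)
    (w : g ≫ a = a) (M : EtCoh.Ab Y) :
    (pushTri g a a w).inv.app M = (EtCoh.push a).map ((pushIdIso' g hg).inv.app M) := by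
  subst hg
  rw [pushIdIso'_refl]
  exact pushTri_id a w M

lemma bcTri_right_unit {Y' Y : Scheme.{u}} (h : Y' ⟶ Y) (w : h ≫ 𝟙 Y = h) (U : Y.Etale) :
    (bcTri h (𝟙 Y) h w).hom.app U = (EtCoh.bc h).map ((bcId Y).hom.app U) := by
  apply bc_hom_ext
  exact (bcTri_hom_pr h (𝟙 Y) h w U).trans (bc_map_pr h ((bcId Y).hom.app U)).symm

lemma pushTri_right_unit {Y' Y : Scheme.{u}} (h : Y' ⟶ Y) (g : Y ⟶ Y) (hg : g = 𝟙 Y)
    (w : h ≫ g = h) (M : EtCoh.Ab Y') :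
    (pushTri h g h w).inv.app M = (pushIdIso' g hg).inv.app ((EtCoh.push h).obj M) := by
  subst hg
  rw [pushIdIso'_refl]
  apply Sheaf.hom_ext
  apply NatTrans.ext
  funext U
  obtain ⟨U⟩ := U
  rw [pushTri_inv_app]
  have e1 : ((pushIdIso Y).inv.app ((EtCoh.push h).obj M)).hom.app (op U) =
      M.obj.map ((EtCoh.bc h).map ((bcId Y).hom.app U)).op :=
    pushIdIso_inv_app Y ((EtCoh.push h).obj M) U
  rw [e1, bcTri_right_unit]

end PushTri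

section HmapLemmas

variable {Y' Y : Scheme.{u}} (g : Y' ⟶ Y)

/-- the adjoint `g⁻¹G ⟶ G'` of `θ : G ⟶ g_* G'` -/
noncomputable abbrev flat {G : EtCoh.Ab Y} {G' : EtCoh.Ab Y'} (θ : G ⟶ (EtCoh.push g).obj G') :
    (EtCoh.pull g).obj G ⟶ G' :=
  ((adj g).homEquiv _ _).symm θ

lemma Hmap_apply' {G : EtCoh.Ab Y} {G' : EtCoh.Ab Y'} (θ : G ⟶ (EtCoh.push g).obj G') (q : ℕ)
    (x : EtCoh.H Y G q) :
    Hmap g θ q x = ((Ext.mk₀ (uZ g)).comp (x.mapExactFunctor (EtCoh.pull g)) (zero_add q)).comp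
      (Ext.mk₀ (flat g θ)) (add_zero q) := by
  rw [Hmap_eq, Hpull_apply]

lemma flat_comp {G₀ G : EtCoh.Ab Y} {G' : EtCoh.Ab Y'} (ψ : G₀ ⟶ G)
    (θ : G ⟶ (EtCoh.push g).obj G') : flat g (ψ ≫ θ) = (EtCoh.pull g).map ψ ≫ flat g θ :=
  (adj g).homEquiv_naturality_left_symm ψ θ

lemma flat_comp_map {G : EtCoh.Ab Y} {G' G'' : EtCoh.Ab Y'} (θ : G ⟶ (EtCoh.push g).obj G')
    (φ : G' ⟶ G'') : flat g (θ ≫ (EtCoh.push g).map φ) = flat g θ ≫ φ :=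
  (adj g).homEquiv_naturality_right_symm θ φ

lemma ext_aux {𝒜 : Type*} [Category 𝒜] [Abelian 𝒜] [HasExt 𝒜] {Z' Z C C' A A' : 𝒜} (u : Z' ⟶ Z)
    {n : ℕ} (a : Ext Z C n) (E : Ext C A 1) (t₁ : A ⟶ A') (t₃ : C ⟶ C') (E' : Ext C' A' 1)
    (hn : E.comp (Ext.mk₀ t₁) (add_zero 1) = (Ext.mk₀ t₃).comp E' (zero_add 1)) :
    ((Ext.mk₀ u).comp (a.comp E rfl) (zero_add (n + 1))).comp (Ext.mk₀ t₁) (add_zero (n + 1)) =
      (((Ext.mk₀ u).comp a (zero_add n)).comp (Ext.mk₀ t₃) (add_zero n)).comp E' rfl := by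
  rw [Ext.comp_assoc_of_third_deg_zero, Ext.comp_assoc_of_third_deg_zero, hn,
    Ext.comp_assoc_of_second_deg_zero]
  exact (Ext.comp_assoc (Ext.mk₀ u) a ((Ext.mk₀ t₃).comp E' (zero_add 1)) (zero_add n) rfl
    (by omega)).symm

/-- compatibility of `Hmap` with the connecting homomorphisms -/
theorem Hmap_del {S : ShortComplex (EtCoh.Ab Y)} (hS : S.ShortExact)
    {S' : ShortComplex (EtCoh.Ab Y')} (hS' : S'.ShortExact)
    (θ₁ : S.X₁ ⟶ (EtCoh.push g).obj S'.X₁) (θ₂ : S.X₂ ⟶ (EtCoh.push g).obj S'.X₂)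
    (θ₃ : S.X₃ ⟶ (EtCoh.push g).obj S'.X₃)
    (c₁ : S.f ≫ θ₂ = θ₁ ≫ (EtCoh.push g).map S'.f)
    (c₂ : S.g ≫ θ₃ = θ₂ ≫ (EtCoh.push g).map S'.g) (n : ℕ) (x : EtCoh.H Y S.X₃ n) :
    Hmap g θ₁ (n + 1) (x.comp hS.extClass rfl) = (Hmap g θ₃ n x).comp hS'.extClass rfl := by
  let φ : S.map (EtCoh.pull g) ⟶ S' :=
    { τ₁ := flat g θ₁
      τ₂ := flat g θ₂
      τ₃ := flat g θ₃
      comm₁₂ := by
        change flat g θ₁ ≫ S'.f = (EtCoh.pull g).map S.f ≫ flat g θ₂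
        rw [← flat_comp, ← flat_comp_map, c₁]
      comm₂₃ := by
        change flat g θ₂ ≫ S'.g = (EtCoh.pull g).map S.g ≫ flat g θ₃
        rw [← flat_comp, ← flat_comp_map, c₂] }
  have hn := ShortComplex.ShortExact.extClass_naturality (hS.map_of_exact (EtCoh.pull g)) hS' φ
  rw [Hmap_apply', Hmap_apply', Ext.mapExactFunctor_comp, Ext.mapExactFunctor_extClass]
  exact ext_aux (uZ g) (x.mapExactFunctor (EtCoh.pull g))
    (hS.map_of_exact (EtCoh.pull g)).extClass φ.τ₁ φ.τ₃ hS'.extClass hn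

instance isIso_uZ : IsIso (uZ g) := by
  rw [uZ]
  infer_instance

/-- in degree zero, `H⁰(Y, g_* G') ⟶ H⁰(Y', G')` is bijective -/
theorem Hmap_zero_bijective (G' : EtCoh.Ab Y') :
    Function.Bijective (Hmap g (𝟙 ((EtCoh.push g).obj G')) 0) := by
  have key : ∀ φ : Z Y ⟶ (EtCoh.push g).obj G',
      Hmap g (𝟙 ((EtCoh.push g).obj G')) 0 (Ext.mk₀ φ) =
        Ext.mk₀ (uZ g ≫ ((adj g).homEquiv _ _).symm φ) := by
    intro φ
    rw [Hmap, ExtPull.hmap_apply, Ext.mk₀_comp_mk₀, Ext.mapExactFunctor_mk₀, Ext.mk₀_comp_mk₀,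
      Ext.mk₀_comp_mk₀, Adjunction.homEquiv_counit]
    simp
  constructor
  · intro x y hxy
    obtain ⟨φ, rfl⟩ := (Ext.mk₀_bijective _ _).2 x
    obtain ⟨ψ, rfl⟩ := (Ext.mk₀_bijective _ _).2 y
    rw [key, key] at hxy
    have h1 := (Ext.mk₀_bijective _ _).1 hxy
    rw [cancel_epi] at h1
    rw [((adj g).homEquiv _ _).symm.injective h1]
  · intro y
    obtain ⟨ψ, rfl⟩ := (Ext.mk₀_bijective _ _).2 y
    refine ⟨Ext.mk₀ ((adj g).homEquiv _ _ (inv (uZ g) ≫ ψ)), ?_⟩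
    rw [key, Equiv.symm_apply_apply, IsIso.hom_inv_id_assoc]

end HmapLemmas

end Groth.Agent.H1.LimCoh
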