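import Groth.Agent.Lib.Helper1.LimCohGeomA

/-!
# Local representatives of sections on the limit (helper1)

`Rep L V σ j hj`: a local representative at stage `j` of the section `σ` of `𝓕` over the base change of `V`.
`h0Surj_of_locRep`: if sections on the limit are locally represented at finite stages (`LocRep`) and the
system satisfies `H0Inj`, then it satisfies `H0Surj`.
-/

set_option autoImplicit false
set_option linter.unusedSectionVars false
universe u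
open CategoryTheory CategoryTheory.Limits AlgebraicGeometry Opposite

namespace Groth.Agent.H1.LimCoh

open Groth.Agent.Lib.helper27 Groth.Agent.Lib.helper27.PullFunEt Groth.Agent.H1.EtCartan
  Groth.Agent.H1.FiltSecEt

section Aux

variable {C : Type*} [Category C]

lemma map_map (P : Cᵒᵖ ⥤ AddCommGrpCat.{u + 1}) {A B D : C} (f : A ⟶ B) (g : B ⟶ D)
    (x : P.obj (op D)) : P.map f.op (P.map g.op x) = P.map (f ≫ g).op x := by
  rw [op_comp, P.map_comp]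
  rfl

lemma map_id' (P : Cᵒᵖ ⥤ AddCommGrpCat.{u + 1}) {A : C} (f : A ⟶ A) (hf : f = 𝟙 A)
    (x : P.obj (op A)) : P.map f.op x = x := by
  subst hf
  rw [op_id, P.map_id]
  rfl

lemma coh_aux {P Q R T Vl Wl Kj K' R' Kk M : C} (tW : P ⟶ Q) (bg : Q ⟶ R) (tV : R ⟶ T)
    (prV : T ⟶ Vl) (prR : R ⟶ Kj) (prKj : Kj ⟶ Vl) (prQ : Q ⟶ Wl) (gl : Wl ⟶ Kj) (prP : P ⟶ K')
    (prK' : K' ⟶ Wl) (bg' : P ⟶ R') (tV' : R' ⟶ T) (prR' : R' ⟶ Kk) (prKk : Kk ⟶ Vl)
    (g'l : K' ⟶ Kk) (bgk : K' ⟶ M) (ρ : M ⟶ Kk) (prM : M ⟶ Kj)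
    (c1 : tV ≫ prV = prR ≫ prKj) (c2 : bg ≫ prR = prQ ≫ gl) (c3 : tW ≫ prQ = prP ≫ prK')
    (c4 : tV' ≫ prV = prR' ≫ prKk) (c5 : bg' ≫ prR' = prP ≫ g'l) (c6 : g'l = bgk ≫ ρ)
    (c7 : ρ ≫ prKk = prM ≫ prKj) (c8 : bgk ≫ prM = prK' ≫ gl) :
    (tW ≫ bg ≫ tV) ≫ prV = (bg' ≫ tV') ≫ prV := by
  simp only [Category.assoc]
  rw [c1, reassoc_of% c2, reassoc_of% c3, c4, reassoc_of% c5, c6]
  simp only [Category.assoc]
  rw [c7, reassoc_of% c8]

end Aux

section BcFp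

variable {X' Y : Scheme.{u}} (u : X' ⟶ Y)

lemma bc_fp_aux {C : Type*} [Category C] {Zl B₁ B U Vl : C} (z₁l : Zl ⟶ B₁) (pr₁ : B₁ ⟶ Vl)
    (f₁l : Vl ⟶ U) (m₁ : B₁ ⟶ B) (prU : B ⟶ U) (c1 : m₁ ≫ prU = pr₁ ≫ f₁l) :
    (z₁l ≫ pr₁) ≫ f₁l = (z₁l ≫ m₁) ≫ prU := by
  simp only [Category.assoc]
  rw [c1]

theorem bc_fp_lift {U V₁ V₂ : Y.Etale} (f₁ : V₁ ⟶ U) (f₂ : V₂ ⟶ U) (Z : X'.Etale)
    (z₁ : Z ⟶ (EtCoh.bc u).obj V₁) (z₂ : Z ⟶ (EtCoh.bc u).obj V₂)
    (h : z₁ ≫ (EtCoh.bc u).map f₁ = z₂ ≫ (EtCoh.bc u).map f₂) :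
    ∃ m : Z ⟶ (EtCoh.bc u).obj (fp f₁ f₂), m ≫ (EtCoh.bc u).map (fp₁ f₁ f₂) = z₁ ∧
      m ≫ (EtCoh.bc u).map (fp₂ f₁ f₂) = z₂ := by
  have hcomm : (z₁.left ≫ pr u V₁) ≫ f₁.left = (z₂.left ≫ pr u V₂) ≫ f₂.left := by
    have e1 := bc_fp_aux z₁.left (pr u V₁) f₁.left ((EtCoh.bc u).map f₁).left (pr u U)
      (bc_map_pr u f₁)
    have e2 := bc_fp_aux z₂.left (pr u V₂) f₂.left ((EtCoh.bc u).map f₂).left (pr u U)
      (bc_map_pr u f₂)
    have e3 : z₁.left ≫ ((EtCoh.bc u).map f₁).left = z₂.left ≫ ((EtCoh.bc u).map f₂).left :=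
      congrArg (fun k => k.left) h
    rw [e1, e2, e3]
  have hl : pullback.lift (f := f₁.left) (g := f₂.left) _ _ hcomm ≫ (fp f₁ f₂).hom = Z.hom ≫ u := by
    change pullback.lift _ _ hcomm ≫ pullback.fst f₁.left f₂.left ≫ V₁.hom = Z.hom ≫ u
    rw [pullback.lift_fst_assoc, Category.assoc, pr_condition u V₁, ← Category.assoc]
    congr 1
    exact MorphismProperty.Over.w z₁
  let m : Z ⟶ (EtCoh.bc u).obj (fp f₁ f₂) :=
    MorphismProperty.Over.homMk (pullback.lift _ _ hl) (pullback.lift_snd _ _ _) trivial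
  have hm : m.left ≫ pr u (fp f₁ f₂) = pullback.lift _ _ hcomm := pullback.lift_fst _ _ _
  refine ⟨m, ?_, ?_⟩
  · apply bc_hom_ext
    change (m.left ≫ ((EtCoh.bc u).map (fp₁ f₁ f₂)).left) ≫ pr u V₁ = z₁.left ≫ pr u V₁
    rw [Category.assoc, bc_map_pr u (fp₁ f₁ f₂), ← Category.assoc, hm]
    exact pullback.lift_fst _ _ _
  · apply bc_hom_ext
    change (m.left ≫ ((EtCoh.bc u).map (fp₂ f₁ f₂)).left) ≫ pr u V₂ = z₂.left ≫ pr u V₂
    rw [Category.assoc, bc_map_pr u (fp₂ f₁ f₂), ← Category.assoc, hm]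
    exact pullback.lift_snd _ _ _

end BcFp

variable {ι : Type u} [Preorder ι] {Xs : ιᵒᵖ ⥤ Scheme.{u}} {c : Cone Xs} {S : Sys Xs}

section SectionLevel

variable (L : LimData c S)

lemma lam_theta_app {j k : ι} (hjk : j ≤ k) (W : (Xs.obj (op j)).Etale)
    (s : (S.F j).obj.obj (op W)) :
    (L.lam k).hom.app (op ((EtCoh.bc (tr Xs hjk)).obj W)) ((S.θ hjk).hom.app (op W) s) =
      L.𝓕.obj.map ((bcTri (pj Xs c k) (tr Xs hjk) (pj Xs c j) (pj_tr Xs c hjk)).hom.app W).op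
        ((L.lam j).hom.app (op W) s) := by
  have h1 : (L.lam j).hom.app (op W) s =
      L.𝓕.obj.map ((bcTri (pj Xs c k) (tr Xs hjk) (pj Xs c j) (pj_tr Xs c hjk)).inv.app W).op
        ((L.lam k).hom.app (op ((EtCoh.bc (tr Xs hjk)).obj W)) ((S.θ hjk).hom.app (op W) s)) := by
    have h2 := pushTri_hom_app (pj Xs c k) (tr Xs hjk) (pj Xs c j) (pj_tr Xs c hjk) L.𝓕 W
    have h3 := congrArg (fun φ => φ.hom.app (op W)) (L.compat hjk)
    exact (ConcreteCategory.congr_hom h3 s).trans (ConcreteCategory.congr_hom h2 _)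
  have h4 : (bcTri (pj Xs c k) (tr Xs hjk) (pj Xs c j) (pj_tr Xs c hjk)).hom.app W ≫
      (bcTri (pj Xs c k) (tr Xs hjk) (pj Xs c j) (pj_tr Xs c hjk)).inv.app W = 𝟙 _ :=
    Iso.hom_inv_id_app (bcTri (pj Xs c k) (tr Xs hjk) (pj Xs c j) (pj_tr Xs c hjk)) W
  rw [h1]
  exact ((map_map L.𝓕.obj _ _ _).trans (map_id' L.𝓕.obj _ h4 _)).symm

lemma theta_trans_app (S : Sys Xs) {j k l : ι} (hjk : j ≤ k) (hkl : k ≤ l)
    (W : (Xs.obj (op j)).Etale) (s : (S.F j).obj.obj (op W)) :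
    (S.θ (hjk.trans hkl)).hom.app (op W) s =
      (S.F l).obj.map ((bcTri (tr Xs hkl) (tr Xs hjk) (tr Xs (hjk.trans hkl))
        (tr_comp Xs hjk hkl)).inv.app W).op
        ((S.θ hkl).hom.app (op ((EtCoh.bc (tr Xs hjk)).obj W)) ((S.θ hjk).hom.app (op W) s)) := by
  have h2 := pushTri_hom_app (tr Xs hkl) (tr Xs hjk) (tr Xs (hjk.trans hkl))
    (tr_comp Xs hjk hkl) (S.F l) W
  have h3 := congrArg (fun φ => φ.hom.app (op W)) (S.cocycle hjk hkl)
  exact (ConcreteCategory.congr_hom h3 s).trans (ConcreteCategory.congr_hom h2 _)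

end SectionLevel

section Rep

variable (L : LimData c S) {i : ι} (V : (Xs.obj (op i)).Etale)
  (σ : L.𝓕.obj.obj (op ((EtCoh.bc (pj Xs c i)).obj V)))

/-- the base change of `V` to stage `j` -/
noncomputable abbrev Vat {j : ι} (hj : i ≤ j) : (Xs.obj (op j)).Etale := (EtCoh.bc (tr Xs hj)).obj V

/-- the identification of the base changes to the limit -/
noncomputable abbrev tauV {j : ι} (hj : i ≤ j) :
    (EtCoh.bc (pj Xs c j)).obj (Vat V hj) ≅ (EtCoh.bc (pj Xs c i)).obj V :=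
  (bcTri (pj Xs c j) (tr Xs hj) (pj Xs c i) (pj_tr Xs c hj)).app V

/-- the section `σ` at stage `j` -/
noncomputable def sigAt {j : ι} (hj : i ≤ j) :
    ((EtCoh.push (pj Xs c j)).obj L.𝓕).obj.obj (op (Vat V hj)) :=
  L.𝓕.obj.map (tauV (c := c) V hj).hom.op σ

/-- a local representative of `σ` at stage `j` -/
structure Rep (j : ι) (hj : i ≤ j) where
  /-- the étale `X_j`-scheme -/
  W : (Xs.obj (op j)).Etale
  hW : good W
  /-- its map to the base change of `V` -/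
  g : W ⟶ Vat V hj
  /-- the section -/
  s : (S.F j).obj.obj (op W)
  hs : (L.lam j).hom.app (op W) s =
    ((EtCoh.push (pj Xs c j)).obj L.𝓕).obj.map g.op (sigAt L V σ hj)

variable {L V σ}

/-- the morphism to the base change of `V` to the limit -/
noncomputable def Rep.β {j : ι} {hj : i ≤ j} (r : Rep L V σ j hj) :
    (EtCoh.bc (pj Xs c j)).obj r.W ⟶ (EtCoh.bc (pj Xs c i)).obj V :=
  (EtCoh.bc (pj Xs c j)).map r.g ≫ (tauV V hj).hom

/-- the point `x` is in the image of the representative -/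
def Rep.covers {j : ι} {hj : i ≤ j} (r : Rep L V σ j hj)
    (x : ((EtCoh.bc (pj Xs c i)).obj V).left) : Prop :=
  ∃ y, r.β.left.base y = x

lemma coh {j k : ι} (hj : i ≤ j) (hjk : j ≤ k) {W : (Xs.obj (op j)).Etale} (g : W ⟶ Vat V hj) :
    (bcTri (pj Xs c k) (tr Xs hjk) (pj Xs c j) (pj_tr Xs c hjk)).hom.app W ≫
      (EtCoh.bc (pj Xs c j)).map g ≫ (tauV (c := c) V hj).hom =
    (EtCoh.bc (pj Xs c k)).map ((EtCoh.bc (tr Xs hjk)).map g ≫
      (bcTri (tr Xs hjk) (tr Xs hj) (tr Xs (hj.trans hjk)) (tr_comp Xs hj hjk)).hom.app V) ≫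
        (tauV (c := c) V (hj.trans hjk)).hom := by
  apply bc_hom_ext
  exact coh_aux _ _ _ _ _ _ _ _ _ _ _ _ _ _ _ _ _ _
    (bcTri_hom_pr (pj Xs c j) (tr Xs hj) (pj Xs c i) (pj_tr Xs c hj) V)
    (bc_map_pr (pj Xs c j) g)
    (bcTri_hom_pr (pj Xs c k) (tr Xs hjk) (pj Xs c j) (pj_tr Xs c hjk) W)
    (bcTri_hom_pr (pj Xs c k) (tr Xs (hj.trans hjk)) (pj Xs c i) (pj_tr Xs c (hj.trans hjk)) V)
    (bc_map_pr (pj Xs c k) ((EtCoh.bc (tr Xs hjk)).map g ≫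
      (bcTri (tr Xs hjk) (tr Xs hj) (tr Xs (hj.trans hjk)) (tr_comp Xs hj hjk)).hom.app V))
    rfl
    (bcTri_hom_pr (tr Xs hjk) (tr Xs hj) (tr Xs (hj.trans hjk)) (tr_comp Xs hj hjk) V)
    (bc_map_pr (tr Xs hjk) g)

variable (haff : ∀ ⦃a b : ιᵒᵖ⦄ (h : a ⟶ b), IsAffineHom (Xs.map h))

include haff in
lemma good_bc_tr {j k : ι} (hjk : j ≤ k) (W : (Xs.obj (op j)).Etale) (hW : good W) :
    good ((EtCoh.bc (tr Xs hjk)).obj W) := by
  haveI : IsAffineHom (tr Xs hjk) := haff _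
  exact good_bc' (tr Xs hjk) W hW

/-- transport of a representative to a later stage -/
noncomputable def Rep.transport {j : ι} {hj : i ≤ j} (r : Rep L V σ j hj) {k : ι} (hjk : j ≤ k) :
    Rep L V σ k (hj.trans hjk) where
  W := (EtCoh.bc (tr Xs hjk)).obj r.W
  hW := good_bc_tr haff hjk r.W r.hW
  g := (EtCoh.bc (tr Xs hjk)).map r.g ≫
    (bcTri (tr Xs hjk) (tr Xs hj) (tr Xs (hj.trans hjk)) (tr_comp Xs hj hjk)).hom.app V
  s := (S.θ hjk).hom.app (op r.W) r.s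
  hs := by
    rw [lam_theta_app, r.hs]
    have h1 := coh (c := c) hj hjk r.g
    exact ((map_map L.𝓕.obj _ _ _).trans ((map_map L.𝓕.obj _ _ _).trans
      ((congrArg (fun m => L.𝓕.obj.map m.op σ) h1).trans (map_map L.𝓕.obj _ _ _).symm)))

lemma Rep.transport_β {j : ι} {hj : i ≤ j} (r : Rep L V σ j hj) {k : ι} (hjk : j ≤ k) :
    (r.transport haff hjk).β =
      (bcTri (pj Xs c k) (tr Xs hjk) (pj Xs c j) (pj_tr Xs c hjk)).hom.app r.W ≫ r.β :=
  (coh (c := c) hj hjk r.g).symm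

lemma Rep.transport_covers {j : ι} {hj : i ≤ j} (r : Rep L V σ j hj) {k : ι} (hjk : j ≤ k)
    (x : ((EtCoh.bc (pj Xs c i)).obj V).left) (hx : r.covers x) :
    (r.transport haff hjk).covers x := by
  obtain ⟨y, hy⟩ := hx
  refine ⟨((bcTri (pj Xs c k) (tr Xs hjk) (pj Xs c j) (pj_tr Xs c hjk)).inv.app r.W).left.base y, ?_⟩
  rw [Rep.transport_β]
  have h1 : ((bcTri (pj Xs c k) (tr Xs hjk) (pj Xs c j) (pj_tr Xs c hjk)).inv.app r.W).left ≫
      ((bcTri (pj Xs c k) (tr Xs hjk) (pj Xs c j) (pj_tr Xs c hjk)).hom.app r.W ≫ r.β).left =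
        r.β.left := by
    have h2 : (bcTri (pj Xs c k) (tr Xs hjk) (pj Xs c j) (pj_tr Xs c hjk)).inv.app r.W ≫
        (bcTri (pj Xs c k) (tr Xs hjk) (pj Xs c j) (pj_tr Xs c hjk)).hom.app r.W ≫ r.β = r.β := by
      rw [Iso.inv_hom_id_app_assoc]
    exact congrArg (fun m => m.left) h2
  have h3 := congrArg (fun m => m.base y) h1
  simp only [Scheme.Hom.comp_base, TopCat.comp_app] at h3
  exact h3.trans hy

end Rep

section Main

variable [IsDirected ι (· ≤ ·)] [Nonempty ι] (hc : IsLimit c)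
  (haff : ∀ ⦃a b : ιᵒᵖ⦄ (h : a ⟶ b), IsAffineHom (Xs.map h))
  [∀ i : ι, CompactSpace (Xs.obj (op i))] [∀ i : ι, QuasiSeparatedSpace (Xs.obj (op i))]
  (L : LimData c S)

/-- sections on the limit are locally represented at finite stages -/
def LocRep (L : LimData c S) : Prop :=
  ∀ (i : ι) (V : (Xs.obj (op i)).Etale), good V →
    ∀ (σ : L.𝓕.obj.obj (op ((EtCoh.bc (pj Xs c i)).obj V)))
      (x : ((EtCoh.bc (pj Xs c i)).obj V).left),
      ∃ (j : ι) (hj : i ≤ j) (r : Rep L V σ j hj), r.covers x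

include hc haff in
lemma good_bc_pj (i : ι) (V : (Xs.obj (op i)).Etale) (hV : good V) :
    good ((EtCoh.bc (pj Xs c i)).obj V) := by
  have hD' : ∀ {a b : ιᵒᵖ} (f : a ⟶ b), IsAffineHom (Xs.map f) := fun f => haff f
  haveI : IsAffineHom (pj Xs c i) := isAffineHom_π_app Xs c hc (op i)
  exact good_bc' (pj Xs c i) V hV

variable {i : ι} {V : (Xs.obj (op i)).Etale} {σ : L.𝓕.obj.obj (op ((EtCoh.bc (pj Xs c i)).obj V))}

include hc haff in
lemma exists_fin_reps (hLR : LocRep L) (hV : good V) :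
    ∃ (n : ℕ) (j : Fin n → ι) (hj : ∀ a, i ≤ j a) (r : ∀ a, Rep L V σ (j a) (hj a)),
      ∀ x, ∃ a, (r a).covers x := by
  classical
  haveI := (good_bc_pj hc haff i V hV).1
  choose j hj r hr using hLR i V hV σ
  have hopen : ∀ x, IsOpen (Set.range (r x).β.left.base) := fun x => by
    haveI := Groth.Agent.H1.EtGerm.etale_left (r x).β
    exact (r x).β.left.isOpenMap.isOpen_range
  obtain ⟨t, ht⟩ := isCompact_univ.elim_finite_subcover (fun x => Set.range (r x).β.left.base)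
    hopen (fun x _ => Set.mem_iUnion.2 ⟨x, hr x⟩)
  refine ⟨t.card, fun a => j (t.equivFin.symm a).1, fun a => hj _, fun a => r _, fun x => ?_⟩
  have hx := ht (Set.mem_univ x)
  simp only [Set.mem_iUnion] at hx
  obtain ⟨b, hb, hx⟩ := hx
  refine ⟨t.equivFin ⟨b, hb⟩, ?_⟩
  have hab : (t.equivFin.symm (t.equivFin ⟨b, hb⟩)).1 = b := by simp
  change (r (t.equivFin.symm (t.equivFin ⟨b, hb⟩)).1).covers x
  rw [hab]
  exact hx

include hc haff in
lemma exists_common_stage (hLR : LocRep L) (hV : good V) :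
    ∃ (n : ℕ) (j : ι) (hj : i ≤ j) (r : Fin n → Rep L V σ j hj), ∀ x, ∃ a, (r a).covers x := by
  classical
  obtain ⟨n, j, hj, r, hr⟩ := exists_fin_reps (σ := σ) hc haff L hLR hV
  obtain ⟨j₁, hj₁⟩ := Finset.exists_le (insert i (Finset.univ.image j))
  have hi : i ≤ j₁ := hj₁ i (Finset.mem_insert_self _ _)
  have hja : ∀ a, j a ≤ j₁ := fun a =>
    hj₁ (j a) (Finset.mem_insert_of_mem (Finset.mem_image_of_mem j (Finset.mem_univ a)))
  refine ⟨n, j₁, hi, fun a => (r a).transport haff (hja a), fun x => ?_⟩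
  obtain ⟨a, ha⟩ := hr x
  exact ⟨a, (r a).transport_covers haff (hja a) x ha⟩

include hc haff in
lemma exists_js_stage (hLR : LocRep L) (hV : good V) :
    ∃ (n : ℕ) (k : ι) (hk : i ≤ k) (r : Fin n → Rep L V σ k hk),
      JS (fun a => (r a).W) (fun a => (r a).g) := by
  obtain ⟨n, j, hj, r, hr⟩ := exists_common_stage (σ := σ) hc haff L hLR hV
  have h1 : JS (fun a => (EtCoh.bc (pj Xs c j)).obj (r a).W) (fun a => (r a).β) := hr
  have h2 := h1.comp_iso (tauV (c := c) V hj).symm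
  have h3 : (fun a => (r a).β ≫ (tauV (c := c) V hj).symm.hom) =
      fun a => (EtCoh.bc (pj Xs c j)).map (r a).g := by
    funext a
    change ((EtCoh.bc (pj Xs c j)).map (r a).g ≫ (tauV V hj).hom) ≫ (tauV V hj).inv = _
    rw [Category.assoc, Iso.hom_inv_id, Category.comp_id]
  rw [h3] at h2
  obtain ⟨k, hjk, h4⟩ := DL hc haff j (Vat V hj) (good_bc_tr haff hj V hV) (fun a => (r a).W)
    (fun a => (r a).g) h2
  exact ⟨n, k, hj.trans hjk, fun a => (r a).transport haff hjk,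
    h4.comp_iso ((bcTri (tr Xs hjk) (tr Xs hj) (tr Xs (hj.trans hjk)) (tr_comp Xs hj hjk)).app V)⟩

end Main


end Groth.Agent.H1.LimCoh
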