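import Groth.Agent.Lib.Helper1.LimCohLoc

/-!
# Gluing local representatives (helper1)

`h0Surj_of_locRep`: if sections on the limit are locally represented at finite stages (`LocRep`) and the
system satisfies `H0Inj`, then it satisfies `H0Surj`.
-/

set_option autoImplicit false
set_option linter.unusedSectionVars false
universe u
open CategoryTheory CategoryTheory.Limits AlgebraicGeometry Opposite

namespace Groth.Agent.H1.LimCoh

open Groth.Agent.Lib.helper27 Groth.Agent.Lib.helper27.PullFunEt Groth.Agent.H1.EtCartan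
  Groth.Agent.H1.FiltSecEt

variable {ι : Type u} [Preorder ι] {Xs : ιᵒᵖ ⥤ Scheme.{u}} {c : Cone Xs} {S : Sys Xs}

section Main

variable [IsDirected ι (· ≤ ·)] [Nonempty ι] (hc : IsLimit c)
  (haff : ∀ ⦃a b : ιᵒᵖ⦄ (h : a ⟶ b), IsAffineHom (Xs.map h))
  [∀ i : ι, CompactSpace (Xs.obj (op i))] [∀ i : ι, QuasiSeparatedSpace (Xs.obj (op i))]
  (L : LimData c S)

variable {i : ι} {V : (Xs.obj (op i)).Etale} {σ : L.𝓕.obj.obj (op ((EtCoh.bc (pj Xs c i)).obj V))}

lemma overlap_eq {k : ι} {hk : i ≤ k} (ra rb : Rep L V σ k hk) :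
    (L.lam k).hom.app (op (fp ra.g rb.g)) ((S.F k).obj.map (fp₁ ra.g rb.g).op ra.s) =
      (L.lam k).hom.app (op (fp ra.g rb.g)) ((S.F k).obj.map (fp₂ ra.g rb.g).op rb.s) := by
  have n1 := NatTrans.naturality_apply (L.lam k).hom (fp₁ ra.g rb.g).op ra.s
  have n2 := NatTrans.naturality_apply (L.lam k).hom (fp₂ ra.g rb.g).op rb.s
  have e1 := n1.trans ((congrArg
    (fun t => ((EtCoh.push (pj Xs c k)).obj L.𝓕).obj.map (fp₁ ra.g rb.g).op t) ra.hs).trans
    (map_map ((EtCoh.push (pj Xs c k)).obj L.𝓕).obj (fp₁ ra.g rb.g) ra.g (sigAt L V σ hk)))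
  have e2 := n2.trans ((congrArg
    (fun t => ((EtCoh.push (pj Xs c k)).obj L.𝓕).obj.map (fp₂ ra.g rb.g).op t) rb.hs).trans
    (map_map ((EtCoh.push (pj Xs c k)).obj L.𝓕).obj (fp₂ ra.g rb.g) rb.g (sigAt L V σ hk)))
  have e3 : ((EtCoh.push (pj Xs c k)).obj L.𝓕).obj.map (fp₁ ra.g rb.g ≫ ra.g).op (sigAt L V σ hk) =
      ((EtCoh.push (pj Xs c k)).obj L.𝓕).obj.map (fp₂ ra.g rb.g ≫ rb.g).op (sigAt L V σ hk) := by
    rw [fp_condition]
  exact e1.trans (e3.trans e2.symm)

include haff in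
lemma glue_reps (hI : H0Inj S L) (hV : good V) {n : ℕ} {k : ι} {hk : i ≤ k}
    (r : Fin n → Rep L V σ k hk) (hjs : JS (fun a => (r a).W) (fun a => (r a).g)) :
    ∃ (k' : ι) (hk' : i ≤ k') (s : (S.F k').obj.obj (op (Vat V hk'))),
      (L.lam k').hom.app (op (Vat V hk')) s = sigAt L V σ hk' := by
  classical
  have hgV : good (Vat V hk) := good_bc_tr haff hk V hV
  -- the differences on the overlaps
  have hd : ∀ a b : Fin n, ∃ (k₁ : ι) (h₁ : k ≤ k₁),
      (S.θ h₁).hom.app (op (fp (r a).g (r b).g))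
        ((S.F k).obj.map (fp₁ (r a).g (r b).g).op (r a).s -
          (S.F k).obj.map (fp₂ (r a).g (r b).g).op (r b).s) = 0 := by
    intro a b
    apply hI k _ (good_fp _ _ (r a).hW (r b).hW hgV)
    exact (map_sub _ _ _).trans (sub_eq_zero.2 (overlap_eq L (r a) (r b)))
  choose k₁ h₁ hz using hd
  obtain ⟨k', hk'⟩ := Finset.exists_le (insert k (Finset.univ.image (fun p : Fin n × Fin n => k₁ p.1 p.2)))
  have hkk' : k ≤ k' := hk' k (Finset.mem_insert_self _ _)
  have hab : ∀ a b, k₁ a b ≤ k' := fun a b => hk' (k₁ a b) (Finset.mem_insert_of_mem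
    (Finset.mem_image_of_mem (fun p : Fin n × Fin n => k₁ p.1 p.2) (Finset.mem_univ (a, b))))
  have hz' : ∀ a b, (S.θ hkk').hom.app (op (fp (r a).g (r b).g))
      ((S.F k).obj.map (fp₁ (r a).g (r b).g).op (r a).s -
        (S.F k).obj.map (fp₂ (r a).g (r b).g).op (r b).s) = 0 := by
    intro a b
    have h2 := theta_trans_app S (h₁ a b) (hab a b) (fp (r a).g (r b).g)
      ((S.F k).obj.map (fp₁ (r a).g (r b).g).op (r a).s -
        (S.F k).obj.map (fp₂ (r a).g (r b).g).op (r b).s)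
    rw [hz a b] at h2
    exact h2.trans ((congrArg (fun t => (S.F k').obj.map ((bcTri (tr Xs (hab a b)) (tr Xs (h₁ a b))
      (tr Xs ((h₁ a b).trans (hab a b))) (tr_comp Xs (h₁ a b) (hab a b))).inv.app
        (fp (r a).g (r b).g)).op t) (map_zero _)).trans (map_zero _))
  -- the transported family
  have hjs' : JS (fun a => ((r a).transport haff hkk').W) (fun a => ((r a).transport haff hkk').g) :=
    (hjs.bc (tr Xs hkk')).comp_iso
      ((bcTri (tr Xs hkk') (tr Xs hk) (tr Xs (hk.trans hkk')) (tr_comp Xs hk hkk')).app V)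
  have hagree : ∀ (a b : Fin n) (Z : (Xs.obj (op k')).Etale)
      (z₁ : Z ⟶ ((r a).transport haff hkk').W) (z₂ : Z ⟶ ((r b).transport haff hkk').W),
      z₁ ≫ ((r a).transport haff hkk').g = z₂ ≫ ((r b).transport haff hkk').g →
        (S.F k').obj.map z₁.op ((r a).transport haff hkk').s =
          (S.F k').obj.map z₂.op ((r b).transport haff hkk').s := by
    intro a b Z z₁ z₂ hz12
    have h3 : z₁ ≫ (EtCoh.bc (tr Xs hkk')).map (r a).g = z₂ ≫ (EtCoh.bc (tr Xs hkk')).map (r b).g := by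
      have h4 : (z₁ ≫ (EtCoh.bc (tr Xs hkk')).map (r a).g) ≫
          (bcTri (tr Xs hkk') (tr Xs hk) (tr Xs (hk.trans hkk')) (tr_comp Xs hk hkk')).hom.app V =
          (z₂ ≫ (EtCoh.bc (tr Xs hkk')).map (r b).g) ≫
          (bcTri (tr Xs hkk') (tr Xs hk) (tr Xs (hk.trans hkk')) (tr_comp Xs hk hkk')).hom.app V := by
        simp only [Category.assoc]
        exact hz12
      exact (cancel_mono _).1 h4
    obtain ⟨m, hm1, hm2⟩ := bc_fp_lift (tr Xs hkk') (r a).g (r b).g Z z₁ z₂ h3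
    have n1 := NatTrans.naturality_apply (S.θ hkk').hom (fp₁ (r a).g (r b).g).op (r a).s
    have n2 := NatTrans.naturality_apply (S.θ hkk').hom (fp₂ (r a).g (r b).g).op (r b).s
    have h5 := hz' a b
    rw [map_sub, sub_eq_zero, n1, n2] at h5
    have h6 := congrArg ((S.F k').obj.map m.op) h5
    have e1 := map_map (S.F k').obj m ((EtCoh.bc (tr Xs hkk')).map (fp₁ (r a).g (r b).g))
      ((S.θ hkk').hom.app (op (r a).W) (r a).s)
    have e2 := map_map (S.F k').obj m ((EtCoh.bc (tr Xs hkk')).map (fp₂ (r a).g (r b).g))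
      ((S.θ hkk').hom.app (op (r b).W) (r b).s)
    rw [hm1] at e1
    rw [hm2] at e2
    exact e1.symm.trans (h6.trans e2)
  obtain ⟨s, hs⟩ := Groth.Agent.H1.FiltSec.sheaf_glue (S.F k')
    (fun a => ((r a).transport haff hkk').W) (fun a => ((r a).transport haff hkk').g) hjs'.mem
    (fun a => ((r a).transport haff hkk').s) hagree
  refine ⟨k', hk.trans hkk', s, ?_⟩
  apply Groth.Agent.H1.FiltSec.sheaf_ext ((EtCoh.push (pj Xs c k')).obj L.𝓕)
    (fun a => ((r a).transport haff hkk').W) (fun a => ((r a).transport haff hkk').g) hjs'.mem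
  intro a
  have n3 := NatTrans.naturality_apply (L.lam k').hom ((r a).transport haff hkk').g.op s
  rw [← n3, hs a]
  exact ((r a).transport haff hkk').hs

include hc haff in
/-- local representability at finite stages and `H0Inj` imply `H0Surj` -/
theorem h0Surj_of_locRep (hI : H0Inj S L) (hLR : LocRep L) : H0Surj S L := by
  intro i V hV σ
  obtain ⟨n, k, hk, r, hjs⟩ := exists_js_stage (σ := σ) hc haff L hLR hV
  obtain ⟨k', hk', s, hs⟩ := glue_reps haff L hI hV r hjs
  refine ⟨k', hk', s, ?_⟩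
  rw [hs]
  have h1 : (tauV (c := c) V hk').inv ≫ (tauV (c := c) V hk').hom = 𝟙 _ := Iso.inv_hom_id _
  exact (map_map L.𝓕.obj _ _ _).trans (map_id' L.𝓕.obj _ h1 σ)

end Main

end Groth.Agent.H1.LimCoh
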