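import Groth.Agent.Lib.Helper1.LimCohH0
import Groth.Agent.Lib.Helper1.SuppSect

/-!
# Pushforward systems and the induction on the degree (helper1)

For a short exact sequence `T` of sheaves on the vertex `X` of the cone: `cokerSys T`, the system of the
cokernels of `(p_i)_* T.X₁ ⟶ (p_i)_* T.X₂`, with its limit datum `cokerLim T` (values in `T.X₃`).
`p_succ`: the colimit property in degree `n` for all pushforward systems, plus the sectionwise colimit
property of the cokernel systems, gives the colimit property in degree `n + 1`.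
-/

set_option autoImplicit false
set_option linter.unusedSectionVars false
universe u
open CategoryTheory CategoryTheory.Limits AlgebraicGeometry Opposite CategoryTheory.Abelian

namespace Groth.Agent.H1.LimCoh

open Groth.Agent.Lib.helper27 Groth.Agent.Lib.helper27.PullFunEt
  Groth.Agent.Lib.helper27.HpullHmap Groth.Agent.H1.EtCartan Groth.Agent.H1.EtFiltH

variable {ι : Type u} [Preorder ι] {Xs : ιᵒᵖ ⥤ Scheme.{u}} (c : Cone Xs)

section PushHom

/-- the morphism of pushforward systems induced by a morphism of sheaves -/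
noncomputable def pushSysHom {𝓐 𝓑 : EtCoh.Ab c.pt} (f : 𝓐 ⟶ 𝓑) :
    SysHom (pushSys c 𝓐) (pushSys c 𝓑) where
  f i := (EtCoh.push (pj Xs c i)).map f
  comm i j h := ((pushTri (pj Xs c j) (tr Xs h) (pj Xs c i) (pj_tr Xs c h)).inv.naturality f).symm

/-- the induced morphism of limit data -/
noncomputable def pushLimHom {𝓐 𝓑 : EtCoh.Ab c.pt} (f : 𝓐 ⟶ 𝓑) :
    LimHom (pushSysHom c f) (pushLim c 𝓐) (pushLim c 𝓑) where
  f := f
  comm i := (Category.id_comp _).trans (Category.comp_id _).symm

end PushHom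

section Coker

variable (T : ShortComplex (EtCoh.Ab c.pt))

/-- `(p_i)_*` of the first map -/
noncomputable abbrev pf (i : ι) : (EtCoh.push (pj Xs c i)).obj T.X₁ ⟶ (EtCoh.push (pj Xs c i)).obj T.X₂ :=
  (EtCoh.push (pj Xs c i)).map T.f

/-- the cokernel at stage `i` -/
noncomputable abbrev ck (i : ι) : EtCoh.Ab (Xs.obj (op i)) := cokernel (pf c T i)

lemma ck_θ_zero {i j : ι} (h : i ≤ j) :
    pf c T i ≫ (pushTri (pj Xs c j) (tr Xs h) (pj Xs c i) (pj_tr Xs c h)).inv.app T.X₂ ≫
      (EtCoh.push (tr Xs h)).map (cokernel.π (pf c T j)) = 0 := by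
  have h1 := (pushTri (pj Xs c j) (tr Xs h) (pj Xs c i) (pj_tr Xs c h)).inv.naturality T.f
  rw [← Category.assoc]
  erw [h1]
  rw [Category.assoc, Functor.comp_map, ← Functor.map_comp]
  have h2 : (EtCoh.push (pj Xs c j)).map T.f ≫ cokernel.π (pf c T j) = 0 := cokernel.condition _
  rw [h2, Functor.map_zero, comp_zero]

/-- the transition maps of the cokernel system -/
noncomputable def ckθ {i j : ι} (h : i ≤ j) : ck c T i ⟶ (EtCoh.push (tr Xs h)).obj (ck c T j) :=
  cokernel.desc (pf c T i)
    ((pushTri (pj Xs c j) (tr Xs h) (pj Xs c i) (pj_tr Xs c h)).inv.app T.X₂ ≫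
      (EtCoh.push (tr Xs h)).map (cokernel.π (pf c T j))) (ck_θ_zero c T h)

lemma π_ckθ {i j : ι} (h : i ≤ j) : cokernel.π (pf c T i) ≫ ckθ c T h =
    (pushTri (pj Xs c j) (tr Xs h) (pj Xs c i) (pj_tr Xs c h)).inv.app T.X₂ ≫
      (EtCoh.push (tr Xs h)).map (cokernel.π (pf c T j)) :=
  cokernel.π_desc _ _ _

/-- the system of the cokernels -/
noncomputable def cokerSys : Sys Xs where
  F i := ck c T i
  θ i j h := ckθ c T h
  cocycle i j k hij hjk := by
    rw [← cancel_epi (cokernel.π (pf c T i)), π_ckθ, ← Category.assoc, π_ckθ]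
    have hB := (pushSys c T.X₂).cocycle hij hjk
    change (pushTri (pj Xs c k) (tr Xs (hij.trans hjk)) (pj Xs c i) _).inv.app T.X₂ =
      (pushTri (pj Xs c j) (tr Xs hij) (pj Xs c i) _).inv.app T.X₂ ≫
        (EtCoh.push (tr Xs hij)).map ((pushTri (pj Xs c k) (tr Xs hjk) (pj Xs c j) _).inv.app T.X₂) ≫
          (pushTri (tr Xs hjk) (tr Xs hij) (tr Xs (hij.trans hjk)) _).hom.app _ at hB
    have hnat := (pushTri (tr Xs hjk) (tr Xs hij) (tr Xs (hij.trans hjk))
      (tr_comp Xs hij hjk)).hom.naturality (cokernel.π (pf c T k))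
    simp only [Functor.comp_map] at hnat
    rw [hB]
    simp only [Category.assoc]
    rw [← hnat, ← Functor.map_comp_assoc, ← Functor.map_comp_assoc, π_ckθ]
  unit i := by
    rw [← cancel_epi (cokernel.π (pf c T i)), π_ckθ]
    have hB := (pushSys c T.X₂).unit i
    change (pushTri (pj Xs c i) (tr Xs (le_refl i)) (pj Xs c i) _).inv.app T.X₂ = _ at hB
    rw [hB]
    exact ((pushIdIso' (tr Xs (le_refl i)) (tr_refl Xs i)).inv.naturality
      (cokernel.π (pf c T i))).symm

/-- the projection to the cokernel system -/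
noncomputable def cokerSysHom : SysHom (pushSys c T.X₂) (cokerSys c T) where
  f i := cokernel.π (pf c T i)
  comm i j h := (π_ckθ c T h).symm

lemma ck_lam_zero (i : ι) : pf c T i ≫ (EtCoh.push (pj Xs c i)).map T.g = 0 := by
  rw [← Functor.map_comp, T.zero, Functor.map_zero]

/-- the limit datum of the cokernel system -/
noncomputable def cokerLim : LimData c (cokerSys c T) where
  𝓕 := T.X₃
  lam i := cokernel.desc (pf c T i) ((EtCoh.push (pj Xs c i)).map T.g) (ck_lam_zero c T i)
  compat i j h := by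
    change cokernel.desc (pf c T i) ((EtCoh.push (pj Xs c i)).map T.g) (ck_lam_zero c T i) =
      ckθ c T h ≫ (EtCoh.push (tr Xs h)).map (cokernel.desc (pf c T j)
        ((EtCoh.push (pj Xs c j)).map T.g) (ck_lam_zero c T j)) ≫
          (pushTri (pj Xs c j) (tr Xs h) (pj Xs c i) (pj_tr Xs c h)).hom.app T.X₃
    rw [← cancel_epi (cokernel.π (pf c T i)), cokernel.π_desc]
    rw [← Category.assoc, π_ckθ]
    simp only [Category.assoc]
    rw [← Functor.map_comp_assoc, cokernel.π_desc]
    have hnat := (pushTri (pj Xs c j) (tr Xs h) (pj Xs c i) (pj_tr Xs c h)).hom.naturality T.g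
    simp only [Functor.comp_map] at hnat
    rw [hnat, Iso.inv_hom_id_app_assoc]

/-- the projection of limit data -/
noncomputable def cokerLimHom :
    LimHom (cokerSysHom c T) (pushLim c T.X₂) (cokerLim c T) where
  f := T.g
  comm i := (Category.id_comp _).trans (cokernel.π_desc _ _ _).symm

lemma mono_pf (hT : T.ShortExact) (i : ι) : Mono (pf c T i) := by
  haveI : PreservesLimitsOfSize.{0, 0} (EtCoh.push (pj Xs c i)) :=
    (EtCoh.pullPushAdj (pj Xs c i)).rightAdjoint_preservesLimits
  haveI := hT.mono_f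
  exact inferInstanceAs (Mono ((EtCoh.push (pj Xs c i)).map T.f))

lemma shortExact_level (hT : T.ShortExact) (i : ι) :
    (ShortComplex.mk (pf c T i) (cokernel.π (pf c T i)) (cokernel.condition _)).ShortExact := by
  haveI := mono_pf c T hT i
  exact
    { exact := ShortComplex.exact_cokernel _
      mono_f := inferInstanceAs (Mono (pf c T i))
      epi_g := inferInstanceAs (Epi (cokernel.π (pf c T i))) }

lemma mono_cokerLim_lam (hT : T.ShortExact) (i : ι) : Mono ((cokerLim c T).lam i) := by
  haveI : PreservesLimitsOfSize.{0, 0} (EtCoh.push (pj Xs c i)) :=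
    (EtCoh.pullPushAdj (pj Xs c i)).rightAdjoint_preservesLimits
  haveI := hT.mono_f
  have h1 := hT.exact.map_of_mono_of_preservesKernel (EtCoh.push (pj Xs c i)) hT.mono_f inferInstance
  exact h1.mono_cokernelDesc

theorem h0Inj_coker (hT : T.ShortExact) : H0Inj (cokerSys c T) (cokerLim c T) := by
  intro j W _ s hs
  haveI := mono_cokerLim_lam c T hT j
  have h1 : s = 0 := by
    apply Groth.Agent.H1.SuppSect.injective_app_of_mono ((cokerLim c T).lam j) W
    exact hs.trans (map_zero _).symm
  exact ⟨j, le_refl j, by rw [h1]; exact map_zero _⟩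

end Coker

section Induction

variable [IsDirected ι (· ≤ ·)]

/-- the colimit property in degree `n` for the pushforward systems -/
def PP (n : ℕ) : Prop :=
  ∀ 𝓕 : EtCoh.Ab c.pt, SurjA (pushSys c 𝓕) (pushLim c 𝓕) n ∧ InjA (pushSys c 𝓕) (pushLim c 𝓕) n

theorem p_zero [Nonempty ι] : PP c 0 := by
  intro 𝓕
  constructor
  · intro ξ
    obtain ⟨j⟩ := ‹Nonempty ι›
    obtain ⟨ξj, h⟩ := (Hmap_zero_bijective (pj Xs c j) 𝓕).2 ξ
    exact ⟨j, ξj, h⟩
  · intro j ξj h
    have h0 : ξj = 0 := by
      apply (Hmap_zero_bijective (pj Xs c j) 𝓕).1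
      exact h.trans (map_zero _).symm
    exact ⟨j, le_refl j, by rw [h0]; exact map_zero _⟩

variable (haff : ∀ ⦃a b : ιᵒᵖ⦄ (h : a ⟶ b), IsAffineHom (Xs.map h))
  [∀ i : ι, CompactSpace (Xs.obj (op i))] [∀ i : ι, QuasiSeparatedSpace (Xs.obj (op i))]

include haff in
theorem p_succ (n : ℕ) (hP : PP c n)
    (hH0 : ∀ (T : ShortComplex (EtCoh.Ab c.pt)), T.ShortExact → H0Surj (cokerSys c T) (cokerLim c T)) :
    PP c (n + 1) := by
  intro 𝓕
  let T : ShortComplex (EtCoh.Ab c.pt) :=
    ShortComplex.mk (Injective.ι 𝓕) (cokernel.π (Injective.ι 𝓕)) (cokernel.condition _)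
  have hT : T.ShortExact :=
    { exact := ShortComplex.exact_cokernel _
      mono_f := inferInstanceAs (Mono (Injective.ι 𝓕))
      epi_g := inferInstanceAs (Epi (cokernel.π (Injective.ι 𝓕))) }
  have hA := a_of_p haff (cokerLim c T) (h0Inj_coker c T hT) (hH0 T hT) n (hP T.X₃)
  have hv : ∀ x : EtCoh.H c.pt (pushLim c T.X₂).𝓕 (n + 1), x = 0 := by
    intro x
    haveI : Injective (pushLim c T.X₂).𝓕 := inferInstanceAs (Injective (Injective.under 𝓕))
    exact Ext.eq_zero_of_injective x
  have hvj : ∀ (i : ι) (x : EtCoh.H (Xs.obj (op i)) ((pushSys c T.X₂).F i) (n + 1)), x = 0 := by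
    intro i x
    haveI : Injective ((pushSys c T.X₂).F i) :=
      Injective.injective_of_adjoint (EtCoh.pullPushAdj (pj Xs c i)) (Injective.under 𝓕)
    exact Ext.eq_zero_of_injective x
  exact ⟨step_surj (pushSysHom c T.f) (cokerSysHom c T) (pushLimHom c T.f) (cokerLimHom c T)
      (fun i => cokernel.condition _) (shortExact_level c T hT) T.zero hT n hv hA.1,
    step_inj (pushSysHom c T.f) (cokerSysHom c T) (pushLimHom c T.f) (cokerLimHom c T)
      (fun i => cokernel.condition _) (shortExact_level c T hT) T.zero hT n hv hvj hA.2 (hP T.X₂).1⟩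

include haff in
theorem p_all [Nonempty ι]
    (hH0 : ∀ (T : ShortComplex (EtCoh.Ab c.pt)), T.ShortExact → H0Surj (cokerSys c T) (cokerLim c T))
    (n : ℕ) : PP c n := by
  induction n with
  | zero => exact p_zero c
  | succ n ih => exact p_succ c haff n ih hH0

end Induction

end Groth.Agent.H1.LimCoh
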