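import Groth.Agent.Lib.Helper1.LimCohLoc2
import Groth.Agent.Lib.Helper1.LimCohPush

/-!
# Étale cohomology of a cofiltered limit, pushforward coefficients (helper1)

`pp_all`: for a directed inverse system of qcqs schemes with affine transition maps and limit `X`, and an
abelian sheaf `𝓕` on `X`, `H^n(X, 𝓕)` is the colimit of the `H^n(X_i, (p_i)_* 𝓕)` (elementwise form).
-/

set_option autoImplicit false
set_option linter.unusedSectionVars false
universe u
open CategoryTheory CategoryTheory.Limits AlgebraicGeometry Opposite CategoryTheory.Abelian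

namespace Groth.Agent.H1.LimCoh

open Groth.Agent.Lib.helper27 Groth.Agent.Lib.helper27.PullFunEt
  Groth.Agent.Lib.helper27.HpullHmap Groth.Agent.H1.EtCartan

variable {ι : Type u} [Preorder ι] [IsDirected ι (· ≤ ·)] [Nonempty ι] {Xs : ιᵒᵖ ⥤ Scheme.{u}}
  {c : Cone Xs} (hc : IsLimit c) (haff : ∀ ⦃a b : ιᵒᵖ⦄ (h : a ⟶ b), IsAffineHom (Xs.map h))
  [∀ i : ι, CompactSpace (Xs.obj (op i))] [∀ i : ι, QuasiSeparatedSpace (Xs.obj (op i))]

include hc haff in
theorem locRep_coker (T : ShortComplex (EtCoh.Ab c.pt)) (hT : T.ShortExact) :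
    LocRep (cokerLim c T) := by
  intro i V hV σ x
  haveI := hT.epi_g
  obtain ⟨N, b, γ, ⟨hN, -, ⟨hsurj⟩⟩, hγ⟩ := exists_cover_lift T.g ((EtCoh.bc (pj Xs c i)).obj V)
    (good_bc_pj hc haff i V hV) σ
  obtain ⟨k, hk, W, hW, g, ε, hε'⟩ := objDesc hc haff i V hV N hN b
  have hε : ε.hom ≫ b = (EtCoh.bc (pj Xs c k)).map g ≫ (tauV (c := c) V hk).hom := hε'
  have hlam : ∀ y : ((EtCoh.push (pj Xs c k)).obj T.X₂).obj.obj (op W),
      ((cokerLim c T).lam k).hom.app (op W) ((cokernel.π (pf c T k)).hom.app (op W) y) =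
        ((EtCoh.push (pj Xs c k)).map T.g).hom.app (op W) y := by
    intro y
    have h1 : cokernel.π (pf c T k) ≫ (cokerLim c T).lam k = (EtCoh.push (pj Xs c k)).map T.g :=
      cokernel.π_desc _ _ _
    exact ConcreteCategory.congr_hom (congrArg (fun φ => φ.hom.app (op W)) h1) y
  refine ⟨k, hk,
    { W := W
      hW := hW
      g := g
      s := (cokernel.π (pf c T k)).hom.app (op W) (T.X₂.obj.map ε.hom.op γ)
      hs := ?_ }, ?_⟩
  · rw [hlam]
    have n1 := NatTrans.naturality_apply T.g.hom ε.hom.op γ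
    have e1 : T.X₃.obj.map ε.hom.op (T.g.hom.app (op N) γ) =
        T.X₃.obj.map ε.hom.op (T.X₃.obj.map b.op σ) := congrArg _ hγ
    have e2 := map_map T.X₃.obj ε.hom b σ
    have e3 : T.X₃.obj.map (ε.hom ≫ b).op σ = T.X₃.obj.map ((EtCoh.bc (pj Xs c k)).map g ≫
        (tauV (c := c) V hk).hom).op σ := by rw [hε]
    have e4 := map_map T.X₃.obj ((EtCoh.bc (pj Xs c k)).map g) (tauV (c := c) V hk).hom σ
    exact n1.trans (e1.trans (e2.trans (e3.trans e4.symm)))
  · obtain ⟨n, rfl⟩ := hsurj x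
    refine ⟨ε.inv.left.base n, ?_⟩
    have h2 : ε.inv ≫ ((EtCoh.bc (pj Xs c k)).map g ≫ (tauV (c := c) V hk).hom) = b := by
      rw [← hε, Iso.inv_hom_id_assoc]
    have h3 := congrArg (fun m => m.left.base n) h2
    exact h3

include hc haff in
/-- the colimit property for the pushforward systems, in all degrees -/
theorem pp_all (n : ℕ) : PP c n :=
  p_all c haff (fun T hT => h0Surj_of_locRep hc haff (cokerLim c T) (h0Inj_coker c T hT)
    (locRep_coker hc haff T hT)) n

end Groth.Agent.H1.LimCoh
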