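import Groth.Agent.Lib.Helper1.LimCohPullA
import Groth.Agent.Lib.Helper9.LimBaseChange

/-!
# Systems of sheaves induced by a big étale sheaf (helper1)

For an étale sheaf `Φ` on all schemes (e.g. `G_a`, `G_m`), the restrictions `Φ_{X_i}` to the small étale sites of an
inverse system form a system in the sense of `Sys`, with limit datum `Φ_X`.
-/

set_option autoImplicit false
set_option linter.unusedSectionVars false
universe u
open CategoryTheory CategoryTheory.Limits AlgebraicGeometry Opposite CategoryTheory.Abelian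

namespace Groth.Agent.H1.LimCoh

open Groth.Agent.Lib.helper27 Groth.Agent.Lib.helper27.PullFunEt
  Groth.Agent.Lib.helper27.HpullHmap Groth.Agent.H1.EtCartan

lemma map_op_comp3 {C : Type*} [Category C] (Φ : Cᵒᵖ ⥤ AddCommGrpCat.{u + 1}) {A B D E : C}
    (a : A ⟶ B) (b : B ⟶ D) (c : D ⟶ E) (t : A ⟶ E) (h : a ≫ b ≫ c = t) :
    Φ.map t.op = Φ.map c.op ≫ Φ.map b.op ≫ Φ.map a.op := by
  subst h
  simp

section Phi

variable (Φ : Scheme.{u}ᵒᵖ ⥤ AddCommGrpCat.{u + 1}) (hΦ : Presheaf.IsSheaf Scheme.etaleTopology Φ)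

/-- the restriction of `Φ` to the small étale site of `X` -/
noncomputable def phiSh (X : Scheme.{u}) : EtCoh.Ab X :=
  ((Scheme.Etale.forget X ⋙ Over.forget X).sheafPushforwardContinuous _ _ Scheme.etaleTopology).obj
    ⟨Φ, hΦ⟩

/-- functoriality of `Φ` in the scheme -/
noncomputable def phiPush {X Y : Scheme.{u}} (f : X ⟶ Y) :
    phiSh Φ hΦ Y ⟶ (EtCoh.push f).obj (phiSh Φ hΦ X) :=
  ObjectProperty.homMk (Functor.whiskerRight (NatTrans.op (EtLim.bcProj f)) Φ)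

lemma phiSh_map {X : Scheme.{u}} {U V : X.Etale} (g : U ⟶ V) :
    (phiSh Φ hΦ X).obj.map g.op = Φ.map g.left.op := rfl

lemma phiPush_app {X Y : Scheme.{u}} (f : X ⟶ Y) (V : Y.Etale) :
    (phiPush Φ hΦ f).hom.app (op V) = Φ.map (pr f V).op := rfl

lemma phiPush_comp {Y'' Y' Y : Scheme.{u}} (h : Y'' ⟶ Y') (g : Y' ⟶ Y) (hg : Y'' ⟶ Y)
    (w : h ≫ g = hg) :
    phiPush Φ hΦ hg = phiPush Φ hΦ g ≫ (EtCoh.push g).map (phiPush Φ hΦ h) ≫
      (pushTri h g hg w).hom.app (phiSh Φ hΦ Y'') := by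
  apply Sheaf.hom_ext
  apply NatTrans.ext
  funext V
  obtain ⟨V⟩ := V
  have h1 := pushTri_hom_app h g hg w (phiSh Φ hΦ Y'') V
  have h2 := bcTri_inv_pr h g hg w V
  change Φ.map (pr hg V).op = Φ.map (pr g V).op ≫ Φ.map (pr h ((EtCoh.bc g).obj V)).op ≫
    ((pushTri h g hg w).hom.app (phiSh Φ hΦ Y'')).hom.app (op V)
  refine (map_op_comp3 Φ _ _ _ _ h2).trans ?_
  congr 2

lemma phiPush_id {Y : Scheme.{u}} (g : Y ⟶ Y) (hg : g = 𝟙 Y) :
    phiPush Φ hΦ g = (pushIdIso' g hg).inv.app (phiSh Φ hΦ Y) := by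
  subst hg
  rw [pushIdIso'_refl]
  apply Sheaf.hom_ext
  apply NatTrans.ext
  funext V
  obtain ⟨V⟩ := V
  have h1 := pushIdIso_inv_app Y (phiSh Φ hΦ Y) V
  rw [h1, phiSh_map, bcId_hom_left]
  rfl

/-- `Φ` of a limit injects into the colimit of the `Φ` of the stages -/
def LimInj : Prop :=
  ∀ {I : Type u} [SmallCategory I] [IsCofiltered I] (D : I ⥤ Scheme.{u})
    (_ : ∀ {i j : I} (f : i ⟶ j), IsAffineHom (D.map f)) (_ : ∀ i, CompactSpace (D.obj i))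
    (_ : ∀ i, QuasiSeparatedSpace (D.obj i)) (c : Cone D) (_ : IsLimit c) (i : I)
    (s : Φ.obj (op (D.obj i))), Φ.map (c.π.app i).op s = 0 →
      ∃ (j : I) (f : j ⟶ i), Φ.map (D.map f).op s = 0

/-- every element of `Φ` of a limit comes from a stage -/
def LimSurj : Prop :=
  ∀ {I : Type u} [SmallCategory I] [IsCofiltered I] (D : I ⥤ Scheme.{u})
    (_ : ∀ {i j : I} (f : i ⟶ j), IsAffineHom (D.map f)) (_ : ∀ i, CompactSpace (D.obj i))
    (_ : ∀ i, QuasiSeparatedSpace (D.obj i)) (c : Cone D) (_ : IsLimit c)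
    (σ : Φ.obj (op c.pt)), ∃ (i : I) (t : Φ.obj (op (D.obj i))), Φ.map (c.π.app i).op t = σ

section PhiSys

variable {ι : Type u} [Preorder ι] (Xs : ιᵒᵖ ⥤ Scheme.{u}) (c : Cone Xs)

/-- the system of the restrictions of `Φ` -/
noncomputable def phiSys : Sys Xs where
  F i := phiSh Φ hΦ (Xs.obj (op i))
  θ i j h := phiPush Φ hΦ (tr Xs h)
  cocycle i j k hij hjk := phiPush_comp Φ hΦ (tr Xs hjk) (tr Xs hij) _ (tr_comp Xs hij hjk)
  unit i := phiPush_id Φ hΦ _ (tr_refl Xs i)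

/-- its limit datum -/
noncomputable def phiLim : LimData c (phiSys Φ hΦ Xs) where
  𝓕 := phiSh Φ hΦ c.pt
  lam i := phiPush Φ hΦ (pj Xs c i)
  compat i j h := phiPush_comp Φ hΦ (pj Xs c j) (tr Xs h) _ (pj_tr Xs c h)

section H0

open Groth.Agent.Lib.helper9

variable {Xs} {c} [IsDirected ι (· ≤ ·)] [Nonempty ι] (hc : IsLimit c)
  (haff : ∀ ⦃a b : ιᵒᵖ⦄ (h : a ⟶ b), IsAffineHom (Xs.map h))
  [∀ i : ι, CompactSpace (Xs.obj (op i))] [∀ i : ι, QuasiSeparatedSpace (Xs.obj (op i))]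

lemma bcDiagram_affine (i : ι) (V : (Xs.obj (op i)).Etale) {l l' : Over (op i)} (f : l ⟶ l')
    (haff : ∀ ⦃a b : ιᵒᵖ⦄ (h : a ⟶ b), IsAffineHom (Xs.map h)) :
    IsAffineHom ((bcDiagram Xs (op i) V.hom).map f) := by
  haveI : ∀ (a b : ιᵒᵖ) (f : a ⟶ b), IsAffineHom (Xs.map f) := fun _ _ f => haff f
  infer_instance

lemma bcDiagram_good (i : ι) (V : (Xs.obj (op i)).Etale) (hV : good V) (l : Over (op i))
    (haff : ∀ ⦃a b : ιᵒᵖ⦄ (h : a ⟶ b), IsAffineHom (Xs.map h)) :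
    CompactSpace ((bcDiagram Xs (op i) V.hom).obj l) ∧
      QuasiSeparatedSpace ((bcDiagram Xs (op i) V.hom).obj l) := by
  haveI := hV.1
  haveI := hV.2
  haveI : CompactSpace ↥((𝟭 Scheme).obj V.left) := hV.1
  haveI : QuasiSeparatedSpace ↥((𝟭 Scheme).obj V.left) := hV.2
  haveI h1 : IsAffineHom (Xs.map l.hom) := haff l.hom
  haveI : IsAffineHom (pullback.snd (Xs.map l.hom) V.hom) :=
    MorphismProperty.pullback_snd (P := @IsAffineHom) _ _ h1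
  haveI : QuasiCompact (pullback.snd (Xs.map l.hom) V.hom) := inferInstance
  haveI : QuasiSeparated (pullback.snd (Xs.map l.hom) V.hom) := inferInstance
  exact ⟨QuasiCompact.compactSpace_of_compactSpace (pullback.snd (Xs.map l.hom) V.hom),
    quasiSeparatedSpace_of_quasiSeparated (pullback.snd (Xs.map l.hom) V.hom)⟩

lemma phi_map_eq {C : Type*} [Category C] (Ψ : Cᵒᵖ ⥤ AddCommGrpCat.{u + 1}) {A B D : C}
    (a : A ⟶ B) (b : B ⟶ D) (t : A ⟶ D) (h : a ≫ b = t) (s : Ψ.obj (op D)) :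
    Ψ.map a.op (Ψ.map b.op s) = Ψ.map t.op s := by
  subst h
  exact map_map Ψ a b s

include hc haff in
theorem phi_h0Inj (hI : LimInj Φ) : H0Inj (phiSys Φ hΦ Xs) (phiLim Φ hΦ Xs c) := by
  intro j W hW s hs
  have hs' : Φ.map (pr (pj Xs c j) W).op s = 0 := hs
  obtain ⟨l₀, hl₀⟩ : ∃ l₀ : Over (op j), l₀ = Over.mk (𝟙 (op j)) := ⟨_, rfl⟩
  have a1 : (bcCone Xs c (op j) W.hom).π.app l₀ ≫ pullback.snd (Xs.map l₀.hom) W.hom =
      pullback.snd (pj Xs c j) W.hom :=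
    (pullback.lift_snd _ _ _).trans (Category.comp_id _)
  have a2 : (pullbackSymmetry (pj Xs c j) W.hom).hom ≫ pr (pj Xs c j) W =
      pullback.snd (pj Xs c j) W.hom := pullbackSymmetry_hom_comp_fst _ _
  obtain ⟨l, f, hl⟩ := hI (bcDiagram Xs (op j) W.hom) (fun f => bcDiagram_affine j W f haff)
    (fun l => (bcDiagram_good j W hW l haff).1) (fun l => (bcDiagram_good j W hW l haff).2)
    (bcCone Xs c (op j) W.hom) (isLimitBcCone Xs c (op j) W.hom hc) l₀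
    (Φ.map (pullback.snd (Xs.map l₀.hom) W.hom).op s)
    ((phi_map_eq Φ _ _ _ a1 s).trans ((phi_map_eq Φ _ _ _ a2 s).symm.trans
      ((congrArg _ hs').trans (map_zero _))))
  obtain ⟨k', a, rfl⟩ : ∃ (k' : ιᵒᵖ) (a : k' ⟶ op j), l = Over.mk a := ⟨l.left, l.hom, rfl⟩
  obtain ⟨k⟩ := k'
  have hk : j ≤ k := leOfHom a.unop
  obtain rfl : a = (homOfLE hk).op := Subsingleton.elim _ _
  refine ⟨k, hk, ?_⟩
  change Φ.map (pr (tr Xs hk) W).op s = 0
  have a3 : (bcDiagram Xs (op j) W.hom).map f ≫ pullback.snd (Xs.map l₀.hom) W.hom =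
      pullback.snd (tr Xs hk) W.hom :=
    (pullback.lift_snd _ _ _).trans (Category.comp_id _)
  have a4 : (pullbackSymmetry (tr Xs hk) W.hom).hom ≫ pr (tr Xs hk) W =
      pullback.snd (tr Xs hk) W.hom := pullbackSymmetry_hom_comp_fst _ _
  have a5 : (pullbackSymmetry W.hom (tr Xs hk)).hom ≫ pullback.snd (tr Xs hk) W.hom =
      pr (tr Xs hk) W := pullbackSymmetry_hom_comp_snd _ _
  have b1 : Φ.map (pullback.snd (tr Xs hk) W.hom).op s = 0 :=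
    (phi_map_eq Φ _ _ _ a3 s).symm.trans hl
  exact (phi_map_eq Φ _ _ _ a5 s).symm.trans ((congrArg _ b1).trans (map_zero _))

lemma surj_chase {C : Type*} [Category C] {B P K W' Vl Yk X Q : C}
    (tri : B ⟶ K) (prk : K ⟶ W') (sym' : W' ⟶ Q) (sym : B ⟶ P) (leg : P ⟶ Q)
    (q₁ : Q ⟶ Yk) (q₂ : Q ⟶ Vl) (w'h : W' ⟶ Yk) (prt : W' ⟶ Vl) (kh : K ⟶ X) (pk : X ⟶ Yk)
    (bh : B ⟶ X) (p₁ : P ⟶ X) (p₂ : P ⟶ Vl) (prB : B ⟶ Vl)
    (c1 : sym' ≫ q₁ = w'h) (c2 : sym' ≫ q₂ = prt) (c3 : prk ≫ w'h = kh ≫ pk) (c4 : tri ≫ kh = bh)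
    (c5 : leg ≫ q₁ = p₁ ≫ pk) (c6 : sym ≫ p₁ = bh) (c7 : leg ≫ q₂ = p₂) (c8 : sym ≫ p₂ = prB)
    (c9 : tri ≫ prk ≫ prt = prB) :
    (tri ≫ prk ≫ sym') ≫ q₁ = (sym ≫ leg) ≫ q₁ ∧ (tri ≫ prk ≫ sym') ≫ q₂ = (sym ≫ leg) ≫ q₂ := by
  constructor
  · simp only [Category.assoc]
    rw [c1, c3, reassoc_of% c4, c5, reassoc_of% c6]
  · simp only [Category.assoc]
    rw [c2, c9, c7, c8]

include hc haff in
theorem phi_h0Surj (hS : LimSurj Φ) : H0Surj (phiSys Φ hΦ Xs) (phiLim Φ hΦ Xs c) := by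
  intro i V hV σ
  obtain ⟨l, t, ht⟩ := hS (bcDiagram Xs (op i) V.hom) (fun f => bcDiagram_affine i V f haff)
    (fun l => (bcDiagram_good i V hV l haff).1) (fun l => (bcDiagram_good i V hV l haff).2)
    (bcCone Xs c (op i) V.hom) (isLimitBcCone Xs c (op i) V.hom hc)
    (Φ.map (pullbackSymmetry V.hom (pj Xs c i)).inv.op σ)
  obtain ⟨k', a, rfl⟩ : ∃ (k' : ιᵒᵖ) (a : k' ⟶ op i), l = Over.mk a := ⟨l.left, l.hom, rfl⟩
  obtain ⟨k⟩ := k'
  have hk : i ≤ k := leOfHom a.unop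
  obtain rfl : a = (homOfLE hk).op := Subsingleton.elim _ _
  refine ⟨k, hk, Φ.map (pullbackSymmetry V.hom (tr Xs hk)).hom.op t, ?_⟩
  have hσ : σ = Φ.map (pullbackSymmetry V.hom (pj Xs c i)).hom.op
      (Φ.map (pullbackSymmetry V.hom (pj Xs c i)).inv.op σ) :=
    ((phi_map_eq Φ _ _ _ (Iso.hom_inv_id _) σ).trans (map_id' Φ _ rfl σ)).symm
  have key : ((bcTri (pj Xs c k) (tr Xs hk) (pj Xs c i) (pj_tr Xs c hk)).inv.app V).left ≫
      pr (pj Xs c k) ((EtCoh.bc (tr Xs hk)).obj V) ≫ (pullbackSymmetry V.hom (tr Xs hk)).hom =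
      (pullbackSymmetry V.hom (pj Xs c i)).hom ≫
        (bcCone Xs c (op i) V.hom).π.app (Over.mk (homOfLE hk).op) := by
    obtain ⟨h1, h2⟩ := surj_chase
      ((bcTri (pj Xs c k) (tr Xs hk) (pj Xs c i) (pj_tr Xs c hk)).inv.app V).left
      (pr (pj Xs c k) ((EtCoh.bc (tr Xs hk)).obj V)) (pullbackSymmetry V.hom (tr Xs hk)).hom
      (pullbackSymmetry V.hom (pj Xs c i)).hom
      ((bcCone Xs c (op i) V.hom).π.app (Over.mk (homOfLE hk).op))
      (pullback.fst (tr Xs hk) V.hom) (pullback.snd (tr Xs hk) V.hom)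
      ((EtCoh.bc (tr Xs hk)).obj V).hom (pr (tr Xs hk) V)
      ((EtCoh.bc (pj Xs c k)).obj ((EtCoh.bc (tr Xs hk)).obj V)).hom (pj Xs c k)
      ((EtCoh.bc (pj Xs c i)).obj V).hom (pullback.fst (pj Xs c i) V.hom)
      (pullback.snd (pj Xs c i) V.hom) (pr (pj Xs c i) V)
      (pullbackSymmetry_hom_comp_fst _ _) (pullbackSymmetry_hom_comp_snd _ _)
      (pr_condition (pj Xs c k) ((EtCoh.bc (tr Xs hk)).obj V))
      (MorphismProperty.Over.w ((bcTri (pj Xs c k) (tr Xs hk) (pj Xs c i)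
        (pj_tr Xs c hk)).inv.app V))
      (pullback.lift_fst _ _ _) (pullbackSymmetry_hom_comp_fst _ _)
      ((pullback.lift_snd _ _ _).trans (Category.comp_id _)) (pullbackSymmetry_hom_comp_snd _ _)
      (bcTri_inv_pr (pj Xs c k) (tr Xs hk) (pj Xs c i) (pj_tr Xs c hk) V)
    exact pullback.hom_ext h1 h2
  change Φ.map ((bcTri (pj Xs c k) (tr Xs hk) (pj Xs c i) (pj_tr Xs c hk)).inv.app V).left.op
    (Φ.map (pr (pj Xs c k) ((EtCoh.bc (tr Xs hk)).obj V)).op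
      (Φ.map (pullbackSymmetry V.hom (tr Xs hk)).hom.op t)) = σ
  rw [hσ, ← ht]
  refine (congrArg _ (phi_map_eq Φ _ _ _ rfl t)).trans ((phi_map_eq Φ _ _ _ rfl t).trans ?_)
  refine Eq.trans ?_ (phi_map_eq Φ _ _ _ rfl t).symm
  exact congrArg (fun m => Φ.map m.op t) key

include hc haff in
/-- for a big étale sheaf commuting with limits on global sections:
`H^n(X, Φ) = colim H^n(X_i, Φ)` -/
theorem phi_colim (hI : LimInj Φ) (hS : LimSurj Φ) (n : ℕ) :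
    SurjA (phiSys Φ hΦ Xs) (phiLim Φ hΦ Xs c) n ∧ InjA (phiSys Φ hΦ Xs) (phiLim Φ hΦ Xs c) n :=
  a_of_p haff (phiLim Φ hΦ Xs c) (phi_h0Inj Φ hΦ hc haff hI) (phi_h0Surj Φ hΦ hc haff hS) n
    (pp_all hc haff n _)

end H0

end PhiSys

end Phi

section GaGm

theorem limInj_ΓAdd : LimInj EtCoh.ΓAdd.{u} := by
  intro I _ _ D haff hcpt hqs c hc i s hs
  haveI : ∀ {i j : I} (f : i ⟶ j), IsAffineHom (D.map f) := haff
  haveI := hcpt i
  have h1 : (c.π.app i).appTop s.down = 0 := congrArg ULift.down hs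
  obtain ⟨j, f, hj⟩ := exists_appTop_map_eq_zero_of_isLimit D c hc s.down h1
  exact ⟨j, f, ULift.ext _ _ hj⟩

theorem limSurj_ΓAdd : LimSurj EtCoh.ΓAdd.{u} := by
  intro I _ _ D haff hcpt hqs c hc σ
  haveI : ∀ {i j : I} (f : i ⟶ j), IsAffineHom (D.map f) := haff
  haveI := hcpt
  haveI := hqs
  obtain ⟨i, t, ht⟩ := exists_appTop_π_eq_of_isLimit D c hc σ.down
  exact ⟨i, ULift.up t, ULift.ext _ _ ht.symm⟩

/-- the unit underlying a section of `ΓUnits` -/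
noncomputable def toU {X : Scheme.{u}} (s : EtCoh.ΓUnits.obj (op X)) : Γ(X, ⊤)ˣ :=
  Additive.toMul (show Additive (Γ(X, ⊤)ˣ) from s.down)

/-- the section of `ΓUnits` of a unit -/
noncomputable def ofU {X : Scheme.{u}} (v : Γ(X, ⊤)ˣ) : EtCoh.ΓUnits.obj (op X) :=
  ULift.up (show Additive (Γ(X, ⊤)ˣ) from Additive.ofMul v)

lemma toU_ofU {X : Scheme.{u}} (v : Γ(X, ⊤)ˣ) : toU (ofU v) = v := rfl

lemma ofU_toU {X : Scheme.{u}} (s : EtCoh.ΓUnits.obj (op X)) : ofU (toU s) = s := rfl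

lemma toU_map {X Y : Scheme.{u}} (f : X ⟶ Y) (s : EtCoh.ΓUnits.obj (op Y)) :
    ((toU (EtCoh.ΓUnits.map f.op s) : Γ(X, ⊤)ˣ) : Γ(X, ⊤)) =
      f.appTop ((toU s : Γ(Y, ⊤)ˣ) : Γ(Y, ⊤)) := rfl

lemma ΓUnits_eq_zero_iff {X : Scheme.{u}} (s : EtCoh.ΓUnits.obj (op X)) :
    s = 0 ↔ ((toU s : Γ(X, ⊤)ˣ) : Γ(X, ⊤)) = 1 := by
  constructor
  · intro h
    rw [h]
    rfl
  · intro h
    have h1 : toU s = 1 := Units.ext h
    rw [← ofU_toU s, h1]
    rfl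

theorem limInj_ΓUnits : LimInj EtCoh.ΓUnits.{u} := by
  intro I _ _ D haff hcpt hqs c hc i s hs
  haveI : ∀ {i j : I} (f : i ⟶ j), IsAffineHom (D.map f) := haff
  haveI := hcpt i
  have h0 := (ΓUnits_eq_zero_iff _).1 hs
  rw [toU_map] at h0
  have h1 : (c.π.app i).appTop (((toU s : Γ(D.obj i, ⊤)ˣ) : Γ(D.obj i, ⊤)) - 1) = 0 := by
    rw [map_sub, h0, map_one, sub_self]
  obtain ⟨j, f, hj⟩ := exists_appTop_map_eq_zero_of_isLimit D c hc _ h1
  refine ⟨j, f, (ΓUnits_eq_zero_iff _).2 ?_⟩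
  rw [toU_map]
  rw [map_sub, map_one, sub_eq_zero] at hj
  exact hj

theorem limSurj_ΓUnits : LimSurj EtCoh.ΓUnits.{u} := by
  intro I _ _ D haff hcpt hqs c hc σ
  haveI : ∀ {i j : I} (f : i ⟶ j), IsAffineHom (D.map f) := haff
  haveI := hcpt
  haveI := hqs
  obtain ⟨i, a, ha⟩ := exists_appTop_π_eq_of_isLimit D c hc ((toU σ : Γ(c.pt, ⊤)ˣ) : Γ(c.pt, ⊤))
  obtain ⟨j, b, hb⟩ := exists_appTop_π_eq_of_isLimit D c hc
    (((toU σ)⁻¹ : Γ(c.pt, ⊤)ˣ) : Γ(c.pt, ⊤))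
  let k := IsCofiltered.min i j
  let fi : k ⟶ i := IsCofiltered.minToLeft i j
  let fj : k ⟶ j := IsCofiltered.minToRight i j
  have hπa : (c.π.app k).appTop ((D.map fi).appTop a) = (c.π.app i).appTop a := by
    rw [← ConcreteCategory.comp_apply, ← Scheme.Hom.comp_appTop, c.w]
  have hπb : (c.π.app k).appTop ((D.map fj).appTop b) = (c.π.app j).appTop b := by
    rw [← ConcreteCategory.comp_apply, ← Scheme.Hom.comp_appTop, c.w]
  have h1 : (c.π.app k).appTop ((D.map fi).appTop a * (D.map fj).appTop b - 1) = 0 := by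
    rw [map_sub, map_mul, map_one, hπa, hπb, ← ha, ← hb, ← Units.val_mul, mul_inv_cancel,
      Units.val_one, sub_self]
  obtain ⟨l, f, hl⟩ := exists_appTop_map_eq_zero_of_isLimit D c hc _ h1
  rw [map_sub, map_mul, map_one, sub_eq_zero] at hl
  let v : Γ(D.obj l, ⊤)ˣ :=
    ⟨(D.map f).appTop ((D.map fi).appTop a), (D.map f).appTop ((D.map fj).appTop b), hl,
      (mul_comm _ _).trans hl⟩
  refine ⟨l, ofU v, ?_⟩
  have e : toU (EtCoh.ΓUnits.map (c.π.app l).op (ofU v)) = toU σ := by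
    apply Units.ext
    rw [toU_map, toU_ofU]
    change (c.π.app l).appTop ((D.map f).appTop ((D.map fi).appTop a)) = _
    rw [← ConcreteCategory.comp_apply, ← Scheme.Hom.comp_appTop, c.w, hπa, ← ha]
  exact (ofU_toU _).symm.trans ((congrArg ofU e).trans (ofU_toU σ))

end GaGm

end Groth.Agent.H1.LimCoh
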