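import Groth.Agent.Lib.Helper1.LimCohMain
import Groth.Agent.Lib.Helper1.PullGerm
import Groth.Agent.Lib.Helper21.Strata

/-!
# Criteria for the sectionwise colimit property (helper1)

* `germ_eq_gen`: equality of germs of sections over two different étale neighbourhoods.
* `pull_locally_usec`: sections of an inverse image sheaf `f⁻¹G` are locally restrictions of
  sections `usec s` coming from `G`.
* `locRep_of_epi`, `h0Inj_of_mono`: for a system `(F_i, θ)` with limit datum `(𝓕, lam)`, if the adjoint maps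
  `p_i⁻¹ F_i ⟶ 𝓕` are epi (resp. mono) then `LocRep` (resp. `H0Inj`) holds.
* `colim_of_iso`: if they are isomorphisms, `H^n(X, 𝓕) = colim H^n(X_i, F_i)`.
-/

set_option autoImplicit false
set_option linter.unusedSectionVars false
universe u
open CategoryTheory CategoryTheory.Limits AlgebraicGeometry Opposite CategoryTheory.Abelian

namespace Groth.Agent.H1.LimCoh

open Groth.Agent.Lib.helper27 Groth.Agent.Lib.helper27.PullFunEt
  Groth.Agent.Lib.helper27.HpullHmap Groth.Agent.H1.EtCartan Groth.Agent.H1.EtGerm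
  Groth.Agent.H1.PullGerm Groth.Agent.H1.FiltSecEt

section Germ

variable {X : Scheme.{u}} {Ω : Type u} [Field Ω] [IsSepClosed Ω]
  {ξ : Spec (CommRingCat.of Ω) ⟶ X}

theorem germ_eq_gen (F : EtCoh.Ab X) (A B : X.Etale) (yA : Lift ξ A) (yB : Lift ξ B)
    (a : F.obj.obj (op A)) (b : F.obj.obj (op B)) (h : germ ξ F A yA a = germ ξ F B yB b) :
    ∃ (P : X.Etale) (gA : P ⟶ A) (gB : P ⟶ B) (yP : Lift ξ P), Lift.map gA yP = yA ∧
      Lift.map gB yP = yB ∧ F.obj.map gA.op a = F.obj.map gB.op b := by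
  let eA : (Scheme.pointSmallEtale ξ).fiber.Elements := ⟨A, yA⟩
  let eB : (Scheme.pointSmallEtale ξ).fiber.Elements := ⟨B, yB⟩
  obtain ⟨⟨W, w⟩, ⟨l, hl⟩, ⟨r, hr⟩, -⟩ := IsCofilteredOrEmpty.cone_objs eA eB
  dsimp [eA, eB] at l hl r hr
  have h1 : germ ξ F W w (F.obj.map l.op a) = germ ξ F W w (F.obj.map r.op b) := by
    rw [germ_res, germ_res]
    have e1 : Lift.map l w = yA := hl
    have e2 : Lift.map r w = yB := hr
    rw [e1, e2, h]
  obtain ⟨P, g, yP, hg, hP⟩ := (germ_eq_iff F W w _ _).1 h1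
  refine ⟨P, g ≫ l, g ≫ r, yP, ?_, ?_, ?_⟩
  · have : Lift.map (g ≫ l) yP = Lift.map l (Lift.map g yP) := by
      apply Lift.ext
      rw [Lift.map_hom, Lift.map_hom, Lift.map_hom, Category.assoc]
      rfl
    rw [this, hg]
    exact hl
  · have : Lift.map (g ≫ r) yP = Lift.map r (Lift.map g yP) := by
      apply Lift.ext
      rw [Lift.map_hom, Lift.map_hom, Lift.map_hom, Category.assoc]
      rfl
    rw [this, hg]
    exact hr
  · exact (map_map F.obj g l a).symm.trans (hP.trans (map_map F.obj g r b))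

end Germ

section LocalGen

variable {X Y : Scheme.{u}} (f : X ⟶ Y)

theorem good_restrictOpen_affine (U : X.Etale) (W : U.left.Opens) (hW : IsAffineOpen W) :
    good (restrictOpen U W) := by
  haveI : IsAffine W.toScheme := hW
  exact ⟨inferInstanceAs (CompactSpace W.toScheme),
    inferInstanceAs (QuasiSeparatedSpace W.toScheme)⟩

theorem mem_range_restrictOpenι_comp {U V : X.Etale} (W : U.left.Opens) (g : U ⟶ V) (u : U.left)
    (hu : u ∈ W) : g.left.base u ∈ Set.range (restrictOpenι U W ≫ g).left.base := by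
  refine ⟨⟨u, hu⟩, ?_⟩
  change (W.ι ≫ g.left).base ⟨u, hu⟩ = _
  rw [Scheme.Hom.comp_base, TopCat.comp_app]
  rfl

/-- sections of an inverse image sheaf are locally restrictions of sections of the form `usec s` -/
theorem pull_locally_usec (G : EtCoh.Ab Y) (N : X.Etale)
    (τ : ((EtCoh.pull f).obj G).obj.obj (op N)) (x : N.left) :
    ∃ (U : Y.Etale) (_ : good U) (s : G.obj.obj (op U)) (P : X.Etale) (_ : good P) (n : P ⟶ N)
      (m : P ⟶ (EtCoh.bc f).obj U), x ∈ Set.range n.left.base ∧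
        ((EtCoh.pull f).obj G).obj.map n.op τ =
          ((EtCoh.pull f).obj G).obj.map m.op (usec f G U s) := by
  obtain ⟨ξ, y, hy⟩ := exists_geomPt_lift N x
  obtain ⟨q, hq⟩ := (tau_bijective f ξ rfl G).2 (germ ξ _ N y τ)
  obtain ⟨U₀, v₀, s₀, rfl⟩ := germ_surjective G q
  obtain ⟨U', hxU', -, hU'⟩ := Groth.Agent.Lib.helper21.Strata.exists_affine_nbhd
    (⊤ : U₀.left.Opens) (v₀.hom.base default) trivial
  obtain ⟨v', hv'⟩ := exists_lift_restrictOpen U' v₀ hxU'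
  have h1 : germ (ξ ≫ f) G U₀ v₀ s₀ = germ (ξ ≫ f) G (restrictOpen U₀ U') v'
      (G.obj.map (restrictOpenι U₀ U').op s₀) := by
    rw [germ_res, hv']
  rw [h1, tau_germ] at hq
  obtain ⟨P₀, gA, gB, yP, hA, hB, hAB⟩ := germ_eq_gen ((EtCoh.pull f).obj G) N _ y
    (liftBc f ξ rfl v') τ (usec f G _ _) hq.symm
  obtain ⟨P', hxP', -, hP'⟩ := Groth.Agent.Lib.helper21.Strata.exists_affine_nbhd
    (⊤ : P₀.left.Opens) (yP.hom.base default) trivial
  refine ⟨restrictOpen U₀ U', good_restrictOpen_affine _ _ hU',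
    G.obj.map (restrictOpenι U₀ U').op s₀, restrictOpen P₀ P',
    good_restrictOpen_affine _ _ hP', restrictOpenι P₀ P' ≫ gA, restrictOpenι P₀ P' ≫ gB, ?_, ?_⟩
  · have e0 : y.hom = yP.hom ≫ gA.left := by
      rw [← hA, Lift.map_hom]
    have e1 : gA.left.base (yP.hom.base default) = x := by
      refine Eq.trans ?_ hy
      rw [e0, Scheme.Hom.comp_base, TopCat.comp_app]
    rw [← e1]
    exact mem_range_restrictOpenι_comp P' gA _ hxP'
  · rw [← map_map, ← map_map, hAB]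

end LocalGen

section FlatSec

variable {Y' Y : Scheme.{u}} (g : Y' ⟶ Y)

lemma app_eq_flat_usec {G : EtCoh.Ab Y} {G' : EtCoh.Ab Y'} (θ : G ⟶ (EtCoh.push g).obj G')
    (U : Y.Etale) (s : G.obj.obj (op U)) :
    θ.hom.app (op U) s = (flat g θ).hom.app (op ((EtCoh.bc g).obj U)) (usec g G U s) := by
  have h1 : θ = (adj g).unit.app G ≫ (EtCoh.push g).map (flat g θ) := by
    have := ((adj g).homEquiv _ _).apply_symm_apply θ
    rw [Adjunction.homEquiv_unit] at this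
    exact this.symm
  exact ConcreteCategory.congr_hom (congrArg (fun φ => φ.hom.app (op U)) h1) s

lemma chase_top {C : Type*} [Category C] {Zl B T Yy Y₁ : C} (ll : Zl ⟶ B) (p : B ⟶ T)
    (th : T ⟶ Yy) (bh : B ⟶ Y₁) (g : Y₁ ⟶ Yy) (zh : Zl ⟶ Y₁) (hth : p ≫ th = bh ≫ g)
    (e2 : ll ≫ bh = zh) : ll ≫ p ≫ th = zh ≫ g := by
  rw [hth, ← Category.assoc, e2]

lemma hom_bc_top_ext {Z : Y'.Etale} (k k' : Z ⟶ (EtCoh.bc g).obj (EtCoh.top Y)) : k = k' := by
  apply bc_hom_ext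
  have h1 : ∀ l : Z ⟶ (EtCoh.bc g).obj (EtCoh.top Y), l.left ≫ pr g (EtCoh.top Y) = Z.hom ≫ g := by
    intro l
    have e0 := chase_top l.left (pr g (EtCoh.top Y)) (EtCoh.top Y).hom
      ((EtCoh.bc g).obj (EtCoh.top Y)).hom g Z.hom (pr_condition g (EtCoh.top Y))
      (MorphismProperty.Over.w l)
    exact (congrArg (fun q => l.left ≫ q) (Category.comp_id (pr g (EtCoh.top Y)))).symm.trans e0
  exact (h1 k).trans (h1 k').symm

end FlatSec

section Criteria

variable {ι : Type u} [Preorder ι] {Xs : ιᵒᵖ ⥤ Scheme.{u}} {c : Cone Xs} {S : Sys Xs}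
variable [IsDirected ι (· ≤ ·)] [Nonempty ι] (hc : IsLimit c)
  (haff : ∀ ⦃a b : ιᵒᵖ⦄ (h : a ⟶ b), IsAffineHom (Xs.map h))
  [∀ i : ι, CompactSpace (Xs.obj (op i))] [∀ i : ι, QuasiSeparatedSpace (Xs.obj (op i))]
  (L : LimData c S)

include hc haff in
/-- if the adjoint maps `p_i⁻¹ F_i ⟶ 𝓕` are epimorphisms, sections of `𝓕` are locally represented
at finite stages -/
theorem locRep_of_epi (hE : ∀ i, Epi (flat (pj Xs c i) (L.lam i))) : LocRep L := by
  intro i V hV σ x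
  haveI := hE i
  obtain ⟨N', b, γ, ⟨hN', -, ⟨hsurj⟩⟩, hγ⟩ := exists_cover_lift (flat (pj Xs c i) (L.lam i))
    ((EtCoh.bc (pj Xs c i)).obj V) (good_bc_pj hc haff i V hV) σ
  obtain ⟨x', rfl⟩ := hsurj x
  obtain ⟨U, hU, s, P, hP, n, m, hxn, hnm⟩ := pull_locally_usec (pj Xs c i) (S.F i) N' γ x'
  have h1 : L.𝓕.obj.map (n ≫ b).op σ = L.𝓕.obj.map m.op ((L.lam i).hom.app (op U) s) := by
    rw [app_eq_flat_usec, ← map_app_apply', ← hnm, map_app_apply', hγ, map_map]
  obtain ⟨tV, -⟩ : ∃ t : V ⟶ EtCoh.top (Xs.obj (op i)), True :=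
    ⟨(EtCore.topIsTerminal _).from V, trivial⟩
  obtain ⟨tU, -⟩ : ∃ t : U ⟶ EtCoh.top (Xs.obj (op i)), True :=
    ⟨(EtCore.topIsTerminal _).from U, trivial⟩
  have hV'' : good (fp tV tU) := good_fp tV tU hV hU good_top
  obtain ⟨b'', hb1, hb2⟩ := bc_fp_lift (pj Xs c i) tV tU P (n ≫ b) m (hom_bc_top_ext _ _ _)
  obtain ⟨k, hk, W, hW, g, ε, hε⟩ := objDesc hc haff i (fp tV tU) hV'' P hP b''
  have nat1 := (bcTri (pj Xs c k) (tr Xs hk) (pj Xs c i) (pj_tr Xs c hk)).hom.naturality (fp₁ tV tU)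
  have nat2 := (bcTri (pj Xs c k) (tr Xs hk) (pj Xs c i) (pj_tr Xs c hk)).hom.naturality (fp₂ tV tU)
  have e1 : (EtCoh.bc (pj Xs c k)).map (g ≫ (EtCoh.bc (tr Xs hk)).map (fp₁ tV tU)) ≫
      (tauV (c := c) V hk).hom = ε.hom ≫ n ≫ b := by
    rw [← hb1, ← Category.assoc ε.hom, hε, Functor.map_comp, Category.assoc, Category.assoc]
    congr 1
  have e2 : (EtCoh.bc (pj Xs c k)).map (g ≫ (EtCoh.bc (tr Xs hk)).map (fp₂ tV tU)) ≫
      (bcTri (pj Xs c k) (tr Xs hk) (pj Xs c i) (pj_tr Xs c hk)).hom.app U = ε.hom ≫ m := by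
    rw [← hb2, ← Category.assoc ε.hom, hε, Functor.map_comp, Category.assoc, Category.assoc]
    congr 1
  refine ⟨k, hk,
    { W := W
      hW := hW
      g := g ≫ (EtCoh.bc (tr Xs hk)).map (fp₁ tV tU)
      s := (S.F k).obj.map (g ≫ (EtCoh.bc (tr Xs hk)).map (fp₂ tV tU)).op
        ((S.θ hk).hom.app (op U) s)
      hs := ?_ }, ?_⟩
  · have n1 := NatTrans.naturality_apply (L.lam k).hom
      (g ≫ (EtCoh.bc (tr Xs hk)).map (fp₂ tV tU)).op ((S.θ hk).hom.app (op U) s)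
    refine n1.trans ?_
    rw [lam_theta_app]
    have a1 := map_map L.𝓕.obj ((EtCoh.bc (pj Xs c k)).map (g ≫ (EtCoh.bc (tr Xs hk)).map (fp₂ tV tU)))
      ((bcTri (pj Xs c k) (tr Xs hk) (pj Xs c i) (pj_tr Xs c hk)).hom.app U)
      ((L.lam i).hom.app (op U) s)
    have a2 := map_map L.𝓕.obj ((EtCoh.bc (pj Xs c k)).map (g ≫ (EtCoh.bc (tr Xs hk)).map (fp₁ tV tU)))
      (tauV (c := c) V hk).hom σ
    have a3 := map_map L.𝓕.obj ε.hom m ((L.lam i).hom.app (op U) s)
    have a4 := map_map L.𝓕.obj ε.hom (n ≫ b) σ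
    rw [e2] at a1
    rw [e1] at a2
    exact a1.trans (a3.symm.trans ((congrArg _ h1.symm).trans (a4.trans a2.symm)))
  · obtain ⟨z, hz⟩ := hxn
    refine ⟨ε.inv.left.base z, ?_⟩
    have h2 : ε.inv ≫ ((EtCoh.bc (pj Xs c k)).map (g ≫ (EtCoh.bc (tr Xs hk)).map (fp₁ tV tU)) ≫
        (tauV (c := c) V hk).hom) = n ≫ b := by
      rw [e1, Iso.inv_hom_id_assoc]
    have h3 := congrArg (fun q => q.left.base z) h2
    refine h3.trans ?_
    change (n.left ≫ b.left).base z = _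
    rw [Scheme.Hom.comp_base, TopCat.comp_app, hz]

include hc haff in
/-- a local vanishing criterion for `H0Inj` -/
theorem h0Inj_of_locZero
    (h : ∀ (j : ι) (W : (Xs.obj (op j)).Etale), good W → ∀ s : (S.F j).obj.obj (op W),
      (L.lam j).hom.app (op W) s = 0 → ∀ x : ((EtCoh.bc (pj Xs c j)).obj W).left,
        ∃ (W' : (Xs.obj (op j)).Etale) (g : W' ⟶ W), (S.F j).obj.map g.op s = 0 ∧
          x ∈ Set.range ((EtCoh.bc (pj Xs c j)).map g).left.base) : H0Inj S L := by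
  classical
  intro j W hW s hs
  haveI := (good_bc_pj hc haff j W hW).1
  choose W' g hg hx using h j W hW s hs
  have hopen : ∀ x, IsOpen (Set.range ((EtCoh.bc (pj Xs c j)).map (g x)).left.base) := fun x => by
    haveI := Groth.Agent.H1.EtGerm.etale_left ((EtCoh.bc (pj Xs c j)).map (g x))
    exact ((EtCoh.bc (pj Xs c j)).map (g x)).left.isOpenMap.isOpen_range
  obtain ⟨t, ht⟩ := isCompact_univ.elim_finite_subcover
    (fun x => Set.range ((EtCoh.bc (pj Xs c j)).map (g x)).left.base) hopen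
    (fun x _ => Set.mem_iUnion.2 ⟨x, hx x⟩)
  have hJS : JS (fun a : Fin t.card => (EtCoh.bc (pj Xs c j)).obj (W' (t.equivFin.symm a).1))
      (fun a => (EtCoh.bc (pj Xs c j)).map (g (t.equivFin.symm a).1)) := by
    intro x
    have hx' := ht (Set.mem_univ x)
    simp only [Set.mem_iUnion] at hx'
    obtain ⟨b, hb, y, hy⟩ := hx'
    refine ⟨t.equivFin ⟨b, hb⟩, ?_⟩
    have hab : (t.equivFin.symm (t.equivFin ⟨b, hb⟩)).1 = b := by simp
    change ∃ y : ((EtCoh.bc (pj Xs c j)).obj (W' (t.equivFin.symm (t.equivFin ⟨b, hb⟩)).1)).left,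
      ((EtCoh.bc (pj Xs c j)).map (g (t.equivFin.symm (t.equivFin ⟨b, hb⟩)).1)).left.base y = x
    rw [hab]
    exact ⟨y, hy⟩
  obtain ⟨k, hk, hJS'⟩ := DL hc haff j W hW (fun a => W' (t.equivFin.symm a).1)
    (fun a => g (t.equivFin.symm a).1) hJS
  refine ⟨k, hk, ?_⟩
  apply Groth.Agent.H1.FiltSec.sheaf_ext (S.F k) _ _ hJS'.mem
  intro a
  have n1 := NatTrans.naturality_apply (S.θ hk).hom (g (t.equivFin.symm a).1).op s
  have n2 : (S.F k).obj.map ((EtCoh.bc (tr Xs hk)).map (g (t.equivFin.symm a).1)).op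
      ((S.θ hk).hom.app (op W) s) = 0 :=
    n1.symm.trans ((congrArg _ (hg _)).trans (map_zero _))
  exact n2.trans (map_zero _).symm

include hc haff in
/-- if the adjoint maps `p_j⁻¹ F_j ⟶ 𝓕` are monomorphisms, `H0Inj` holds -/
theorem h0Inj_of_mono (hM : ∀ j, Mono (flat (pj Xs c j) (L.lam j))) : H0Inj S L := by
  apply h0Inj_of_locZero hc haff L
  intro j W hW s hs x
  haveI := hM j
  have h1 : usec (pj Xs c j) (S.F j) W s = 0 := by
    apply Groth.Agent.H1.SuppSect.injective_app_of_mono (flat (pj Xs c j) (L.lam j))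
      ((EtCoh.bc (pj Xs c j)).obj W)
    rw [← app_eq_flat_usec, hs]
    exact (map_zero _).symm
  obtain ⟨ξ, y, hy⟩ := exists_geomPt_lift ((EtCoh.bc (pj Xs c j)).obj W) x
  have h2 : pgerm (pj Xs c j) ξ (S.F j) W y s = 0 := by
    change germ ξ _ _ y (usec (pj Xs c j) (S.F j) W s) = 0
    rw [h1, map_zero]
  obtain ⟨W', g, w, hw, hg⟩ := pgerm_eq_zero (pj Xs c j) ξ (S.F j) W y s h2
  refine ⟨W', g, hg, w.hom.base default, ?_⟩
  have e0 : y.hom = w.hom ≫ ((EtCoh.bc (pj Xs c j)).map g).left := by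
    rw [← hw, Lift.map_hom]
  refine Eq.trans ?_ hy
  rw [e0, Scheme.Hom.comp_base, TopCat.comp_app]

include hc haff in
/-- if the adjoint maps `p_j⁻¹ F_j ⟶ 𝓕` are mono and epi, then `H^n(X, 𝓕) = colim H^n(X_j, F_j)` -/
theorem colim_of_mono_epi (hM : ∀ j, Mono (flat (pj Xs c j) (L.lam j)))
    (hE : ∀ j, Epi (flat (pj Xs c j) (L.lam j))) (n : ℕ) : SurjA S L n ∧ InjA S L n := by
  have h0 := h0Inj_of_mono hc haff L hM
  exact a_of_p haff L h0 (h0Surj_of_locRep hc haff L h0 (locRep_of_epi hc haff L hE)) n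
    (pp_all hc haff n L.𝓕)

include hc haff in
/-- if the adjoint maps `p_j⁻¹ F_j ⟶ 𝓕` are isomorphisms, then `H^n(X, 𝓕) = colim H^n(X_j, F_j)` -/
theorem colim_of_iso (hI : ∀ j, IsIso (flat (pj Xs c j) (L.lam j))) (n : ℕ) :
    SurjA S L n ∧ InjA S L n :=
  colim_of_mono_epi hc haff L (fun j => by haveI := hI j; infer_instance)
    (fun j => by haveI := hI j; infer_instance) n

end Criteria

end Groth.Agent.H1.LimCoh
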