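import Groth.Agent.Lib.Helper1.LimCohPullA

/-!
# Systems of sheaves pulled back from one stage (helper1)

For an inverse system with a least index `i₀` and a sheaf `F₀` on `X_{i₀}`: the system `pullSys` of the pullbacks
`t_{i₀ j}⁻¹ F₀` with limit datum `pullLim` (`𝓕 = p_{i₀}⁻¹ F₀`), and `pull_colim`:
`H^n(X, p_{i₀}⁻¹F₀) = colim_j H^n(X_j, t_{i₀ j}⁻¹F₀)`.  Also the comparison `HpullVia_eq_Hmap` of the frozen
`EtCore.HpullVia` with `Hmap`.
-/

set_option autoImplicit false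
set_option linter.unusedSectionVars false
universe u
open CategoryTheory CategoryTheory.Limits AlgebraicGeometry Opposite CategoryTheory.Abelian

namespace Groth.Agent.H1.LimCoh

open Groth.Agent.Lib.helper27 Groth.Agent.Lib.helper27.PullFunEt
  Groth.Agent.Lib.helper27.HpullHmap Groth.Agent.H1.EtCartan

section Theta

variable {S : Scheme.{u}} (F : EtCoh.Ab S)

lemma θ_comp' {Y'' Y' Y : Scheme.{u}} (h : Y'' ⟶ Y') (g : Y' ⟶ Y) (hg : Y'' ⟶ Y)
    (whg : h ≫ g = hg) (a : Y ⟶ S) (a' : Y' ⟶ S) (a'' : Y'' ⟶ S) (w : g ≫ a = a')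
    (w' : h ≫ a' = a'') (w'' : hg ≫ a = a'') :
    θ F hg a a'' w'' = θ F g a a' w ≫ (EtCoh.push g).map (θ F h a' a'' w') ≫
      (pushTri h g hg whg).hom.app ((EtCoh.pull a'').obj F) := by
  subst whg
  rw [θ_comp F h g a a' a'' w w' w'', Category.assoc]

lemma θ_id' {Y : Scheme.{u}} (g : Y ⟶ Y) (hg : g = 𝟙 Y) (a : Y ⟶ S) (w : g ≫ a = a) :
    θ F g a a w = (pushIdIso' g hg).inv.app ((EtCoh.pull a).obj F) := by
  subst hg
  rw [pushIdIso'_refl]
  exact θ_id F a w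

/-- the adjoint of `θ` is the frozen comparison isomorphism -/
lemma flat_θ {X Y : Scheme.{u}} (f : X ⟶ Y) (t : Y ⟶ S) (f₀ : X ⟶ S) (w : f ≫ t = f₀) :
    flat f (θ F f t f₀ w) = ((EtCore.pullComp f t).symm ≪≫ EtCore.pullCongr w).hom.app F := by
  subst w
  have hκ : ((EtCore.pullComp f t).symm ≪≫ EtCore.pullCongr rfl).hom.app F =
      (EtCore.pullComp f t).inv.app F := by
    simp [EtCore.pullCongr]
  rw [hκ]
  apply ((adj f).homEquiv _ _).injective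
  rw [Equiv.apply_symm_apply]
  apply ((adj t).homEquiv _ _).injective
  rw [θ, Equiv.apply_symm_apply]
  have h1 : (((EtCoh.pullPushAdj t).comp (EtCoh.pullPushAdj f)).ofNatIsoRight
        (EtCoh.pushComp t f)).unit.app F ≫
      (EtCoh.push (f ≫ t)).map ((EtCore.pullComp f t).inv.app F) =
      (EtCoh.pullPushAdj (f ≫ t)).unit.app F :=
    Adjunction.unit_leftAdjointUniq_hom_app _ _ F
  have h2 : (((EtCoh.pullPushAdj t).comp (EtCoh.pullPushAdj f)).ofNatIsoRight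
        (EtCoh.pushComp t f)).unit.app F =
      (EtCoh.pullPushAdj t).unit.app F ≫
        (EtCoh.push t).map ((EtCoh.pullPushAdj f).unit.app ((EtCoh.pull t).obj F)) ≫
          (EtCoh.pushComp t f).hom.app ((EtCoh.pull f).obj ((EtCoh.pull t).obj F)) := by
    simp
  rw [h2] at h1
  rw [Adjunction.homEquiv_unit, Adjunction.homEquiv_unit, Functor.map_comp]
  have h3 : (pushTri f t (f ≫ t) rfl).inv.app ((EtCoh.pull (f ≫ t)).obj F) =
      (EtCoh.pushComp t f).inv.app ((EtCoh.pull (f ≫ t)).obj F) := rfl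
  have nat := (EtCoh.pushComp t f).hom.naturality ((EtCore.pullComp f t).inv.app F)
  have nat' : (EtCoh.pushComp t f).hom.app ((EtCoh.pull f).obj ((EtCoh.pull t).obj F)) ≫
      (EtCoh.push (f ≫ t)).map ((EtCore.pullComp f t).inv.app F) ≫
      (EtCoh.pushComp t f).inv.app ((EtCoh.pull (f ≫ t)).obj F) =
      (EtCoh.push t).map ((EtCoh.push f).map ((EtCore.pullComp f t).inv.app F)) := by
    have nat2 : (EtCoh.pushComp t f).hom.app ((EtCoh.pull f).obj ((EtCoh.pull t).obj F)) ≫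
        (EtCoh.push (f ≫ t)).map ((EtCore.pullComp f t).inv.app F) =
        (EtCoh.push t).map ((EtCoh.push f).map ((EtCore.pullComp f t).inv.app F)) ≫
        (EtCoh.pushComp t f).hom.app ((EtCoh.pull (f ≫ t)).obj F) := nat.symm
    rw [← Category.assoc, nat2, Category.assoc, Iso.hom_inv_id_app]
    exact Category.comp_id _
  rw [h3, ← h1]
  simp only [Category.assoc]
  rw [nat']

instance isIso_flat_θ {X Y : Scheme.{u}} (f : X ⟶ Y) (t : Y ⟶ S) (f₀ : X ⟶ S) (w : f ≫ t = f₀) :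
    IsIso (flat f (θ F f t f₀ w)) := by
  rw [flat_θ]
  infer_instance

/-- the frozen relative pullback map is `Hmap` of `θ` -/
lemma HpullVia_eq_Hmap {X Y : Scheme.{u}} (f : X ⟶ Y) (t : Y ⟶ S) (f₀ : X ⟶ S) (w : f ≫ t = f₀)
    [PreservesFiniteLimits (EtCoh.pull f)] (p : ℕ) (x : EtCoh.H Y ((EtCoh.pull t).obj F) p) :
    EtCore.HpullVia f t f₀ w F p x = Hmap f (θ F f t f₀ w) p x := by
  rw [Hmap_eq]
  have h1 : ((adj f).homEquiv _ _).symm (θ F f t f₀ w) =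
      ((EtCore.pullComp f t).symm ≪≫ EtCore.pullCongr w).hom.app F := flat_θ F f t f₀ w
  rw [h1]
  rfl

/-- if `Hmap` of `θ` kills a class then so does the plain pullback -/
lemma Hpull_eq_zero_of_Hmap_θ {X Y : Scheme.{u}} (f : X ⟶ Y) (t : Y ⟶ S) (f₀ : X ⟶ S)
    (w : f ≫ t = f₀) [PreservesFiniteLimits (EtCoh.pull f)] (p : ℕ)
    (x : EtCoh.H Y ((EtCoh.pull t).obj F) p) (h : Hmap f (θ F f t f₀ w) p x = 0) :
    EtCore.Hpull f ((EtCoh.pull t).obj F) p x = 0 := by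
  rw [Hmap_eq] at h
  have h1 : ((EtCore.Hpull f ((EtCoh.pull t).obj F) p x).comp
      (Ext.mk₀ (((adj f).homEquiv _ _).symm (θ F f t f₀ w))) (add_zero p)).comp
        (Ext.mk₀ (inv (flat f (θ F f t f₀ w)))) (add_zero p) =
      (0 : Ext _ _ p).comp (Ext.mk₀ (inv (flat f (θ F f t f₀ w)))) (add_zero p) :=
    congrArg (fun e => e.comp (Ext.mk₀ (inv (flat f (θ F f t f₀ w)))) (add_zero p)) h
  rw [Ext.comp_assoc_of_third_deg_zero, Ext.mk₀_comp_mk₀, Ext.zero_comp] at h1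
  have h2 : ((adj f).homEquiv _ _).symm (θ F f t f₀ w) ≫ inv (flat f (θ F f t f₀ w)) = 𝟙 _ :=
    IsIso.hom_inv_id (flat f (θ F f t f₀ w))
  rw [h2, Ext.comp_mk₀_id] at h1
  exact h1

end Theta

section PullSys

variable {ι : Type u} [Preorder ι] {Xs : ιᵒᵖ ⥤ Scheme.{u}} (c : Cone Xs) (i₀ : ι)
  (h₀ : ∀ j, i₀ ≤ j) (F₀ : EtCoh.Ab (Xs.obj (op i₀)))

/-- the system of the pullbacks of `F₀` -/
noncomputable def pullSys : Sys Xs where
  F j := (EtCoh.pull (tr Xs (h₀ j))).obj F₀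
  θ j k h := θ F₀ (tr Xs h) (tr Xs (h₀ j)) (tr Xs (h₀ k)) (tr_comp Xs (h₀ j) h)
  cocycle i j k hij hjk := θ_comp' F₀ (tr Xs hjk) (tr Xs hij) (tr Xs (hij.trans hjk))
    (tr_comp Xs hij hjk) _ _ _ _ _ _
  unit i := θ_id' F₀ _ (tr_refl Xs i) _ _

/-- its limit datum: the pullback of `F₀` to the limit -/
noncomputable def pullLim : LimData c (pullSys i₀ h₀ F₀) where
  𝓕 := (EtCoh.pull (pj Xs c i₀)).obj F₀
  lam j := θ F₀ (pj Xs c j) (tr Xs (h₀ j)) (pj Xs c i₀) (pj_tr Xs c (h₀ j))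
  compat i j h := θ_comp' F₀ (pj Xs c j) (tr Xs h) (pj Xs c i) (pj_tr Xs c h) _ _ _ _ _ _

variable {c} [IsDirected ι (· ≤ ·)] [Nonempty ι] (hc : IsLimit c)
  (haff : ∀ ⦃a b : ιᵒᵖ⦄ (h : a ⟶ b), IsAffineHom (Xs.map h))
  [∀ i : ι, CompactSpace (Xs.obj (op i))] [∀ i : ι, QuasiSeparatedSpace (Xs.obj (op i))]

include hc haff in
/-- `H^n(X, p_{i₀}⁻¹F₀) = colim_j H^n(X_j, t_{i₀ j}⁻¹F₀)` -/
theorem pull_colim (n : ℕ) :
    SurjA (pullSys i₀ h₀ F₀) (pullLim c i₀ h₀ F₀) n ∧ InjA (pullSys i₀ h₀ F₀) (pullLim c i₀ h₀ F₀) n :=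
  colim_of_iso hc haff (pullLim c i₀ h₀ F₀)
    (fun j => isIso_flat_θ F₀ (pj Xs c j) (tr Xs (h₀ j)) (pj Xs c i₀) (pj_tr Xs c (h₀ j))) n

end PullSys

end Groth.Agent.H1.LimCoh
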