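import Groth.Agent.Lib.Helper1.LimCohSys
import Groth.Agent.Lib.Helper1.EtFiltH

/-!
# Reduction of a general system to pushforward systems (helper1)

`Dk S k`: the diagram `l ↦ (t_kl)_* F_l` of sheaves on `X_k` (over `l ≥ k`), `coconeK L k`: its cocone with
vertex `(p_k)_* 𝓕`.  If these cocones are colimit cocones, `SurjA`/`InjA` for the pushforward system of `𝓕`
imply `SurjA`/`InjA` for `(S, L)`.
-/

set_option autoImplicit false
set_option linter.unusedSectionVars false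
universe u
open CategoryTheory CategoryTheory.Limits AlgebraicGeometry Opposite CategoryTheory.Abelian

namespace Groth.Agent.H1.LimCoh

open Groth.Agent.Lib.helper27 Groth.Agent.Lib.helper27.PullFunEt
  Groth.Agent.Lib.helper27.HpullHmap

variable {ι : Type u} [Preorder ι] {Xs : ιᵒᵖ ⥤ Scheme.{u}} {c : Cone Xs}

section PushSys

variable (c)

/-- the system of the pushforwards of a sheaf on the vertex of the cone -/
noncomputable def pushSys (𝓕 : EtCoh.Ab c.pt) : Sys Xs where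
  F i := (EtCoh.push (pj Xs c i)).obj 𝓕
  θ i j h := (pushTri (pj Xs c j) (tr Xs h) (pj Xs c i) (pj_tr Xs c h)).inv.app 𝓕
  cocycle i j k hij hjk := by
    have h1 := pushTri_assoc_gen_inv (pj Xs c k) (tr Xs hjk) (tr Xs hij) (pj Xs c j)
      (tr Xs (hij.trans hjk)) (pj Xs c i) (pj_tr Xs c hjk) (tr_comp Xs hij hjk)
      (pj_tr Xs c (hij.trans hjk)) (pj_tr Xs c hij) 𝓕
    rw [← Category.assoc, h1, Category.assoc, Iso.inv_hom_id_app]
    exact (Category.comp_id _).symm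
  unit i := pushTri_right_unit (pj Xs c i) (tr Xs (le_refl i)) (tr_refl Xs i) _ 𝓕

/-- the tautological limit datum of the pushforward system -/
noncomputable def pushLim (𝓕 : EtCoh.Ab c.pt) : LimData c (pushSys c 𝓕) where
  𝓕 := 𝓕
  lam i := 𝟙 _
  compat i j h := by
    change 𝟙 _ = (pushTri (pj Xs c j) (tr Xs h) (pj Xs c i) (pj_tr Xs c h)).inv.app 𝓕 ≫
      (EtCoh.push (tr Xs h)).map (𝟙 _) ≫ _
    rw [CategoryTheory.Functor.map_id]
    erw [Category.id_comp]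
    exact (Iso.inv_hom_id_app _ _).symm

end PushSys

section Dk

variable (S : Sys Xs) (k : ι)

/-- the diagram `l ↦ (t_kl)_* F_l` on `X_k` -/
noncomputable def Dk : {l : ι // k ≤ l} ⥤ EtCoh.Ab (Xs.obj (op k)) where
  obj l := (EtCoh.push (tr Xs l.2)).obj (S.F l.1)
  map {l m} f := (EtCoh.push (tr Xs l.2)).map (S.θ (leOfHom f)) ≫
    (pushTri (tr Xs (leOfHom f)) (tr Xs l.2) (tr Xs m.2) (tr_comp Xs l.2 (leOfHom f))).hom.app (S.F m.1)
  map_id l := by
    have h1 := pushTri_left_unit (tr Xs (le_refl l.1)) (tr_refl Xs l.1) (tr Xs l.2)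
      (tr_comp Xs l.2 (le_refl l.1)) (S.F l.1)
    have h2 : S.θ (leOfHom (𝟙 l)) = S.θ (le_refl l.1) := rfl
    rw [h2, S.unit, ← h1]
    exact Iso.inv_hom_id_app _ _
  map_comp {l m n} f g := by
    have hc := S.cocycle (leOfHom f) (leOfHom g)
    have h0 : S.θ (leOfHom (f ≫ g)) = S.θ ((leOfHom f).trans (leOfHom g)) := rfl
    have hnat := (pushTri (tr Xs (leOfHom f)) (tr Xs l.2) (tr Xs m.2)
      (tr_comp Xs l.2 (leOfHom f))).hom.naturality (S.θ (leOfHom g))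
    have hassoc := pushTri_assoc_gen (tr Xs (leOfHom g)) (tr Xs (leOfHom f)) (tr Xs l.2)
      (tr Xs ((leOfHom f).trans (leOfHom g))) (tr Xs m.2) (tr Xs n.2)
      (tr_comp Xs (leOfHom f) (leOfHom g)) (tr_comp Xs l.2 (leOfHom f))
      (tr_comp Xs m.2 (leOfHom g)) (tr_comp Xs l.2 ((leOfHom f).trans (leOfHom g))) (S.F n.1)
    rw [h0, hc]
    simp only [Functor.map_comp, Category.assoc]
    simp only [Functor.comp_map] at hnat
    rw [hassoc, ← Category.assoc ((EtCoh.push (tr Xs l.2)).map ((EtCoh.push _).map _)), hnat]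
    simp only [Category.assoc]

variable {S}

/-- the cocone with vertex `(p_k)_* 𝓕` -/
noncomputable def coconeK (L : LimData c S) : Cocone (Dk S k) where
  pt := (EtCoh.push (pj Xs c k)).obj L.𝓕
  ι :=
  { app := fun l => (EtCoh.push (tr Xs l.2)).map (L.lam l.1) ≫
      (pushTri (pj Xs c l.1) (tr Xs l.2) (pj Xs c k) (pj_tr Xs c l.2)).hom.app L.𝓕
    naturality := by
      intro l m f
      have hc := L.compat (leOfHom f)
      have hnat := (pushTri (tr Xs (leOfHom f)) (tr Xs l.2) (tr Xs m.2)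
        (tr_comp Xs l.2 (leOfHom f))).hom.naturality (L.lam m.1)
      have hassoc := pushTri_assoc_gen (pj Xs c m.1) (tr Xs (leOfHom f)) (tr Xs l.2)
        (pj Xs c l.1) (tr Xs m.2) (pj Xs c k)
        (pj_tr Xs c (leOfHom f)) (tr_comp Xs l.2 (leOfHom f))
        (pj_tr Xs c m.2) (pj_tr Xs c l.2) L.𝓕
      simp only [Functor.comp_map] at hnat
      dsimp only [Dk, Functor.const_obj_obj, Functor.const_obj_map]
      rw [Category.comp_id, hc]
      simp only [Functor.map_comp, Category.assoc]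
      rw [hassoc, ← Category.assoc ((EtCoh.push (tr Xs l.2)).map ((EtCoh.push _).map _)), hnat]
      simp only [Category.assoc] }

end Dk

section Red

open Groth.Agent.H1.FiltExt Groth.Agent.H1.EtFiltH Groth.Agent.H1.EtCartan

variable [IsDirected ι (· ≤ ·)] [∀ i : ι, CompactSpace (Xs.obj (op i))]
  [∀ i : ι, QuasiSeparatedSpace (Xs.obj (op i))]

instance (k : ι) : Nonempty {l : ι // k ≤ l} := ⟨⟨k, le_refl k⟩⟩

instance (k : ι) : IsDirected {l : ι // k ≤ l} (· ≤ ·) :=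
  ⟨fun a b => by
    obtain ⟨m, h1, h2⟩ := exists_ge_ge a.1 b.1
    exact ⟨⟨m, a.2.trans h1⟩, h1, h2⟩⟩

variable {S : Sys Xs} (L : LimData c S) (hcol : ∀ k : ι, IsColimit (coconeK k L))

include hcol in
theorem colim_surj (n : ℕ) (i : ι)
    (ξi : EtCoh.H (Xs.obj (op i)) ((EtCoh.push (pj Xs c i)).obj L.𝓕) n) :
    ∃ (l : ι) (hl : i ≤ l) (y : EtCoh.H (Xs.obj (op i)) ((EtCoh.push (tr Xs hl)).obj (S.F l)) n),
      y.comp (Ext.mk₀ ((EtCoh.push (tr Xs hl)).map (L.lam l) ≫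
        (pushTri (pj Xs c l) (tr Xs hl) (pj Xs c i) (pj_tr Xs c hl)).hom.app L.𝓕)) (add_zero n) =
          ξi := by
  obtain ⟨l, y, hy⟩ := surjAt_of_isColimit n (Dk S i) (coconeK i L) (hcol i) ξi
  exact ⟨l.1, l.2, y, hy⟩

include hcol in
theorem colim_inj (n : ℕ) (k : ι) (y : EtCoh.H (Xs.obj (op k))
      ((EtCoh.push (tr Xs (le_refl k))).obj (S.F k)) n)
    (hy : y.comp (Ext.mk₀ ((EtCoh.push (tr Xs (le_refl k))).map (L.lam k) ≫
        (pushTri (pj Xs c k) (tr Xs (le_refl k)) (pj Xs c k) (pj_tr Xs c (le_refl k))).hom.app L.𝓕))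
          (add_zero n) = 0) :
    ∃ (l : ι) (hl : k ≤ l), y.comp (Ext.mk₀ ((EtCoh.push (tr Xs (le_refl k))).map (S.θ hl) ≫
      (pushTri (tr Xs hl) (tr Xs (le_refl k)) (tr Xs hl) (tr_comp Xs (le_refl k) hl)).hom.app
        (S.F l))) (add_zero n) = 0 := by
  obtain ⟨l, f, h6⟩ := injAt_of_isColimit n (Dk S k) (coconeK k L) (hcol k) ⟨k, le_refl k⟩ y hy
  exact ⟨l.1, l.2, h6⟩

include hcol in
theorem red_surj (n : ℕ) (hP : SurjA (pushSys c L.𝓕) (pushLim c L.𝓕) n) : SurjA S L n := by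
  intro ξ
  have hP' : ∀ ξ : EtCoh.H c.pt L.𝓕 n, ∃ (j : ι)
      (ξj : EtCoh.H (Xs.obj (op j)) ((EtCoh.push (pj Xs c j)).obj L.𝓕) n),
      Hmap (pj Xs c j) (𝟙 ((EtCoh.push (pj Xs c j)).obj L.𝓕)) n ξj = ξ := hP
  obtain ⟨i, ξi, rfl⟩ := hP' ξ
  obtain ⟨l, hl, y, rfl⟩ := colim_surj L hcol n i ξi
  refine ⟨l, Hmap (tr Xs hl) (𝟙 _) n y, ?_⟩
  rw [Hmap_comp' (pj Xs c l) (tr Xs hl) (pj Xs c i) (pj_tr Xs c hl), Hmap_precomp,
    Category.id_comp, Category.comp_id]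

include hcol in
theorem red_inj (n : ℕ) (hP : InjA (pushSys c L.𝓕) (pushLim c L.𝓕) n) : InjA S L n := by
  intro j ξj hξ
  have hP' : ∀ (j : ι) (ζ : EtCoh.H (Xs.obj (op j)) ((EtCoh.push (pj Xs c j)).obj L.𝓕) n),
      Hmap (pj Xs c j) (𝟙 ((EtCoh.push (pj Xs c j)).obj L.𝓕)) n ζ = 0 → ∃ (k : ι) (hk : j ≤ k),
        Hmap (tr Xs hk)
          ((pushTri (pj Xs c k) (tr Xs hk) (pj Xs c j) (pj_tr Xs c hk)).inv.app L.𝓕) n ζ = 0 := hP
  have h1 : Hmap (pj Xs c j) (𝟙 ((EtCoh.push (pj Xs c j)).obj L.𝓕)) n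
      (ξj.comp (Ext.mk₀ (L.lam j)) (add_zero n)) = 0 := by
    rw [Hmap_precomp, Category.comp_id]
    exact hξ
  obtain ⟨k, hjk, h2⟩ := hP' j _ h1
  rw [Hmap_precomp] at h2
  have h3 : L.lam j ≫ (pushTri (pj Xs c k) (tr Xs hjk) (pj Xs c j) (pj_tr Xs c hjk)).inv.app L.𝓕 =
      S.θ hjk ≫ (EtCoh.push (tr Xs hjk)).map (L.lam k) := by
    rw [L.compat hjk]
    simp only [Category.assoc, Iso.hom_inv_id_app]
    erw [Category.comp_id]
  rw [h3, ← Hmap_postcomp] at h2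
  -- the class `x` on `X_k`
  obtain ⟨x, hx⟩ : ∃ x, x = Hmap (tr Xs hjk) (S.θ hjk) n ξj := ⟨_, rfl⟩
  rw [← hx] at h2
  have h5 : (x.comp (Ext.mk₀ (S.θ (le_refl k))) (add_zero n)).comp
      (Ext.mk₀ ((EtCoh.push (tr Xs (le_refl k))).map (L.lam k) ≫
        (pushTri (pj Xs c k) (tr Xs (le_refl k)) (pj Xs c k) (pj_tr Xs c (le_refl k))).hom.app L.𝓕))
          (add_zero n) = 0 := by
    rw [Ext.comp_assoc_of_third_deg_zero, Ext.mk₀_comp_mk₀, ← L.compat (le_refl k)]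
    exact h2
  obtain ⟨l, hl, h6⟩ := colim_inj L hcol n k _ h5
  rw [Ext.comp_assoc_of_third_deg_zero, Ext.mk₀_comp_mk₀, ← S.cocycle (le_refl k) hl] at h6
  refine ⟨l, hjk.trans hl, ?_⟩
  rw [← Hmap_trans S hjk hl, ← hx]
  have h8 := Hmap_precomp (tr Xs hl) (S.θ hl) (𝟙 _) n x
  rw [Category.comp_id] at h8
  rw [← h8, h6, map_zero]

end Red

end Groth.Agent.H1.LimCoh
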