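import Groth.Agent.Lib.Helper1.LimCohHmap
import Groth.Agent.Lib.Helper1.FiltExtStep

/-!
# Systems of étale sheaves on an inverse system of schemes (helper1)

`Xs : ιᵒᵖ ⥤ Scheme` an inverse system, `c` a cone.  `Sys Xs`: sheaves `F i` on `X_i` with transition maps
`θ : F i ⟶ (t_ij)_* F j` (cocycle and unit conditions); `LimData Xs c S`: a sheaf `𝓕` on `c.pt` with compatible
maps `lam i : F i ⟶ (p_i)_* 𝓕`.  `SurjA`/`InjA`: "`H^n(c.pt, 𝓕)` is the colimit of the `H^n(X_i, F i)`",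
elementwise.  `step`: dimension shifting along a short exact sequence of systems.
-/

set_option autoImplicit false
set_option linter.unusedSectionVars false
universe u
open CategoryTheory CategoryTheory.Limits AlgebraicGeometry Opposite CategoryTheory.Abelian

namespace Groth.Agent.H1.LimCoh

open Groth.Agent.Lib.helper27 Groth.Agent.Lib.helper27.PullFunEt
  Groth.Agent.Lib.helper27.HpullHmap

variable {ι : Type u} [Preorder ι] (Xs : ιᵒᵖ ⥤ Scheme.{u})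

/-- the transition morphism `X_j ⟶ X_i` -/
abbrev tr {i j : ι} (h : i ≤ j) : Xs.obj (op j) ⟶ Xs.obj (op i) := Xs.map (homOfLE h).op

lemma tr_comp {i j k : ι} (hij : i ≤ j) (hjk : j ≤ k) :
    tr Xs hjk ≫ tr Xs hij = tr Xs (hij.trans hjk) := by
  rw [tr, tr, ← Functor.map_comp]
  rfl

lemma tr_refl (i : ι) : tr Xs (le_refl i) = 𝟙 _ := Xs.map_id _

variable (c : Cone Xs)

/-- the projection `X ⟶ X_i` -/
abbrev pj (i : ι) : c.pt ⟶ Xs.obj (op i) := c.π.app (op i)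

lemma pj_tr {i j : ι} (h : i ≤ j) : pj Xs c j ≫ tr Xs h = pj Xs c i := c.w (homOfLE h).op

/-- a system of abelian étale sheaves on the `X_i` -/
structure Sys where
  /-- the sheaves -/
  F : ∀ i : ι, EtCoh.Ab (Xs.obj (op i))
  /-- the transition maps -/
  θ : ∀ ⦃i j : ι⦄ (h : i ≤ j), F i ⟶ (EtCoh.push (tr Xs h)).obj (F j)
  cocycle : ∀ ⦃i j k : ι⦄ (hij : i ≤ j) (hjk : j ≤ k), θ (hij.trans hjk) =
    θ hij ≫ (EtCoh.push (tr Xs hij)).map (θ hjk) ≫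
      (pushTri (tr Xs hjk) (tr Xs hij) (tr Xs (hij.trans hjk)) (tr_comp Xs hij hjk)).hom.app (F k)
  unit : ∀ i : ι, θ (le_refl i) = (pushIdIso' (tr Xs (le_refl i)) (tr_refl Xs i)).inv.app (F i)

variable {Xs}

/-- a sheaf on the vertex of the cone receiving the system -/
structure LimData (S : Sys Xs) where
  /-- the sheaf -/
  𝓕 : EtCoh.Ab c.pt
  /-- the maps -/
  lam : ∀ i : ι, S.F i ⟶ (EtCoh.push (pj Xs c i)).obj 𝓕
  compat : ∀ ⦃i j : ι⦄ (h : i ≤ j), lam i = S.θ h ≫ (EtCoh.push (tr Xs h)).map (lam j) ≫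
    (pushTri (pj Xs c j) (tr Xs h) (pj Xs c i) (pj_tr Xs c h)).hom.app 𝓕

variable {c}

/-- every class on the limit comes from a stage -/
def SurjA (S : Sys Xs) (L : LimData c S) (n : ℕ) : Prop :=
  ∀ ξ : EtCoh.H c.pt L.𝓕 n, ∃ (j : ι) (ξj : EtCoh.H (Xs.obj (op j)) (S.F j) n),
    Hmap (pj Xs c j) (L.lam j) n ξj = ξ

/-- a class dying on the limit dies at a later stage -/
def InjA (S : Sys Xs) (L : LimData c S) (n : ℕ) : Prop :=
  ∀ (j : ι) (ξj : EtCoh.H (Xs.obj (op j)) (S.F j) n), Hmap (pj Xs c j) (L.lam j) n ξj = 0 →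
    ∃ (k : ι) (hk : j ≤ k), Hmap (tr Xs hk) (S.θ hk) n ξj = 0

lemma Hmap_trans (S : Sys Xs) {i j k : ι} (hij : i ≤ j) (hjk : j ≤ k) (n : ℕ)
    (x : EtCoh.H (Xs.obj (op i)) (S.F i) n) :
    Hmap (tr Xs hjk) (S.θ hjk) n (Hmap (tr Xs hij) (S.θ hij) n x) =
      Hmap (tr Xs (hij.trans hjk)) (S.θ (hij.trans hjk)) n x := by
  rw [Hmap_comp' (tr Xs hjk) (tr Xs hij) (tr Xs (hij.trans hjk)) (tr_comp Xs hij hjk),
    S.cocycle hij hjk]
  simp only [Category.assoc]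

lemma Hmap_lam (S : Sys Xs) (L : LimData c S) {j k : ι} (hjk : j ≤ k) (n : ℕ)
    (x : EtCoh.H (Xs.obj (op j)) (S.F j) n) :
    Hmap (pj Xs c k) (L.lam k) n (Hmap (tr Xs hjk) (S.θ hjk) n x) =
      Hmap (pj Xs c j) (L.lam j) n x := by
  rw [Hmap_comp' (pj Xs c k) (tr Xs hjk) (pj Xs c j) (pj_tr Xs c hjk), L.compat hjk]
  simp only [Category.assoc]

/-- a morphism of systems -/
structure SysHom (S T : Sys Xs) where
  /-- the components -/
  f : ∀ i : ι, S.F i ⟶ T.F i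
  comm : ∀ ⦃i j : ι⦄ (h : i ≤ j), S.θ h ≫ (EtCoh.push (tr Xs h)).map (f j) = f i ≫ T.θ h

/-- a morphism of limit data over a morphism of systems -/
structure LimHom {S T : Sys Xs} (φ : SysHom S T) (L : LimData c S) (M : LimData c T) where
  /-- the morphism -/
  f : L.𝓕 ⟶ M.𝓕
  comm : ∀ i : ι, L.lam i ≫ (EtCoh.push (pj Xs c i)).map f = φ.f i ≫ M.lam i

lemma Hmap_sysHom {S T : Sys Xs} (φ : SysHom S T) {j k : ι} (hjk : j ≤ k) (n : ℕ)
    (x : EtCoh.H (Xs.obj (op j)) (S.F j) n) :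
    Hmap (tr Xs hjk) (T.θ hjk) n (x.comp (Ext.mk₀ (φ.f j)) (add_zero n)) =
      (Hmap (tr Xs hjk) (S.θ hjk) n x).comp (Ext.mk₀ (φ.f k)) (add_zero n) := by
  rw [Hmap_precomp, Hmap_postcomp, φ.comm hjk]

lemma Hmap_limHom {S T : Sys Xs} (φ : SysHom S T) {L : LimData c S} {M : LimData c T}
    (Φ : LimHom φ L M) (j : ι) (n : ℕ) (x : EtCoh.H (Xs.obj (op j)) (S.F j) n) :
    Hmap (pj Xs c j) (M.lam j) n (x.comp (Ext.mk₀ (φ.f j)) (add_zero n)) =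
      (Hmap (pj Xs c j) (L.lam j) n x).comp (Ext.mk₀ Φ.f) (add_zero n) := by
  rw [Hmap_precomp, Hmap_postcomp, Φ.comm j]

section Step

variable [IsDirected ι (· ≤ ·)] {A B C : Sys Xs} (φ : SysHom A B) (ψ : SysHom B C)
  {LA : LimData c A} {LB : LimData c B} {LC : LimData c C} (Φ : LimHom φ LA LB)
  (Ψ : LimHom ψ LB LC)
  (z : ∀ i, φ.f i ≫ ψ.f i = 0) (hex : ∀ i, (ShortComplex.mk (φ.f i) (ψ.f i) (z i)).ShortExact)
  (z' : Φ.f ≫ Ψ.f = 0) (hex' : (ShortComplex.mk Φ.f Ψ.f z').ShortExact)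
  (n : ℕ) (hv : ∀ x : EtCoh.H c.pt LB.𝓕 (n + 1), x = 0)
  (hvj : ∀ (i : ι) (x : EtCoh.H (Xs.obj (op i)) (B.F i) (n + 1)), x = 0)

include hex hex' hv in
theorem step_surj (hS : SurjA C LC n) : SurjA A LA (n + 1) := by
  intro x
  obtain ⟨zz, rfl⟩ := Ext.covariant_sequence_exact₁ _ hex' x (hv _) rfl
  obtain ⟨j, w, rfl⟩ := hS zz
  refine ⟨j, w.comp (hex j).extClass rfl, ?_⟩
  exact Hmap_del (pj Xs c j) (hex j) hex' (LA.lam j) (LB.lam j) (LC.lam j) (Φ.comm j).symm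
    (Ψ.comm j).symm n w

include hex hex' hv hvj in
theorem step_inj (hI : InjA C LC n) (hS : SurjA B LB n) : InjA A LA (n + 1) := by
  intro j y hy
  obtain ⟨w, rfl⟩ := Ext.covariant_sequence_exact₁ _ (hex j) y (hvj j _) rfl
  have h1 : (Hmap (pj Xs c j) (LC.lam j) n w).comp hex'.extClass rfl = 0 := by
    rw [← Hmap_del (pj Xs c j) (hex j) hex' (LA.lam j) (LB.lam j) (LC.lam j) (Φ.comm j).symm
      (Ψ.comm j).symm n w]
    exact hy
  obtain ⟨v, hv'⟩ := Ext.covariant_sequence_exact₃ _ hex' _ rfl h1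
  obtain ⟨k, vk, rfl⟩ := hS v
  obtain ⟨l, hjl, hkl⟩ := exists_ge_ge j k
  change (Hmap (pj Xs c k) (LB.lam k) n vk).comp (Ext.mk₀ Ψ.f) (add_zero n) =
    Hmap (pj Xs c j) (LC.lam j) n w at hv'
  obtain ⟨w', hw'd⟩ : ∃ w' : EtCoh.H (Xs.obj (op l)) (C.F l) n,
      w' = Hmap (tr Xs hjl) (C.θ hjl) n w -
        (Hmap (tr Xs hkl) (B.θ hkl) n vk).comp (Ext.mk₀ (ψ.f l)) (add_zero n) := ⟨_, rfl⟩
  have hw' : Hmap (pj Xs c l) (LC.lam l) n w' = 0 := by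
    rw [hw'd, map_sub, sub_eq_zero, Hmap_lam, Hmap_limHom ψ Ψ, Hmap_lam, hv']
  obtain ⟨m, hlm, hm⟩ := hI l w' hw'
  refine ⟨m, hjl.trans hlm, ?_⟩
  rw [hw'd, map_sub, sub_eq_zero, Hmap_trans, Hmap_sysHom ψ, Hmap_trans] at hm
  have h2 := Hmap_del (tr Xs (hjl.trans hlm)) (hex j) (hex m) (A.θ (hjl.trans hlm))
    (B.θ (hjl.trans hlm)) (C.θ (hjl.trans hlm)) (φ.comm (hjl.trans hlm)).symm
    (ψ.comm (hjl.trans hlm)).symm n w
  rw [h2, hm, Ext.comp_assoc_of_second_deg_zero]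
  have h3 := (hex m).comp_extClass
  change (Ext.mk₀ (ψ.f m)).comp (hex m).extClass (zero_add 1) = 0 at h3
  rw [h3, Ext.comp_zero]

end Step

end Groth.Agent.H1.LimCoh
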