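import Groth.Agent.Lib.Helper1.AbCxElem
import Groth.Agent.Lib.Helper1.HDUSections

/-!
Helper library (helper1): the cohomology sheaf of a termwise limit of an inverse system of complexes
of abelian sheaves.
-/

set_option autoImplicit false
set_option linter.unusedSectionVars false
universe u
open CategoryTheory CategoryTheory.Limits Opposite

namespace Groth.Agent.H1.LimCx

open Groth.Agent.H1.LocProjGen Groth.Agent.Lib.helper7.FreeYoneda
  Groth.Agent.H1.AbSheafRlim Groth.Agent.H1.HDUSections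

variable {C : Type u} [SmallCategory C] {J : GrothendieckTopology C}
  (F : ℕ → CochainComplex (Sheaf J AddCommGrpCat.{u}) ℤ) (t : ∀ n, F (n + 1) ⟶ F n)

/-- the diagram -/
noncomputable abbrev D : ℕᵒᵖ ⥤ CochainComplex (Sheaf J AddCommGrpCat.{u}) ℤ :=
  CohCx.opSequence F t

/-- the projections of the termwise limit -/
noncomputable def pi (n : ℕ) : limit (D F t) ⟶ F n := limit.π (D F t) (op n)

/-- transition maps `F b ⟶ F a` for `a ≤ b` -/
noncomputable def tr {a b : ℕ} (h : a ≤ b) : F b ⟶ F a := (D F t).map (homOfLE h).op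

lemma tr_succ (n : ℕ) : tr F t (Nat.le_add_right n 1) = t n :=
  Functor.ofOpSequence_map_homOfLE_succ t n

lemma tr_refl (n : ℕ) : tr F t (le_refl n) = 𝟙 (F n) :=
  (D F t).map_id (op n)

lemma tr_comp {a b c : ℕ} (h : a ≤ b) (h' : b ≤ c) :
    tr F t h' ≫ tr F t h = tr F t (h.trans h') := by
  exact ((D F t).map_comp (homOfLE h').op (homOfLE h).op).symm

lemma pi_tr {a b : ℕ} (h : a ≤ b) : pi F t b ≫ tr F t h = pi F t a :=
  limit.w (D F t) (homOfLE h).op

lemma pi_t (n : ℕ) : pi F t (n + 1) ≫ t n = pi F t n := by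
  rw [← tr_succ F t n, pi_tr]

lemma transition_eq (n k : ℕ) :
    CohCx.transition F t n k = tr F t (Nat.le_add_right n k) := by
  induction k with
  | zero => exact (tr_refl F t n).symm
  | succ k ih =>
    change t (n + k) ≫ CohCx.transition F t n k = _
    rw [ih, ← tr_succ F t (n + k), tr_comp]

/-- the limit cone evaluated in degree `j` is a limit cone -/
noncomputable def isLimitEval (j : ℤ) :
    IsLimit ((HomologicalComplex.eval _ _ j).mapCone (limit.cone (D F t))) :=
  isLimitOfPreserves (HomologicalComplex.eval _ _ j) (limit.isLimit (D F t))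

/-- maps into the limit in degree `j` are determined by their components -/
lemma hom_ext_pi (j : ℤ) {Z : Sheaf J AddCommGrpCat.{u}} (y y' : Z ⟶ (limit (D F t)).X j)
    (h : ∀ n, y ≫ (pi F t n).f j = y' ≫ (pi F t n).f j) : y = y' := by
  apply (isLimitEval F t j).hom_ext
  intro k
  obtain ⟨n⟩ := k
  exact h n

/-- compatible families give maps into the limit in degree `j` -/
lemma exists_lift_pi (j : ℤ) {Z : Sheaf J AddCommGrpCat.{u}} (y : ∀ n, Z ⟶ (F n).X j)
    (hy : ∀ n, y (n + 1) ≫ (t n).f j = y n) :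
    ∃ y' : Z ⟶ (limit (D F t)).X j, ∀ n, y' ≫ (pi F t n).f j = y n := by
  let c : Cone (D F t ⋙ HomologicalComplex.eval _ _ j) :=
    { pt := Z
      π := NatTrans.ofOpSequence (fun n => y n) (fun n => by
        dsimp only [Functor.const_obj_obj, Functor.const_obj_map]
        rw [Category.id_comp]
        have h1 : (D F t ⋙ HomologicalComplex.eval _ _ j).map (homOfLE (n.le_add_right 1)).op =
            (t n).f j := by
          change ((D F t).map (homOfLE (n.le_add_right 1)).op).f j = _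
          rw [show (D F t).map (homOfLE (n.le_add_right 1)).op = t n from tr_succ F t n]
        rw [h1]
        exact (hy n).symm) }
  refine ⟨(isLimitEval F t j).lift c, fun n => ?_⟩
  exact (isLimitEval F t j).fac c (op n)

/-- the test object -/
noncomputable abbrev P (U : C) : Sheaf J AddCommGrpCat.{u} := (freeSheaf J).obj U

/-- the hypotheses over `U`, in terms of maps from `ℤ_U` -/
structure Good (U : C) (m : ℤ) (n₀ : ℕ) : Prop where
  a2 : ∀ u : ∀ n, P (J := J) U ⟶ (F n).X (m - 2), ∃ v : ∀ n, P (J := J) U ⟶ (F n).X (m - 2),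
    ∀ n, u n = v n - v (n + 1) ≫ (t n).f (m - 2)
  a1 : ∀ u : ∀ n, P (J := J) U ⟶ (F n).X (m - 1), ∃ v : ∀ n, P (J := J) U ⟶ (F n).X (m - 1),
    ∀ n, u n = v n - v (n + 1) ≫ (t n).f (m - 1)
  b : ∀ c : ∀ n, P (J := J) U ⟶ (F n).X (m - 1), (∀ n, c n ≫ (F n).d (m - 1) m = 0) →
    ∃ (k : ∀ n, P (J := J) U ⟶ (F n).X (m - 1)) (w : ∀ n, P (J := J) U ⟶ (F n).X (m - 2)),
      (∀ n, k n ≫ (F n).d (m - 1) m = 0) ∧
      ∀ n, c n = k n - k (n + 1) ≫ (t n).f (m - 1) + w n ≫ (F n).d (m - 2) (m - 1)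
  cinj : ∀ (k : ℕ) (z : P (J := J) U ⟶ (F (n₀ + k)).X m), z ≫ (F (n₀ + k)).d m (m + 1) = 0 →
    ∀ y : P (J := J) U ⟶ (F n₀).X (m - 1),
      z ≫ (CohCx.transition F t n₀ k).f m = y ≫ (F n₀).d (m - 1) m →
      ∃ y' : P (J := J) U ⟶ (F (n₀ + k)).X (m - 1), z = y' ≫ (F (n₀ + k)).d (m - 1) m
  csurj : ∀ (k : ℕ) (z : P (J := J) U ⟶ (F n₀).X m), z ≫ (F n₀).d m (m + 1) = 0 →
    ∃ (z' : P (J := J) U ⟶ (F (n₀ + k)).X m) (y : P (J := J) U ⟶ (F n₀).X (m - 1)),
      z' ≫ (F (n₀ + k)).d m (m + 1) = 0 ∧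
      z' ≫ (CohCx.transition F t n₀ k).f m = z + y ≫ (F n₀).d (m - 1) m

variable {F t}

/-- pulling down from index `n₀ + k` to index `k` -/
noncomputable abbrev dn (n₀ k : ℕ) : F (n₀ + k) ⟶ F k := tr F t (Nat.le_add_left k n₀)

lemma t_dn (n₀ k : ℕ) : t (n₀ + k) ≫ dn (F := F) (t := t) n₀ k = dn (F := F) (t := t) n₀ (k + 1) ≫ t k := by
  rw [← tr_succ F t (n₀ + k), ← tr_succ F t k]
  erw [tr_comp, tr_comp]

lemma pi_dn (n₀ k : ℕ) : pi F t (n₀ + k) ≫ dn (F := F) (t := t) n₀ k = pi F t k := pi_tr F t _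

lemma pi_transition (n₀ k : ℕ) : pi F t (n₀ + k) ≫ CohCx.transition F t n₀ k = pi F t n₀ := by
  rw [transition_eq, pi_tr]

lemma dn_self (n₀ : ℕ) : dn (F := F) (t := t) n₀ n₀ = CohCx.transition F t n₀ n₀ := by
  rw [transition_eq]

/-- injectivity, at the level of maps from `ℤ_U` -/
theorem exists_bound_of_good {U : C} {m : ℤ} {n₀ : ℕ} (hG : Good F t U m n₀)
    (x : P (J := J) U ⟶ (limit (D F t)).X m)
    (hx : x ≫ (limit (D F t)).d m (m + 1) = 0)
    (y : P (J := J) U ⟶ (F n₀).X (m - 1))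
    (hxy : x ≫ (pi F t n₀).f m = y ≫ (F n₀).d (m - 1) m) :
    ∃ y' : P (J := J) U ⟶ (limit (D F t)).X (m - 1), x = y' ≫ (limit (D F t)).d (m - 1) m := by
  -- step 1: all components are boundaries
  have h1 : ∀ k, ∃ y' : P (J := J) U ⟶ (F (n₀ + k)).X (m - 1),
      x ≫ (pi F t (n₀ + k)).f m = y' ≫ (F (n₀ + k)).d (m - 1) m := by
    intro k
    apply hG.cinj k _ _ y
    · rw [Category.assoc, ← HomologicalComplex.comp_f, pi_transition, hxy]
    · rw [Category.assoc, (pi F t (n₀ + k)).comm, ← Category.assoc, hx, zero_comp]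
  choose y₁ hy₁ using h1
  -- step 2: pull down
  let y₂ : ∀ n, P (J := J) U ⟶ (F n).X (m - 1) := fun n => y₁ n ≫ (dn (F := F) (t := t) n₀ n).f (m - 1)
  have hy₂ : ∀ n, x ≫ (pi F t n).f m = y₂ n ≫ (F n).d (m - 1) m := by
    intro n
    simp only [y₂]
    rw [Category.assoc, (dn (F := F) (t := t) n₀ n).comm, ← Category.assoc, ← hy₁,
      Category.assoc, ← HomologicalComplex.comp_f, pi_dn]
  -- step 3: correct by cycles
  have hc : ∀ n, (y₂ (n + 1) ≫ (t n).f (m - 1) - y₂ n) ≫ (F n).d (m - 1) m = 0 := by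
    intro n
    rw [Preadditive.sub_comp, Category.assoc, (t n).comm, ← Category.assoc, ← hy₂, ← hy₂,
      Category.assoc, ← HomologicalComplex.comp_f, pi_t, sub_self]
  obtain ⟨k, w, hk, hkw⟩ := hG.b _ hc
  obtain ⟨v, hv⟩ := hG.a2 w
  let y₃ : ∀ n, P (J := J) U ⟶ (F n).X (m - 1) := fun n =>
    y₂ n + k n + v n ≫ (F n).d (m - 2) (m - 1)
  have hy₃ : ∀ n, y₃ (n + 1) ≫ (t n).f (m - 1) = y₃ n := by
    intro n
    have e1 := hkw n
    have e2 := hv n
    have e3 : (v (n + 1) ≫ (F (n + 1)).d (m - 2) (m - 1)) ≫ (t n).f (m - 1) =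
        (v (n + 1) ≫ (t n).f (m - 2)) ≫ (F n).d (m - 2) (m - 1) := by
      rw [Category.assoc, Category.assoc, (t n).comm]
    have e4 : y₂ (n + 1) ≫ (t n).f (m - 1) = y₂ n + (k n - k (n + 1) ≫ (t n).f (m - 1) +
        w n ≫ (F n).d (m - 2) (m - 1)) := by
      rw [← e1]; abel
    change (y₂ (n + 1) + k (n + 1) + v (n + 1) ≫ _) ≫ _ = y₂ n + k n + v n ≫ _
    rw [Preadditive.add_comp, Preadditive.add_comp, e3, e4, e2, Preadditive.sub_comp]
    abel
  have hy₃d : ∀ n, y₃ n ≫ (F n).d (m - 1) m = x ≫ (pi F t n).f m := by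
    intro n
    have e5 : (v n ≫ (F n).d (m - 2) (m - 1)) ≫ (F n).d (m - 1) m = 0 := by
      rw [Category.assoc, HomologicalComplex.d_comp_d, comp_zero]
    change (y₂ n + k n + v n ≫ _) ≫ _ = _
    rw [Preadditive.add_comp, Preadditive.add_comp, hk, e5, add_zero, add_zero]
    exact (hy₂ n).symm
  obtain ⟨y', hy'⟩ := exists_lift_pi F t (m - 1) y₃ hy₃
  refine ⟨y', ?_⟩
  apply hom_ext_pi F t m
  intro n
  rw [Category.assoc, ← (pi F t n).comm, ← Category.assoc, hy', hy₃d]

/-- surjectivity, at the level of maps from `ℤ_U` -/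
theorem exists_lift_of_good {U : C} {m : ℤ} {n₀ : ℕ} (hG : Good F t U m n₀)
    (z₀ : P (J := J) U ⟶ (F n₀).X m) (hz₀ : z₀ ≫ (F n₀).d m (m + 1) = 0) :
    ∃ (z : P (J := J) U ⟶ (limit (D F t)).X m) (y : P (J := J) U ⟶ (F n₀).X (m - 1)),
      z ≫ (limit (D F t)).d m (m + 1) = 0 ∧
      z ≫ (pi F t n₀).f m = z₀ + y ≫ (F n₀).d (m - 1) m := by
  choose z' y hz'd hz'T using fun k => hG.csurj k z₀ hz₀
  -- step 2
  let δ : ∀ k, P (J := J) U ⟶ (F (n₀ + k)).X m := fun k =>
    z' (k + 1) ≫ (t (n₀ + k)).f m - z' k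
  have hδd : ∀ k, δ k ≫ (F (n₀ + k)).d m (m + 1) = 0 := by
    intro k
    change (z' (k + 1) ≫ (t (n₀ + k)).f m - z' k) ≫ _ = 0
    rw [Preadditive.sub_comp, hz'd, sub_zero, Category.assoc, (t (n₀ + k)).comm,
      ← Category.assoc]
    erw [hz'd (k + 1)]
    rw [zero_comp]
  have hδT : ∀ k, δ k ≫ (CohCx.transition F t n₀ k).f m =
      (y (k + 1) - y k) ≫ (F n₀).d (m - 1) m := by
    intro k
    change (z' (k + 1) ≫ (t (n₀ + k)).f m - z' k) ≫ _ = _
    rw [Preadditive.sub_comp, hz'T, Category.assoc, ← HomologicalComplex.comp_f]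
    have e1 : z' (k + 1) ≫ (t (n₀ + k) ≫ CohCx.transition F t n₀ k).f m =
        z₀ + y (k + 1) ≫ (F n₀).d (m - 1) m := hz'T (k + 1)
    rw [e1, Preadditive.sub_comp]
    abel
  choose u hu using fun k => hG.cinj k (δ k) (hδd k) _ (hδT k)
  -- step 3
  let ζ : ∀ k, P (J := J) U ⟶ (F k).X m := fun k => z' k ≫ (dn (F := F) (t := t) n₀ k).f m
  let u' : ∀ k, P (J := J) U ⟶ (F k).X (m - 1) := fun k =>
    u k ≫ (dn (F := F) (t := t) n₀ k).f (m - 1)
  have hζd : ∀ k, ζ k ≫ (F k).d m (m + 1) = 0 := by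
    intro k
    change (z' k ≫ _) ≫ _ = 0
    rw [Category.assoc, (dn (F := F) (t := t) n₀ k).comm, ← Category.assoc, hz'd, zero_comp]
  have hζ : ∀ k, ζ (k + 1) ≫ (t k).f m - ζ k = u' k ≫ (F k).d (m - 1) m := by
    intro k
    change (z' (k + 1) ≫ _) ≫ _ - z' k ≫ _ = (u k ≫ _) ≫ _
    rw [Category.assoc, ← HomologicalComplex.comp_f, ← t_dn, HomologicalComplex.comp_f,
      ← Category.assoc, ← Preadditive.sub_comp]
    have e1 : z' (k + 1) ≫ (t (n₀ + k)).f m - z' k = u k ≫ (F (n₀ + k)).d (m - 1) m := hu k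
    rw [e1, Category.assoc, Category.assoc, (dn (F := F) (t := t) n₀ k).comm]
  -- step 4
  obtain ⟨v, hv⟩ := hG.a1 u'
  let ζ' : ∀ k, P (J := J) U ⟶ (F k).X m := fun k => ζ k + v k ≫ (F k).d (m - 1) m
  have hζ' : ∀ k, ζ' (k + 1) ≫ (t k).f m = ζ' k := by
    intro k
    have e1 := hζ k
    have e2 := hv k
    have e3 : (v (k + 1) ≫ (F (k + 1)).d (m - 1) m) ≫ (t k).f m =
        (v (k + 1) ≫ (t k).f (m - 1)) ≫ (F k).d (m - 1) m := by
      rw [Category.assoc, Category.assoc, (t k).comm]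
    have e4 : ζ (k + 1) ≫ (t k).f m = ζ k + u' k ≫ (F k).d (m - 1) m := by
      rw [← e1]; abel
    change (ζ (k + 1) + v (k + 1) ≫ _) ≫ _ = ζ k + v k ≫ _
    rw [Preadditive.add_comp, e3, e4, e2, Preadditive.sub_comp]
    abel
  have hζ'd : ∀ k, ζ' k ≫ (F k).d m (m + 1) = 0 := by
    intro k
    change (ζ k + v k ≫ _) ≫ _ = 0
    rw [Preadditive.add_comp, hζd, Category.assoc, HomologicalComplex.d_comp_d, comp_zero,
      add_zero]
  -- step 5
  obtain ⟨z, hz⟩ := exists_lift_pi F t m ζ' hζ'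
  refine ⟨z, y n₀ + v n₀, ?_, ?_⟩
  · apply hom_ext_pi F t (m + 1)
    intro n
    rw [Category.assoc, ← (pi F t n).comm, ← Category.assoc, hz, hζ'd, zero_comp]
  · rw [hz]
    change z' n₀ ≫ (dn (F := F) (t := t) n₀ n₀).f m + v n₀ ≫ _ = _
    rw [dn_self, hz'T, Preadditive.add_comp]
    abel

section hyps

open Groth.Agent.H1.AbCxElem

lemma homEquiv_comp {G G' : Sheaf J AddCommGrpCat.{u}} (U : C) (x : P (J := J) U ⟶ G)
    (φ : G ⟶ G') : homEquiv J U G' (x ≫ φ) = φ.hom.app (op U) (homEquiv J U G x) :=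
  homEquiv_naturality_right J U φ x

lemma homEquiv_eq' {G : Sheaf J AddCommGrpCat.{u}} (U : C) (b : P (J := J) U ⟶ G) :
    homEquiv J U G b = b.hom.app (op U) (homEquiv J U _ (𝟙 _)) := by
  have := homEquiv_naturality_right J U b (𝟙 _)
  rw [Category.id_comp] at this
  exact this

/-- `Hom(ℤ_U, G) ≃+ G(U)` -/
noncomputable def secAdd (U : C) (G : Sheaf J AddCommGrpCat.{u}) :
    (P (J := J) U ⟶ G) ≃+ G.obj.obj (op U) :=
  { homEquiv J U G with
    map_add' := fun b b' => by
      change homEquiv J U G (b + b') = homEquiv J U G b + homEquiv J U G b'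
      rw [homEquiv_eq', homEquiv_eq' U b, homEquiv_eq' U b', Sheaf.Hom.add_app]
      rfl }

lemma homEquiv_zero {G : Sheaf J AddCommGrpCat.{u}} (U : C) :
    homEquiv J U G 0 = 0 := map_zero (secAdd U G)

lemma homEquiv_add {G : Sheaf J AddCommGrpCat.{u}} (U : C) (x y : P (J := J) U ⟶ G) :
    homEquiv J U G (x + y) = homEquiv J U G x + homEquiv J U G y :=
  map_add (secAdd U G) x y

lemma homEquiv_sub {G : Sheaf J AddCommGrpCat.{u}} (U : C) (x y : P (J := J) U ⟶ G) :
    homEquiv J U G (x - y) = homEquiv J U G x - homEquiv J U G y :=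
  map_sub (secAdd U G) x y

lemma limOne_hom (G : ℕ → Sheaf J AddCommGrpCat.{u}) (τ : ∀ n, G (n + 1) ⟶ G n) (U : C)
    (h : CohCx.LimOneIsZero (fun n => (G n).obj.obj (op U))
      (fun n => ((τ n).hom.app (op U)).hom))
    (u : ∀ n, P (J := J) U ⟶ G n) :
    ∃ v : ∀ n, P (J := J) U ⟶ G n, ∀ n, u n = v n - v (n + 1) ≫ τ n := by
  obtain ⟨vbar, hv⟩ := h (fun n => homEquiv J U _ (u n))
  refine ⟨fun n => (homEquiv J U _).symm (vbar n), fun n => ?_⟩
  apply (homEquiv J U (G n)).injective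
  rw [homEquiv_sub, homEquiv_comp, Equiv.apply_symm_apply, Equiv.apply_symm_apply]
  exact (congrFun hv n).symm

variable (F t) in
theorem good_of_hyps (U : C) (m : ℤ) (n₀ : ℕ)
    (ha : ∀ j : ℤ, (j = m - 2 ∨ j = m - 1) →
      CohCx.LimOneIsZero (fun n => ((F n).X j).obj.obj (op U))
        (fun n => (((t n).f j).hom.app (op U)).hom))
    (hb : CohCx.LimOneIsZero
      (fun n => ((CohCx.sectCx J U).obj (F n)).homology (m - 1))
      (fun n => (HomologicalComplex.homologyMap ((CohCx.sectCx J U).map (t n)) (m - 1)).hom))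
    (hc : ∀ k : ℕ, IsIso (HomologicalComplex.homologyMap
      ((CohCx.sectCx J U).map (CohCx.transition F t n₀ k)) m)) : Good F t U m n₀ where
  a2 := fun u => limOne_hom (fun n => (F n).X (m - 2)) (fun n => (t n).f (m - 2)) U
    (ha (m - 2) (Or.inl rfl)) u
  a1 := fun u => limOne_hom (fun n => (F n).X (m - 1)) (fun n => (t n).f (m - 1)) U
    (ha (m - 1) (Or.inr rfl)) u
  b := by
    intro c hc'
    obtain ⟨kbar, wbar, hk, hkw⟩ := exists_of_limOne_homology
      (fun n => (CohCx.sectCx J U).obj (F n)) (fun n => (CohCx.sectCx J U).map (t n))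
      (m - 2) (m - 1) m (by omega) (by omega) hb (fun n => homEquiv J U _ (c n))
      (fun n => by
        change ((F n).d (m - 1) m).hom.app (op U) (homEquiv J U _ (c n)) = 0
        rw [← homEquiv_comp, hc', homEquiv_zero])
    refine ⟨fun n => (homEquiv J U _).symm (kbar n), fun n => (homEquiv J U _).symm (wbar n),
      fun n => ?_, fun n => ?_⟩
    · apply (homEquiv J U _).injective
      rw [homEquiv_comp, Equiv.apply_symm_apply, homEquiv_zero]
      exact hk n
    · apply (homEquiv J U _).injective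
      rw [homEquiv_add, homEquiv_sub, homEquiv_comp, homEquiv_comp, Equiv.apply_symm_apply,
        Equiv.apply_symm_apply, Equiv.apply_symm_apply]
      exact hkw n
  cinj := by
    intro k z hz y hzy
    have := hc k
    obtain ⟨ybar, hy⟩ := exists_bound_of_injective
      ((CohCx.sectCx J U).map (CohCx.transition F t n₀ k)) (m - 1) m (m + 1) (by omega) rfl
      (ConcreteCategory.bijective_of_isIso _).1 (homEquiv J U _ z)
      (by
        change ((F (n₀ + k)).d m (m + 1)).hom.app (op U) (homEquiv J U _ z) = 0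
        rw [← homEquiv_comp, hz, homEquiv_zero])
      (homEquiv J U _ y)
      (by
        change ((CohCx.transition F t n₀ k).f m).hom.app (op U) (homEquiv J U _ z) =
          ((F n₀).d (m - 1) m).hom.app (op U) (homEquiv J U _ y)
        rw [← homEquiv_comp, ← homEquiv_comp, hzy])
    refine ⟨(homEquiv J U _).symm ybar, ?_⟩
    apply (homEquiv J U _).injective
    rw [homEquiv_comp, Equiv.apply_symm_apply]
    exact hy
  csurj := by
    intro k z hz
    have := hc k
    obtain ⟨zbar, ybar, h1, h2⟩ := exists_lift_of_surjective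
      ((CohCx.sectCx J U).map (CohCx.transition F t n₀ k)) (m - 1) m (m + 1) (by omega) rfl
      (ConcreteCategory.bijective_of_isIso _).2 (homEquiv J U _ z)
      (by
        change ((F n₀).d m (m + 1)).hom.app (op U) (homEquiv J U _ z) = 0
        rw [← homEquiv_comp, hz, homEquiv_zero])
    refine ⟨(homEquiv J U _).symm zbar, (homEquiv J U _).symm ybar, ?_, ?_⟩
    · apply (homEquiv J U _).injective
      rw [homEquiv_comp, Equiv.apply_symm_apply, homEquiv_zero]
      exact h1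
    · apply (homEquiv J U _).injective
      rw [homEquiv_add, homEquiv_comp, homEquiv_comp, Equiv.apply_symm_apply,
        Equiv.apply_symm_apply]
      exact h2

end hyps

section main

open Groth.Agent.H1.SingleHom

theorem isIso_homologyMap_pi (m : ℤ) (n₀ : ℕ) (B : Set C)
    (hB : ∀ U : C, ∃ (ι : Type u) (Y : ι → C) (f : ∀ i, Y i ⟶ U),
      Sieve.ofArrows Y f ∈ J U ∧ ∀ i, Y i ∈ B)
    (hG : ∀ U ∈ B, Good F t U m n₀) :
    IsIso (HomologicalComplex.homologyMap (pi F t n₀) m) := by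
  let _ : HasDerivedCategory (Sheaf J AddCommGrpCat.{u}) := HasDerivedCategory.standard _
  have hP := locProj_freeSheaf J
  apply isIso_of_sections hP
  · intro X s hs
    obtain ⟨T, hT, hl⟩ := hP.lift ((limit (D F t)).homologyπ m) s
    apply hP.ext s 0 T hT
    intro Y g hg
    obtain ⟨z, hz⟩ := hl g hg
    rw [comp_zero, ← hz]
    have h1 : (z ≫ HomologicalComplex.cyclesMap (pi F t n₀) m) ≫ (F n₀).homologyπ m = 0 := by
      rw [Category.assoc, ← HomologicalComplex.homologyπ_naturality, ← Category.assoc, hz,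
        Category.assoc, hs, comp_zero]
    obtain ⟨A', π', hπ', x₁, hx⟩ :=
      (exact_toCycles_homologyπ (F n₀) (m - 1) m (by omega)).exact_up_to_refinements _ h1
    dsimp at hx
    obtain ⟨T₂, hT₂, hl₂⟩ := hP.lift π' (𝟙 ((freeSheaf J).obj Y))
    apply hP.ext _ 0 T₂ hT₂
    intro Y' g' hg'
    obtain ⟨s', hs'⟩ := hl₂ g' hg'
    rw [Category.comp_id] at hs'
    obtain ⟨ι, W, w, hcov, hW⟩ := hB Y'
    rw [comp_zero]
    apply eq_zero_of_family hP _ W w hcov
    intro i
    let zi : P (J := J) (W i) ⟶ (limit (D F t)).cycles m :=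
      (freeSheaf J).map (w i) ≫ (freeSheaf J).map g' ≫ z
    let y : P (J := J) (W i) ⟶ (F n₀).X (m - 1) := (freeSheaf J).map (w i) ≫ s' ≫ x₁
    have hxy : (zi ≫ (limit (D F t)).iCycles m) ≫ (pi F t n₀).f m =
        y ≫ (F n₀).d (m - 1) m := by
      simp only [zi, y, Category.assoc]
      rw [← HomologicalComplex.cyclesMap_i, ← (F n₀).toCycles_i (m - 1) m]
      rw [← Category.assoc z, ← Category.assoc ((freeSheaf J).map g'), ← hs',
        Category.assoc s', hx]
      simp only [Category.assoc]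
    obtain ⟨y', hy'⟩ := exists_bound_of_good (hG (W i) (hW i))
      (zi ≫ (limit (D F t)).iCycles m) (by rw [Category.assoc, HomologicalComplex.iCycles_d,
        comp_zero]) y hxy
    have hzi : zi = y' ≫ (limit (D F t)).toCycles (m - 1) m := by
      have e1 : (y' ≫ (limit (D F t)).toCycles (m - 1) m) ≫ (limit (D F t)).iCycles m =
          y' ≫ (limit (D F t)).d (m - 1) m := by
        rw [Category.assoc, HomologicalComplex.toCycles_i]
      exact (cancel_mono ((limit (D F t)).iCycles m)).1 (hy'.trans e1.symm)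
    change (freeSheaf J).map (w i) ≫ (freeSheaf J).map g' ≫ z ≫ _ = 0
    rw [← Category.assoc ((freeSheaf J).map g'), ← Category.assoc ((freeSheaf J).map (w i))]
    change zi ≫ _ = 0
    rw [hzi, Category.assoc, HomologicalComplex.toCycles_comp_homologyπ, comp_zero]
  · intro X s'
    obtain ⟨T, hT, hl⟩ := hP.lift ((F n₀).homologyπ m) s'
    let T' : Sieve X :=
      { arrows := fun Z f => ∃ s : (freeSheaf J).obj Z ⟶ (limit (D F t)).homology m,
          s ≫ HomologicalComplex.homologyMap (pi F t n₀) m = (freeSheaf J).map f ≫ s'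
        downward_closed := by
          rintro Z Z' f ⟨s, hs⟩ u
          exact ⟨(freeSheaf J).map u ≫ s, by
            rw [Category.assoc, hs, Functor.map_comp, Category.assoc]⟩ }
    refine ⟨T', ?_, fun Y g hg => hg⟩
    refine J.transitive hT T' ?_
    intro Y g hg
    obtain ⟨z₀, hz₀⟩ := hl g hg
    obtain ⟨ι, W, w, hcov, hW⟩ := hB Y
    refine J.superset_covering ?_ hcov
    intro Z f hf
    obtain ⟨i, u', rfl⟩ := (Sieve.mem_ofArrows_iff W w f).1 hf
    change T'.arrows ((u' ≫ w i) ≫ g)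
    rw [Category.assoc]
    apply T'.downward_closed
    obtain ⟨z, y, hzd, hzy⟩ := exists_lift_of_good (hG (W i) (hW i))
      ((freeSheaf J).map (w i) ≫ z₀ ≫ (F n₀).iCycles m)
      (by rw [Category.assoc, Category.assoc, HomologicalComplex.iCycles_d, comp_zero, comp_zero])
    refine ⟨(limit (D F t)).liftCycles z (m + 1) (by simp) hzd ≫
      (limit (D F t)).homologyπ m, ?_⟩
    rw [Category.assoc, HomologicalComplex.homologyπ_naturality, ← Category.assoc,
      HomologicalComplex.liftCycles_comp_cyclesMap]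
    have e : (F n₀).liftCycles (z ≫ (pi F t n₀).f m) (m + 1) (by simp)
        (by rw [Category.assoc, (pi F t n₀).comm, ← Category.assoc, hzd, zero_comp]) =
        (freeSheaf J).map (w i) ≫ z₀ + y ≫ (F n₀).toCycles (m - 1) m := by
      rw [← cancel_mono ((F n₀).iCycles m), HomologicalComplex.liftCycles_i,
        Preadditive.add_comp, Category.assoc, Category.assoc, HomologicalComplex.toCycles_i,
        hzy]
    rw [e, Preadditive.add_comp, Category.assoc, Category.assoc,
      HomologicalComplex.toCycles_comp_homologyπ, comp_zero, add_zero, hz₀, Functor.map_comp,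
      Category.assoc]

end main

end Groth.Agent.H1.LimCx
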