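import Groth.Agent.Lib.Helper1.TruncTower2

/-!
Helper library (helper1): generic version (for an abelian category `𝒜` with a family of "locally
projective generators" `P : C ⥤ 𝒜` indexed by a site) of the criterion
`TruncTower2.isRlimVia_truncTower_of_pointwise`: `E = R lim τ_{≥ -n} E` from pointwise vanishing.
-/

set_option autoImplicit false
set_option linter.unusedSectionVars false
universe w u
open CategoryTheory CategoryTheory.Limits Opposite DerivedCategory Pretriangulated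

namespace Groth.Agent.H1.LocProjGen

open Groth.Agent.H1.SingleHom Groth.Agent.H1.MilnorHom Groth.Agent.H1.GoodCd
  Groth.Agent.H1.TruncTower Groth.Agent.H1.TruncTower2

variable {C : Type u} [SmallCategory C] (J : GrothendieckTopology C)
  {𝒜 : Type (u + 1)} [Category.{u} 𝒜] [Abelian 𝒜] [HasDerivedCategory.{w} 𝒜] (P : C ⥤ 𝒜)

/-- `P : C ⥤ 𝒜` is a family of locally projective generators relative to the topology `J` -/
structure LocProj : Prop where
  lift : ∀ {G' G'' : 𝒜} (π : G' ⟶ G'') [Epi π] {X : C} (s : P.obj X ⟶ G''),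
    ∃ T ∈ J X, ∀ ⦃Y : C⦄ (g : Y ⟶ X), T g → ∃ s' : P.obj Y ⟶ G', s' ≫ π = P.map g ≫ s
  ext : ∀ {M : 𝒜} {X : C} (s s' : P.obj X ⟶ M) (T : Sieve X), T ∈ J X →
    (∀ ⦃Y : C⦄ (g : Y ⟶ X), T g → P.map g ≫ s = P.map g ≫ s') → s = s'
  hom_ext : ∀ {G G' : 𝒜} (f f' : G ⟶ G'),
    (∀ (X : C) (s : P.obj X ⟶ G), s ≫ f = s ≫ f') → f = f'

variable {J P} (hP : LocProj J P)

include hP

lemma mono_of_sections {G G' : 𝒜} (φ : G ⟶ G')
    (h : ∀ (X : C) (s : P.obj X ⟶ G), s ≫ φ = 0 → s = 0) : Mono φ := by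
  apply Preadditive.mono_of_cancel_zero
  intro Z g hg
  apply hP.hom_ext
  intro X s
  rw [comp_zero]
  apply h
  rw [Category.assoc, hg, comp_zero]

lemma epi_of_local_sections {G G' : 𝒜} (φ : G ⟶ G')
    (h : ∀ (X : C) (s : P.obj X ⟶ G'), ∃ T ∈ J X, ∀ ⦃Y : C⦄ (g : Y ⟶ X), T g →
      ∃ s' : P.obj Y ⟶ G, s' ≫ φ = P.map g ≫ s) : Epi φ := by
  apply Preadditive.epi_of_cancel_zero
  intro Z g hg
  apply hP.hom_ext
  intro X s
  rw [comp_zero]
  obtain ⟨T, hT, hl⟩ := h X s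
  apply hP.ext _ _ T hT
  intro Y g' hg'
  obtain ⟨s', hs'⟩ := hl g' hg'
  rw [comp_zero, ← Category.assoc, ← hs', Category.assoc, hg, comp_zero]

lemma isIso_of_sections {G G' : 𝒜} (φ : G ⟶ G')
    (h₁ : ∀ (X : C) (s : P.obj X ⟶ G), s ≫ φ = 0 → s = 0)
    (h₂ : ∀ (X : C) (s : P.obj X ⟶ G'), ∃ T ∈ J X, ∀ ⦃Y : C⦄ (g : Y ⟶ X), T g →
      ∃ s' : P.obj Y ⟶ G, s' ≫ φ = P.map g ≫ s) : IsIso φ := by
  have := mono_of_sections hP φ h₁
  have := epi_of_local_sections hP φ h₂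
  exact isIso_of_mono_of_epi φ

lemma eq_zero_of_family {G : 𝒜} {X : C} (s : P.obj X ⟶ G)
    {ι : Type u} (Y : ι → C) (g : ∀ i, Y i ⟶ X) (hcov : Sieve.ofArrows Y g ∈ J X)
    (h : ∀ i, P.map (g i) ≫ s = 0) : s = 0 := by
  apply hP.ext s 0 _ hcov
  intro Z f hf
  obtain ⟨i, u, rfl⟩ := (Sieve.mem_ofArrows_iff Y g f).1 hf
  rw [Functor.map_comp, Category.assoc, h i, comp_zero, comp_zero]

omit hP in
/-- `single_j (P Y)` -/
noncomputable abbrev Xj (P : C ⥤ 𝒜) (Y : C) (j : ℤ) : DerivedCategory 𝒜 :=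
  (singleFunctor 𝒜 j).obj (P.obj Y)

omit hP in
/-- restriction -/
noncomputable abbrev res (P : C ⥤ 𝒜) {X Y : C} (g : Y ⟶ X) (j : ℤ) : Xj P Y j ⟶ Xj P X j :=
  (singleFunctor 𝒜 j).map (P.map g)

/-- sections of `H^j(M)` are locally represented by classes in `h^j` -/
lemma exists_local_rep (M : DerivedCategory 𝒜) (j : ℤ) {X : C}
    (s : P.obj X ⟶ (homologyFunctor 𝒜 j).obj M) :
    ∃ T ∈ J X, ∀ ⦃Y : C⦄ (g : Y ⟶ X), T g → ∃ σ : Xj P Y j ⟶ M, rho σ = P.map g ≫ s := by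
  let e := Q.objObjPreimageIso M
  let E := Q.objPreimage M
  let s₁ : P.obj X ⟶ E.homology j :=
    s ≫ (homologyFunctor _ j).map e.inv ≫ (hIso E j).hom
  obtain ⟨T, hT, hl⟩ := hP.lift (E.homologyπ j) s₁
  refine ⟨T, hT, fun Y g hg => ?_⟩
  obtain ⟨z, hz⟩ := hl g hg
  refine ⟨sig E j z ≫ e.hom, ?_⟩
  rw [rho_comp, rho_sig', ← Category.assoc z, hz]
  simp only [s₁, Category.assoc]
  rw [Iso.hom_inv_id_assoc, ← Functor.map_comp, e.inv_hom_id, CategoryTheory.Functor.map_id,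
    Category.comp_id]

/-- classes killed by `rho` are locally zero -/
lemma exists_local_zero (M : DerivedCategory 𝒜) (j : ℤ) {X : C}
    (σ : Xj P X j ⟶ M) (h : rho σ = 0) :
    ∃ T ∈ J X, ∀ ⦃Y : C⦄ (g : Y ⟶ X), T g → res P g j ≫ σ = 0 := by
  obtain ⟨E, e, z, hσ⟩ := exists_cycle_rep σ
  have hz : z ≫ E.homologyπ j = 0 := by
    rw [hσ, rho_comp, rho_sig'] at h
    have h2 : (z ≫ E.homologyπ j) ≫ ((hIso E j).inv ≫
        (homologyFunctor _ j).map e.hom) = 0 := by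
      simpa only [Category.assoc] using h
    have : IsIso ((hIso E j).inv ≫ (homologyFunctor 𝒜 j).map e.hom) := inferInstance
    rw [← cancel_mono ((hIso E j).inv ≫ (homologyFunctor 𝒜 j).map e.hom), h2,
      zero_comp]
  obtain ⟨A', π, hπ, x₁, hx⟩ :=
    (exact_toCycles_homologyπ E (j - 1) j (by omega)).exact_up_to_refinements z hz
  obtain ⟨T, hT, hl⟩ := hP.lift π (𝟙 (P.obj X))
  refine ⟨T, hT, fun Y g hg => ?_⟩
  obtain ⟨s', hs'⟩ := hl g hg
  rw [Category.comp_id] at hs'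
  dsimp at hx
  rw [hσ, ← Category.assoc]
  unfold res
  rw [sig_precomp, ← hs', Category.assoc, hx, ← Category.assoc,
    sig_toCycles E (j - 1) j (by omega), zero_comp]

omit hP in
lemma transition_spec (K : ℕ → DerivedCategory 𝒜) (t : ∀ n, K (n + 1) ⟶ K n)
    {L : DerivedCategory 𝒜} (a : ∀ n, L ⟶ K n)
    (hcompat : ∀ m, a (m + 1) ≫ t m = a m) (j : ℤ) (n : ℕ)
    (hn : ∀ m, n ≤ m → IsIso ((homologyFunctor 𝒜 j).map (t m))) (k : ℕ) :
    a (n + k) ≫ CohCx.transition K t n k = a n ∧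
      IsIso ((homologyFunctor 𝒜 j).map (CohCx.transition K t n k)) := by
  induction k with
  | zero =>
    constructor
    · exact Category.comp_id _
    · change IsIso ((homologyFunctor 𝒜 j).map (𝟙 _))
      infer_instance
  | succ k ih =>
    constructor
    · change a (n + k + 1) ≫ t (n + k) ≫ CohCx.transition K t n k = a n
      rw [← Category.assoc, hcompat, ih.1]
    · change IsIso ((homologyFunctor 𝒜 j).map (t (n + k) ≫ CohCx.transition K t n k))
      rw [Functor.map_comp]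
      have := hn (n + k) (by omega)
      have := ih.2
      infer_instance

/-- abstract form of `isIso_homology_a` -/
theorem isIso_homology_a_of_key {K : ℕ → DerivedCategory 𝒜} {t : ∀ n, K (n + 1) ⟶ K n}
    (L : DerivedCategory 𝒜) (a : ∀ n, L ⟶ K n)
    (hcompat : ∀ m, a (m + 1) ≫ t m = a m) (j : ℤ) (n : ℕ)
    (hn : ∀ m, n ≤ m → IsIso ((homologyFunctor 𝒜 j).map (t m)))
    (key : ∀ U : C, ∃ (ι : Type u) (V : ι → C) (gV : ∀ i, V i ⟶ U), Sieve.ofArrows V gV ∈ J U ∧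
      ∀ i, ∃ (G : C → Prop) (k : ℕ),
        (∀ T ∈ J (V i), ∃ (ι' : Type u) (Y : ι' → C) (g : ∀ l, Y l ⟶ V i),
          (∀ l, T.arrows (g l)) ∧ Sieve.ofArrows Y g ∈ J (V i) ∧ ∀ l, G (Y l)) ∧
        (∀ W, G W → Function.Bijective (fun σ : Xj P W j ⟶ L => σ ≫ a (n + k)))) :
    IsIso ((homologyFunctor 𝒜 j).map (a n)) := by
  apply isIso_of_sections hP
  · -- injectivity on sections
    intro X s hs
    obtain ⟨ι₀, V₀, gV₀, hcov₀, hV₀⟩ := key X
    apply eq_zero_of_family hP s V₀ gV₀ hcov₀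
    intro i₀
    obtain ⟨G, k, hd, hbij⟩ := hV₀ i₀
    obtain ⟨htr, htriso⟩ := transition_spec K t a hcompat j n hn k
    set s' := P.map (gV₀ i₀) ≫ s with hs'
    have hs0 : s' ≫ (homologyFunctor 𝒜 j).map (a (n + k)) = 0 := by
      have h1 : s' ≫ (homologyFunctor 𝒜 j).map (a n) = 0 := by
        rw [hs', Category.assoc, hs, comp_zero]
      rw [← htr, Functor.map_comp, ← Category.assoc] at h1
      rw [← cancel_mono ((homologyFunctor 𝒜 j).map (CohCx.transition K t n k)), h1,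
        zero_comp]
    let T : Sieve (V₀ i₀) :=
      { arrows := fun Z f => ∃ σ : Xj P Z j ⟶ L, rho σ = P.map f ≫ s' ∧ σ ≫ a (n + k) = 0
        downward_closed := by
          rintro Z Z' f ⟨σ, h1, h2⟩ u
          refine ⟨res P u j ≫ σ, ?_, ?_⟩
          · rw [rho_precomp, h1, Functor.map_comp, Category.assoc]
          · rw [Category.assoc, h2, comp_zero] }
    have hT : T ∈ J (V₀ i₀) := by
      obtain ⟨T₁, hT₁, hl₁⟩ := exists_local_rep hP L j s'
      refine J.transitive hT₁ T ?_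
      intro Y f hf
      obtain ⟨σ, hσ⟩ := hl₁ f hf
      have h0 : rho (σ ≫ a (n + k)) = 0 := by
        rw [rho_comp, hσ, Category.assoc, hs0, comp_zero]
      obtain ⟨T₂, hT₂, hl₂⟩ := exists_local_zero hP (K (n + k)) j (σ ≫ a (n + k)) h0
      refine J.superset_covering ?_ hT₂
      intro Z u hu
      refine ⟨res P u j ≫ σ, ?_, ?_⟩
      · rw [rho_precomp, hσ, Functor.map_comp, Category.assoc]
      · rw [Category.assoc]
        exact hl₂ u hu
    obtain ⟨ι, Y, gY, hYT, hYcov, hYgood⟩ := hd T hT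
    apply eq_zero_of_family hP s' Y gY hYcov
    intro i
    obtain ⟨σ, h1, h2⟩ := hYT i
    have : σ = 0 := (hbij (Y i) (hYgood i)).1 (by
      dsimp only
      rw [h2, zero_comp])
    rw [← h1, this, rho_zero]
  · -- local surjectivity on sections
    intro X s'
    let T : Sieve X :=
      { arrows := fun Z f => ∃ s : P.obj Z ⟶ (homologyFunctor 𝒜 j).obj L,
          s ≫ (homologyFunctor 𝒜 j).map (a n) = P.map f ≫ s'
        downward_closed := by
          rintro Z Z' f ⟨s, hs⟩ u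
          exact ⟨P.map u ≫ s, by rw [Category.assoc, hs, Functor.map_comp, Category.assoc]⟩ }
    refine ⟨T, ?_, fun Y g hg => hg⟩
    obtain ⟨ι, V, gV, hVcov, hVB⟩ := key X
    refine J.transitive hVcov T ?_
    intro Z f hf
    obtain ⟨i, u, rfl⟩ := (Sieve.mem_ofArrows_iff V gV f).1 hf
    rw [Sieve.pullback_comp]
    apply J.pullback_stable
    obtain ⟨G, k, hd, hbij⟩ := hVB i
    obtain ⟨htr, htriso⟩ := transition_spec K t a hcompat j n hn k
    let s'' : P.obj (V i) ⟶ (homologyFunctor 𝒜 j).obj (K (n + k)) :=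
      P.map (gV i) ≫ s' ≫ inv ((homologyFunctor 𝒜 j).map (CohCx.transition K t n k))
    obtain ⟨T₁, hT₁, hl₁⟩ := exists_local_rep hP (K (n + k)) j s''
    obtain ⟨ι', W, gW, hWT, hWcov, hWgood⟩ := hd T₁ hT₁
    refine J.superset_covering ?_ hWcov
    intro Z' f' hf'
    obtain ⟨i', u', rfl⟩ := (Sieve.mem_ofArrows_iff W gW f').1 hf'
    change T.arrows ((u' ≫ gW i') ≫ gV i)
    rw [Category.assoc]
    apply T.downward_closed
    obtain ⟨σ', hσ'⟩ := hl₁ (gW i') (hWT i')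
    obtain ⟨σ, hσ⟩ := (hbij (W i') (hWgood i')).2 σ'
    dsimp only at hσ
    refine ⟨rho σ, ?_⟩
    rw [← htr, Functor.map_comp, ← Category.assoc, ← rho_comp, hσ, hσ']
    simp only [s'', Category.assoc, IsIso.inv_hom_id, Category.comp_id]
    rw [Functor.map_comp, Category.assoc]

/-- **Pointwise criterion** (generic form). -/
theorem isRlimVia_truncTower_of_pointwise (E : DerivedCategory 𝒜)
    [HasProduct (CohCx.truncTower E)]
    (hgood : ∀ (j : ℤ) (U : C), ∃ (ι : Type u) (V : ι → C) (gV : ∀ i, V i ⟶ U),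
      Sieve.ofArrows V gV ∈ J U ∧
      ∀ i, ∃ (n₁ : ℕ), ∀ T ∈ J (V i), ∃ (ι' : Type u) (Y : ι' → C) (g : ∀ l, Y l ⟶ V i),
        (∀ l, T.arrows (g l)) ∧ Sieve.ofArrows Y g ∈ J (V i) ∧
        ∀ l, ∀ m, n₁ ≤ m → ∀ (j' : ℤ), j - 1 ≤ j' → j' ≤ j → ∀ b : ℤ,
          (b = -(m : ℤ) - 2 ∨ b = -(m : ℤ) - 1) →
          ∀ σ : Xj P (Y l) j' ⟶ (singleFunctor 𝒜 b).obj
            ((homologyFunctor 𝒜 (-(m : ℤ) - 1)).obj E), σ = 0) :
    CohCx.IsRlimVia (CohCx.truncTower E) (CohCx.truncTowerMap E) E (CohCx.toTruncTower E) := by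
  apply isRlimVia_truncTower_of_isIso
  intro L a hL i
  apply isIso_homology_a_of_key hP L a (a_compat hL) i (-i).toNat
    (fun m hm => isIso_homology_truncTowerMap E m i (by omega))
  intro U
  obtain ⟨ι, V, gV, hcov, hV⟩ := hgood i U
  refine ⟨ι, V, gV, hcov, fun i₀ => ?_⟩
  obtain ⟨n₁, hn₁⟩ := hV i₀
  refine ⟨fun W => ∀ m, n₁ ≤ m → ∀ (j' : ℤ), i - 1 ≤ j' → j' ≤ i → ∀ b : ℤ,
      (b = -(m : ℤ) - 2 ∨ b = -(m : ℤ) - 1) →
      ∀ σ : Xj P W j' ⟶ (singleFunctor 𝒜 b).obj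
        ((homologyFunctor 𝒜 (-(m : ℤ) - 1)).obj E), σ = 0, n₁, hn₁, fun W hW => ?_⟩
  have bij : ∀ (j' : ℤ), i - 1 ≤ j' → j' ≤ i → ∀ m, n₁ ≤ m →
      Function.Bijective (fun σ : Xj P W j' ⟶ CohCx.truncTower E (m + 1) =>
        σ ≫ CohCx.truncTowerMap E m) := by
    intro j' h1 h2 m hm
    exact bijective_comp_truncTowerMap E m (Xj P W j')
      (fun σ => hW m hm j' h1 h2 _ (Or.inl rfl) σ)
      (fun σ => hW m hm j' h1 h2 _ (Or.inr rfl) σ)
  refine bijective_comp_a (Xj P W i) hL n₁ (fun m hm => bij i (by omega) le_rfl m hm)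
    (fun m hm => ?_) ((-i).toNat + n₁) (by omega)
  exact bijective_comp_of_iso
    (((singleFunctors 𝒜).shiftIso 1 (i - 1) i (by omega)).app (P.obj W))
    (CohCx.truncTowerMap E m) (bij (i - 1) le_rfl (by omega) m hm)

end Groth.Agent.H1.LocProjGen
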