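import Groth.Agent.Lib.Helper1.AbSheafRlim

/-!
Helper library (helper1): variant of `LocProjGen.isIso_homology_a_of_key` and of the pointwise
criterion where the bound is allowed to vary along the members of the covering (needed for
topological spaces, where the bound depends on the point).
-/

set_option autoImplicit false
set_option linter.unusedSectionVars false
universe w u
open CategoryTheory CategoryTheory.Limits Opposite DerivedCategory Pretriangulated

namespace Groth.Agent.H1.LocProjPt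

open Groth.Agent.H1.SingleHom Groth.Agent.H1.MilnorHom Groth.Agent.H1.GoodCd
  Groth.Agent.H1.TruncTower Groth.Agent.H1.TruncTower2 Groth.Agent.H1.LocProjGen

variable {C : Type u} [SmallCategory C] {J : GrothendieckTopology C}
  {𝒜 : Type (u + 1)} [Category.{u} 𝒜] [Abelian 𝒜] [HasDerivedCategory.{w} 𝒜] {P : C ⥤ 𝒜}
  (hP : LocProj J P)

include hP

theorem isIso_homology_a_of_key' {K : ℕ → DerivedCategory 𝒜} {t : ∀ n, K (n + 1) ⟶ K n}
    (L : DerivedCategory 𝒜) (a : ∀ n, L ⟶ K n)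
    (hcompat : ∀ m, a (m + 1) ≫ t m = a m) (j : ℤ) (n : ℕ)
    (hn : ∀ m, n ≤ m → IsIso ((homologyFunctor 𝒜 j).map (t m)))
    (key : ∀ U : C, ∃ (ι : Type u) (k : ι → ℕ) (G : ι → C → Prop),
      (∀ W i, G i W → Function.Bijective (fun σ : Xj P W j ⟶ L => σ ≫ a (n + k i))) ∧
      ∀ (T : ι → Sieve U), (∀ i, T i ∈ J U) →
        ∃ (ι' : Type u) (Y : ι' → C) (g : ∀ l, Y l ⟶ U) (c : ι' → ι),
          Sieve.ofArrows Y g ∈ J U ∧ ∀ l, (T (c l)).arrows (g l) ∧ G (c l) (Y l)) :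
    IsIso ((homologyFunctor 𝒜 j).map (a n)) := by
  apply isIso_of_sections hP
  · -- injectivity on sections
    intro X s hs
    obtain ⟨ι, k, G, hbij, hfam⟩ := key X
    have hs0 : ∀ i, s ≫ (homologyFunctor 𝒜 j).map (a (n + k i)) = 0 := by
      intro i
      obtain ⟨htr, htriso⟩ := transition_spec K t a hcompat j n hn (k i)
      have h1 := hs
      rw [← htr, Functor.map_comp, ← Category.assoc] at h1
      rw [← cancel_mono ((homologyFunctor 𝒜 j).map (CohCx.transition K t n (k i))), h1,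
        zero_comp]
    let T : ι → Sieve X := fun i =>
      { arrows := fun Z f => ∃ σ : Xj P Z j ⟶ L, rho σ = P.map f ≫ s ∧ σ ≫ a (n + k i) = 0
        downward_closed := by
          rintro Z Z' f ⟨σ, h1, h2⟩ u
          refine ⟨res P u j ≫ σ, ?_, ?_⟩
          · rw [rho_precomp, h1, Functor.map_comp, Category.assoc]
          · rw [Category.assoc, h2, comp_zero] }
    have hT : ∀ i, T i ∈ J X := by
      intro i
      obtain ⟨T₁, hT₁, hl₁⟩ := exists_local_rep hP L j s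
      refine J.transitive hT₁ (T i) ?_
      intro Y f hf
      obtain ⟨σ, hσ⟩ := hl₁ f hf
      have h0 : rho (σ ≫ a (n + k i)) = 0 := by
        rw [rho_comp, hσ, Category.assoc, hs0 i, comp_zero]
      obtain ⟨T₂, hT₂, hl₂⟩ := exists_local_zero hP (K (n + k i)) j (σ ≫ a (n + k i)) h0
      refine J.superset_covering ?_ hT₂
      intro Z u hu
      refine ⟨res P u j ≫ σ, ?_, ?_⟩
      · rw [rho_precomp, hσ, Functor.map_comp, Category.assoc]
      · rw [Category.assoc]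
        exact hl₂ u hu
    obtain ⟨ι', Y, gY, c, hYcov, hY⟩ := hfam T hT
    apply eq_zero_of_family hP s Y gY hYcov
    intro l
    obtain ⟨⟨σ, h1, h2⟩, hG⟩ := hY l
    have : σ = 0 := (hbij (Y l) (c l) hG).1 (by
      dsimp only
      rw [h2, zero_comp])
    rw [← h1, this, rho_zero]
  · -- local surjectivity on sections
    intro X s'
    let T : Sieve X :=
      { arrows := fun Z f => ∃ s : P.obj Z ⟶ (homologyFunctor 𝒜 j).obj L,
          s ≫ (homologyFunctor 𝒜 j).map (a n) = P.map f ≫ s'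
        downward_closed := by
          rintro Z Z' f ⟨s, hs⟩ u
          exact ⟨P.map u ≫ s, by rw [Category.assoc, hs, Functor.map_comp, Category.assoc]⟩ }
    refine ⟨T, ?_, fun Y g hg => hg⟩
    obtain ⟨ι, k, G, hbij, hfam⟩ := key X
    let s'' : ∀ i, P.obj X ⟶ (homologyFunctor 𝒜 j).obj (K (n + k i)) := fun i =>
      haveI := (transition_spec K t a hcompat j n hn (k i)).2
      s' ≫ inv ((homologyFunctor 𝒜 j).map (CohCx.transition K t n (k i)))
    have hex : ∀ i, ∃ T₁ ∈ J X, ∀ ⦃Y : C⦄ (g : Y ⟶ X), T₁ g →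
        ∃ σ : Xj P Y j ⟶ K (n + k i), rho σ = P.map g ≫ s'' i :=
      fun i => exists_local_rep hP (K (n + k i)) j (s'' i)
    choose T₁ hT₁ hl₁ using hex
    obtain ⟨ι', W, gW, c, hWcov, hW⟩ := hfam T₁ hT₁
    refine J.superset_covering ?_ hWcov
    intro Z' f' hf'
    obtain ⟨l, u', rfl⟩ := (Sieve.mem_ofArrows_iff W gW f').1 hf'
    apply T.downward_closed
    obtain ⟨hWT, hG⟩ := hW l
    obtain ⟨σ', hσ'⟩ := hl₁ (c l) (gW l) hWT
    obtain ⟨σ, hσ⟩ := (hbij (W l) (c l) hG).2 σ'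
    dsimp only at hσ
    obtain ⟨htr, htriso⟩ := transition_spec K t a hcompat j n hn (k (c l))
    refine ⟨rho σ, ?_⟩
    rw [← htr, Functor.map_comp, ← Category.assoc, ← rho_comp, hσ, hσ']
    simp only [s'', Category.assoc, IsIso.inv_hom_id, Category.comp_id]

/-- **Pointwise criterion** (generic form, bound varying along the covering). -/
theorem isRlimVia_truncTower_of_pointwise' (E : DerivedCategory 𝒜)
    [HasProduct (CohCx.truncTower E)]
    (hgood : ∀ (j : ℤ) (U : C), ∃ (ι : Type u) (n₁ : ι → ℕ),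
      ∀ (T : ι → Sieve U), (∀ i, T i ∈ J U) →
        ∃ (ι' : Type u) (Y : ι' → C) (g : ∀ l, Y l ⟶ U) (c : ι' → ι),
          Sieve.ofArrows Y g ∈ J U ∧ ∀ l, (T (c l)).arrows (g l) ∧
          ∀ m, n₁ (c l) ≤ m → ∀ (j' : ℤ), j - 1 ≤ j' → j' ≤ j → ∀ b : ℤ,
            (b = -(m : ℤ) - 2 ∨ b = -(m : ℤ) - 1) →
            ∀ σ : Xj P (Y l) j' ⟶ (singleFunctor 𝒜 b).obj
              ((homologyFunctor 𝒜 (-(m : ℤ) - 1)).obj E), σ = 0) :
    CohCx.IsRlimVia (CohCx.truncTower E) (CohCx.truncTowerMap E) E (CohCx.toTruncTower E) := by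
  apply isRlimVia_truncTower_of_isIso
  intro L a hL i
  apply isIso_homology_a_of_key' hP L a (a_compat hL) i (-i).toNat
    (fun m hm => isIso_homology_truncTowerMap E m i (by omega))
  intro U
  obtain ⟨ι, n₁, hfam⟩ := hgood i U
  refine ⟨ι, n₁, fun i₀ W => ∀ m, n₁ i₀ ≤ m → ∀ (j' : ℤ), i - 1 ≤ j' → j' ≤ i → ∀ b : ℤ,
      (b = -(m : ℤ) - 2 ∨ b = -(m : ℤ) - 1) →
      ∀ σ : Xj P W j' ⟶ (singleFunctor 𝒜 b).obj
        ((homologyFunctor 𝒜 (-(m : ℤ) - 1)).obj E), σ = 0, ?_, hfam⟩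
  intro W i₀ hW
  have bij : ∀ (j' : ℤ), i - 1 ≤ j' → j' ≤ i → ∀ m, n₁ i₀ ≤ m →
      Function.Bijective (fun σ : Xj P W j' ⟶ CohCx.truncTower E (m + 1) =>
        σ ≫ CohCx.truncTowerMap E m) := by
    intro j' h1 h2 m hm
    exact bijective_comp_truncTowerMap E m (Xj P W j')
      (fun σ => hW m hm j' h1 h2 _ (Or.inl rfl) σ)
      (fun σ => hW m hm j' h1 h2 _ (Or.inr rfl) σ)
  refine bijective_comp_a (Xj P W i) hL (n₁ i₀) (fun m hm => bij i (by omega) le_rfl m hm)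
    (fun m hm => ?_) ((-i).toNat + n₁ i₀) (by omega)
  exact bijective_comp_of_iso
    (((singleFunctors 𝒜).shiftIso 1 (i - 1) i (by omega)).app (P.obj W))
    (CohCx.truncTowerMap E m) (bij (i - 1) le_rfl (by omega) m hm)

omit hP

open TopologicalSpace in
/-- **Pointwise criterion on a topological space**. -/
theorem top_pointwise {X : TopCat.{u}}
    [HasDerivedCategory.{w} (Sheaf (Opens.grothendieckTopology X) AddCommGrpCat.{u})]
    (E : DerivedCategory (Sheaf (Opens.grothendieckTopology X) AddCommGrpCat.{u}))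
    [HasProduct (CohCx.truncTower E)]
    (h : ∀ (j : ℤ) (x : X), ∃ n₁ : ℕ, ∀ V : Opens X, x ∈ V → ∃ U : Opens X, x ∈ U ∧ U ≤ V ∧
      ∀ m, n₁ ≤ m → ∀ (j' : ℤ), j - 1 ≤ j' → j' ≤ j → ∀ b : ℤ,
        (b = -(m : ℤ) - 2 ∨ b = -(m : ℤ) - 1) → b ≤ j' →
        Subsingleton (CohSite.HU
          ((homologyFunctor (Sheaf (Opens.grothendieckTopology X) AddCommGrpCat.{u})
            (-(m : ℤ) - 1)).obj E) (j' - b).toNat U)) :
    CohCx.IsRlimVia (CohCx.truncTower E) (CohCx.truncTowerMap E) E (CohCx.toTruncTower E) := by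
  apply isRlimVia_truncTower_of_pointwise'
    (Groth.Agent.H1.AbSheafRlim.locProj_freeSheaf (Opens.grothendieckTopology X))
  intro j U
  choose n₁ hn₁ using h j
  refine ⟨{x : X // x ∈ U}, fun x => n₁ x.1, fun T hT => ?_⟩
  have hex : ∀ x : {x : X // x ∈ U}, ∃ W : Opens X, x.1 ∈ W ∧ ∃ hWU : W ≤ U,
      (T x).arrows (homOfLE hWU) ∧
      ∀ m, n₁ x.1 ≤ m → ∀ (j' : ℤ), j - 1 ≤ j' → j' ≤ j → ∀ b : ℤ,
        (b = -(m : ℤ) - 2 ∨ b = -(m : ℤ) - 1) → b ≤ j' →
        Subsingleton (CohSite.HU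
          ((homologyFunctor (Sheaf (Opens.grothendieckTopology X) AddCommGrpCat.{u})
            (-(m : ℤ) - 1)).obj E) (j' - b).toNat W) := by
    intro x
    obtain ⟨Z, f, hf, hxZ⟩ := hT x x.1 x.2
    obtain ⟨W, hxW, hWZ, hvan⟩ := hn₁ x.1 Z hxZ
    refine ⟨W, hxW, hWZ.trans f.le, ?_, hvan⟩
    have := (T x).downward_closed hf (homOfLE hWZ)
    exact this
  choose W hxW hWU hWT hvan using hex
  refine ⟨{x : X // x ∈ U}, W, fun x => homOfLE (hWU x), id, ?_, fun x => ⟨hWT x, ?_⟩⟩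
  · intro y hy
    exact ⟨W ⟨y, hy⟩, homOfLE (hWU ⟨y, hy⟩),
      Sieve.ofArrows_mk _ _ (⟨y, hy⟩ : {x : X // x ∈ U}), hxW ⟨y, hy⟩⟩
  · intro m hm j' hj1 hj2 b hb σ
    exact Groth.Agent.H1.AbSheafRlim.hom_single_eq_zero_of_HU (W x) _ j' b
      (fun hbj => hvan x m hm j' hj1 hj2 b hb hbj) σ

end Groth.Agent.H1.LocProjPt
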