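import Mathlib
import Groth.Agent.Lib.Helper1.ExtNat

/-!
# An abstract Mayer–Vietoris sequence for `Ext`-defined cohomology

Abstract setting: exact functors `pU, pV, pW` with exact left adjoints, transition functors `qU, qV`
and comparison maps.  From degree-zero exactness facts we deduce the long exact sequence.
-/

set_option autoImplicit false
set_option linter.unusedSectionVars false

namespace Groth.Agent.H1.MVAbs

open CategoryTheory Limits Abelian Groth.Agent.H1.ExtNat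

universe w v u

section LegCat

variable {A B BW : Type u} [Category.{v} A] [Category.{v} B] [Category.{v} BW]
  {L : B ⥤ A} {p : A ⥤ B} (adj : L ⊣ p)
  {LW : BW ⥤ A} {pW : A ⥤ BW} (adjW : LW ⊣ pW)
  (q : B ⥤ BW) (κ : p ⋙ q ⟶ pW)
  {Z : A} {ZB : B} {ZW : BW} (c : ZB ⟶ p.obj Z) (c' : ZW ⟶ q.obj ZB)

/-- the map `L Z_B → Z` adjoint to `c` -/
noncomputable def a : L.obj ZB ⟶ Z := L.map c ≫ adj.counit.app Z

/-- the map `L_W Z_W → L Z_B` -/
noncomputable def b : LW.obj ZW ⟶ L.obj ZB :=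
  LW.map (c' ≫ q.map (adj.unit.app ZB) ≫ κ.app (L.obj ZB)) ≫ adjW.counit.app (L.obj ZB)

lemma homEquiv_a_comp {G : A} (e : Z ⟶ G) :
    adj.homEquiv _ _ (a adj c ≫ e) = c ≫ p.map e := by
  unfold a
  rw [Adjunction.homEquiv_unit]
  simp

lemma homEquiv_b_comp {G : A} (φ : L.obj ZB ⟶ G) :
    adjW.homEquiv _ _ (b adj adjW q κ c' ≫ φ) = c' ≫ q.map (adj.homEquiv _ _ φ) ≫ κ.app G := by
  unfold b
  rw [Adjunction.homEquiv_unit, Adjunction.homEquiv_unit]
  have h := κ.naturality φ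
  simp only [Functor.comp_map] at h
  simp only [Functor.map_comp, Category.assoc, Adjunction.unit_naturality_assoc,
    Adjunction.right_triangle_components_assoc]
  rw [← h]

end LegCat

section Leg

variable {A B BW : Type u} [Category.{v} A] [Category.{v} B] [Category.{v} BW]
  [Abelian A] [Abelian B] [Abelian BW]
  [HasExt.{w} A] [HasExt.{w} B] [HasExt.{w} BW]
  [EnoughInjectives A] [EnoughInjectives B] [EnoughInjectives BW]
  {L : B ⥤ A} {p : A ⥤ B} (adj : L ⊣ p)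
  [L.Additive] [PreservesFiniteLimits L] [PreservesFiniteColimits L]
  [p.Additive] [PreservesFiniteLimits p] [PreservesFiniteColimits p]
  {LW : BW ⥤ A} {pW : A ⥤ BW} (adjW : LW ⊣ pW)
  [LW.Additive] [PreservesFiniteLimits LW] [PreservesFiniteColimits LW]
  [pW.Additive] [PreservesFiniteLimits pW] [PreservesFiniteColimits pW]
  (q : B ⥤ BW) [q.Additive] [PreservesFiniteLimits q] [PreservesFiniteColimits q]
  (κ : p ⋙ q ⟶ pW)
  {Z : A} {ZB : B} {ZW : BW} (c : ZB ⟶ p.obj Z) (c' : ZW ⟶ q.obj ZB)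

/-- abstract restriction map `Ext^n(Z, F) → Ext^n(Z_B, p F)` -/
noncomputable def r (F : A) (n : ℕ) (e : Ext.{w} Z F n) : Ext.{w} ZB (p.obj F) n :=
  (Ext.mk₀ c).comp (e.mapExactFunctor p) (zero_add n)

/-- abstract second restriction map `Ext^n(Z_B, p F) → Ext^n(Z_W, p_W F)` -/
noncomputable def d (F : A) (n : ℕ) (x : Ext.{w} ZB (p.obj F) n) : Ext.{w} ZW (pW.obj F) n :=
  ((Ext.mk₀ c').comp (x.mapExactFunctor q) (zero_add n)).comp (Ext.mk₀ (κ.app F)) (add_zero n)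

lemma r_add (F : A) (n : ℕ) (e e' : Ext.{w} Z F n) : r c F n (e + e') = r c F n e + r c F n e' := by
  simp only [r, Ext.mapExactFunctor_add, Ext.comp_add]

lemma d_add (F : A) (n : ℕ) (x x' : Ext.{w} ZB (p.obj F) n) :
    d q κ c' F n (x + x') = d q κ c' F n x + d q κ c' F n x' := by
  simp only [d, Ext.mapExactFunctor_add, Ext.comp_add, Ext.add_comp]

lemma r_mk₀ (F : A) (e : Z ⟶ F) : r c F 0 (Ext.mk₀ e) = Ext.mk₀ (c ≫ p.map e) := by
  unfold r
  rw [Ext.mapExactFunctor_mk₀, Ext.mk₀_comp_mk₀]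

lemma d_mk₀ (F : A) (x : ZB ⟶ p.obj F) :
    d q κ c' F 0 (Ext.mk₀ x) = Ext.mk₀ (c' ≫ q.map x ≫ κ.app F) := by
  unfold d
  rw [Ext.mapExactFunctor_mk₀, Ext.mk₀_comp_mk₀, Ext.mk₀_comp_mk₀, Category.assoc]

lemma C1 (F : A) (n : ℕ) (e : Ext.{w} Z F n) :
    Ψ adj ZB F n (r c F n e) = (Ext.mk₀ (a adj c)).comp e (zero_add n) := by
  unfold r
  rw [Ψ_comp, Ψ_mk₀]
  rfl

lemma d_comp {F F' : A} {n m k : ℕ} (x : Ext.{w} ZB (p.obj F) n) (e : Ext.{w} F F' m)
    (h : n + m = k) :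
    d q κ c' F' k (x.comp (e.mapExactFunctor p) h) =
      (d q κ c' F n x).comp (e.mapExactFunctor pW) h := by
  unfold d
  have nat : ((e.mapExactFunctor p).mapExactFunctor q).comp (Ext.mk₀ (κ.app F')) (add_zero m) =
      (Ext.mk₀ (κ.app F)).comp (e.mapExactFunctor pW) (zero_add m) :=
    ExtOp.naturality ((ExtOp.ofExact p).comp (ExtOp.ofExact q)) (ExtOp.ofExact pW) κ m e
  rw [Ext.mapExactFunctor_comp, ← Ext.comp_assoc (Ext.mk₀ c') (x.mapExactFunctor q)
    ((e.mapExactFunctor p).mapExactFunctor q) (zero_add n) h (by omega),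
    Ext.comp_assoc_of_third_deg_zero, nat, ← Ext.comp_assoc_of_second_deg_zero]

lemma C2 (F : A) (n : ℕ) (x : Ext.{w} ZB (p.obj F) n) :
    Ψ adjW ZW F n (d q κ c' F n x) =
      (Ext.mk₀ (b adj adjW q κ c')).comp (Ψ adj ZB F n x) (zero_add n) := by
  have hx : (Ext.mk₀ (adj.unit.app ZB)).comp ((Ψ adj ZB F n x).mapExactFunctor p) (zero_add n) = x :=
    Ψinv_Ψ adj ZB F n x
  obtain ⟨y, hy⟩ : ∃ y, y = Ψ adj ZB F n x := ⟨_, rfl⟩
  rw [← hy] at hx ⊢
  rw [← hx, d_comp, Ψ_comp, d_mk₀, Ψ_mk₀]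
  rfl

end Leg

section General

variable {A : Type u} [Category.{v} A] [Abelian A] [EnoughInjectives A]

lemma mono_of_injective_factor {P Q : A} (b : P ⟶ Q)
    (h : ∀ (I : A) [Injective I] (y : P ⟶ I), ∃ x : Q ⟶ I, b ≫ x = y) : Mono b := by
  apply Preadditive.mono_of_cancel_zero
  intro K g hg
  obtain ⟨x, hx⟩ := h (Injective.under P) (Injective.ι P)
  have : g ≫ Injective.ι P = 0 := by rw [← hx, ← Category.assoc, hg, zero_comp]
  exact (cancel_mono (Injective.ι P)).1 (this.trans zero_comp.symm)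

section ExtBiprod

variable [HasExt.{w} A]

lemma mk₀_lift_comp {P PU PV F : A} (bU : P ⟶ PU) (bV : P ⟶ PV) {n : ℕ}
    (yU : Ext.{w} PU F n) (yV : Ext.{w} PV F n) :
    (Ext.mk₀ (biprod.lift bU (-bV))).comp ((Ext.mk₀ biprod.fst).comp yU (zero_add n) +
      (Ext.mk₀ biprod.snd).comp yV (zero_add n)) (zero_add n) =
      (Ext.mk₀ bU).comp yU (zero_add n) - (Ext.mk₀ bV).comp yV (zero_add n) := by
  rw [Ext.comp_add, Ext.mk₀_comp_mk₀_assoc, Ext.mk₀_comp_mk₀_assoc, biprod.lift_fst,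
    biprod.lift_snd, Ext.mk₀_neg, Ext.neg_comp, sub_eq_add_neg]

lemma mk₀_inl_comp_desc {PU PV Z F : A} (aU : PU ⟶ Z) (aV : PV ⟶ Z) {n : ℕ} (e : Ext.{w} Z F n) :
    (Ext.mk₀ (biprod.inl : PU ⟶ PU ⊞ PV)).comp
      ((Ext.mk₀ (biprod.desc aU aV)).comp e (zero_add n)) (zero_add n) =
      (Ext.mk₀ aU).comp e (zero_add n) := by
  rw [Ext.mk₀_comp_mk₀_assoc, biprod.inl_desc]

lemma mk₀_inr_comp_desc {PU PV Z F : A} (aU : PU ⟶ Z) (aV : PV ⟶ Z) {n : ℕ} (e : Ext.{w} Z F n) :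
    (Ext.mk₀ (biprod.inr : PV ⟶ PU ⊞ PV)).comp
      ((Ext.mk₀ (biprod.desc aU aV)).comp e (zero_add n)) (zero_add n) =
      (Ext.mk₀ aV).comp e (zero_add n) := by
  rw [Ext.mk₀_comp_mk₀_assoc, biprod.inr_desc]

lemma mk₀_desc_comp {PU PV Z F : A} (aU : PU ⟶ Z) (aV : PV ⟶ Z) {n : ℕ} (e : Ext.{w} Z F n) :
    (Ext.mk₀ (biprod.desc aU aV)).comp e (zero_add n) =
      (Ext.mk₀ biprod.fst).comp ((Ext.mk₀ aU).comp e (zero_add n)) (zero_add n) +
        (Ext.mk₀ biprod.snd).comp ((Ext.mk₀ aV).comp e (zero_add n)) (zero_add n) := by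
  rw [Ext.mk₀_comp_mk₀_assoc, Ext.mk₀_comp_mk₀_assoc, ← Ext.add_comp, ← Ext.mk₀_add,
    ← biprod.desc_eq]

lemma mk₀_inl_comp_pair {PU PV F : A} {n : ℕ} (yU : Ext.{w} PU F n) (yV : Ext.{w} PV F n) :
    (Ext.mk₀ (biprod.inl : PU ⟶ PU ⊞ PV)).comp ((Ext.mk₀ biprod.fst).comp yU (zero_add n) +
      (Ext.mk₀ biprod.snd).comp yV (zero_add n)) (zero_add n) = yU := by
  rw [Ext.comp_add, Ext.mk₀_comp_mk₀_assoc, Ext.mk₀_comp_mk₀_assoc, biprod.inl_fst,
    biprod.inl_snd, Ext.mk₀_id_comp, Ext.mk₀_zero, Ext.zero_comp, add_zero]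

lemma mk₀_inr_comp_pair {PU PV F : A} {n : ℕ} (yU : Ext.{w} PU F n) (yV : Ext.{w} PV F n) :
    (Ext.mk₀ (biprod.inr : PV ⟶ PU ⊞ PV)).comp ((Ext.mk₀ biprod.fst).comp yU (zero_add n) +
      (Ext.mk₀ biprod.snd).comp yV (zero_add n)) (zero_add n) = yV := by
  rw [Ext.comp_add, Ext.mk₀_comp_mk₀_assoc, Ext.mk₀_comp_mk₀_assoc, biprod.inr_fst,
    biprod.inr_snd, Ext.mk₀_id_comp, Ext.mk₀_zero, Ext.zero_comp, zero_add]

lemma ext_biprod_decomp {P Q F : A} {n : ℕ} (x : Ext.{w} (P ⊞ Q) F n) :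
    (Ext.mk₀ biprod.fst).comp ((Ext.mk₀ biprod.inl).comp x (zero_add n)) (zero_add n) +
      (Ext.mk₀ biprod.snd).comp ((Ext.mk₀ biprod.inr).comp x (zero_add n)) (zero_add n) = x := by
  rw [Ext.mk₀_comp_mk₀_assoc, Ext.mk₀_comp_mk₀_assoc, ← Ext.add_comp, ← Ext.mk₀_add,
    biprod.total, Ext.mk₀_id_comp]

end ExtBiprod

end General

section Main

variable {A BU BV BW : Type u} [Category.{v} A] [Category.{v} BU] [Category.{v} BV]
  [Category.{v} BW] [Abelian A] [Abelian BU] [Abelian BV] [Abelian BW]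
  [HasExt.{w} A] [HasExt.{w} BU] [HasExt.{w} BV] [HasExt.{w} BW]
  [EnoughInjectives A] [EnoughInjectives BU] [EnoughInjectives BV] [EnoughInjectives BW]
  {LU : BU ⥤ A} {pU : A ⥤ BU} (adjU : LU ⊣ pU)
  [LU.Additive] [PreservesFiniteLimits LU] [PreservesFiniteColimits LU]
  [pU.Additive] [PreservesFiniteLimits pU] [PreservesFiniteColimits pU]
  {LV : BV ⥤ A} {pV : A ⥤ BV} (adjV : LV ⊣ pV)
  [LV.Additive] [PreservesFiniteLimits LV] [PreservesFiniteColimits LV]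
  [pV.Additive] [PreservesFiniteLimits pV] [PreservesFiniteColimits pV]
  {LW : BW ⥤ A} {pW : A ⥤ BW} (adjW : LW ⊣ pW)
  [LW.Additive] [PreservesFiniteLimits LW] [PreservesFiniteColimits LW]
  [pW.Additive] [PreservesFiniteLimits pW] [PreservesFiniteColimits pW]
  (qU : BU ⥤ BW) [qU.Additive] [PreservesFiniteLimits qU] [PreservesFiniteColimits qU]
  (qV : BV ⥤ BW) [qV.Additive] [PreservesFiniteLimits qV] [PreservesFiniteColimits qV]
  (κU : pU ⋙ qU ⟶ pW) (κV : pV ⋙ qV ⟶ pW)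
  {Z : A} {ZU : BU} {ZV : BV} {ZW : BW}
  (cU : ZU ⟶ pU.obj Z) (cV : ZV ⟶ pV.obj Z) (c'U : ZW ⟶ qU.obj ZU) (c'V : ZW ⟶ qV.obj ZV)

section SES

variable (H0 : c'U ≫ qU.map cU ≫ κU.app Z = c'V ≫ qV.map cV ≫ κV.app Z)

include H0 in
lemma b_a : b adjU adjW qU κU c'U ≫ a adjU cU = b adjV adjW qV κV c'V ≫ a adjV cV := by
  apply (adjW.homEquiv _ _).injective
  rw [homEquiv_b_comp, homEquiv_b_comp]
  have hU : adjU.homEquiv _ _ (a adjU cU) = cU := by
    have := homEquiv_a_comp adjU cU (𝟙 Z)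
    rwa [Category.comp_id, CategoryTheory.Functor.map_id, Category.comp_id] at this
  have hV : adjV.homEquiv _ _ (a adjV cV) = cV := by
    have := homEquiv_a_comp adjV cV (𝟙 Z)
    rwa [Category.comp_id, CategoryTheory.Functor.map_id, Category.comp_id] at this
  rw [hU, hV]
  exact H0

/-- the Mayer–Vietoris short complex `L_W Z_W → L_U Z_U ⊞ L_V Z_V → Z` -/
noncomputable abbrev S : ShortComplex A :=
  ShortComplex.mk (biprod.lift (b adjU adjW qU κU c'U) (-(b adjV adjW qV κV c'V)))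
    (biprod.desc (a adjU cU) (a adjV cV)) (by
      rw [biprod.lift_desc, Preadditive.neg_comp, b_a adjU adjV adjW qU qV κU κV cU cV c'U c'V H0,
        add_neg_cancel])

variable (H1a : ∀ (G : A) (e : Z ⟶ G), cU ≫ pU.map e = 0 → cV ≫ pV.map e = 0 → e = 0)
  (H1b : ∀ (G : A) (xU : ZU ⟶ pU.obj G) (xV : ZV ⟶ pV.obj G),
    c'U ≫ qU.map xU ≫ κU.app G = c'V ≫ qV.map xV ≫ κV.app G →
      ∃ e : Z ⟶ G, cU ≫ pU.map e = xU ∧ cV ≫ pV.map e = xV)
  (H2 : ∀ (I : A) [Injective I] (y : ZW ⟶ pW.obj I),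
    ∃ xU : ZU ⟶ pU.obj I, c'U ≫ qU.map xU ≫ κU.app I = y)

include H2 in
lemma mono_b : Mono (b adjU adjW qU κU c'U) := by
  apply mono_of_injective_factor
  intro I _ y
  obtain ⟨xU, hxU⟩ := H2 I (adjW.homEquiv _ _ y)
  refine ⟨(adjU.homEquiv _ _).symm xU, ?_⟩
  apply (adjW.homEquiv _ _).injective
  rw [homEquiv_b_comp, Equiv.apply_symm_apply, hxU]

include H1a in
lemma epi_g : Epi (biprod.desc (a adjU cU) (a adjV cV)) := by
  apply Preadditive.epi_of_cancel_zero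
  intro G e he
  have hU : a adjU cU ≫ e = 0 := by
    rw [← biprod.inl_desc (a adjU cU) (a adjV cV), Category.assoc, he, comp_zero]
  have hV : a adjV cV ≫ e = 0 := by
    rw [← biprod.inr_desc (a adjU cU) (a adjV cV), Category.assoc, he, comp_zero]
  apply H1a G e
  · rw [← homEquiv_a_comp adjU cU e, hU]
    exact (adjU.homAddEquiv _ _).map_zero
  · rw [← homEquiv_a_comp adjV cV e, hV]
    exact (adjV.homAddEquiv _ _).map_zero

include H1a H1b H2 in
theorem shortExact : (S adjU adjV adjW qU qV κU κV cU cV c'U c'V H0).ShortExact := by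
  have hepi := epi_g adjU adjV cU cV H1a
  have hmono : Mono (S adjU adjV adjW qU qV κU κV cU cV c'U c'V H0).f := by
    have hb : Mono (b adjU adjW qU κU c'U) := mono_b adjU adjW qU κU c'U H2
    show Mono (biprod.lift (b adjU adjW qU κU c'U) (-(b adjV adjW qV κV c'V)))
    exact mono_of_mono_fac (h := b adjU adjW qU κU c'U)
      (biprod.lift_fst (b adjU adjW qU κU c'U) (-(b adjV adjW qV κV c'V)))
  have hex : ∀ {G : A} (φ : LU.obj ZU ⊞ LV.obj ZV ⟶ G),
      (S adjU adjV adjW qU qV κU κV cU cV c'U c'V H0).f ≫ φ = 0 →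
        ∃ e : Z ⟶ G, biprod.desc (a adjU cU) (a adjV cV) ≫ e = φ := by
    intro G φ hφ
    have h1 : b adjU adjW qU κU c'U ≫ (biprod.inl ≫ φ) =
        b adjV adjW qV κV c'V ≫ (biprod.inr ≫ φ) := by
      have h2 : biprod.lift (b adjU adjW qU κU c'U) (-(b adjV adjW qV κV c'V)) ≫ φ = 0 := hφ
      have h3 : φ = biprod.desc (biprod.inl ≫ φ) (biprod.inr ≫ φ) := by
        apply biprod.hom_ext' <;> simp
      rw [h3, biprod.lift_desc, Preadditive.neg_comp, add_neg_eq_zero] at h2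
      exact h2
    have h4 := congrArg (adjW.homEquiv _ _) h1
    rw [homEquiv_b_comp, homEquiv_b_comp] at h4
    obtain ⟨e, heU, heV⟩ := H1b G _ _ h4
    refine ⟨e, ?_⟩
    apply biprod.hom_ext'
    · rw [biprod.inl_desc_assoc]
      apply (adjU.homEquiv _ _).injective
      rw [homEquiv_a_comp, heU]
    · rw [biprod.inr_desc_assoc]
      apply (adjV.homEquiv _ _).injective
      rw [homEquiv_a_comp, heV]
  have hcok : Nonempty (IsColimit (CokernelCofork.ofπ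
      (S adjU adjV adjW qU qV κU κV cU cV c'U c'V H0).g
      (S adjU adjV adjW qU qV κU κV cU cV c'U c'V H0).zero)) := by
    refine ⟨CokernelCofork.IsColimit.ofπ _ _ (fun φ hφ => Classical.choose (hex φ hφ))
      (fun φ hφ => Classical.choose_spec (hex φ hφ)) (fun φ hφ m hm => ?_)⟩
    have := Classical.choose_spec (hex φ hφ)
    exact (cancel_epi (biprod.desc (a adjU cU) (a adjV cV))).1 (hm.trans this.symm)
  have hE := ((S adjU adjV adjW qU qV κU κV cU cV c'U c'V H0).exact_and_epi_g_iff_g_is_cokernel).2 hcok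
  exact { exact := hE.1, mono_f := hmono, epi_g := hE.2 }

include adjU adjV adjW H0 H1a H1b H2 in
/-- **Abstract Mayer–Vietoris.** -/
theorem exists_delta (F : A) :
    ∃ δ : ∀ n : ℕ, Ext.{w} ZW (pW.obj F) n →+ Ext.{w} Z F (n + 1),
      (∀ e : Ext.{w} Z F 0, r cU F 0 e = 0 → r cV F 0 e = 0 → e = 0) ∧
      (∀ (n : ℕ) (e : Ext.{w} Z F (n + 1)),
        (r cU F (n + 1) e = 0 ∧ r cV F (n + 1) e = 0) ↔ ∃ y, δ n y = e) ∧
      (∀ (n : ℕ) (xU : Ext.{w} ZU (pU.obj F) n) (xV : Ext.{w} ZV (pV.obj F) n),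
        d qU κU c'U F n xU - d qV κV c'V F n xV = 0 ↔
          ∃ e, r cU F n e = xU ∧ r cV F n e = xV) ∧
      (∀ (n : ℕ) (y : Ext.{w} ZW (pW.obj F) n),
        δ n y = 0 ↔ ∃ xU xV, d qU κU c'U F n xU - d qV κV c'V F n xV = y) := by
  have hS := shortExact adjU adjV adjW qU qV κU κV cU cV c'U c'V H0 H1a H1b H2
  have hba := b_a adjU adjV adjW qU qV κU κV cU cV c'U c'V H0
  -- the key identity
  have key : ∀ (n : ℕ) (xU : Ext.{w} ZU (pU.obj F) n) (xV : Ext.{w} ZV (pV.obj F) n),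
      (Ext.mk₀ (S adjU adjV adjW qU qV κU κV cU cV c'U c'V H0).f).comp
        ((Ext.mk₀ biprod.fst).comp (Ψ adjU ZU F n xU) (zero_add n) +
          (Ext.mk₀ biprod.snd).comp (Ψ adjV ZV F n xV) (zero_add n)) (zero_add n) =
      Ψ adjW ZW F n (d qU κU c'U F n xU - d qV κV c'V F n xV) := by
    intro n xU xV
    rw [Ψ_sub, C2 adjU adjW qU κU c'U, C2 adjV adjW qV κV c'V]
    exact mk₀_lift_comp _ _ _ _
  refine ⟨fun n => AddMonoidHom.mk' (fun y => hS.extClass.comp (Ψ adjW ZW F n y) (add_comm 1 n))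
    (fun y y' => by rw [Ψ_add, Ext.comp_add]), ?_, ?_, ?_, ?_⟩
  · intro e h1 h2
    obtain ⟨e₀, rfl⟩ := (Ext.mk₀_bijective _ _).2 e
    rw [r_mk₀, Ext.mk₀_eq_zero_iff] at h1 h2
    rw [H1a F e₀ h1 h2, Ext.mk₀_zero]
  · intro n e
    constructor
    · rintro ⟨h1, h2⟩
      have h1' : (Ext.mk₀ (a adjU cU)).comp e (zero_add (n + 1)) = 0 := by
        rw [← C1, h1, Ψ_zero]
      have h2' : (Ext.mk₀ (a adjV cV)).comp e (zero_add (n + 1)) = 0 := by
        rw [← C1, h2, Ψ_zero]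
      have hg : (Ext.mk₀ (S adjU adjV adjW qU qV κU κV cU cV c'U c'V H0).g).comp e
          (zero_add (n + 1)) = 0 := by
        have := mk₀_desc_comp (a adjU cU) (a adjV cV) e
        rw [h1', h2', Ext.comp_zero, Ext.comp_zero, add_zero] at this
        exact this
      obtain ⟨x₁, hx₁⟩ := Ext.contravariant_sequence_exact₃ hS F e hg (add_comm 1 n)
      obtain ⟨y, rfl⟩ := Ψ_surjective adjW ZW F n x₁
      exact ⟨y, hx₁⟩
    · rintro ⟨y, rfl⟩
      have hg : (Ext.mk₀ (biprod.desc (a adjU cU) (a adjV cV))).comp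
          (hS.extClass.comp (Ψ adjW ZW F n y) (add_comm 1 n)) (zero_add (n + 1)) = 0 :=
        hS.comp_extClass_assoc _ _
      constructor
      · apply Ψ_injective adjU ZU F (n + 1)
        rw [C1, Ψ_zero]
        have := mk₀_inl_comp_desc (a adjU cU) (a adjV cV)
          (hS.extClass.comp (Ψ adjW ZW F n y) (add_comm 1 n))
        rw [hg, Ext.comp_zero] at this
        exact this.symm
      · apply Ψ_injective adjV ZV F (n + 1)
        rw [C1, Ψ_zero]
        have := mk₀_inr_comp_desc (a adjU cU) (a adjV cV)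
          (hS.extClass.comp (Ψ adjW ZW F n y) (add_comm 1 n))
        rw [hg, Ext.comp_zero] at this
        exact this.symm
  · intro n xU xV
    constructor
    · intro h
      have h0 := key n xU xV
      rw [h, Ψ_zero] at h0
      obtain ⟨e, he⟩ := Ext.contravariant_sequence_exact₂ hS F _ h0
      replace he : (Ext.mk₀ (biprod.desc (a adjU cU) (a adjV cV))).comp e (zero_add n) = _ := he
      refine ⟨e, ?_, ?_⟩
      · apply Ψ_injective adjU ZU F n
        rw [C1, ← mk₀_inl_comp_desc (a adjU cU) (a adjV cV) e, he, mk₀_inl_comp_pair]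
      · apply Ψ_injective adjV ZV F n
        rw [C1, ← mk₀_inr_comp_desc (a adjU cU) (a adjV cV) e, he, mk₀_inr_comp_pair]
    · rintro ⟨e, rfl, rfl⟩
      apply Ψ_injective adjW ZW F n
      rw [Ψ_sub, C2 adjU adjW qU κU c'U, C2 adjV adjW qV κV c'V, C1, C1, Ψ_zero,
        Ext.mk₀_comp_mk₀_assoc, Ext.mk₀_comp_mk₀_assoc, hba, sub_self]
  · intro n y
    constructor
    · intro h
      replace h : hS.extClass.comp (Ψ adjW ZW F n y) (add_comm 1 n) = 0 := h
      obtain ⟨x₂, hx₂⟩ := Ext.contravariant_sequence_exact₁ hS F (Ψ adjW ZW F n y) (add_comm 1 n) h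
      obtain ⟨xU, hxU⟩ := Ψ_surjective adjU ZU F n ((Ext.mk₀ biprod.inl).comp x₂ (zero_add n))
      obtain ⟨xV, hxV⟩ := Ψ_surjective adjV ZV F n ((Ext.mk₀ biprod.inr).comp x₂ (zero_add n))
      refine ⟨xU, xV, ?_⟩
      apply Ψ_injective adjW ZW F n
      rw [← key, hxU, hxV]
      have := ext_biprod_decomp x₂
      rw [this]
      exact hx₂
    · rintro ⟨xU, xV, rfl⟩
      show hS.extClass.comp (Ψ adjW ZW F n _) (add_comm 1 n) = 0
      rw [← key]
      exact hS.extClass_comp_assoc _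

end SES

end Main

end Groth.Agent.H1.MVAbs
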