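import Mathlib
import Groth.Prelude.Def_EtCore
import Groth.Prelude.Def_EtShriek2
import Groth.Agent.S14454
import Groth.Agent.S14452
import Groth.Agent.Lib.Helper1.SuppSect

/-!
# Degree-zero dictionary for pullback along open immersions (for Mayer–Vietoris)
-/

set_option autoImplicit false
set_option linter.unusedSectionVars false

namespace Groth.Agent.H1.MVDeg0

open CategoryTheory Limits AlgebraicGeometry Opposite

universe u

section Ev

/-- evaluation at `1`: morphisms `ℤ_Y ⟶ H` are the sections of `H` over `Y` -/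
noncomputable def ev (Y : Scheme.{u}) (H : EtCoh.Ab Y) :
    (EtCoh.const Y ℤ ⟶ H) ≃+ H.obj.obj (op (EtCoh.top Y)) :=
  ((EtCore.constAdj Y).homAddEquiv _ H).trans (AddCommGrpCat.uliftZMultiplesAddEquiv _)

theorem ev_apply (Y : Scheme.{u}) (H : EtCoh.Ab Y) (x : EtCoh.const Y ℤ ⟶ H) :
    ev Y H x = ((EtCore.constAdj Y).homEquiv _ H x).hom (ULift.up 1) := by
  simp [ev]
  rfl

theorem ev_naturality (Y : Scheme.{u}) {H H' : EtCoh.Ab Y} (x : EtCoh.const Y ℤ ⟶ H) (φ : H ⟶ H') :
    ev Y H' (x ≫ φ) = φ.hom.app (op (EtCoh.top Y)) (ev Y H x) := by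
  rw [ev_apply, ev_apply, Adjunction.homEquiv_naturality_right]
  rfl

/-- the adjunction used to define `pullConstIso` -/
noncomputable abbrev adjA {X' X : Scheme.{u}} (f : X' ⟶ X) :
    constantSheaf X.smallEtaleTopology AddCommGrpCat.{u+1} ⋙ EtCoh.pull f ⊣ EtCore.gsec X' :=
  ((EtCore.constAdj X).comp (EtCoh.pullPushAdj f)).ofNatIsoRight (EtCore.pushGsecIso f)

theorem homEquiv_pullConst_inv {X' X : Scheme.{u}} (f : X' ⟶ X) :
    (EtCore.constAdj X').homEquiv _ _ (EtCore.pullConst f ℤ).inv =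
      (adjA f).unit.app (AddCommGrpCat.of (ULift.{u+1} ℤ)) := by
  have := Adjunction.homEquiv_leftAdjointUniq_hom_app (EtCore.constAdj X') (adjA f)
    (AddCommGrpCat.of (ULift.{u+1} ℤ))
  rw [← this]
  rfl

/-- **degree-zero pullback in terms of sections** -/
theorem ev_Hpull {X' X : Scheme.{u}} (f : X' ⟶ X) (H : EtCoh.Ab X) (x : EtCoh.const X ℤ ⟶ H) :
    ev X' _ ((EtCore.pullConst f ℤ).inv ≫ (EtCoh.pull f).map x) =
      ((EtCoh.pull f).obj H).obj.map (EtCore.bcTopIso f).inv.op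
        (((EtCoh.pullPushAdj f).unit.app H).hom.app (op (EtCoh.top X)) (ev X H x)) := by
  rw [ev_apply, ev_apply, Adjunction.homEquiv_naturality_right, homEquiv_pullConst_inv]
  have hunit : (adjA f).unit.app (AddCommGrpCat.of (ULift.{u+1} ℤ)) =
      (EtCore.constAdj X).unit.app _ ≫
        (EtCore.gsec X).map ((EtCoh.pullPushAdj f).unit.app (EtCoh.const X ℤ)) ≫
          (EtCore.pushGsecIso f).hom.app ((EtCoh.pull f).obj (EtCoh.const X ℤ)) := by
    simp [adjA]
  have key : (adjA f).unit.app (AddCommGrpCat.of (ULift.{u+1} ℤ)) ≫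
        (EtCore.gsec X').map ((EtCoh.pull f).map x) =
      (EtCore.constAdj X).homEquiv _ _ x ≫ (EtCore.gsec X).map ((EtCoh.pullPushAdj f).unit.app H) ≫
        (EtCore.pushGsecIso f).hom.app ((EtCoh.pull f).obj H) := by
    have n1 := (EtCore.pushGsecIso f).hom.naturality ((EtCoh.pull f).map x)
    have n2 := (EtCoh.pullPushAdj f).unit.naturality x
    simp only [Functor.comp_map, Functor.id_map, Functor.id_obj, Functor.comp_obj] at n1 n2
    rw [hunit, Category.assoc, Category.assoc, ← n1, Adjunction.homEquiv_unit, Category.assoc,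
      ← Functor.map_comp_assoc, ← Functor.map_comp_assoc, ← n2]
  rw [key]
  rfl

end Ev

section Theta

open Groth.Agent.H1.SuppSect

variable {T X : Scheme.{u}} (j : T ⟶ X) [IsOpenImmersion j]

theorem θ_unit (G : EtCoh.Ab X) (Y : X.Etale) (t : G.obj.obj (op Y)) :
    ((pullIsoRestr j).hom.app G).hom.app (op ((EtCoh.bc j).obj Y))
      (((EtCoh.pullPushAdj j).unit.app G).hom.app (op Y) t) =
    G.obj.map ((Groth.Agent.S0651.adj0 j).counit.app Y).op t := by
  have h1 : (EtCoh.pullPushAdj j).unit.app G ≫ (EtCoh.push j).map ((pullIsoRestr j).hom.app G) =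
      (Groth.Agent.S0651.adj3 j).unit.app G :=
    Adjunction.unit_leftAdjointUniq_hom_app _ _ G
  have h2 := congrArg (fun φ => φ.hom.app (op Y) t) h1
  rw [← adj3_unit_app j G Y]
  exact h2

/-- naturality of the components of a morphism of sheaves, elementwise -/
theorem hom_naturality_apply {Y : Scheme.{u}} {H H' : EtCoh.Ab Y} (φ : H ⟶ H') {A B : Y.Etale}
    (m : A ⟶ B) (s : H.obj.obj (op B)) :
    φ.hom.app (op A) (H.obj.map m.op s) = H'.obj.map m.op (φ.hom.app (op B) s) := by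
  have := ConcreteCategory.congr_hom (φ.hom.naturality m.op) s
  rw [ConcreteCategory.comp_apply, ConcreteCategory.comp_apply] at this
  exact this

theorem θ_res_unit (G : EtCoh.Ab X) (V' : T.Etale)
    (t : G.obj.obj (op ((EtShriek.compEtale j).obj V'))) :
    ((pullIsoRestr j).hom.app G).hom.app (op V')
      (((EtCoh.pull j).obj G).obj.map ((Groth.Agent.S0651.adj0 j).unit.app V').op
        (((EtCoh.pullPushAdj j).unit.app G).hom.app (op ((EtShriek.compEtale j).obj V')) t)) = t := by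
  have e1 := hom_naturality_apply ((pullIsoRestr j).hom.app G)
    ((Groth.Agent.S0651.adj0 j).unit.app V')
    (((EtCoh.pullPushAdj j).unit.app G).hom.app (op ((EtShriek.compEtale j).obj V')) t)
  have e2 := θ_unit j G ((EtShriek.compEtale j).obj V') t
  refine e1.trans ?_
  refine (congrArg (((EtShriek.restrAlong j).obj G).obj.map
    ((Groth.Agent.S0651.adj0 j).unit.app V').op) e2).trans ?_
  have h := (Groth.Agent.S0651.adj0 j).left_triangle_components V'
  change G.obj.map ((EtShriek.compEtale j).map ((Groth.Agent.S0651.adj0 j).unit.app V')).op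
    (G.obj.map ((Groth.Agent.S0651.adj0 j).counit.app ((EtShriek.compEtale j).obj V')).op t) = t
  rw [Groth.Agent.S0728.map_map, h]
  simp

/-- sections of isomorphic sheaves -/
noncomputable def secEquiv {Y : Scheme.{u}} {H H' : EtCoh.Ab Y} (e : H ≅ H') (A : Y.Etale) :
    H.obj.obj (op A) ≃+ H'.obj.obj (op A) :=
  (((sheafSections Y.smallEtaleTopology AddCommGrpCat.{u+1}).obj (op A)).mapIso
    e).addCommGroupIsoToAddEquiv

theorem secEquiv_apply {Y : Scheme.{u}} {H H' : EtCoh.Ab Y} (e : H ≅ H') (A : Y.Etale)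
    (s : H.obj.obj (op A)) : secEquiv e A s = e.hom.hom.app (op A) s := rfl

/-- the dictionary: morphisms `ℤ_T ⟶ j^* G` are sections of `G` over `T → X` -/
noncomputable def β (G : EtCoh.Ab X) : (EtCoh.const T ℤ ⟶ (EtCoh.pull j).obj G) ≃+
    G.obj.obj (op ((EtShriek.compEtale j).obj (EtCoh.top T))) :=
  (ev T _).trans (secEquiv ((pullIsoRestr j).app G) (EtCoh.top T))

theorem β_apply (G : EtCoh.Ab X) (x : EtCoh.const T ℤ ⟶ (EtCoh.pull j).obj G) :
    β j G x = ((pullIsoRestr j).hom.app G).hom.app (op (EtCoh.top T)) (ev T _ x) := rfl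

/-- **D1**: degree-zero pullback along `j` is restriction of sections -/
theorem β_Hpull (G : EtCoh.Ab X) (e : EtCoh.const X ℤ ⟶ G)
    (π : (EtShriek.compEtale j).obj (EtCoh.top T) ⟶ EtCoh.top X) :
    β j G ((EtCore.pullConst j ℤ).inv ≫ (EtCoh.pull j).map e) = G.obj.map π.op (ev X G e) := by
  rw [β_apply, ev_Hpull]
  have e1 := hom_naturality_apply ((pullIsoRestr j).hom.app G) (EtCore.bcTopIso j).inv
    (((EtCoh.pullPushAdj j).unit.app G).hom.app (op (EtCoh.top X)) (ev X G e))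
  have e2 := θ_unit j G (EtCoh.top X) (ev X G e)
  refine e1.trans ?_
  refine (congrArg (((EtShriek.restrAlong j).obj G).obj.map (EtCore.bcTopIso j).inv.op) e2).trans ?_
  change G.obj.map ((EtShriek.compEtale j).map (EtCore.bcTopIso j).inv).op
    (G.obj.map ((Groth.Agent.S0651.adj0 j).counit.app (EtCoh.top X)).op (ev X G e)) = _
  rw [Groth.Agent.S0728.map_map]
  rw [Groth.Agent.S0687.hom_top_ext ((EtShriek.compEtale j).map (EtCore.bcTopIso j).inv ≫
    (Groth.Agent.S0651.adj0 j).counit.app (EtCoh.top X)) π]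

end Theta

section Via

open Groth.Agent.H1.SuppSect

theorem hom_ext_of_mono {Y : Scheme.{u}} {A B : Y.Etale} [Mono B.hom] (a b : A ⟶ B) : a = b := by
  apply MorphismProperty.Over.Hom.ext
  have h1 : a.left ≫ B.hom = A.hom := MorphismProperty.Over.w a
  have h2 : b.left ≫ B.hom = A.hom := MorphismProperty.Over.w b
  exact (cancel_mono B.hom).1 (h1.trans h2.symm)

instance mono_bc_hom {X' X : Scheme.{u}} (f : X' ⟶ X) (V : X.Etale) [Mono V.hom] :
    Mono ((EtCoh.bc f).obj V).hom := by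
  change Mono (pullback.snd V.hom f)
  infer_instance

instance mono_compEtale_top_hom {T X : Scheme.{u}} (j : T ⟶ X) [IsOpenImmersion j] :
    Mono ((EtShriek.compEtale j).obj (EtCoh.top T)).hom := by
  change Mono (𝟙 T ≫ j)
  infer_instance

variable {TW T X : Scheme.{u}} (j' : TW ⟶ T) (j : T ⟶ X) [IsOpenImmersion j'] [IsOpenImmersion j]

/-- the mate property of `pullComp`, on sections -/
theorem pullComp_unit (G : EtCoh.Ab X) (Y : X.Etale) (t : G.obj.obj (op Y)) :
    ∃ ρ : (EtCoh.bc (j' ≫ j)).obj Y ⟶ (EtCoh.bc j').obj ((EtCoh.bc j).obj Y),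
      ((EtCore.pullComp j' j).hom.app G).hom.app (op ((EtCoh.bc (j' ≫ j)).obj Y))
        (((EtCoh.pullPushAdj (j' ≫ j)).unit.app G).hom.app (op Y) t) =
      ((EtCoh.pull j').obj ((EtCoh.pull j).obj G)).obj.map ρ.op
        (((EtCoh.pullPushAdj j').unit.app ((EtCoh.pull j).obj G)).hom.app (op ((EtCoh.bc j).obj Y))
          (((EtCoh.pullPushAdj j).unit.app G).hom.app (op Y) t)) := by
  have h1 : (EtCoh.pullPushAdj (j' ≫ j)).unit.app G ≫
      (EtCoh.push (j' ≫ j)).map ((EtCore.pullComp j' j).hom.app G) =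
      (((EtCoh.pullPushAdj j).comp (EtCoh.pullPushAdj j')).ofNatIsoRight
        (EtCoh.pushComp j j')).unit.app G :=
    Adjunction.unit_leftAdjointUniq_hom_app _ _ G
  have h2 : (((EtCoh.pullPushAdj j).comp (EtCoh.pullPushAdj j')).ofNatIsoRight
        (EtCoh.pushComp j j')).unit.app G =
      (EtCoh.pullPushAdj j).unit.app G ≫
        (EtCoh.push j).map ((EtCoh.pullPushAdj j').unit.app ((EtCoh.pull j).obj G)) ≫
          (EtCoh.pushComp j j').hom.app ((EtCoh.pull j').obj ((EtCoh.pull j).obj G)) := by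
    simp
  rw [h2] at h1
  have h3 := congrArg (fun φ => φ.hom.app (op Y) t) h1
  refine ⟨(MorphismProperty.Over.pullbackComp (P := EtCoh.etaleMP) (Q := ⊤) j' j).hom.app Y, ?_⟩
  exact h3

/-- **D2**: the relative degree-zero pullback is restriction of sections -/
theorem β_HpullVia (jW : TW ⟶ X) [IsOpenImmersion jW] (w : j' ≫ j = jW) (G : EtCoh.Ab X)
    (x : EtCoh.const T ℤ ⟶ (EtCoh.pull j).obj G)
    (ι : (EtShriek.compEtale jW).obj (EtCoh.top TW) ⟶ (EtShriek.compEtale j).obj (EtCoh.top T)) :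
    β jW G ((EtCore.pullConst j' ℤ).inv ≫ (EtCoh.pull j').map x ≫
      (((EtCore.pullComp j' j).symm ≪≫ EtCore.pullCongr w).hom.app G)) =
      G.obj.map ι.op (β j G x) := by
  subst w
  obtain ⟨t, ht⟩ : ∃ t, t = β j G x := ⟨_, rfl⟩
  rw [← ht]
  -- step 2: the section `ev x` in terms of `t`
  have hs : ev T _ x = ((EtCoh.pull j).obj G).obj.map
      ((Groth.Agent.S0651.adj0 j).unit.app (EtCoh.top T)).op
      (((EtCoh.pullPushAdj j).unit.app G).hom.app
        (op ((EtShriek.compEtale j).obj (EtCoh.top T))) t) := by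
    apply (secEquiv ((pullIsoRestr j).app G) (EtCoh.top T)).injective
    rw [secEquiv_apply, secEquiv_apply]
    refine Eq.trans ?_ (θ_res_unit j G (EtCoh.top T) t).symm
    exact ht.symm
  -- the comparison iso is the inverse of `pullComp`
  have hκ : ((EtCore.pullComp j' j).symm ≪≫ EtCore.pullCongr rfl).hom.app G =
      (EtCore.pullComp j' j).inv.app G := by
    simp [EtCore.pullCongr]
  obtain ⟨ρ, hρ⟩ := pullComp_unit j' j G ((EtShriek.compEtale j).obj (EtCoh.top T)) t
  -- the morphism `m`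
  obtain ⟨m, hm⟩ : ∃ m, m = (Groth.Agent.S0651.adj0 (j' ≫ j)).homEquiv _ _ ι := ⟨_, rfl⟩
  have hE1 : m ≫ ρ = (EtCore.bcTopIso j').inv ≫
      (EtCoh.bc j').map ((Groth.Agent.S0651.adj0 j).unit.app (EtCoh.top T)) :=
    hom_ext_of_mono _ _
  have hι : (EtShriek.compEtale (j' ≫ j)).map m ≫
      (Groth.Agent.S0651.adj0 (j' ≫ j)).counit.app _ = ι := by
    rw [hm]
    exact ((Groth.Agent.S0651.adj0 (j' ≫ j)).homEquiv_counit _ _ _).symm.trans
      (Equiv.symm_apply_apply _ _)
  -- abbreviations for the sections involved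
  obtain ⟨s₁, hs₁⟩ : ∃ s₁ : ((EtCoh.pull j).obj G).obj.obj
      (op ((EtCoh.bc j).obj ((EtShriek.compEtale j).obj (EtCoh.top T)))),
      s₁ = ((EtCoh.pullPushAdj j).unit.app G).hom.app
        (op ((EtShriek.compEtale j).obj (EtCoh.top T))) t := ⟨_, rfl⟩
  obtain ⟨z, hz⟩ : ∃ z : ((EtCoh.pull j').obj ((EtCoh.pull j).obj G)).obj.obj
      (op ((EtCoh.bc j').obj ((EtCoh.bc j).obj ((EtShriek.compEtale j).obj (EtCoh.top T))))),
      z = ((EtCoh.pullPushAdj j').unit.app ((EtCoh.pull j).obj G)).hom.app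
        (op ((EtCoh.bc j).obj ((EtShriek.compEtale j).obj (EtCoh.top T)))) s₁ := ⟨_, rfl⟩
  obtain ⟨y', hy'⟩ : ∃ y' : ((EtCoh.pull (j' ≫ j)).obj G).obj.obj
      (op ((EtCoh.bc (j' ≫ j)).obj ((EtShriek.compEtale j).obj (EtCoh.top T)))),
      y' = ((EtCoh.pullPushAdj (j' ≫ j)).unit.app G).hom.app
        (op ((EtShriek.compEtale j).obj (EtCoh.top T))) t := ⟨_, rfl⟩
  rw [← hs₁] at hs hρ
  rw [← hz, ← hy'] at hρ
  have a1 : ev TW _ ((EtCore.pullConst j' ℤ).inv ≫ (EtCoh.pull j').map x) =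
      ((EtCoh.pull j').obj ((EtCoh.pull j).obj G)).obj.map (EtCore.bcTopIso j').inv.op
        (((EtCoh.pullPushAdj j').unit.app ((EtCoh.pull j).obj G)).hom.app (op (EtCoh.top T))
          (ev T _ x)) := ev_Hpull j' _ x
  have a2 : ((EtCoh.pullPushAdj j').unit.app ((EtCoh.pull j).obj G)).hom.app (op (EtCoh.top T))
      (ev T _ x) = ((EtCoh.pull j').obj ((EtCoh.pull j).obj G)).obj.map
        ((EtCoh.bc j').map ((Groth.Agent.S0651.adj0 j).unit.app (EtCoh.top T))).op z := by
    rw [hz]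
    refine Eq.trans (congrArg (((EtCoh.pullPushAdj j').unit.app ((EtCoh.pull j).obj G)).hom.app
      (op (EtCoh.top T))) hs) ?_
    exact hom_naturality_apply ((EtCoh.pullPushAdj j').unit.app ((EtCoh.pull j).obj G))
      ((Groth.Agent.S0651.adj0 j).unit.app (EtCoh.top T)) s₁
  have a3 : ev TW _ ((EtCore.pullConst j' ℤ).inv ≫ (EtCoh.pull j').map x) =
      ((EtCoh.pull j').obj ((EtCoh.pull j).obj G)).obj.map m.op
        (((EtCore.pullComp j' j).hom.app G).hom.app _ y') := by
    rw [a1, a2, Groth.Agent.S0728.map_map, ← hE1, ← Groth.Agent.S0728.map_map, ← hρ]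
  have a5 : ((EtCore.pullComp j' j).inv.app G).hom.app (op (EtCoh.top TW))
      (((EtCoh.pull j').obj ((EtCoh.pull j).obj G)).obj.map m.op
        (((EtCore.pullComp j' j).hom.app G).hom.app _ y')) =
      ((EtCoh.pull (j' ≫ j)).obj G).obj.map m.op y' := by
    refine (hom_naturality_apply ((EtCore.pullComp j' j).inv.app G) m _).trans ?_
    have := congrArg (fun φ => φ.hom.app (op ((EtCoh.bc (j' ≫ j)).obj
      ((EtShriek.compEtale j).obj (EtCoh.top T)))) y') ((EtCore.pullComp j' j).hom_inv_id_app G)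
    exact congrArg (((EtCoh.pull (j' ≫ j)).obj G).obj.map m.op) this
  have a7 : ((pullIsoRestr (j' ≫ j)).hom.app G).hom.app (op (EtCoh.top TW))
      (((EtCoh.pull (j' ≫ j)).obj G).obj.map m.op y') = G.obj.map ι.op t := by
    refine (hom_naturality_apply ((pullIsoRestr (j' ≫ j)).hom.app G) m _).trans ?_
    rw [hy']
    refine (congrArg (((EtShriek.restrAlong (j' ≫ j)).obj G).obj.map m.op)
      (θ_unit (j' ≫ j) G ((EtShriek.compEtale j).obj (EtCoh.top T)) t)).trans ?_
    change G.obj.map ((EtShriek.compEtale (j' ≫ j)).map m).op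
      (G.obj.map ((Groth.Agent.S0651.adj0 (j' ≫ j)).counit.app _).op t) = _
    rw [Groth.Agent.S0728.map_map, hι]
  rw [hκ, β_apply, ← Category.assoc, ev_naturality, a3, a5, a7]

end Via

section TwoCover

variable {X : Scheme.{u}} {T A B C : X.Etale} (a : A ⟶ T) (b : B ⟶ T) (c₁ : C ⟶ A) (c₂ : C ⟶ B)
  [Mono a.left] [Mono b.left]

/-- the two-member family -/
def fam (A B : X.Etale) : Bool → X.Etale
  | true => A
  | false => B

/-- the two-member family of maps -/
def famι : ∀ i, fam A B i ⟶ T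
  | true => a
  | false => b

variable (hcov : ∀ t : T.left, (∃ x, a.left.base x = t) ∨ ∃ y, b.left.base y = t)

include hcov in
theorem generate_mem :
    Sieve.generate (Presieve.ofArrows (fam A B) (famι a b)) ∈ X.smallEtaleTopology T := by
  apply Groth.Agent.H1.ClosedDense.mem_smallEtaleTopology
  intro t
  rcases hcov t with ⟨x, hx⟩ | ⟨x, hx⟩
  · exact ⟨A, a, x, ⟨_, 𝟙 _, famι a b true, Presieve.ofArrows.mk (ι := Bool) true,
      Category.id_comp _⟩, hx⟩
  · exact ⟨B, b, x, ⟨_, 𝟙 _, famι a b false, Presieve.ofArrows.mk (ι := Bool) false,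
      Category.id_comp _⟩, hx⟩

variable (hfac : ∀ {Z : X.Etale} (gi : Z ⟶ A) (gj : Z ⟶ B), gi ≫ a = gj ≫ b →
    ∃ c : Z ⟶ C, c ≫ c₁ = gi ∧ c ≫ c₂ = gj)

include hcov in
theorem isSheafFor_fam (Q : EtCoh.Ab X) :
    Presieve.IsSheafFor (Q.obj ⋙ forget AddCommGrpCat) (Presieve.ofArrows (fam A B) (famι a b)) := by
  rw [Presieve.isSheafFor_iff_generate]
  exact ((isSheaf_iff_isSheaf_of_type _ _).1
    ((Presheaf.isSheaf_iff_isSheaf_forget _ Q.obj (forget _)).1 Q.property)) _ (generate_mem a b hcov)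

include hcov hfac in
theorem exists_glue (Q : EtCoh.Ab X) (sa : Q.obj.obj (op A)) (sb : Q.obj.obj (op B))
    (h : Q.obj.map c₁.op sa = Q.obj.map c₂.op sb) :
    ∃ s : Q.obj.obj (op T), Q.obj.map a.op s = sa ∧ Q.obj.map b.op s = sb := by
  have hsh := isSheafFor_fam a b hcov Q
  rw [Presieve.isSheafFor_arrows_iff] at hsh
  let x : ∀ i, (Q.obj ⋙ forget AddCommGrpCat).obj (op (fam A B i)) := fun i =>
    match i with
    | true => sa
    | false => sb
  have key : ∀ {Z : X.Etale} (gi : Z ⟶ A) (gj : Z ⟶ B), gi ≫ a = gj ≫ b →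
      Q.obj.map gi.op sa = Q.obj.map gj.op sb := by
    intro Z gi gj hg
    obtain ⟨c, hc1, hc2⟩ := hfac gi gj hg
    rw [← hc1, ← Groth.Agent.S0728.map_map, h, Groth.Agent.S0728.map_map, hc2]
  have hx : Presieve.Arrows.Compatible (Q.obj ⋙ forget AddCommGrpCat) (famι a b) x := by
    intro i j Z gi gj hg
    match i, j, gi, gj, hg with
    | true, true, gi, gj, hg => rw [Groth.Agent.S14452.eq_of_comp_left_mono a gi gj hg]
    | false, false, gi, gj, hg => rw [Groth.Agent.S14452.eq_of_comp_left_mono b gi gj hg]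
    | true, false, gi, gj, hg => exact key gi gj hg
    | false, true, gi, gj, hg => exact (key gj gi hg.symm).symm
  obtain ⟨t, ht, -⟩ := hsh x hx
  exact ⟨t, ht true, ht false⟩

include hcov in
theorem eq_zero_of_cover (Q : EtCoh.Ab X) (s : Q.obj.obj (op T)) (ha : Q.obj.map a.op s = 0)
    (hb : Q.obj.map b.op s = 0) : s = 0 := by
  have hsh := isSheafFor_fam a b hcov Q
  apply hsh.isSeparatedFor.ext
  intro Y f hf
  obtain ⟨i⟩ := hf
  match i with
  | true =>
    change Q.obj.map a.op s = Q.obj.map a.op 0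
    rw [ha, map_zero]
  | false =>
    change Q.obj.map b.op s = Q.obj.map b.op 0
    rw [hb, map_zero]

end TwoCover

end Groth.Agent.H1.MVDeg0
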