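import Mathlib
import Groth.Agent.Lib.Helper21.ExtVanish
import Groth.Agent.Lib.Helper21.ScalarExt

/-!
# Injective sheaves of `Λ`-modules (constant ring `Λ`) are acyclic as abelian sheaves (helper1)

Universe-general version (any site) of helper21's `InjAcyc`, for `Sheaf J (ModuleCat Λ)`:
`ext_forget_injective_eq_zero`: `Ext^{n+1}(A, U I) = 0` for `A` a sectionwise torsion-free abelian
sheaf and `I` an injective sheaf of `Λ`-modules (`U` the forgetful functor); `tf_constantSheaf`.
-/

set_option autoImplicit false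
universe w w' v₁ u₁
open CategoryTheory CategoryTheory.Limits Opposite CategoryTheory.Abelian TensorProduct

namespace Groth.Agent.H1.ModAbVanish

variable {C : Type u₁} [Category.{v₁} C] (J : GrothendieckTopology C)
  [HasSheafify J AddCommGrpCat.{w}]

/-- torsion-free abelian sheaves (sectionwise) -/
def TF (A : Sheaf J AddCommGrpCat.{w}) : Prop := ∀ U : Cᵒᵖ, IsAddTorsionFree (A.obj.obj U)

variable {J}

lemma injective_of_mono {A B : Sheaf J AddCommGrpCat.{w}} (f : A ⟶ B) [Mono f] (U : Cᵒᵖ) :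
    Function.Injective (f.hom.app U) := by
  have h1 : Mono ((sheafToPresheaf J AddCommGrpCat.{w}).map f) := inferInstance
  have h2 : Mono (((sheafToPresheaf J AddCommGrpCat.{w}).map f).app U) := inferInstance
  exact (AddCommGrpCat.mono_iff_injective _).1 h2

lemma mono_of_injective {A B : Sheaf J AddCommGrpCat.{w}} (f : A ⟶ B)
    (h : ∀ U : Cᵒᵖ, Function.Injective (f.hom.app U)) : Mono f := by
  have h1 : ∀ U : Cᵒᵖ, Mono (((sheafToPresheaf J AddCommGrpCat.{w}).map f).app U) := fun U =>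
    (AddCommGrpCat.mono_iff_injective _).2 (h U)
  have h2 : Mono ((sheafToPresheaf J AddCommGrpCat.{w}).map f) := NatTrans.mono_of_mono_app _
  exact (sheafToPresheaf J AddCommGrpCat.{w}).mono_of_mono_map h2

lemma tf_iff (A : Sheaf J AddCommGrpCat.{w}) :
    TF J A ↔ ∀ n : ℕ, n ≠ 0 → Mono (n • 𝟙 A) := by
  constructor
  · intro h n hn
    apply mono_of_injective
    intro U x y hxy
    haveI := h U
    exact nsmul_right_injective hn hxy
  · intro h U
    refine ⟨fun n hn x y hxy => ?_⟩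
    haveI := h n hn
    exact injective_of_mono (n • 𝟙 A) U hxy

lemma tf_of_mono {A B : Sheaf J AddCommGrpCat.{w}} (f : A ⟶ B) [Mono f] (hB : TF J B) :
    TF J A := by
  intro U
  haveI := hB U
  exact Function.Injective.isAddTorsionFree (f.hom.app U).hom (injective_of_mono f U)

lemma tf_sheafify (P : Cᵒᵖ ⥤ AddCommGrpCat.{w}) (hP : ∀ U, IsAddTorsionFree (P.obj U)) :
    TF J ((presheafToSheaf J AddCommGrpCat.{w}).obj P) := by
  rw [tf_iff]
  intro n hn
  have h1 : Mono (n • 𝟙 P) := by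
    haveI : ∀ U : Cᵒᵖ, Mono ((n • 𝟙 P : P ⟶ P).app U) := fun U => by
      rw [AddCommGrpCat.mono_iff_injective]
      intro x y hxy
      haveI := hP U
      exact nsmul_right_injective hn hxy
    exact NatTrans.mono_of_mono_app _
  have : n • 𝟙 ((presheafToSheaf J AddCommGrpCat.{w}).obj P) =
      (presheafToSheaf J AddCommGrpCat.{w}).map (n • 𝟙 P) := by
    rw [Functor.map_nsmul, CategoryTheory.Functor.map_id]
  rw [this]
  infer_instance

lemma tf_free (X : Cᵒᵖ ⥤ Type w) :
    TF J ((presheafToSheaf J AddCommGrpCat.{w}).obj (X ⋙ AddCommGrpCat.free.{w})) := by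
  apply tf_sheafify
  intro U
  exact Function.Injective.isAddTorsionFree
    (FreeAbelianGroup.equivFinsupp (X.obj U)).toAddMonoidHom
    (FreeAbelianGroup.equivFinsupp (X.obj U)).injective

lemma tf_constantSheaf (A : AddCommGrpCat.{w}) [IsAddTorsionFree A] :
    TF J ((constantSheaf J AddCommGrpCat.{w}).obj A) := by
  apply tf_sheafify
  intro U
  exact inferInstanceAs (IsAddTorsionFree A)

variable (J)

/-- the free abelian sheaf functor on presheaves of sets -/
noncomputable abbrev freeF : (Cᵒᵖ ⥤ Type w) ⥤ Sheaf J AddCommGrpCat.{w} :=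
  (Functor.whiskeringRight _ _ _).obj AddCommGrpCat.free.{w} ⋙ presheafToSheaf J AddCommGrpCat.{w}

/-- the underlying presheaf of sets -/
noncomputable abbrev forgetF : Sheaf J AddCommGrpCat.{w} ⥤ (Cᵒᵖ ⥤ Type w) :=
  sheafToPresheaf J AddCommGrpCat.{w} ⋙
    (Functor.whiskeringRight _ _ _).obj (forget AddCommGrpCat.{w})

/-- the free/forgetful adjunction -/
noncomputable def freeAdj : freeF J ⊣ forgetF J :=
  (AddCommGrpCat.adj.whiskerRight Cᵒᵖ).comp (sheafificationAdjunction J AddCommGrpCat.{w})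

instance : (forgetF J).Faithful := by
  dsimp only [forgetF]
  infer_instance

lemma exists_tf_cover (A : Sheaf J AddCommGrpCat.{w}) :
    ∃ (P : Sheaf J AddCommGrpCat.{w}) (π : P ⟶ A), Epi π ∧ TF J P :=
  ⟨(freeF J).obj ((forgetF J).obj A), (freeAdj J).counit.app A, inferInstance, tf_free _⟩

variable {J}

/-- the extension property: morphisms to `B` extend along monomorphisms with torsion-free
cokernel -/
def ExtProp (B : Sheaf J AddCommGrpCat.{w}) : Prop :=
  ∀ (S : ShortComplex (Sheaf J AddCommGrpCat.{w})), S.ShortExact → TF J S.X₃ →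
    ∀ f : S.X₁ ⟶ B, ∃ f' : S.X₂ ⟶ B, S.f ≫ f' = f

/-- **vanishing**: `Ext^{n+1}(A, B) = 0` for `A` torsion-free and `B` with the extension
property -/
theorem ext_eq_zero_of_extProp [HasExt.{w'} (Sheaf J AddCommGrpCat.{w})]
    [EnoughInjectives (Sheaf J AddCommGrpCat.{w})]
    (B : Sheaf J AddCommGrpCat.{w}) (hB : ExtProp B) (n : ℕ)
    (A : Sheaf J AddCommGrpCat.{w}) (hA : TF J A) (x : Ext.{w'} A B (n + 1)) : x = 0 := by
  refine Groth.Agent.Lib.helper21.ExtVanish.ext_eq_zero_of_class (TF J) B ?_ hB n A hA x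
  intro A hA A'' p hp
  obtain ⟨P, π, hπ, hP⟩ := exists_tf_cover J A''
  refine ⟨P, π ≫ p, epi_comp _ _, hP, tf_of_mono (kernel.ι (π ≫ p)) hP, π, rfl⟩

lemma sections_exact (S : ShortComplex (Sheaf J AddCommGrpCat.{w})) (hS : S.ShortExact)
    (U : Cᵒᵖ) (y : S.X₂.obj.obj U) (hy : S.g.hom.app U y = 0) :
    ∃ x : S.X₁.obj.obj U, S.f.hom.app U x = y := by
  let F : Sheaf J AddCommGrpCat.{w} ⥤ AddCommGrpCat.{w} :=
    sheafToPresheaf J AddCommGrpCat.{w} ⋙ (evaluation _ _).obj U
  have hF : PreservesFiniteLimits F := inferInstance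
  have key : ∀ (S : ShortComplex (Sheaf J AddCommGrpCat.{w})), S.ShortExact →
      (S.map F).Exact ∧ Mono (F.map S.f) :=
    ((Functor.preservesFiniteLimits_tfae F).out 3 0).1 hF
  have h := (key S hS).1
  rw [ShortComplex.ab_exact_iff] at h
  exact h y hy


section Scalar

variable (Λ : Type w) [CommRing Λ]

/-- `A ↦ Λ ⊗_ℤ A` as a functor to `Λ`-modules -/
noncomputable def tF : AddCommGrpCat.{w} ⥤ ModuleCat.{w} Λ where
  obj A := ModuleCat.of Λ (Λ ⊗[ℤ] A)
  map {A B} g := ModuleCat.ofHom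
    (TensorProduct.AlgebraTensorModule.map (LinearMap.id : Λ →ₗ[Λ] Λ) g.hom.toIntLinearMap)
  map_id A := by
    apply ModuleCat.hom_ext
    apply TensorProduct.AlgebraTensorModule.curry_injective
    ext
    rfl
  map_comp {A B D} f g := by
    apply ModuleCat.hom_ext
    apply TensorProduct.AlgebraTensorModule.curry_injective
    ext
    rfl

lemma tF_map_tmul {A B : AddCommGrpCat.{w}} (g : A ⟶ B) (r : Λ) (a : A) :
    ((tF Λ).map g).hom (r ⊗ₜ[ℤ] a) = r ⊗ₜ[ℤ] g a := rfl

/-- the counit `Λ ⊗ N ⟶ N` -/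
noncomputable def counitLin (N : ModuleCat.{w} Λ) : (Λ ⊗[ℤ] N) →ₗ[Λ] N :=
  TensorProduct.AlgebraTensorModule.lift
    { toFun := fun r => (r • (LinearMap.id : N →ₗ[ℤ] N))
      map_add' := fun r s => by ext; simp [add_smul]
      map_smul' := fun r s => by ext; simp [mul_smul] }

lemma counitLin_tmul (N : ModuleCat.{w} Λ) (r : Λ) (m : N) :
    counitLin Λ N (r ⊗ₜ[ℤ] m) = r • m := rfl

variable {Λ}

/-- **extension property**: morphisms of abelian presheaves into the underlying abelian presheaf of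
an injective presheaf of `Λ`-modules extend along monomorphisms with sectionwise torsion-free
cokernel -/
theorem exists_extension (M : Cᵒᵖ ⥤ ModuleCat.{w} Λ) [Injective M]
    {E E' : Cᵒᵖ ⥤ AddCommGrpCat.{w}} (g : E ⟶ E')
    (hinj : ∀ U, Function.Injective (g.app U))
    (htf : ∀ (U : Cᵒᵖ) (n : ℕ), n ≠ 0 → ∀ y : E'.obj U, n • y ∈ (g.app U).hom.range →
      y ∈ (g.app U).hom.range)
    (φ : E ⟶ M ⋙ forget₂ (ModuleCat.{w} Λ) AddCommGrpCat.{w}) :
    ∃ φ' : E' ⟶ M ⋙ forget₂ (ModuleCat.{w} Λ) AddCommGrpCat.{w}, g ≫ φ' = φ := by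
  -- `Λ ⊗ g` is a monomorphism
  let Tg : E ⋙ tF Λ ⟶ E' ⋙ tF Λ := Functor.whiskerRight g (tF Λ)
  haveI : Mono Tg := by
    haveI : ∀ U, Mono (Tg.app U) := fun U => by
      rw [ModuleCat.mono_iff_injective]
      intro x y hxy
      have h := Groth.Agent.Lib.helper21.ScalarExt.lTensor_injective_of_tf (g.app U).hom (hinj U)
        (htf U) Λ
      have e : (((tF Λ).map (g.app U)).hom.restrictScalars ℤ) =
          (g.app U).hom.toIntLinearMap.lTensor Λ := by
        apply TensorProduct.ext'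
        intro r a
        rfl
      have hxy' : ((tF Λ).map (g.app U)).hom.restrictScalars ℤ x =
          ((tF Λ).map (g.app U)).hom.restrictScalars ℤ y := hxy
      rw [e] at hxy'
      exact h hxy'
    exact NatTrans.mono_of_mono_app _
  -- `Λ ⊗ E ⟶ M`
  let Tφ : E ⋙ tF Λ ⟶ M :=
    { app := fun U => ModuleCat.ofHom
        ((counitLin Λ (M.obj U)).comp ((tF Λ).map (φ.app U)).hom)
      naturality := fun U V f => by
        apply ModuleCat.hom_ext
        apply TensorProduct.AlgebraTensorModule.curry_injective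
        ext a
        have h1 := NatTrans.naturality_apply φ f a
        show counitLin Λ (M.obj V) ((1 : Λ) ⊗ₜ[ℤ] (φ.app V (E.map f a))) =
          M.map f (counitLin Λ (M.obj U) ((1 : Λ) ⊗ₜ[ℤ] (φ.app U a)))
        rw [counitLin_tmul, counitLin_tmul, one_smul, one_smul]
        exact h1 }
  let r : E' ⋙ tF Λ ⟶ M := Injective.factorThru Tφ Tg
  have hr : Tg ≫ r = Tφ := Injective.comp_factorThru _ _
  refine ⟨{ app := fun U => AddCommGrpCat.ofHom
              ((r.app U).hom.toAddMonoidHom.comp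
                (TensorProduct.mk ℤ Λ (E'.obj U) 1).toAddMonoidHom)
            naturality := fun U V f => ?_ }, ?_⟩
  · apply AddCommGrpCat.hom_ext
    apply AddMonoidHom.ext
    intro e
    have h1 := congrArg (fun t => t.hom ((1 : Λ) ⊗ₜ[ℤ] e)) (r.naturality f)
    exact h1
  · ext U e
    have h1 := congrArg (fun t => (t.app U).hom ((1 : Λ) ⊗ₜ[ℤ] e)) hr
    have h2 : (Tφ.app U).hom ((1 : Λ) ⊗ₜ[ℤ] e) = φ.app U e := by
      show counitLin Λ (M.obj U) ((1 : Λ) ⊗ₜ[ℤ] (φ.app U e)) = _
      rw [counitLin_tmul, one_smul]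
    exact h1.trans h2

end Scalar

section SheafLevel

variable (Λ : Type w) [CommRing Λ] [HasSheafify J (ModuleCat.{w} Λ)]
  [J.HasSheafCompose (forget₂ (ModuleCat.{w} Λ) AddCommGrpCat.{w})]

/-- the abelian sheaf underlying an injective sheaf of `Λ`-modules has the extension property -/
theorem extProp_forget (I : Sheaf J (ModuleCat.{w} Λ)) [Injective I] :
    ExtProp ((sheafCompose J (forget₂ (ModuleCat.{w} Λ) AddCommGrpCat.{w})).obj I) := by
  intro S hS hTF f
  haveI : Injective I.obj :=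
    Injective.injective_of_adjoint (sheafificationAdjunction J (ModuleCat.{w} Λ)) I
  haveI : Mono S.f := hS.mono_f
  obtain ⟨φ', hφ'⟩ := exists_extension I.obj (g := S.f.hom)
    (fun U => injective_of_mono S.f U) (by
      intro U n hn y hy
      obtain ⟨x, hx⟩ := hy
      have h1 : S.g.hom.app U (n • y) = 0 := by
        rw [← hx]
        have := congrArg (fun t => t.hom.app U x) S.zero
        exact this
      have h2 : n • S.g.hom.app U y = 0 := by rw [← h1, map_nsmul]
      haveI := hTF U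
      have h3 : S.g.hom.app U y = 0 := by
        apply nsmul_right_injective hn
        show n • S.g.hom.app U y = n • 0
        rw [h2, smul_zero]
      obtain ⟨x', hx'⟩ := sections_exact S hS U y h3
      exact ⟨x', hx'⟩) f.hom
  exact ⟨⟨φ'⟩, Sheaf.hom_ext hφ'⟩

/-- **`Ext^{n+1}(A, U I) = 0`** for `A` torsion-free and `I` an injective sheaf of `Λ`-modules -/
theorem ext_forget_injective_eq_zero [HasExt.{w'} (Sheaf J AddCommGrpCat.{w})]
    [EnoughInjectives (Sheaf J AddCommGrpCat.{w})]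
    (I : Sheaf J (ModuleCat.{w} Λ)) [Injective I] (A : Sheaf J AddCommGrpCat.{w}) (hA : TF J A)
    (n : ℕ)
    (x : Ext.{w'} A ((sheafCompose J (forget₂ (ModuleCat.{w} Λ) AddCommGrpCat.{w})).obj I)
      (n + 1)) : x = 0 :=
  ext_eq_zero_of_extProp _ (extProp_forget Λ I) n A hA x

end SheafLevel

end Groth.Agent.H1.ModAbVanish
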