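import Groth.Agent.Lib.Helper1.BootB

/-!
# Subsheaves of representable sheaves given by local predicates (helper1)

`SubPred T`: a predicate on morphisms `Z ⟶ T` over `S` which is stable under precomposition and
local for the fppf topology.  `Rep A j`: the monomorphism `j : I ⟶ T`, locally of finite type,
represents `A`.  Main result: fppf descent of representability
(`exists_rep_of_fppf_local`).
-/

set_option autoImplicit false
universe u
open CategoryTheory CategoryTheory.Limits AlgebraicGeometry Opposite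

namespace Groth.Agent.H1.MonoRep

open AlgSp Groth.Agent.Lib.Helper14.AlgSpQuot Groth.Agent.H1.Boot

variable {S : Scheme.{u}}

/-- A subsheaf of `h_T` given by a local predicate on morphisms to `T`. -/
structure SubPred (T : Over S) where
  P : ∀ {Z : Over S}, (Z ⟶ T) → Prop
  pre : ∀ {Z Z' : Over S} (c : Z' ⟶ Z) (z : Z ⟶ T), P z → P (c ≫ z)
  loc : ∀ {Z : Over S} (z : Z ⟶ T) (R : Sieve Z), R ∈ AlgSp.J S Z →
    (∀ {Z' : Over S} (c : Z' ⟶ Z), R c → P (c ≫ z)) → P z

/-- `j` represents the subsheaf `A`. -/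
structure Rep {T : Over S} (A : SubPred T) {I : Over S} (j : I ⟶ T) : Prop where
  mono : Mono j
  lft : LocallyOfFiniteType j.left
  iff : ∀ {Z : Over S} (z : Z ⟶ T), (∃ u : Z ⟶ I, u ≫ j = z) ↔ A.P z

/-- The sieve of morphisms along which `z` acquires the property `A`. -/
def SubPred.sieve {T : Over S} (A : SubPred T) {Z : Over S} (z : Z ⟶ T) : Sieve Z where
  arrows Z' c := A.P (c ≫ z)
  downward_closed := by
    intro Y Y' c h d
    rw [Category.assoc]
    exact A.pre d _ h

theorem SubPred.of_sieve_mem {T : Over S} (A : SubPred T) {Z : Over S} (z : Z ⟶ T)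
    (h : A.sieve z ∈ AlgSp.J S Z) : A.P z :=
  A.loc z _ h (fun _ hc => hc)

/-- The subsheaf of `h_T` which is the image of a monomorphism of sheaves. -/
def SubPred.ofSheaf {T : Over S} {X : Sp S} (π : X ⟶ (yon S).obj T) [Mono π] : SubPred T where
  P z := ∃ s, s ≫ π = (yon S).map z
  pre := by
    rintro Z Z' c z ⟨s, hs⟩
    exact ⟨(yon S).map c ≫ s, by rw [Category.assoc, hs, Functor.map_comp]⟩
  loc := by
    intro Z z R hR h
    refine exists_factor_of_liftSieve π ((yon S).map z) ?_
    refine (AlgSp.J S).superset_covering ?_ hR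
    intro Z' c hc
    obtain ⟨s, hs⟩ := h c hc
    exact ⟨s, by rw [hs, Functor.map_comp]⟩

/-- The subsheaf represented by a monomorphism of schemes. -/
def SubPred.ofMono {T I : Over S} (j : I ⟶ T) [Mono j] : SubPred T where
  P z := ∃ u, u ≫ j = z
  pre := by
    rintro Z Z' c z ⟨u, rfl⟩
    exact ⟨c ≫ u, Category.assoc _ _ _⟩
  loc := by
    intro Z z R hR h
    haveI : Mono ((yon S).map j) := inferInstance
    obtain ⟨x, hx⟩ := exists_factor_of_liftSieve ((yon S).map j) ((yon S).map z) (by
      refine (AlgSp.J S).superset_covering ?_ hR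
      intro Z' c hc
      obtain ⟨u, hu⟩ := h c hc
      exact ⟨(yon S).map u, by rw [← Functor.map_comp, hu, Functor.map_comp]⟩)
    obtain ⟨u, rfl⟩ := (yon S).map_surjective x
    exact ⟨u, (yon S).map_injective (by rw [Functor.map_comp, hx])⟩

/-- The pullback of a subsheaf along a morphism of schemes. -/
def SubPred.pull {T T' : Over S} (A : SubPred T) (e : T' ⟶ T) : SubPred T' where
  P z := A.P (z ≫ e)
  pre := by
    intro Z Z' c z h
    rw [Category.assoc]
    exact A.pre c _ h
  loc := by
    intro Z z R hR h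
    refine A.loc (z ≫ e) R hR ?_
    intro Z' c hc
    rw [← Category.assoc]
    exact h c hc

/-- The image subsheaf of a morphism of schemes. -/
def SubPred.inIm {T V : Over S} (g : V ⟶ T) : SubPred T where
  P {Z} z := ∃ R : Sieve Z, R ∈ AlgSp.J S Z ∧ ∀ {Z' : Over S} (c : Z' ⟶ Z), R c →
    ∃ v : Z' ⟶ V, v ≫ g = c ≫ z
  pre := by
    rintro Z Z' c z ⟨R, hR, h⟩
    refine ⟨R.pullback c, (AlgSp.J S).pullback_stable c hR, ?_⟩
    intro Z'' d hd
    obtain ⟨v, hv⟩ := h (d ≫ c) hd
    exact ⟨v, by rw [hv, Category.assoc]⟩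
  loc := by
    intro Z z R hR h
    let R' : Sieve Z := Sieve.bind R (fun Z' c hc => (h c hc).choose)
    refine ⟨R', (AlgSp.J S).bind_covering hR (fun Z' c hc => (h c hc).choose_spec.1), ?_⟩
    rintro Z'' d ⟨Z', a, c, hc, ha, rfl⟩
    obtain ⟨v, hv⟩ := (h c hc).choose_spec.2 a ha
    exact ⟨v, by rw [hv, Category.assoc]⟩

theorem SubPred.inIm_self {T V : Over S} (g : V ⟶ T) : (SubPred.inIm g).P g :=
  ⟨⊤, (AlgSp.J S).top_mem _, fun c _ => ⟨c, rfl⟩⟩

theorem SubPred.inIm_le {T V : Over S} (g : V ⟶ T) (A : SubPred T) (h : A.P g) {Z : Over S}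
    (z : Z ⟶ T) (hz : (SubPred.inIm g).P z) : A.P z := by
  obtain ⟨R, hR, hRz⟩ := hz
  refine A.loc z R hR ?_
  intro Z' c hc
  obtain ⟨v, hv⟩ := hRz c hc
  rw [← hv]
  exact A.pre v g h

/-- **fppf descent of representability** for subsheaves of representable sheaves, by monomorphisms
locally of finite type. -/
theorem exists_rep_of_fppf_local {T W E' : Over S} (A : SubPred T)
    (p : W ⟶ T) [Flat p.left] [LocallyOfFinitePresentation p.left] [Surjective p.left]
    [QuasiCompact p.left] [QuasiSeparatedSpace W.left]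
    (ι : E' ⟶ W) (hι : Rep (A.pull p) ι) :
    ∃ (E : Over S) (j : E ⟶ T), Rep A j := by
  haveI : Mono ι := hι.mono
  haveI : Mono ι.left := inferInstance
  haveI : LocallyOfFiniteType ι.left := hι.lft
  have H : ∀ {Z : Over S} (x : Z ⟶ W), (∃ v : Z ⟶ E', v ≫ ι = x) ↔ A.P (x ≫ p) :=
    fun x => hι.iff x
  have hWp : p.left ≫ T.hom = W.hom := Over.w p
  have hEι : ι.left ≫ W.hom = E'.hom := Over.w ι
  -- stability
  have hst : StableMono p.left ι.left := by
    rintro Z x₀ x₁ e ⟨v, hv⟩
    let TS : Over S := Over.mk (x₀ ≫ W.hom)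
    let X₀ : TS ⟶ W := Over.homMk x₀ rfl
    let X₁ : TS ⟶ W := Over.homMk x₁ (by
      change x₁ ≫ W.hom = x₀ ≫ W.hom
      rw [← hWp, ← Category.assoc, ← e, Category.assoc])
    let V : TS ⟶ E' := Over.homMk v (by
      change v ≫ E'.hom = x₀ ≫ W.hom
      rw [← hEι, ← Category.assoc, hv])
    have hV : V ≫ ι = X₀ := by
      ext
      exact hv
    have hX : X₀ ≫ p = X₁ ≫ p := by
      ext
      exact e
    have h1 := (H X₀).1 ⟨V, hV⟩
    rw [hX] at h1
    obtain ⟨v', hv'⟩ := (H X₁).2 h1
    exact ⟨v'.left, congrArg (fun t => t.left) hv'⟩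
  haveI : UniversallyOpen p.left := inferInstance
  obtain ⟨U, j₀, e, sq⟩ := exists_isPullback_of_stableMono hst
  let E : Over S := Over.mk (j₀ ≫ T.hom)
  let j : E ⟶ T := Over.homMk j₀ rfl
  let eS : E' ⟶ E := Over.homMk e (by
    change e ≫ j₀ ≫ T.hom = E'.hom
    rw [← Category.assoc, sq.w, Category.assoc, hWp, hEι])
  have heS : eS ≫ j = ι ≫ p := by
    ext
    exact sq.w
  have hj₀ : Mono j₀ := by
    have h1 : (MorphismProperty.monomorphisms Scheme.{u}) ι.left := inferInstanceAs (Mono ι.left)
    exact MorphismProperty.of_isPullback_of_descendsAlong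
      (P := MorphismProperty.monomorphisms Scheme.{u})
      (Q := (@Surjective ⊓ @Flat ⊓ @QuasiCompact : MorphismProperty Scheme.{u}))
      sq.flip ⟨⟨inferInstance, inferInstance⟩, inferInstance⟩ h1
  have hj₀' : LocallyOfFiniteType j₀ :=
    MorphismProperty.of_isPullback_of_descendsAlong
      (P := @LocallyOfFiniteType)
      (Q := (@Surjective ⊓ @Flat ⊓ @QuasiCompact : MorphismProperty Scheme.{u}))
      sq.flip ⟨⟨inferInstance, inferInstance⟩, inferInstance⟩ hι.lft
  have hj : Mono j := by
    refine ⟨fun {Z} a b hab => ?_⟩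
    ext
    have := congrArg (fun t => t.left) hab
    exact (cancel_mono j₀).1 this
  -- properties of `e`
  have he1 : Flat e := MorphismProperty.of_isPullback (P := @Flat) sq.flip inferInstance
  have he2 : LocallyOfFinitePresentation e :=
    MorphismProperty.of_isPullback (P := @LocallyOfFinitePresentation) sq.flip inferInstance
  have he3 : Surjective e := MorphismProperty.of_isPullback (P := @Surjective) sq.flip inferInstance
  haveI : Flat eS.left := he1
  haveI : LocallyOfFinitePresentation eS.left := he2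
  haveI : Surjective eS.left := he3
  -- the tautological section
  have hsι : A.P (ι ≫ p) := (H ι).1 ⟨𝟙 _, Category.id_comp _⟩
  have hsE : A.P j := by
    refine A.loc j (Sieve.generate (Presieve.singleton eS)) ?_ ?_
    · exact generate_singleton_mem' eS (Sieve.le_generate _ _ _ (Presieve.singleton_self eS))
    · rintro Z' c ⟨Y, a, b, ⟨⟩, rfl⟩
      rw [Category.assoc, heS]
      exact A.pre a _ hsι
  refine ⟨E, j, hj, hj₀', fun {Z} z => ⟨?_, ?_⟩⟩
  · rintro ⟨u, rfl⟩
    exact A.pre u j hsE
  · intro hz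
    -- the base change of `p`
    have sqT : IsPullback (pullback.fst z p) (pullback.snd z p) z p := IsPullback.of_hasPullback _ _
    have sqT' := sqT.map (Over.forget S)
    have h1 : Flat (pullback.fst z p).left :=
      MorphismProperty.of_isPullback (P := @Flat) sqT'.flip (inferInstanceAs (Flat p.left))
    have h2 : LocallyOfFinitePresentation (pullback.fst z p).left :=
      MorphismProperty.of_isPullback (P := @LocallyOfFinitePresentation) sqT'.flip
        (inferInstanceAs (LocallyOfFinitePresentation p.left))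
    have h3 : Surjective (pullback.fst z p).left :=
      MorphismProperty.of_isPullback (P := @Surjective) sqT'.flip
        (inferInstanceAs (Surjective p.left))
    have hz' : A.P (pullback.snd z p ≫ p) := by
      rw [← sqT.w]
      exact A.pre _ z hz
    obtain ⟨v, hv⟩ := (H (pullback.snd z p)).2 hz'
    refine (SubPred.ofMono j).loc z (Sieve.generate (Presieve.singleton (pullback.fst z p))) ?_ ?_
    · exact generate_singleton_mem' (pullback.fst z p)
        (Sieve.le_generate _ _ _ (Presieve.singleton_self _))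
    · rintro Z' c ⟨Y, a, b, ⟨⟩, rfl⟩
      refine ⟨a ≫ v ≫ eS, ?_⟩
      rw [Category.assoc, Category.assoc, heS, ← Category.assoc v, hv, ← sqT.w, Category.assoc]

end Groth.Agent.H1.MonoRep
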