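import Groth.Agent.Lib.Helper1.MonoRepA
import Groth.Agent.Lib.Helper1.ZarRep
import Groth.Agent.Lib.Helper1.SliceA
import Mathlib.AlgebraicGeometry.Sites.Representability

/-!
# Gluing representable open pieces of a subsheaf of a representable sheaf (helper1)
-/

set_option autoImplicit false
universe u
open CategoryTheory CategoryTheory.Limits AlgebraicGeometry Opposite

namespace Groth.Agent.H1.MonoRep

open AlgSp Groth.Agent.Lib.Helper14.AlgSpQuot Groth.Agent.H1.ZarRep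

variable {S : Scheme.{u}} {T : Over S} (A : SubPred T)

/-- The absolute form of the predicate. -/
def SubPred.abs {Z : Scheme.{u}} (z : Z ⟶ T.left) : Prop :=
  A.P (Over.homMk z rfl : Over.mk (z ≫ T.hom) ⟶ T)

theorem SubPred.abs_iff {Z : Over S} (z : Z ⟶ T) : A.abs z.left ↔ A.P z := by
  let e : Z ≅ Over.mk (z.left ≫ T.hom) := Over.isoMk (Iso.refl _) (by simp)
  have h1 : e.hom ≫ (Over.homMk z.left rfl : Over.mk (z.left ≫ T.hom) ⟶ T) = z := by
    ext
    simp [e]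
  constructor
  · intro h
    rw [← h1]
    exact A.pre _ _ h
  · intro h
    have h2 : (Over.homMk z.left rfl : Over.mk (z.left ≫ T.hom) ⟶ T) = e.inv ≫ z := by
      ext
      simp [e]
    unfold SubPred.abs
    rw [h2]
    exact A.pre _ _ h

theorem SubPred.abs_comp {Z Z' : Scheme.{u}} (c : Z' ⟶ Z) (z : Z ⟶ T.left) (h : A.abs z) :
    A.abs (c ≫ z) := by
  let c' : Over.mk ((c ≫ z) ≫ T.hom) ⟶ Over.mk (z ≫ T.hom) := Over.homMk c (by simp)
  have h2 : (Over.homMk (c ≫ z) rfl : Over.mk ((c ≫ z) ≫ T.hom) ⟶ T) = c' ≫ Over.homMk z rfl := by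
    ext
    simp [c']
  unfold SubPred.abs
  rw [h2]
  exact A.pre _ _ h

/-- Zariski locality of the absolute predicate. -/
theorem SubPred.abs_of_openCover {Z : Scheme.{u}} (z : Z ⟶ T.left) (𝒰 : Z.OpenCover)
    (h : ∀ i, A.abs (𝒰.f i ≫ z)) : A.abs z := by
  refine A.of_sieve_mem _ ?_
  refine mem_J_of_forall_exists_flat _ (fun τ => ?_)
  obtain ⟨i, y, hy⟩ := 𝒰.exists_eq τ
  let c' : Over.mk ((𝒰.f i ≫ z) ≫ T.hom) ⟶ Over.mk (z ≫ T.hom) := Over.homMk (𝒰.f i) (by simp)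
  refine ⟨_, c', ?_, ⟨y, hy⟩, ?_, ?_⟩
  · have h2 : (Over.homMk (𝒰.f i ≫ z) rfl : Over.mk ((𝒰.f i ≫ z) ≫ T.hom) ⟶ T) =
        c' ≫ Over.homMk z rfl := by
      ext
      simp [c']
    change A.P (c' ≫ Over.homMk z rfl)
    rw [← h2]
    exact h i
  · change Flat (𝒰.f i)
    infer_instance
  · change LocallyOfFinitePresentation (𝒰.f i)
    infer_instance

/-- The subfunctor of `Hom(-, T)` of morphisms with the property. -/
def subF : Subfunctor (yoneda.obj T.left) where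
  obj Z := {z | A.abs z}
  map := by
    intro U V i z hz
    exact A.abs_comp i.unop z hz

theorem isSheaf_subF : Presieve.IsSheaf Scheme.zariskiTopology (subF A).toFunctor := by
  have h0 : Presieve.IsSheaf Scheme.zariskiTopology (yoneda.obj T.left) :=
    GrothendieckTopology.Subcanonical.isSheaf_of_isRepresentable _
  rw [Subfunctor.isSheaf_iff _ h0]
  intro U s hs
  obtain ⟨𝒰, h𝒰⟩ := Scheme.mem_grothendieckTopology_iff.1 hs
  refine A.abs_of_openCover s 𝒰 (fun i => ?_)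
  exact h𝒰 _ _ (Presieve.ofArrows.mk i)

/-- The sheaf of morphisms with the property. -/
def shF : Sheaf Scheme.zariskiTopology.{u} (Type u) :=
  ⟨(subF A).toFunctor, (isSheaf_iff_isSheaf_of_type _ _).2 (isSheaf_subF A)⟩


section Glue

variable {κ : Type u} (I : κ → Over S) (j : ∀ k, I k ⟶ T) [∀ k, Mono (j k)]
  (hsub : ∀ k, A.P (j k))

omit [∀ k, Mono (j k)] in
include hsub in
theorem abs_comp_j (k : κ) {Z : Scheme.{u}} (y : Z ⟶ (I k).left) : A.abs (y ≫ (j k).left) :=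
  A.abs_comp y _ ((A.abs_iff (j k)).2 (hsub k))

/-- The maps from the pieces to the sheaf. -/
def fk (k : κ) : yoneda.obj (I k).left ⟶ (shF A).1 :=
  Subfunctor.lift (yoneda.map (j k).left) (by
    rintro U z ⟨y, rfl⟩
    exact abs_comp_j A I j hsub k y)

instance mono_j_left (k : κ) : Mono (j k).left := inferInstance

variable
  (hopen : ∀ (k : κ) {Z : Over S} (z : Z ⟶ T), A.P z → ∃ O : Z.left.Opens,
    ∀ {Z' : Over S} (c : Z' ⟶ Z), (∃ u : Z' ⟶ I k, u ≫ j k = c ≫ z) ↔ Set.range c.left ⊆ O)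

omit [∀ k, Mono (j k)] in
include hopen in
/-- Absolute form of the openness hypothesis. -/
theorem hopen_abs (k : κ) {Z : Scheme.{u}} (z : Z ⟶ T.left) (hz : A.abs z) :
    ∃ O : Z.Opens, ∀ {Z' : Scheme.{u}} (c : Z' ⟶ Z),
      (∃ u : Z' ⟶ (I k).left, u ≫ (j k).left = c ≫ z) ↔ Set.range c ⊆ O := by
  obtain ⟨O, hO⟩ := hopen k (Over.homMk z rfl : Over.mk (z ≫ T.hom) ⟶ T) hz
  refine ⟨O, fun {Z'} c => ?_⟩
  let c' : Over.mk (c ≫ z ≫ T.hom) ⟶ Over.mk (z ≫ T.hom) := Over.homMk c rfl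
  refine Iff.trans ?_ (hO c')
  constructor
  · rintro ⟨u, hu⟩
    refine ⟨Over.homMk u ?_, ?_⟩
    · change u ≫ (I k).hom = c ≫ z ≫ T.hom
      rw [← Over.w (j k), ← Category.assoc, hu, Category.assoc]
    · ext
      exact hu
  · rintro ⟨u, hu⟩
    exact ⟨u.left, congrArg (fun t => t.left) hu⟩

include hsub hopen in
theorem isOpenImmersion_fk (k : κ) : IsOpenImmersion.presheaf (fk A I j hsub k) := by
  apply MorphismProperty.relative.of_exists
  intro Z g
  let z : Z ⟶ T.left := (yonedaEquiv g).1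
  have hz : A.abs z := (yonedaEquiv g).2
  have hg : ∀ {Z' : Scheme.{u}} (b : Z' ⟶ Z), (g.app (op Z') b).1 = b ≫ z := by
    intro Z' b
    have h2 : g.app (op Z') (b ≫ 𝟙 Z) = (shF A).1.map b.op (g.app (op Z) (𝟙 Z)) :=
      NatTrans.naturality_apply g b.op (𝟙 Z)
    rw [Category.comp_id] at h2
    rw [h2]
    rfl
  obtain ⟨O, hO⟩ := hopen_abs A I j hopen k z hz
  obtain ⟨u, hu⟩ := (hO O.ι).2 (by simp)
  refine ⟨O.toScheme, yoneda.map u, O.ι, ?_, inferInstance⟩
  refine Slice.isPullback_presheaf_of_sections _ _ _ _ ?_ ?_ ?_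
  · ext Z' d
    apply Subtype.ext
    change (d ≫ u) ≫ (j k).left = (g.app _ (d ≫ O.ι)).1
    rw [hg, Category.assoc, hu, Category.assoc]
  · rintro ⟨Z'⟩ (d : Z' ⟶ O.toScheme) (d' : Z' ⟶ O.toScheme) _ h2
    have h2' : d ≫ O.ι = d' ≫ O.ι := h2
    exact (cancel_mono O.ι).1 h2'
  · rintro ⟨Z'⟩ (a : Z' ⟶ (I k).left) (b : Z' ⟶ Z) hab
    have hab' : a ≫ (j k).left = b ≫ z := by
      have := congrArg Subtype.val hab
      rw [hg] at this
      exact this
    have hr : Set.range b ⊆ O := (hO b).1 ⟨a, hab'⟩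
    let d : Z' ⟶ O.toScheme := IsOpenImmersion.lift O.ι b (by
      rw [Scheme.Opens.range_ι]
      exact hr)
    have hd : d ≫ O.ι = b := IsOpenImmersion.lift_fac _ _ _
    refine ⟨d, ?_, hd⟩
    change d ≫ u = a
    rw [← cancel_mono (j k).left, Category.assoc, hu, ← Category.assoc, hd, hab']


variable
  (hcov : ∀ {Z : Over S} (z : Z ⟶ T), A.P z → ∀ ζ : Z.left, ∃ (k : κ) (O : Z.left.Opens),
    ζ ∈ O ∧ ∃ u : ov Z O ⟶ I k, u ≫ j k = ovι Z O ≫ z)

omit [∀ k, Mono (j k)] in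
include hcov in
theorem hcov_abs {Z : Scheme.{u}} (z : Z ⟶ T.left) (hz : A.abs z) (ζ : Z) :
    ∃ (k : κ) (O : Z.Opens), ζ ∈ O ∧ ∃ u : O.toScheme ⟶ (I k).left,
      u ≫ (j k).left = O.ι ≫ z := by
  obtain ⟨k, O, hζ, u, hu⟩ := hcov (Over.homMk z rfl : Over.mk (z ≫ T.hom) ⟶ T) hz ζ
  exact ⟨k, O, hζ, u.left, congrArg (fun t => t.left) hu⟩

omit [∀ k, Mono (j k)] in
include hcov in
theorem isLocallySurjective_desc :
    Presheaf.IsLocallySurjective Scheme.zariskiTopology (Sigma.desc (fk A I j hsub)) := by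
  constructor
  intro U s
  have hz : A.abs s.1 := s.2
  choose k O hζ u hu using fun ζ : U => hcov_abs A I j hcov s.1 hz ζ
  let 𝒰 : U.OpenCover := U.openCoverOfIsOpenCover O (TopologicalSpace.IsOpenCover.mk
    (top_le_iff.1 (fun ζ _ => TopologicalSpace.Opens.mem_iSup.2 ⟨ζ, hζ ζ⟩)))
  refine Scheme.zariskiTopology.superset_covering ?_ 𝒰.mem_grothendieckTopology
  rintro V c ⟨W, a, b, ⟨ζ⟩, rfl⟩
  refine Sieve.downward_closed _ ?_ a
  refine ⟨(Sigma.ι (fun k => yoneda.obj (I k).left) (k ζ)).app _ (u ζ), ?_⟩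
  have e : Sigma.ι (fun k => yoneda.obj (I k).left) (k ζ) ≫ Sigma.desc (fk A I j hsub) =
      fk A I j hsub (k ζ) := Sigma.ι_desc _ _
  have e' := congrArg (fun φ => φ.app (op (O ζ).toScheme) (u ζ)) e
  refine Eq.trans e' ?_
  apply Subtype.ext
  exact hu ζ

include hsub hopen hcov in
/-- **Gluing.** A subsheaf of `h_T` covered by open subsheaves which are representable by
monomorphisms locally of finite type is representable by such a monomorphism. -/
theorem exists_rep_of_open_cover (hlft : ∀ k, LocallyOfFiniteType (j k).left) :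
    ∃ (I₀ : Over S) (j₀ : I₀ ⟶ T), Rep A j₀ := by
  haveI := isLocallySurjective_desc A I j hsub hcov
  obtain ⟨G₀, ⟨r⟩⟩ := Scheme.LocalRepresentability.isRepresentable
    (isOpenImmersion_fk A I j hsub hopen)
  let j₀' : G₀ ⟶ T.left := (r.homEquiv (𝟙 G₀)).1
  have hj₀' : A.abs j₀' := (r.homEquiv (𝟙 G₀)).2
  have key : ∀ {Z : Scheme.{u}} (y : Z ⟶ G₀), (r.homEquiv y).1 = y ≫ j₀' := by
    intro Z y
    have h := r.homEquiv_comp y (𝟙 G₀)
    rw [Category.comp_id] at h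
    rw [h]
    rfl
  haveI hmono : Mono j₀' := by
    refine ⟨fun {Z} a b hab => ?_⟩
    apply r.homEquiv.injective
    apply Subtype.ext
    rw [key, key, hab]
  have hex : ∀ {Z : Scheme.{u}} (z : Z ⟶ T.left), A.abs z → ∃ y : Z ⟶ G₀, y ≫ j₀' = z := by
    intro Z z hz
    refine ⟨r.homEquiv.symm ⟨z, hz⟩, ?_⟩
    rw [← key, Equiv.apply_symm_apply]
  let I₀ : Over S := Over.mk (j₀' ≫ T.hom)
  let j₀ : I₀ ⟶ T := Over.homMk j₀' rfl
  have hPj₀ : A.P j₀ := hj₀'
  haveI hmono' : Mono j₀ := by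
    refine ⟨fun {Z} a b hab => ?_⟩
    ext
    have := congrArg (fun t => t.left) hab
    exact (cancel_mono j₀').1 this
  have hiff : ∀ {Z : Over S} (z : Z ⟶ T), (∃ u : Z ⟶ I₀, u ≫ j₀ = z) ↔ A.P z := by
    intro Z z
    constructor
    · rintro ⟨u, rfl⟩
      exact A.pre u j₀ hPj₀
    · intro hz
      obtain ⟨y, hy⟩ := hex z.left ((A.abs_iff z).2 hz)
      refine ⟨Over.homMk y ?_, ?_⟩
      · change y ≫ j₀' ≫ T.hom = Z.hom
        rw [← Category.assoc, hy, Over.w]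
      · ext
        exact hy
  refine ⟨I₀, j₀, hmono', ?_, hiff⟩
  -- locally of finite type
  change LocallyOfFiniteType j₀'
  choose O hO using fun k => hopen k j₀ hPj₀
  have hsup : iSup O = ⊤ := by
    refine top_le_iff.1 (fun ζ _ => ?_)
    obtain ⟨k, O', hζ, u, hu⟩ := hcov j₀ hPj₀ ζ
    have hle : Set.range (ovι I₀ O').left ⊆ O k := (hO k (ovι I₀ O')).1 ⟨u, hu⟩
    refine TopologicalSpace.Opens.mem_iSup.2 ⟨k, hle ?_⟩
    change ζ ∈ Set.range O'.ι
    rw [Scheme.Opens.range_ι]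
    exact hζ
  refine IsZariskiLocalAtSource.of_iSup_eq_top O hsup (fun k => ?_)
  obtain ⟨u, hu⟩ := (hO k (ovι I₀ (O k))).2 (by
    change Set.range (O k).ι ⊆ _
    rw [Scheme.Opens.range_ι])
  obtain ⟨w, hw⟩ := (hiff (j k)).2 (hsub k)
  -- `u` is an isomorphism
  have hwr : Set.range w.left ⊆ O k := (hO k w).1 ⟨𝟙 _, by rw [Category.id_comp, hw]⟩
  let w₀ : (I k).left ⟶ (O k).toScheme := IsOpenImmersion.lift (O k).ι w.left (by
    rw [Scheme.Opens.range_ι]
    exact hwr)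
  have hw₀ : w₀ ≫ (O k).ι = w.left := IsOpenImmersion.lift_fac _ _ _
  have hu' : u.left ≫ (j k).left = (O k).ι ≫ j₀' := congrArg (fun t => t.left) hu
  have hw' : w.left ≫ j₀' = (j k).left := congrArg (fun t => t.left) hw
  have h1 : u.left ≫ w₀ = 𝟙 _ := by
    rw [← cancel_mono (O k).ι, Category.assoc, hw₀, ← cancel_mono j₀', Category.assoc, hw', hu',
      Category.id_comp]
  have h2 : (O k).ι ≫ j₀' = u.left ≫ (j k).left := hu'.symm
  have h3 : w₀ ≫ u.left = 𝟙 _ := by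
    rw [← cancel_mono (j k).left, Category.assoc, hu', ← Category.assoc, hw₀, hw', Category.id_comp]
  haveI : IsIso u.left := ⟨w₀, h1, h3⟩
  rw [h2]
  haveI := hlft k
  infer_instance

end Glue

end Groth.Agent.H1.MonoRep
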