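import Groth.Agent.Lib.Helper1.MonoRepB

/-!
# Auxiliary lemmas for the representability of images with étale kernel pair (helper1)
-/

set_option autoImplicit false
universe u
open CategoryTheory CategoryTheory.Limits AlgebraicGeometry Opposite

namespace Groth.Agent.H1.MonoRep

open AlgSp Groth.Agent.Lib.Helper14.AlgSpQuot Groth.Agent.H1.ZarRep

variable {S : Scheme.{u}}

/-! ## Pullback squares -/

theorem isPullback_comp_mono {C : Type*} [Category C] {P X Y Z Z' : C} {a : P ⟶ X} {b : P ⟶ Y}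
    {f : X ⟶ Z} {g : Y ⟶ Z} (h : IsPullback a b f g) (m : Z ⟶ Z') [Mono m] :
    IsPullback a b (f ≫ m) (g ≫ m) := by
  refine ⟨⟨by rw [← Category.assoc, h.w, Category.assoc]⟩, ⟨PullbackCone.IsLimit.mk _
    (fun s => h.lift s.fst s.snd (by
      rw [← cancel_mono m, Category.assoc, Category.assoc, s.condition]))
    (fun s => h.lift_fst _ _ _) (fun s => h.lift_snd _ _ _) ?_⟩⟩
  intro s l h1 h2
  apply h.hom_ext
  · rw [h.lift_fst]
    exact h1
  · rw [h.lift_snd]
    exact h2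

theorem isPullback_of_comp_mono {C : Type*} [Category C] {P X Y Z Z' : C} {a : P ⟶ X} {b : P ⟶ Y}
    {f : X ⟶ Z} {g : Y ⟶ Z} (m : Z ⟶ Z') [Mono m] (h : IsPullback a b (f ≫ m) (g ≫ m)) :
    IsPullback a b f g := by
  have hw : a ≫ f = b ≫ g := by
    rw [← cancel_mono m, Category.assoc, Category.assoc, h.w]
  refine ⟨⟨hw⟩, ⟨PullbackCone.IsLimit.mk _
    (fun s => h.lift s.fst s.snd (by
      rw [← Category.assoc, s.condition, Category.assoc]))
    (fun s => h.lift_fst _ _ _) (fun s => h.lift_snd _ _ _) ?_⟩⟩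
  intro s l h1 h2
  apply h.hom_ext
  · rw [h.lift_fst]
    exact h1
  · rw [h.lift_snd]
    exact h2

theorem range_eq_of_isPullback {P X Y Z : Scheme.{u}} {a : P ⟶ X} {b : P ⟶ Y} {f : X ⟶ Z}
    {g : Y ⟶ Z} (h : IsPullback a b f g) : Set.range a = f ⁻¹' Set.range g := by
  rw [← Scheme.Pullback.range_fst, ← h.isoPullback_hom_fst]
  ext x
  constructor
  · rintro ⟨p, rfl⟩
    exact ⟨h.isoPullback.hom p, rfl⟩
  · rintro ⟨p, rfl⟩
    refine ⟨h.isoPullback.inv p, ?_⟩
    rw [← Scheme.Hom.comp_apply, ← Category.assoc, Iso.inv_hom_id, Category.id_comp]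

/-! ## Kernel pairs with étale projections -/

/-- The projections of the kernel pair of `f` are étale. -/
def EtKP {X Y : Over S} (f : X ⟶ Y) : Prop :=
  ∀ {P : Over S} (a b : P ⟶ X), IsPullback a b f f → Etale a.left

theorem etKP_of_hasPullback {X Y : Over S} (f : X ⟶ Y) (h : Etale (pullback.fst f f).left) :
    EtKP f := by
  intro P a b sq
  have e : a = sq.isoPullback.hom ≫ pullback.fst f f := (sq.isoPullback_hom_fst).symm
  rw [e, Over.comp_left]
  haveI : IsIso sq.isoPullback.hom.left := inferInstance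
  infer_instance

theorem EtKP.snd {X Y : Over S} {f : X ⟶ Y} (h : EtKP f) {P : Over S} (a b : P ⟶ X)
    (sq : IsPullback a b f f) : Etale b.left := h b a sq.flip

/-- Base change of the kernel pair. -/
theorem EtKP.pullback {V T T' W : Over S} {g : V ⟶ T} {e : T' ⟶ T} {q₁ : W ⟶ V} {q₂ : W ⟶ T'}
    (h : EtKP g) (sq : IsPullback q₁ q₂ g e) : EtKP q₂ := by
  intro P a b sqP
  -- `P = V ×_T W`
  have h1 : IsPullback (b ≫ q₁) a g (q₂ ≫ e) := sqP.flip.paste_horiz sq
  have hk : IsPullback (pullback.fst g g) (pullback.snd g g) g g := IsPullback.of_hasPullback g g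
  have hw : q₂ ≫ e = q₁ ≫ g := sq.w.symm
  rw [hw] at h1
  let l : P ⟶ Limits.pullback g g := hk.lift (b ≫ q₁) (a ≫ q₁) h1.w
  have hl1 : l ≫ pullback.fst g g = b ≫ q₁ := hk.lift_fst _ _ _
  have hl2 : l ≫ pullback.snd g g = a ≫ q₁ := hk.lift_snd _ _ _
  have h2 : IsPullback l a (pullback.snd g g) q₁ :=
    IsPullback.of_right (by rw [hl1]; exact h1) hl2 hk
  have h3 : Etale (pullback.snd g g).left := h.snd _ _ hk
  exact MorphismProperty.of_isPullback (P := @Etale) (h2.map (Over.forget S)) h3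

/-- Precomposition with an étale morphism. -/
theorem EtKP.comp_etale {N W T' : Over S} {f : W ⟶ T'} (h : EtKP f) (ν : N ⟶ W)
    [Etale ν.left] : EtKP (ν ≫ f) := by
  intro P a b sqP
  let M : Over S := Limits.pullback (ν ≫ f) f
  let m₁ : M ⟶ N := pullback.fst (ν ≫ f) f
  let m₂ : M ⟶ W := pullback.snd (ν ≫ f) f
  have hM : IsPullback m₁ m₂ (ν ≫ f) f := IsPullback.of_hasPullback _ _
  have hk : IsPullback (pullback.fst f f) (pullback.snd f f) f f := IsPullback.of_hasPullback f f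
  -- `m₁` is a base change of a projection of the kernel pair of `f`
  let l : M ⟶ Limits.pullback f f := hk.lift (m₁ ≫ ν) m₂ (by rw [Category.assoc]; exact hM.w)
  have hl1 : l ≫ pullback.fst f f = m₁ ≫ ν := hk.lift_fst _ _ _
  have hl2 : l ≫ pullback.snd f f = m₂ := hk.lift_snd _ _ _
  have h2 : IsPullback l m₁ (pullback.fst f f) ν := by
    refine IsPullback.of_right ?_ hl1 hk.flip
    rw [hl2]
    exact hM.flip
  have hm₁ : Etale m₁.left :=
    MorphismProperty.of_isPullback (P := @Etale) (h2.map (Over.forget S))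
      (h _ _ hk)
  -- `P ⟶ M` is a base change of `ν`
  let r : P ⟶ M := hM.lift a (b ≫ ν) (by rw [Category.assoc]; exact sqP.w)
  have hr1 : r ≫ m₁ = a := hM.lift_fst _ _ _
  have hr2 : r ≫ m₂ = b ≫ ν := hM.lift_snd _ _ _
  have h3 : IsPullback b r ν m₂ := by
    refine IsPullback.of_bot ?_ hr2.symm hM.flip
    rw [hr1]
    exact sqP.flip
  have hr : Etale r.left :=
    MorphismProperty.of_isPullback (P := @Etale) (h3.map (Over.forget S))
      (inferInstanceAs (Etale ν.left))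
  rw [← hr1, Over.comp_left]
  infer_instance

theorem EtKP.of_comp_mono {X Y Y' : Over S} {f : X ⟶ Y} (m : Y ⟶ Y') [Mono m]
    (h : EtKP (f ≫ m)) : EtKP f :=
  fun a b sq => h a b (isPullback_comp_mono sq m)


/-! ## Bounded fibres -/

/-- The fibres of `e` have at most `n` points with values in any field. -/
def Bdd (n : ℕ) {T' T : Scheme.{u}} (e : T' ⟶ T) : Prop :=
  ∀ (K : CommRingCat.{u}) (_ : IsField K) (x : Fin (n + 1) → (Spec K ⟶ T')),
    (∀ a b, x a ≫ e = x b ≫ e) → ∃ a b, a ≠ b ∧ x a = x b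

theorem isEmpty_of_bdd_zero {T' T : Scheme.{u}} (e : T' ⟶ T) (h : Bdd 0 e) : IsEmpty T' := by
  refine ⟨fun t => ?_⟩
  obtain ⟨a, b, hab, -⟩ := h (T'.residueField t) (Field.toIsField _)
    (fun _ => T'.fromSpecResidueField t) (fun _ _ => rfl)
  exact hab (Fin.ext (by omega))

theorem bdd_of_comp_mono {T' T T₀ : Scheme.{u}} (e : T' ⟶ T) (m : T ⟶ T₀) {n : ℕ}
    (h : Bdd n (e ≫ m)) : Bdd n e := by
  intro K hK x hx
  exact h K hK x (fun a b => by rw [← Category.assoc, hx a b, Category.assoc])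

theorem bdd_comp_mono {T' T T₀ : Scheme.{u}} (e : T' ⟶ T) (m : T ⟶ T₀) [Mono m] {n : ℕ}
    (h : Bdd n e) : Bdd n (e ≫ m) := by
  intro K hK x hx
  refine h K hK x (fun a b => ?_)
  rw [← cancel_mono m, Category.assoc, Category.assoc]
  exact hx a b

theorem bdd_step {T'' T' T : Scheme.{u}} {e : T' ⟶ T} {p₁ p₂ : T'' ⟶ T'}
    (sq : IsPullback p₁ p₂ e e) (Δ : T' ⟶ T'') (h1 : Δ ≫ p₁ = 𝟙 _) (h2 : Δ ≫ p₂ = 𝟙 _) {n : ℕ}
    (h : Bdd (n + 1) e) {C : Scheme.{u}} (c : C ⟶ T'') [Mono c]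
    (hC : ∀ x : C, c x ∉ Set.range Δ) : Bdd n (c ≫ p₂) := by
  intro K hK y hy
  let s : Spec K ⟶ T' := y 0 ≫ c ≫ p₂
  let a : Fin (n + 1) → (Spec K ⟶ T') := fun k => y k ≫ c ≫ p₁
  have hs : ∀ k, y k ≫ c ≫ p₂ = s := fun k => hy k 0
  have hae : ∀ k, a k ≫ e = s ≫ e := by
    intro k
    change (y k ≫ c ≫ p₁) ≫ e = s ≫ e
    rw [← hs k, Category.assoc, Category.assoc, Category.assoc, Category.assoc, sq.w]
  haveI : Nontrivial K := hK.nontrivial
  obtain ⟨pt⟩ : Nonempty (Spec K) := inferInstance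
  have hcontra : ∀ k, s = a k → False := by
    intro k hk
    have e1 : y k ≫ c = s ≫ Δ := by
      apply sq.hom_ext
      · rw [Category.assoc, Category.assoc, h1, Category.comp_id]
        exact hk.symm
      · rw [Category.assoc, Category.assoc, h2, Category.comp_id]
        exact hs k
    apply hC (y k pt)
    refine ⟨s pt, ?_⟩
    rw [← Scheme.Hom.comp_apply, ← Scheme.Hom.comp_apply, e1]
  obtain ⟨α, β, hne, hx⟩ := h K hK (Fin.cons s a) (by
    intro α β
    have key : ∀ γ : Fin (n + 2), (Fin.cons s a : Fin (n + 2) → (Spec K ⟶ T')) γ ≫ e = s ≫ e := by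
      intro γ
      refine Fin.cases ?_ (fun k => ?_) γ
      · rfl
      · exact hae k
    rw [key α, key β])
  revert hne hx
  refine Fin.cases ?_ (fun α' => ?_) α <;> refine Fin.cases ?_ (fun β' => ?_) β
  · intro hne _
    exact absurd rfl hne
  · intro _ hx
    exact (hcontra β' hx).elim
  · intro _ hx
    exact (hcontra α' hx.symm).elim
  · intro hne hx
    have hx' : a α' = a β' := hx
    refine ⟨α', β', fun hαβ => hne (by rw [hαβ]), ?_⟩
    rw [← cancel_mono c]
    apply sq.hom_ext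
    · rw [Category.assoc, Category.assoc]
      exact hx'
    · rw [Category.assoc, Category.assoc, hs, hs]

/-! ## Miscellaneous -/

theorem isClosedImmersion_of_isOpenImmersion {X Y : Scheme.{u}} (f : X ⟶ Y) [IsOpenImmersion f]
    (h : IsClosed (Set.range f)) : IsClosedImmersion f :=
  IsClosedImmersion.of_isPreimmersion f h

/-- The empty sieve covers a scheme with empty underlying space. -/
theorem bot_mem_J_of_isEmpty (Z : Over S) [IsEmpty Z.left] : (⊥ : Sieve Z) ∈ AlgSp.J S Z :=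
  mem_J_of_forall_exists_flat _ (fun τ => (IsEmpty.false τ).elim)

/-- Representability of the image is insensitive to composition with a monomorphism locally of
finite type. -/
theorem rep_comp_mono {T₀ T N I' : Over S} (m : T₀ ⟶ T) [Mono m] (hm : LocallyOfFiniteType m.left)
    (g' : N ⟶ T₀) (j' : I' ⟶ T₀) (h : Rep (SubPred.inIm g') j') :
    Rep (SubPred.inIm (g' ≫ m)) (j' ≫ m) := by
  haveI := h.mono
  haveI := h.lft
  refine ⟨mono_comp _ _, ?_, fun {Z} z => ⟨?_, ?_⟩⟩
  · rw [Over.comp_left]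
    infer_instance
  · rintro ⟨u, rfl⟩
    obtain ⟨R, hR, hl⟩ := (h.iff (u ≫ j')).1 ⟨u, rfl⟩
    refine ⟨R, hR, fun c hc => ?_⟩
    obtain ⟨v, hv⟩ := hl c hc
    exact ⟨v, by rw [← Category.assoc, hv, Category.assoc, Category.assoc]⟩
  · rintro ⟨R, hR, hl⟩
    obtain ⟨z₀, rfl⟩ : ∃ z₀, z₀ ≫ m = z := by
      refine (SubPred.ofMono m).loc z R hR (fun c hc => ?_)
      obtain ⟨v, hv⟩ := hl c hc
      exact ⟨v ≫ g', by rw [Category.assoc, hv]⟩
    have h2 : (SubPred.inIm g').P z₀ := by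
      refine ⟨R, hR, fun c hc => ?_⟩
      obtain ⟨v, hv⟩ := hl c hc
      exact ⟨v, by rw [← cancel_mono m, Category.assoc, hv, Category.assoc]⟩
    obtain ⟨u, hu⟩ := (h.iff z₀).2 h2
    exact ⟨u, by rw [← Category.assoc, hu]⟩

/-- The pullback of the image is the image of the pullback. -/
theorem inIm_pull_iff {V T T' W : Over S} {g : V ⟶ T} {e : T' ⟶ T} {q₁ : W ⟶ V} {q₂ : W ⟶ T'}
    (sq : IsPullback q₁ q₂ g e) {Z : Over S} (z : Z ⟶ T') :
    (SubPred.inIm g).P (z ≫ e) ↔ (SubPred.inIm q₂).P z := by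
  constructor
  · rintro ⟨R, hR, hl⟩
    refine ⟨R, hR, fun c hc => ?_⟩
    obtain ⟨v, hv⟩ := hl c hc
    exact ⟨sq.lift v (c ≫ z) (by rw [hv, Category.assoc]), sq.lift_snd _ _ _⟩
  · rintro ⟨R, hR, hl⟩
    refine ⟨R, hR, fun c hc => ?_⟩
    obtain ⟨l, hl'⟩ := hl c hc
    exact ⟨l ≫ q₁, by rw [Category.assoc, sq.w, ← Category.assoc, hl', Category.assoc]⟩

end Groth.Agent.H1.MonoRep
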