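import Groth.Agent.Lib.Helper1.MonoRepC

/-!
# Representability of images with étale kernel pair: the decomposition step (helper1)
-/

set_option autoImplicit false
universe u
open CategoryTheory CategoryTheory.Limits AlgebraicGeometry Opposite

namespace Groth.Agent.H1.MonoRep

open AlgSp Groth.Agent.Lib.Helper14.AlgSpQuot Groth.Agent.H1.ZarRep

variable {S : Scheme.{u}}

section Decomp

variable {T' V W K I' : Over S} (i : V ⟶ T') [IsClosedImmersion i.left]
  (q₂ : W ⟶ T') (κ : K ⟶ W) (k₂ : K ⟶ V) (sqK : IsPullback κ k₂ q₂ i) [IsOpenImmersion κ.left]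
  (Wc : W.left.Opens) (hWc : (Wc : Set W.left) = (Set.range κ.left)ᶜ)

include sqK in
omit [IsClosedImmersion i.left] [IsOpenImmersion κ.left] in
theorem mem_range_κ_iff {Z : Over S} (l : Z ⟶ W) (ζ : Z.left) :
    l.left ζ ∈ Set.range κ.left ↔ (l ≫ q₂).left ζ ∈ Set.range i.left := by
  have h := range_eq_of_isPullback (sqK.map (Over.forget S))
  change Set.range κ.left = q₂.left ⁻¹' Set.range i.left at h
  rw [h]
  rfl

/-- The locus where `z` factors set-theoretically through `V`. -/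
def locV {Z : Over S} (z : Z ⟶ T') : Set Z.left := {ζ | z.left ζ ∈ Set.range i.left}

theorem isClosed_locV {Z : Over S} (z : Z ⟶ T') : IsClosed (locV i z) :=
  (Scheme.Hom.isClosedEmbedding i.left).isClosed_range.preimage z.left.continuous

include sqK in
theorem isOpen_locV {Z : Over S} (z : Z ⟶ T') (hz : (SubPred.inIm q₂).P z) :
    IsOpen (locV i z) := by
  obtain ⟨R, hR, hl⟩ := hz
  rw [isOpen_iff_forall_mem_open]
  intro ζ hζ
  obtain ⟨Z', f, τ', hRf, hτ', hf1, hf2⟩ := exists_flat_mem_of_mem_J R hR ζ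
  obtain ⟨l, hl'⟩ := hl f hRf
  haveI : UniversallyOpen f.left := inferInstance
  have hU : IsOpen (l.left ⁻¹' Set.range κ.left) :=
    (IsOpenImmersion.isOpen_range κ.left).preimage l.left.continuous
  refine ⟨f.left '' (l.left ⁻¹' Set.range κ.left), ?_, f.left.isOpenMap _ hU, ?_⟩
  · rintro _ ⟨τ'', hτ'', rfl⟩
    have := (mem_range_κ_iff i q₂ κ k₂ sqK l τ'').1 hτ''
    rw [hl'] at this
    exact this
  · refine ⟨τ', ?_, hτ'⟩
    apply (mem_range_κ_iff i q₂ κ k₂ sqK l τ').2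
    rw [hl']
    change z.left (f.left τ') ∈ _
    rw [hτ']
    exact hζ

include sqK in
theorem factor_V {Z Z' : Over S} (z : Z ⟶ T') (hz : (SubPred.inIm q₂).P z) (c : Z' ⟶ Z) :
    (∃ u : Z' ⟶ V, u ≫ i = c ≫ z) ↔ Set.range c.left ⊆ locV i z := by
  haveI : Mono i.left := inferInstance
  haveI : Mono i := (Over.forget S).mono_of_mono_map (inferInstanceAs (Mono i.left))
  constructor
  · rintro ⟨u, hu⟩ _ ⟨ζ', rfl⟩
    refine ⟨u.left ζ', ?_⟩
    have := congrArg (fun t => t.left ζ') hu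
    exact this
  · intro hc
    obtain ⟨R, hR, hl⟩ := hz
    refine (SubPred.ofMono i).loc (c ≫ z) (R.pullback c) ((AlgSp.J S).pullback_stable c hR) ?_
    intro Z'' d hd
    obtain ⟨l, hl'⟩ := hl (d ≫ c) hd
    have hr : Set.range l.left ⊆ Set.range κ.left := by
      rintro _ ⟨ζ'', rfl⟩
      apply (mem_range_κ_iff i q₂ κ k₂ sqK l ζ'').2
      rw [hl']
      exact hc ⟨d.left ζ'', rfl⟩
    let l₀ : Z''.left ⟶ K.left := IsOpenImmersion.lift κ.left l.left hr
    have hl₀ : l₀ ≫ κ.left = l.left := IsOpenImmersion.lift_fac _ _ _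
    let l' : Z'' ⟶ K := Over.homMk l₀ (by
      rw [← Over.w κ, ← Category.assoc, hl₀, Over.w l])
    have hl'' : l' ≫ κ = l := by
      ext
      exact hl₀
    refine ⟨l' ≫ k₂, ?_⟩
    rw [Category.assoc, ← sqK.w, ← Category.assoc, hl'', hl', Category.assoc]

variable (bQ : I' ⟶ T') (hQ : Rep (SubPred.inIm (ovι W Wc ≫ q₂)) bQ)

include sqK hWc hQ in
theorem factor_Q {Z Z' : Over S} (z : Z ⟶ T') (hz : (SubPred.inIm q₂).P z) (c : Z' ⟶ Z) :
    (∃ u : Z' ⟶ I', u ≫ bQ = c ≫ z) ↔ Set.range c.left ⊆ (locV i z)ᶜ := by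
  haveI := hQ.mono
  constructor
  · rintro ⟨u, hu⟩ _ ⟨ζ', rfl⟩ hmem
    obtain ⟨R', hR', hl⟩ := (hQ.iff (u ≫ bQ)).1 ⟨u, rfl⟩
    obtain ⟨Z'', d, ζ'', hRd, hζ'', -, -⟩ := exists_flat_mem_of_mem_J R' hR' ζ'
    obtain ⟨v, hv⟩ := hl d hRd
    have h1 : (v ≫ ovι W Wc).left ζ'' ∈ Set.range κ.left := by
      apply (mem_range_κ_iff i q₂ κ k₂ sqK _ ζ'').2
      rw [Category.assoc, hv, hu]
      change z.left (c.left (d.left ζ'')) ∈ _
      rw [hζ'']
      exact hmem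
    have h2 : (v ≫ ovι W Wc).left ζ'' ∈ (Wc : Set W.left) := by
      change Wc.ι (v.left ζ'') ∈ _
      exact (v.left ζ'').2
    rw [hWc] at h2
    exact h2 h1
  · intro hc
    obtain ⟨R, hR, hl⟩ := hz
    refine (SubPred.ofMono bQ).loc (c ≫ z) (R.pullback c) ((AlgSp.J S).pullback_stable c hR) ?_
    intro Z'' d hd
    obtain ⟨l, hl'⟩ := hl (d ≫ c) hd
    have hr : Set.range l.left ⊆ Set.range Wc.ι := by
      rw [Scheme.Opens.range_ι, hWc]
      rintro _ ⟨ζ'', rfl⟩ hmem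
      have := (mem_range_κ_iff i q₂ κ k₂ sqK l ζ'').1 hmem
      rw [hl'] at this
      exact hc ⟨d.left ζ'', rfl⟩ this
    let l₀ : Z''.left ⟶ Wc.toScheme := IsOpenImmersion.lift Wc.ι l.left hr
    have hl₀ : l₀ ≫ Wc.ι = l.left := IsOpenImmersion.lift_fac _ _ _
    let l' : Z'' ⟶ ov W Wc := Over.homMk l₀ (by
      change l₀ ≫ Wc.ι ≫ W.hom = Z''.hom
      rw [← Category.assoc, hl₀, Over.w l])
    have hl'' : l' ≫ ovι W Wc = l := by
      ext
      exact hl₀
    have h3 : (SubPred.inIm (ovι W Wc ≫ q₂)).P (l' ≫ ovι W Wc ≫ q₂) :=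
      (SubPred.inIm _).pre l' _ (SubPred.inIm_self _)
    obtain ⟨u, hu⟩ := (hQ.iff _).2 h3
    refine ⟨u, ?_⟩
    rw [hu, ← Category.assoc, hl'', hl', Category.assoc]


include sqK hWc hQ in
/-- **Decomposition step.** -/
theorem exists_rep_of_decomp (δ : V ⟶ K) (hδ : δ ≫ k₂ = 𝟙 V) :
    ∃ (E' : Over S) (ι : E' ⟶ T'), Rep (SubPred.inIm q₂) ι := by
  haveI : Mono i.left := inferInstance
  haveI hmi : Mono i := (Over.forget S).mono_of_mono_map (inferInstanceAs (Mono i.left))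
  haveI hmQ : Mono bQ := hQ.mono
  let A' := SubPred.inIm q₂
  let I : ULift.{u} Bool → Over S := fun b => cond b.down V I'
  let j : ∀ b, I b ⟶ T' := fun b => match b with
    | ⟨true⟩ => i
    | ⟨false⟩ => bQ
  haveI : ∀ b, Mono (j b) := by
    rintro ⟨_ | _⟩
    · exact hmQ
    · exact hmi
  have hPi : A'.P i := by
    have h1 : (δ ≫ κ) ≫ q₂ = i := by
      rw [Category.assoc, sqK.w, ← Category.assoc, hδ, Category.id_comp]
    rw [← h1]
    exact A'.pre _ _ (SubPred.inIm_self q₂)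
  have hPQ : A'.P bQ := by
    have h1 : (SubPred.inIm (ovι W Wc ≫ q₂)).P bQ :=
      (hQ.iff bQ).1 ⟨𝟙 _, Category.id_comp _⟩
    exact SubPred.inIm_le _ A' (A'.pre _ _ (SubPred.inIm_self q₂)) bQ h1
  refine exists_rep_of_open_cover A' I j ?_ ?_ ?_ ?_
  · rintro ⟨_ | _⟩
    · exact hPQ
    · exact hPi
  · rintro ⟨_ | _⟩ Z z hz
    · refine ⟨⟨(locV i z)ᶜ, (isClosed_locV i z).isOpen_compl⟩, fun {Z'} c => ?_⟩
      exact factor_Q i q₂ κ k₂ sqK Wc hWc bQ hQ z hz c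
    · refine ⟨⟨locV i z, isOpen_locV i q₂ κ k₂ sqK z hz⟩, fun {Z'} c => ?_⟩
      exact factor_V i q₂ κ k₂ sqK z hz c
  · intro Z z hz ζ
    by_cases hζ : ζ ∈ locV i z
    · let O : Z.left.Opens := ⟨locV i z, isOpen_locV i q₂ κ k₂ sqK z hz⟩
      refine ⟨⟨true⟩, O, hζ, ?_⟩
      refine (factor_V i q₂ κ k₂ sqK z hz (ovι Z O)).2 ?_
      change Set.range O.ι ⊆ _
      rw [Scheme.Opens.range_ι]
      exact subset_refl _
    · let O : Z.left.Opens := ⟨(locV i z)ᶜ, (isClosed_locV i z).isOpen_compl⟩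
      refine ⟨⟨false⟩, O, hζ, ?_⟩
      refine (factor_Q i q₂ κ k₂ sqK Wc hWc bQ hQ z hz (ovι Z O)).2 ?_
      change Set.range O.ι ⊆ _
      rw [Scheme.Opens.range_ι]
      exact subset_refl _
  · rintro ⟨_ | _⟩
    · exact hQ.lft
    · change LocallyOfFiniteType i.left
      infer_instance

end Decomp

end Groth.Agent.H1.MonoRep
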