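import Groth.Agent.Lib.Helper1.MonoRepD

/-!
# Representability of images with étale kernel pair: the induction (helper1)

Let `e : T' ⟶ T` be étale, separated, quasi-compact and surjective with fibres of bounded
cardinality, and `i : V ⟶ T'` a closed immersion such that the kernel pair of `V ⟶ T` has étale
projections.  Then the image sheaf of `V ⟶ T` is representable by a monomorphism locally of finite
type.
-/

set_option autoImplicit false
universe u
open CategoryTheory CategoryTheory.Limits AlgebraicGeometry Opposite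

namespace Groth.Agent.H1.MonoRep

open AlgSp Groth.Agent.Lib.Helper14.AlgSpQuot Groth.Agent.H1.ZarRep

variable {S : Scheme.{u}}

theorem exists_rep_inIm (n : ℕ) : ∀ {T T' V : Over S} (e : T' ⟶ T) (i : V ⟶ T')
    [Etale e.left] [IsSeparated e.left] [QuasiCompact e.left] [Surjective e.left]
    [QuasiSeparatedSpace T'.left] [IsClosedImmersion i.left],
    Bdd n e.left → EtKP (i ≫ e) →
      ∃ (I : Over S) (j : I ⟶ T), Rep (SubPred.inIm (i ≫ e)) j := by
  induction n with
  | zero =>
    intro T T' V e i _ _ _ _ _ _ hb _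
    haveI : IsEmpty T'.left := isEmpty_of_bdd_zero e.left hb
    haveI : IsEmpty T.left := ⟨fun t => by
      obtain ⟨t', _⟩ := e.left.surjective t
      exact IsEmpty.false t'⟩
    refine ⟨T, 𝟙 T, inferInstance, ?_, fun {Z} z => ⟨fun _ => ?_, fun _ => ⟨z, Category.comp_id z⟩⟩⟩
    · change LocallyOfFiniteType (𝟙 T.left)
      infer_instance
    · haveI : IsEmpty Z.left := ⟨fun ζ => IsEmpty.false (z.left ζ)⟩
      exact ⟨⊥, bot_mem_J_of_isEmpty Z, fun c hc => hc.elim⟩
  | succ n ih =>
    intro T T' V e i _ _ _ _ _ _ hb hH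
    let g : V ⟶ T := i ≫ e
    -- the self-product of `T'`
    let T'' : Over S := Limits.pullback e e
    let p₁ : T'' ⟶ T' := pullback.fst e e
    let p₂ : T'' ⟶ T' := pullback.snd e e
    have sqT : IsPullback p₁ p₂ e e := IsPullback.of_hasPullback e e
    have sqT' := sqT.map (Over.forget S)
    let Δ : T' ⟶ T'' := sqT.lift (𝟙 _) (𝟙 _) rfl
    have hΔ1 : Δ ≫ p₁ = 𝟙 _ := sqT.lift_fst _ _ _
    have hΔ2 : Δ ≫ p₂ = 𝟙 _ := sqT.lift_snd _ _ _
    have hΔ1' : Δ.left ≫ p₁.left = 𝟙 _ := by
      rw [← Over.comp_left, hΔ1]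
      rfl
    have hΔ2' : Δ.left ≫ p₂.left = 𝟙 _ := by
      rw [← Over.comp_left, hΔ2]
      rfl
    haveI hp₁e : Etale p₁.left := MorphismProperty.of_isPullback (P := @Etale) sqT'.flip
      (inferInstanceAs (Etale e.left))
    haveI hp₂e : Etale p₂.left := MorphismProperty.of_isPullback (P := @Etale) sqT'
      (inferInstanceAs (Etale e.left))
    haveI hp₁s : IsSeparated p₁.left := MorphismProperty.of_isPullback (P := @IsSeparated) sqT'.flip
      (inferInstanceAs (IsSeparated e.left))
    haveI hp₂s : IsSeparated p₂.left := MorphismProperty.of_isPullback (P := @IsSeparated) sqT'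
      (inferInstanceAs (IsSeparated e.left))
    haveI hp₂q : QuasiCompact p₂.left := MorphismProperty.of_isPullback (P := @QuasiCompact) sqT'
      (inferInstanceAs (QuasiCompact e.left))
    haveI hΔc : IsClosedImmersion Δ.left := by
      haveI : IsClosedImmersion (Δ.left ≫ p₁.left) := by
        rw [hΔ1']
        infer_instance
      exact IsClosedImmersion.of_comp Δ.left p₁.left
    haveI hΔe : Etale Δ.left := by
      haveI : Etale (Δ.left ≫ p₁.left) := by
        rw [hΔ1']
        infer_instance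
      exact Etale.of_comp Δ.left p₁.left
    have hΔo : IsOpen (Set.range Δ.left) := Δ.left.isOpenMap.isOpen_range
    have hΔcl : IsClosed (Set.range Δ.left) := (Scheme.Hom.isClosedEmbedding Δ.left).isClosed_range
    let C : T''.left.Opens := ⟨(Set.range Δ.left)ᶜ, hΔcl.isOpen_compl⟩
    let T''c : Over S := ov T'' C
    let ιC : T''c ⟶ T'' := ovι T'' C
    haveI hCc : IsClosedImmersion C.ι := isClosedImmersion_of_isOpenImmersion C.ι (by
      rw [Scheme.Opens.range_ι]
      exact hΔo.isClosed_compl)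
    let e' : T''c ⟶ T' := ιC ≫ p₂
    have he'l : e'.left = C.ι ≫ p₂.left := rfl
    haveI he'e : Etale e'.left := by rw [he'l]; infer_instance
    haveI he's : IsSeparated e'.left := by rw [he'l]; infer_instance
    haveI he'q : QuasiCompact e'.left := by rw [he'l]; infer_instance
    let T'₁ : T'.left.Opens := ⟨Set.range e'.left, e'.left.isOpenMap.isOpen_range⟩
    let T'o : Over S := ov T' T'₁
    let m : T'o ⟶ T' := ovι T' T'₁
    let e'₀ : T''c.left ⟶ T'₁.toScheme := IsOpenImmersion.lift T'₁.ι e'.left (by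
      rw [Scheme.Opens.range_ι]
      exact fun _ h => h)
    have he'₀ : e'₀ ≫ T'₁.ι = e'.left := IsOpenImmersion.lift_fac _ _ _
    let e'₁ : T''c ⟶ T'o := Over.homMk e'₀ (by
      change e'₀ ≫ T'₁.ι ≫ T'.hom = T''c.hom
      rw [← Category.assoc, he'₀, Over.w e'])
    have he'₁ : e'₁ ≫ m = e' := by
      ext
      exact he'₀
    haveI : Etale e'₁.left := by
      haveI : Etale (e'₀ ≫ T'₁.ι) := by rw [he'₀]; infer_instance
      exact Etale.of_comp e'₀ T'₁.ι
    haveI : IsSeparated e'₁.left := by
      haveI : IsSeparated (e'₀ ≫ T'₁.ι) := by rw [he'₀]; infer_instance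
      exact IsSeparated.of_comp e'₀ T'₁.ι
    haveI : QuasiCompact e'₁.left := by
      have h1 : QuasiCompact (e'₀ ≫ T'₁.ι) := by rw [he'₀]; infer_instance
      exact MorphismProperty.of_postcomp (W := @QuasiCompact) (W' := @QuasiSeparated) e'₀ T'₁.ι
        inferInstance h1
    haveI : Surjective e'₁.left := ⟨by
      rintro ⟨x, ⟨y, hy⟩⟩
      refine ⟨y, ?_⟩
      apply T'₁.ι.injective
      change (e'₀ ≫ T'₁.ι) y = x
      rw [he'₀]
      exact hy⟩
    haveI : QuasiSeparatedSpace T''c.left := quasiSeparatedSpace_of_quasiSeparated e'.left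
    have hb' : Bdd n e'₁.left := by
      refine bdd_of_comp_mono e'₀ T'₁.ι ?_
      rw [he'₀]
      have sqT'' : IsPullback p₁.left p₂.left e.left e.left := sqT'
      exact bdd_step sqT'' Δ.left hΔ1' hΔ2' hb C.ι (fun x => x.2)
    -- the base change of `V` and its decomposition
    let W : Over S := Limits.pullback g e
    let q₁ : W ⟶ V := pullback.fst g e
    let q₂ : W ⟶ T' := pullback.snd g e
    have sqW : IsPullback q₁ q₂ g e := IsPullback.of_hasPullback g e
    let K : Over S := Limits.pullback g g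
    let k₁ : K ⟶ V := pullback.fst g g
    let k₂ : K ⟶ V := pullback.snd g g
    have sqKK : IsPullback k₁ k₂ g g := IsPullback.of_hasPullback g g
    let κ : K ⟶ W := sqW.lift k₁ (k₂ ≫ i) (by rw [Category.assoc]; exact sqKK.w)
    have hκ1 : κ ≫ q₁ = k₁ := sqW.lift_fst _ _ _
    have hκ2 : κ ≫ q₂ = k₂ ≫ i := sqW.lift_snd _ _ _
    have sqK : IsPullback κ k₂ q₂ i := by
      refine IsPullback.of_right ?_ hκ2 sqW
      rw [hκ1]
      exact sqKK
    haveI hq₁e : Etale q₁.left := MorphismProperty.of_isPullback (P := @Etale)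
      (sqW.map (Over.forget S)).flip (inferInstanceAs (Etale e.left))
    haveI hκc : IsClosedImmersion κ.left := MorphismProperty.of_isPullback (P := @IsClosedImmersion)
      (sqK.map (Over.forget S)).flip (inferInstanceAs (IsClosedImmersion i.left))
    haveI hκe : Etale κ.left := by
      haveI : Etale (κ.left ≫ q₁.left) := by
        rw [← Over.comp_left, hκ1]
        exact hH k₁ k₂ sqKK
      exact Etale.of_comp κ.left q₁.left
    haveI hκo : IsOpenImmersion κ.left := IsOpenImmersion.of_flat_of_mono κ.left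
    let δ : V ⟶ K := sqKK.lift (𝟙 _) (𝟙 _) rfl
    have hδ : δ ≫ k₂ = 𝟙 V := sqKK.lift_snd _ _ _
    have hκcl : IsClosed (Set.range κ.left) := (Scheme.Hom.isClosedEmbedding κ.left).isClosed_range
    let Wc : W.left.Opens := ⟨(Set.range κ.left)ᶜ, hκcl.isOpen_compl⟩
    let N₁ : Over S := ov W Wc
    let ν : N₁ ⟶ W := ovι W Wc
    haveI hνc : IsClosedImmersion Wc.ι := isClosedImmersion_of_isOpenImmersion Wc.ι (by
      rw [Scheme.Opens.range_ι]
      exact (IsOpenImmersion.isOpen_range κ.left).isClosed_compl)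
    -- the map to the self-product
    let w : W ⟶ T'' := sqT.lift (q₁ ≫ i) q₂ (by rw [Category.assoc]; exact sqW.w)
    have hw1 : w ≫ p₁ = q₁ ≫ i := sqT.lift_fst _ _ _
    have hw2 : w ≫ p₂ = q₂ := sqT.lift_snd _ _ _
    have sqw : IsPullback w q₁ p₁ i := by
      refine IsPullback.of_right ?_ hw1 sqT.flip
      rw [hw2]
      exact sqW.flip
    haveI hwc : IsClosedImmersion w.left := MorphismProperty.of_isPullback (P := @IsClosedImmersion)
      (sqw.map (Over.forget S)).flip (inferInstanceAs (IsClosedImmersion i.left))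
    have hdisj : ∀ y : Wc.toScheme, w.left (Wc.ι y) ∉ Set.range Δ.left := by
      rintro y ⟨t', ht'⟩
      have h1 : q₂.left (Wc.ι y) = t' := by
        have e1 : p₂.left (w.left (Wc.ι y)) = q₂.left (Wc.ι y) :=
          congrArg (fun t => t.left (Wc.ι y)) hw2
        have e2 : p₂.left (Δ.left t') = t' := by
          have := congrArg (fun t => t t') hΔ2'
          exact this
        rw [← e1, ← ht', e2]
      have h2 : i.left (q₁.left (Wc.ι y)) = t' := by
        have e1 : p₁.left (w.left (Wc.ι y)) = i.left (q₁.left (Wc.ι y)) :=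
          congrArg (fun t => t.left (Wc.ι y)) hw1
        have e2 : p₁.left (Δ.left t') = t' := by
          have := congrArg (fun t => t t') hΔ1'
          exact this
        rw [← e1, ← ht', e2]
      have h3 : Wc.ι y ∈ Set.range κ.left := by
        have h := range_eq_of_isPullback (sqK.map (Over.forget S))
        change Set.range κ.left = q₂.left ⁻¹' Set.range i.left at h
        rw [h]
        change q₂.left (Wc.ι y) ∈ Set.range i.left
        rw [h1, ← h2]
        exact ⟨_, rfl⟩
      exact y.2 h3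
    let i'₀ : N₁.left ⟶ C.toScheme := IsOpenImmersion.lift C.ι (Wc.ι ≫ w.left) (by
      rw [Scheme.Opens.range_ι]
      rintro _ ⟨y, rfl⟩
      exact hdisj y)
    have hi'₀ : i'₀ ≫ C.ι = Wc.ι ≫ w.left := IsOpenImmersion.lift_fac _ _ _
    let i' : N₁ ⟶ T''c := Over.homMk i'₀ (by
      change i'₀ ≫ C.ι ≫ T''.hom = Wc.ι ≫ W.hom
      rw [← Category.assoc, hi'₀, Category.assoc, Over.w w])
    have hi' : i' ≫ ιC = ν ≫ w := by
      apply Over.OverMorphism.ext
      exact hi'₀
    haveI : IsClosedImmersion i'.left := by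
      haveI : IsClosedImmersion (i'₀ ≫ C.ι) := by rw [hi'₀]; infer_instance
      exact IsClosedImmersion.of_comp i'₀ C.ι
    let g' : N₁ ⟶ T'o := i' ≫ e'₁
    have hg'm : g' ≫ m = ν ≫ q₂ := by
      change (i' ≫ e'₁) ≫ m = ν ≫ q₂
      rw [Category.assoc, he'₁]
      change i' ≫ ιC ≫ p₂ = ν ≫ q₂
      rw [← Category.assoc, hi', Category.assoc, hw2]
    haveI : Mono m := inferInstance
    have hH' : EtKP g' := by
      refine EtKP.of_comp_mono m ?_
      rw [hg'm]
      haveI : Etale ν.left := inferInstanceAs (Etale Wc.ι)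
      have h1 : EtKP q₂ := EtKP.pullback @hH sqW
      have h2 : EtKP (ν ≫ q₂) := EtKP.comp_etale @h1 ν
      exact @h2
    obtain ⟨I', j', hj'⟩ := ih e'₁ i' hb' hH'
    have hQ : Rep (SubPred.inIm (ν ≫ q₂)) (j' ≫ m) := by
      have h := rep_comp_mono m (inferInstanceAs (LocallyOfFiniteType T'₁.ι)) g' j' hj'
      rwa [hg'm] at h
    obtain ⟨E', ι, hι⟩ := exists_rep_of_decomp i q₂ κ k₂ sqK Wc rfl (j' ≫ m) hQ δ hδ
    have hι' : Rep ((SubPred.inIm g).pull e) ι :=
      ⟨hι.mono, hι.lft, fun z => (hι.iff z).trans (inIm_pull_iff sqW z).symm⟩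
    exact exists_rep_of_fppf_local (SubPred.inIm g) e ι hι'

end Groth.Agent.H1.MonoRep
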