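import Groth.Agent.Lib.Helper1.MonoRepE

/-!
# Standard étale algebras: bounded fibres, and the local structure of unramified morphisms (helper1)
-/

set_option autoImplicit false
universe u
open CategoryTheory CategoryTheory.Limits AlgebraicGeometry Opposite

namespace Groth.Agent.H1.MonoRep

open Polynomial

/-- A standard étale algebra has at most `deg f` homomorphisms to a domain over a fixed
homomorphism from the base. -/
theorem exists_eq_of_stdEtale {R : Type u} [CommRing R] (P : StandardEtalePair R) (K : Type u)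
    [CommRing K] [IsDomain K] (φ : Fin (P.f.natDegree + 1) → (P.Ring →+* K))
    (h : ∀ a b, (φ a).comp (algebraMap R P.Ring) = (φ b).comp (algebraMap R P.Ring)) :
    ∃ a b, a ≠ b ∧ φ a = φ b := by
  classical
  by_contra hne
  push Not at hne
  let ψ : R →+* K := (φ 0).comp (algebraMap R P.Ring)
  letI : Algebra R K := ψ.toAlgebra
  let Φ : Fin (P.f.natDegree + 1) → (P.Ring →ₐ[R] K) := fun a =>
    { φ a with
      commutes' := fun r => by
        change ((φ a).comp (algebraMap R P.Ring)) r = ψ r
        rw [h a 0] }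
  let r : Fin (P.f.natDegree + 1) → K := fun a => φ a P.X
  have hr : Function.Injective r := by
    intro a b hab
    by_contra hab'
    apply hne a b hab'
    have h1 : Φ a = Φ b := P.hom_ext hab
    have h2 := congrArg (fun t : P.Ring →ₐ[R] K => (t : P.Ring →+* K)) h1
    exact h2
  let p : K[X] := P.f.map ψ
  have hp : p.Monic := P.monic_f.map ψ
  have hroot : ∀ a, r a ∈ p.roots := by
    intro a
    rw [Polynomial.mem_roots hp.ne_zero, Polynomial.IsRoot.def, Polynomial.eval_map]
    have h1 : Polynomial.eval₂ ψ (r a) P.f = Polynomial.aeval (Φ a P.X) P.f := rfl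
    rw [h1, Polynomial.aeval_algHom_apply, P.hasMap_X.1, map_zero]
  have hcard := Polynomial.card_le_degree_of_subset_roots (p := p)
    (Z := Finset.univ.image r) (by
      intro x hx
      rw [Finset.mem_val, Finset.mem_image] at hx
      obtain ⟨a, -, rfl⟩ := hx
      exact hroot a)
  rw [Finset.card_image_of_injective _ hr, Finset.card_univ, Fintype.card_fin] at hcard
  have hdeg : p.natDegree = P.f.natDegree := P.monic_f.natDegree_map ψ
  omega


theorem bdd_stdEtale {R : Type u} [CommRing R] (P : StandardEtalePair R) :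
    Bdd P.f.natDegree (Spec.map (CommRingCat.ofHom (algebraMap R P.Ring))) := by
  intro K hK x hx
  haveI : IsDomain K := hK.isDomain
  let φ : Fin (P.f.natDegree + 1) → (P.Ring →+* K) := fun a => (Spec.preimage (x a)).hom
  have hφ : ∀ a, Spec.map (CommRingCat.ofHom (φ a)) = x a := fun a => Spec.map_preimage (x a)
  obtain ⟨a, b, hab, h⟩ := exists_eq_of_stdEtale P K φ (fun a b => by
    have h1 := hx a b
    rw [← hφ a, ← hφ b, ← Spec.map_comp, ← Spec.map_comp] at h1
    have h2 := Spec.map_injective h1
    have h3 := congrArg CommRingCat.Hom.hom h2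
    exact h3)
  exact ⟨a, b, hab, by rw [← hφ a, ← hφ b, h]⟩

set_option backward.defeqAttrib.useBackward true in
set_option backward.isDefEq.respectTransparency false in
/-- Local structure of unramified morphisms: Zariski locally on the source, an unramified morphism
is a closed immersion into a standard étale scheme over an affine open of the target. -/
theorem exists_stdEtale_factor {X Y : Scheme.{u}} (f : X ⟶ Y) [LocallyOfFiniteType f]
    [FormallyUnramified f] (x : X) :
    ∃ (A : Type u) (_ : CommRing A) (P : StandardEtalePair A)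
      (jY : Spec (CommRingCat.of A) ⟶ Y) (O : X.Opens)
      (i : O.toScheme ⟶ Spec (CommRingCat.of P.Ring)),
      IsOpenImmersion jY ∧ x ∈ O ∧ IsClosedImmersion i ∧
        O.ι ≫ f = i ≫ Spec.map (CommRingCat.ofHom (algebraMap A P.Ring)) ≫ jY := by
  obtain ⟨_, ⟨US, hUS, rfl⟩, hxU, -⟩ :=
    Y.isBasis_affineOpens.exists_subset_of_mem_open (Set.mem_univ (f x)) isOpen_univ
  obtain ⟨_, ⟨UX, hUX, rfl⟩, hxV, hXS⟩ :=
    X.isBasis_affineOpens.exists_subset_of_mem_open hxU (US.2.preimage f.continuous)
  have hft := f.finiteType_appLE hUS hUX hXS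
  have hfu : (f.appLE US UX hXS).hom.FormallyUnramified :=
    HasRingHomProperty.appLE (P := @FormallyUnramified) f inferInstance ⟨US, hUS⟩ ⟨UX, hUX⟩ hXS
  algebraize [(f.appLE US UX hXS).hom]
  let q := (hUX.primeIdealOf ⟨x, hxV⟩).asIdeal
  obtain ⟨f₀, hf₀, P, φ, hφ⟩ :=
    Algebra.IsUnramifiedAt.exists_hasStandardEtaleSurjectionOn (R := Γ(Y, US)) q
  have hxf₀ : x ∈ X.basicOpen f₀ := by
    rwa [← PrimeSpectrum.mem_basicOpen, IsAffineOpen.primeIdealOf,
      ← hUX.fromSpec_preimage_basicOpen, Scheme.Hom.mem_preimage, ← Scheme.Hom.comp_apply,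
      IsAffineOpen.isoSpec_hom, IsAffineOpen.toSpecΓ_fromSpec] at hf₀
  have hV : IsAffineOpen (X.basicOpen f₀) := hUX.basicOpen f₀
  have hVS : X.basicOpen f₀ ≤ f ⁻¹ᵁ US := (X.basicOpen_le f₀).trans hXS
  have hloc := hUX.isLocalization_basicOpen f₀
  let e := IsLocalization.algEquiv (.powers f₀) (Localization.Away f₀) Γ(X, X.basicOpen f₀)
  let ψ : P.Ring →+* Γ(X, X.basicOpen f₀) := e.toRingEquiv.toRingHom.comp φ.toRingHom
  have hψ : Function.Surjective ψ := e.surjective.comp hφ
  have hψc : ψ.comp (algebraMap Γ(Y, US) P.Ring) = (f.appLE US (X.basicOpen f₀) hVS).hom := by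
    ext a
    simp only [ψ, RingHom.comp_apply]
    show e (φ (algebraMap _ _ a)) = _
    rw [AlgHom.commutes, IsScalarTower.algebraMap_apply Γ(Y, US) Γ(X, UX) (Localization.Away f₀),
      AlgEquiv.commutes]
    simp only [RingHom.algebraMap_toAlgebra, ← ConcreteCategory.comp_apply,
      Scheme.Hom.appLE_map]
  let i : (X.basicOpen f₀).toScheme ⟶ Spec (CommRingCat.of P.Ring) :=
    hV.isoSpec.hom ≫ Spec.map (CommRingCat.ofHom ψ)
  have hi0 : IsClosedImmersion (Spec.map (CommRingCat.ofHom ψ)) :=
    IsClosedImmersion.spec_of_surjective _ hψ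
  have hi : IsClosedImmersion i := inferInstance
  have hcomp : (X.basicOpen f₀).ι ≫ f =
      i ≫ Spec.map (CommRingCat.ofHom (algebraMap Γ(Y, US) P.Ring)) ≫ hUS.fromSpec := by
    simp only [i, Category.assoc]
    rw [← Category.assoc (Spec.map _), ← Spec.map_comp, ← CommRingCat.ofHom_comp, hψc,
      CommRingCat.ofHom_hom, IsAffineOpen.SpecMap_appLE_fromSpec f hUS hV,
      ← Category.assoc, IsAffineOpen.fromSpec, ← Category.assoc, Iso.hom_inv_id, Category.id_comp]
  exact ⟨Γ(Y, US), inferInstance, P, hUS.fromSpec, X.basicOpen f₀, i, inferInstance, hxf₀, hi, hcomp⟩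

end Groth.Agent.H1.MonoRep
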