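import Groth.Agent.Lib.Helper1.MonoRepF

/-!
# The image of a morphism locally of finite type with étale kernel pair is representable (helper1)
-/

set_option autoImplicit false
universe u
open CategoryTheory CategoryTheory.Limits AlgebraicGeometry Opposite

namespace Groth.Agent.H1.MonoRep

open AlgSp Groth.Agent.Lib.Helper14.AlgSpQuot Groth.Agent.H1.ZarRep Groth.Agent.H1.Boot

variable {S : Scheme.{u}}

/-- The projection `U ×_T V ⟶ U` is étale when the kernel pair of `U ⟶ T` is étale and `V ⟶ U` is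
étale. -/
theorem etale_fst_of_etKP {T U V : Over S} {g : U ⟶ T} (h : EtKP g) (o : V ⟶ U) [Etale o.left]
    {P : Over S} (a : P ⟶ U) (b : P ⟶ V) (sq : IsPullback a b g (o ≫ g)) : Etale a.left := by
  have hk : IsPullback (pullback.fst g g) (pullback.snd g g) g g := IsPullback.of_hasPullback g g
  let l : P ⟶ Limits.pullback g g := hk.lift a (b ≫ o) (by rw [Category.assoc]; exact sq.w)
  have hl1 : l ≫ pullback.fst g g = a := hk.lift_fst _ _ _
  have hl2 : l ≫ pullback.snd g g = b ≫ o := hk.lift_snd _ _ _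
  have h1 : IsPullback b l o (pullback.snd g g) := by
    refine IsPullback.of_bot ?_ hl2.symm hk.flip
    rw [hl1]
    exact sq.flip
  have hl : Etale l.left :=
    MorphismProperty.of_isPullback (P := @Etale) (h1.map (Over.forget S))
      (inferInstanceAs (Etale o.left))
  have hk1 : Etale (pullback.fst g g).left := h _ _ hk
  rw [← hl1, Over.comp_left]
  infer_instance

/-- Base change of the previous lemma along a morphism which lifts to `U`. -/
theorem etale_fst_of_lift {T U V Z : Over S} {g : U ⟶ T} (h : EtKP g) (o : V ⟶ U) [Etale o.left]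
    (z : Z ⟶ T) (l : Z ⟶ U) (hl : l ≫ g = z) {P : Over S} (a : P ⟶ Z) (b : P ⟶ V)
    (sq : IsPullback a b z (o ≫ g)) : Etale a.left := by
  have hq : IsPullback (pullback.fst g (o ≫ g)) (pullback.snd g (o ≫ g)) g (o ≫ g) :=
    IsPullback.of_hasPullback _ _
  have hc₁ : Etale (pullback.fst g (o ≫ g)).left := etale_fst_of_etKP @h o _ _ hq
  let r : P ⟶ Limits.pullback g (o ≫ g) := hq.lift (a ≫ l) b (by
    rw [Category.assoc, hl]
    exact sq.w)
  have hr1 : r ≫ pullback.fst g (o ≫ g) = a ≫ l := hq.lift_fst _ _ _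
  have hr2 : r ≫ pullback.snd g (o ≫ g) = b := hq.lift_snd _ _ _
  have h1 : IsPullback r a (pullback.fst g (o ≫ g)) l := by
    refine IsPullback.of_right ?_ hr1 hq.flip
    rw [hr2, hl]
    exact sq.flip
  exact MorphismProperty.of_isPullback (P := @Etale) (h1.map (Over.forget S)) hc₁

/-- A morphism with étale kernel pair, locally of finite type, is unramified. -/
theorem formallyUnramified_of_etKP {T U : Over S} {g : U ⟶ T} (h : EtKP g) :
    FormallyUnramified g.left := by
  have hk : IsPullback (pullback.fst g g) (pullback.snd g g) g g := IsPullback.of_hasPullback g g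
  have hk' := hk.map (Over.forget S)
  let δ : U ⟶ Limits.pullback g g := hk.lift (𝟙 _) (𝟙 _) rfl
  have hδ1 : δ ≫ pullback.fst g g = 𝟙 _ := hk.lift_fst _ _ _
  have hδ2 : δ ≫ pullback.snd g g = 𝟙 _ := hk.lift_snd _ _ _
  have hk1 : Etale (pullback.fst g g).left := h _ _ hk
  have hδ1' : δ.left ≫ (pullback.fst g g).left = 𝟙 _ := by
    rw [← Over.comp_left, hδ1]
    rfl
  have hδ2' : δ.left ≫ (pullback.snd g g).left = 𝟙 _ := by
    rw [← Over.comp_left, hδ2]
    rfl
  haveI hδe : Etale δ.left := by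
    haveI : Etale (δ.left ≫ (pullback.fst g g).left) := by
      rw [hδ1']
      infer_instance
    exact Etale.of_comp δ.left (pullback.fst g g).left
  haveI hδm : Mono δ.left := mono_of_mono_fac hδ1'
  haveI hδo : IsOpenImmersion δ.left := IsOpenImmersion.of_flat_of_mono δ.left
  have hk'' : IsPullback (pullback.fst g g).left (pullback.snd g g).left g.left g.left := hk'
  have e : pullback.diagonal g.left = δ.left ≫ hk''.isoPullback.hom := by
    apply pullback.hom_ext
    · rw [pullback.diagonal_fst, Category.assoc, hk''.isoPullback_hom_fst, hδ1']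
    · rw [pullback.diagonal_snd, Category.assoc, hk''.isoPullback_hom_snd, hδ2']
  haveI : IsOpenImmersion (pullback.diagonal g.left) := by
    rw [e]
    infer_instance
  infer_instance


/-- **Local pieces.** Around every point of `U`, the image of `U ⟶ T` is representable. -/
theorem exists_rep_local {T U : Over S} (g : U ⟶ T) [LocallyOfFiniteType g.left] (h : EtKP g)
    (x : U.left) :
    ∃ (O : U.left.Opens), x ∈ O ∧ ∃ (I : Over S) (j : I ⟶ T),
      Rep (SubPred.inIm (ovι U O ≫ g)) j := by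
  haveI := formallyUnramified_of_etKP @h
  obtain ⟨A, _, P, jY, O, i, hjY, hxO, hi, hcomp⟩ := exists_stdEtale_factor g.left x
  refine ⟨O, hxO, ?_⟩
  let E₀ : Scheme.{u} := Spec (CommRingCat.of P.Ring)
  let α : E₀ ⟶ Spec (CommRingCat.of A) := Spec.map (CommRingCat.ofHom (algebraMap A P.Ring))
  haveI hαe : Etale α := by
    rw [HasRingHomProperty.Spec_iff (P := @Etale)]
    exact RingHom.etale_algebraMap.mpr inferInstance
  let ε₀ : E₀ ⟶ T.left := α ≫ jY
  haveI : Etale ε₀ := inferInstance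
  let Tb : T.left.Opens := ⟨Set.range ε₀, ε₀.isOpenMap.isOpen_range⟩
  let e₀ : E₀ ⟶ Tb.toScheme := IsOpenImmersion.lift Tb.ι ε₀ (by
    rw [Scheme.Opens.range_ι]
    exact fun _ h => h)
  have he₀ : e₀ ≫ Tb.ι = ε₀ := IsOpenImmersion.lift_fac _ _ _
  have hTbj : Set.range Tb.ι ⊆ Set.range jY := by
    rw [Scheme.Opens.range_ι]
    rintro _ ⟨y, rfl⟩
    exact ⟨α y, rfl⟩
  let k : Tb.toScheme ⟶ Spec (CommRingCat.of A) := IsOpenImmersion.lift jY Tb.ι hTbj
  have hk : k ≫ jY = Tb.ι := IsOpenImmersion.lift_fac _ _ _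
  have he₀k : e₀ ≫ k = α := by
    rw [← cancel_mono jY, Category.assoc, hk, he₀]
  let T' : Over S := Over.mk (ε₀ ≫ T.hom)
  let e : T' ⟶ ov T Tb := Over.homMk e₀ (by
    change e₀ ≫ Tb.ι ≫ T.hom = ε₀ ≫ T.hom
    rw [← Category.assoc, he₀])
  let iV : ov U O ⟶ T' := Over.homMk i (by
    change i ≫ ε₀ ≫ T.hom = O.ι ≫ U.hom
    rw [← Over.w g]
    have h3 : (O.ι ≫ g.left) ≫ T.hom = (i ≫ α ≫ jY) ≫ T.hom := by rw [hcomp]
    simpa [Category.assoc, ε₀] using h3.symm)
  haveI : Etale e.left := by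
    haveI : Etale (e₀ ≫ Tb.ι) := by rw [he₀]; infer_instance
    exact Etale.of_comp e₀ Tb.ι
  haveI : IsSeparated e.left := by
    haveI : IsSeparated (e₀ ≫ Tb.ι) := by rw [he₀]; infer_instance
    exact IsSeparated.of_comp e₀ Tb.ι
  haveI : QuasiCompact e.left := by
    have h1 : QuasiCompact (e₀ ≫ k) := by rw [he₀k]; infer_instance
    exact MorphismProperty.of_postcomp (W := @QuasiCompact) (W' := @QuasiSeparated) e₀ k
      inferInstance h1
  haveI : Surjective e.left := ⟨by
    rintro ⟨x, ⟨y, hy⟩⟩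
    refine ⟨y, ?_⟩
    apply Tb.ι.injective
    change (e₀ ≫ Tb.ι) y = x
    rw [he₀]
    exact hy⟩
  haveI : QuasiSeparatedSpace T'.left := inferInstanceAs (QuasiSeparatedSpace E₀)
  haveI : IsClosedImmersion iV.left := hi
  have hb : Bdd P.f.natDegree e.left := by
    refine bdd_of_comp_mono e₀ k ?_
    rw [he₀k]
    exact bdd_stdEtale P
  have hfac : (iV ≫ e) ≫ ovι T Tb = ovι U O ≫ g := by
    apply Over.OverMorphism.ext
    change (i ≫ e₀) ≫ Tb.ι = O.ι ≫ g.left
    rw [Category.assoc, he₀, hcomp]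
  have hH : EtKP (iV ≫ e) := by
    refine EtKP.of_comp_mono (ovι T Tb) ?_
    rw [hfac]
    haveI : Etale (ovι U O).left := inferInstanceAs (Etale O.ι)
    have h2 : EtKP (ovι U O ≫ g) := EtKP.comp_etale @h (ovι U O)
    exact @h2
  obtain ⟨I, j, hj⟩ := exists_rep_inIm P.f.natDegree e iV hb @hH
  refine ⟨I, j ≫ ovι T Tb, ?_⟩
  have h2 := rep_comp_mono (ovι T Tb) (inferInstanceAs (LocallyOfFiniteType Tb.ι)) (iV ≫ e) j hj
  rwa [hfac] at h2

/-- If `z` lifts to `U` and lands set-theoretically in the image of `V ⟶ U ⟶ T`, then `z` lies in the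
image subsheaf of `V ⟶ T`. -/
theorem inIm_of_range_subset {T U V Z : Over S} {g : U ⟶ T} (h : EtKP g) (o : V ⟶ U)
    [Etale o.left] (z : Z ⟶ T) (l : Z ⟶ U) (hl : l ≫ g = z)
    (hr : ∀ ζ : Z.left, z.left ζ ∈ Set.range (o ≫ g).left) : (SubPred.inIm (o ≫ g)).P z := by
  have sq : IsPullback (pullback.fst z (o ≫ g)) (pullback.snd z (o ≫ g)) z (o ≫ g) :=
    IsPullback.of_hasPullback _ _
  haveI he : Etale (pullback.fst z (o ≫ g)).left := etale_fst_of_lift @h o z l hl _ _ sq
  have sq' : IsPullback (pullback.fst z (o ≫ g)).left (pullback.snd z (o ≫ g)).left z.left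
      (o ≫ g).left := sq.map (Over.forget S)
  have hrange := range_eq_of_isPullback sq'
  haveI : Surjective (pullback.fst z (o ≫ g)).left := ⟨by
    intro ζ
    have h1 : ζ ∈ Set.range (pullback.fst z (o ≫ g)).left := by
      rw [hrange]
      exact hr ζ
    exact h1⟩
  refine ⟨Sieve.generate (Presieve.singleton (pullback.fst z (o ≫ g))),
    generate_singleton_mem' _ (Sieve.le_generate _ _ _ (Presieve.singleton_self _)), ?_⟩
  rintro Z' c ⟨Y, a, b, ⟨⟩, rfl⟩
  exact ⟨a ≫ pullback.snd z (o ≫ g), by rw [Category.assoc, ← sq.w, Category.assoc]⟩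

/-- The locus where a section of the image of `U ⟶ T` lies in the image of `V ⟶ U ⟶ T` is open. -/
theorem isOpen_preimage_range {T U V Z : Over S} {g : U ⟶ T} (h : EtKP g) (o : V ⟶ U)
    [Etale o.left] (z : Z ⟶ T) (hz : (SubPred.inIm g).P z) :
    IsOpen {ζ : Z.left | z.left ζ ∈ Set.range (o ≫ g).left} := by
  rw [isOpen_iff_forall_mem_open]
  intro ζ hζ
  obtain ⟨R, hR, hl⟩ := hz
  obtain ⟨Z', c, ζ', hc, hζ', hc1, hc2⟩ := exists_flat_mem_of_mem_J R hR ζ
  obtain ⟨l, hl'⟩ := hl c hc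
  have sq : IsPullback (pullback.fst (c ≫ z) (o ≫ g)) (pullback.snd (c ≫ z) (o ≫ g)) (c ≫ z)
      (o ≫ g) := IsPullback.of_hasPullback _ _
  haveI he : Etale (pullback.fst (c ≫ z) (o ≫ g)).left :=
    etale_fst_of_lift @h o (c ≫ z) l hl' _ _ sq
  have sq' : IsPullback (pullback.fst (c ≫ z) (o ≫ g)).left (pullback.snd (c ≫ z) (o ≫ g)).left
      (c ≫ z).left (o ≫ g).left := sq.map (Over.forget S)
  have hrange := range_eq_of_isPullback sq'
  haveI : UniversallyOpen c.left := inferInstance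
  refine ⟨c.left '' Set.range (pullback.fst (c ≫ z) (o ≫ g)).left, ?_, ?_, ?_⟩
  · rintro _ ⟨ζ'', hζ'', rfl⟩
    rw [hrange] at hζ''
    change z.left (c.left ζ'') ∈ Set.range (o ≫ g).left
    exact hζ''
  · exact c.left.isOpenMap _ (pullback.fst (c ≫ z) (o ≫ g)).left.isOpenMap.isOpen_range
  · refine ⟨ζ', ?_, hζ'⟩
    rw [hrange]
    change z.left (c.left ζ') ∈ Set.range (o ≫ g).left
    rw [hζ']
    exact hζ

/-- **The image of a morphism locally of finite type with étale kernel pair is representable** by a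
monomorphism locally of finite type. -/
theorem exists_rep_of_etKP {T U : Over S} (g : U ⟶ T) [LocallyOfFiniteType g.left] (h : EtKP g) :
    ∃ (I : Over S) (j : I ⟶ T), Rep (SubPred.inIm g) j := by
  choose O hxO I j hj using fun x : U.left => exists_rep_local g @h x
  haveI : ∀ x, Mono (j x) := fun x => (hj x).mono
  haveI : ∀ x, Etale (ovι U (O x)).left := fun x => inferInstanceAs (Etale (O x).ι)
  have hAg : ∀ x, (SubPred.inIm g).P (ovι U (O x) ≫ g) :=
    fun x => (SubPred.inIm g).pre _ g (SubPred.inIm_self g)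
  have hsub : ∀ x, (SubPred.inIm g).P (j x) := fun x =>
    SubPred.inIm_le _ _ (hAg x) (j x) (((hj x).iff (j x)).1 ⟨𝟙 _, Category.id_comp _⟩)
  let Oz : ∀ (x : U.left) {Z : Over S} (z : Z ⟶ T), (SubPred.inIm g).P z → Z.left.Opens :=
    fun x Z z hz => ⟨{ζ | z.left ζ ∈ Set.range (ovι U (O x) ≫ g).left},
      isOpen_preimage_range @h (ovι U (O x)) z hz⟩
  have key : ∀ (x : U.left) {Z : Over S} (z : Z ⟶ T) (hz : (SubPred.inIm g).P z) {Z' : Over S}
      (c : Z' ⟶ Z), (∃ u : Z' ⟶ I x, u ≫ j x = c ≫ z) ↔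
        Set.range c.left ⊆ (Oz x z hz : Set Z.left) := by
    intro x Z z hz Z' c
    rw [(hj x).iff (c ≫ z)]
    constructor
    · rintro ⟨R, hR, hl⟩ _ ⟨ζ', rfl⟩
      obtain ⟨Z'', d, ζ'', hd, hζ'', -, -⟩ := exists_flat_mem_of_mem_J R hR ζ'
      obtain ⟨v, hv⟩ := hl d hd
      refine ⟨v.left ζ'', ?_⟩
      have h3 := congrArg (fun t => t.left ζ'') hv
      rw [← hζ'']
      exact h3
    · intro hr
      obtain ⟨R, hR, hl⟩ := (SubPred.inIm g).pre c z hz
      refine (SubPred.inIm (ovι U (O x) ≫ g)).loc (c ≫ z) R hR ?_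
      intro Z'' d hd
      obtain ⟨l, hl'⟩ := hl d hd
      refine inIm_of_range_subset @h (ovι U (O x)) (d ≫ c ≫ z) l hl' ?_
      intro ζ
      exact hr ⟨d.left ζ, rfl⟩
  refine exists_rep_of_open_cover (SubPred.inIm g) I j hsub ?_ ?_ (fun x => (hj x).lft)
  · intro x Z z hz
    exact ⟨Oz x z hz, fun c => key x z hz c⟩
  · intro Z z hz ζ
    have hz' := hz
    obtain ⟨R, hR, hl⟩ := hz'
    obtain ⟨Z', c, ζ', hc, hζ', -, -⟩ := exists_flat_mem_of_mem_J R hR ζ
    obtain ⟨l, hl'⟩ := hl c hc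
    let x : U.left := l.left ζ'
    have hζO : ζ ∈ Oz x z hz := by
      change z.left ζ ∈ Set.range (ovι U (O x) ≫ g).left
      refine ⟨⟨x, hxO x⟩, ?_⟩
      have h3 := congrArg (fun t => t.left ζ') hl'
      rw [← hζ']
      exact h3
    obtain ⟨u, hu⟩ := (key x z hz (ovι Z (Oz x z hz))).2 (by
      change Set.range (Oz x z hz).ι ⊆ _
      rw [Scheme.Opens.range_ι])
    exact ⟨x, Oz x z hz, hζO, u, hu⟩

end Groth.Agent.H1.MonoRep
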