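import Groth.Agent.Lib.Helper1.MonoRepI

/-!
# Base change of an atlas along a jointly monic pair (helper1)
-/

set_option autoImplicit false
universe u
open CategoryTheory CategoryTheory.Limits AlgebraicGeometry Opposite

namespace Groth.Agent.H1.MonoRep

open AlgSp Groth.Agent.Lib.Helper14.AlgSpQuot Groth.Agent.H1.ZarRep Groth.Agent.H1.Boot

variable {S : Scheme.{u}}

/-- Variant of `exists_rep_pullback`: `(pX, pT) : X_T ⟶ X × h_T` is only assumed to be jointly
monic. -/
theorem exists_rep_pullback' {X XT : Sp S} {W T : Over S} (hXT : IsAlgSpace XT)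
    (q : (yon S).obj W ⟶ X) (hqe : RepWith @Etale q) (hqs : RepWith @Surjective q)
    {pX : XT ⟶ X} {pT : XT ⟶ (yon S).obj T}
    (hmono : ∀ {Z : Sp S} (x y : Z ⟶ XT), x ≫ pX = y ≫ pX → x ≫ pT = y ≫ pT → x = y)
    (hlft : ∀ {V : Over S} (ψ : (yon S).obj V ⟶ XT) (t : V ⟶ T), RepWith @Etale ψ →
      ψ ≫ pT = (yon S).map t → LocallyOfFiniteType t.left) :
    ∃ (I : Over S) (j : I ⟶ W ⨯ T) (k : (yon S).obj I ⟶ XT), Mono j ∧
      LocallyOfFiniteType j.left ∧ IsPullback ((yon S).map (j ≫ prod.fst)) k q pX ∧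
      k ≫ pT = (yon S).map (j ≫ prod.snd) := by
  let k₁ : pullback q pX ⟶ (yon S).obj W := pullback.fst q pX
  let k₂ : pullback q pX ⟶ XT := pullback.snd q pX
  have sqK : IsPullback k₁ k₂ q pX := IsPullback.of_hasPullback _ _
  have hk₂e : RepWith @Etale k₂ :=
    (repWith_isStableUnderBaseChange (S := S) @Etale).of_isPullback sqK hqe
  have hk₂s : RepWith @Surjective k₂ :=
    (repWith_isStableUnderBaseChange (S := S) @Surjective).of_isPullback sqK hqs
  let f : pullback q pX ⟶ (yon S).obj (W ⨯ T) :=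
    prod.lift k₁ (k₂ ≫ pT) ≫ inv (prodComparison (yon S) W T)
  have hf1 : f ≫ (yon S).map prod.fst = k₁ := by
    change (prod.lift k₁ (k₂ ≫ pT) ≫ inv (prodComparison (yon S) W T)) ≫ _ = _
    rw [Category.assoc, inv_prodComparison_map_fst, prod.lift_fst]
  have hf2 : f ≫ (yon S).map prod.snd = k₂ ≫ pT := by
    change (prod.lift k₁ (k₂ ≫ pT) ≫ inv (prodComparison (yon S) W T)) ≫ _ = _
    rw [Category.assoc, inv_prodComparison_map_snd, prod.lift_snd]
  haveI : Mono f := by
    refine ⟨fun a b hab => ?_⟩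
    have e1 : a ≫ k₁ = b ≫ k₁ := by rw [← hf1, ← Category.assoc, hab, Category.assoc]
    have e2 : a ≫ k₂ ≫ pT = b ≫ k₂ ≫ pT := by rw [← hf2, ← Category.assoc, hab, Category.assoc]
    refine sqK.hom_ext e1 (hmono _ _ ?_ ?_)
    · rw [Category.assoc, Category.assoc, ← sqK.w, ← Category.assoc, e1, Category.assoc]
    · rw [Category.assoc, Category.assoc, e2]
  obtain ⟨V, ψ, hψe, hψs⟩ := hXT.atlas
  obtain ⟨t, ht⟩ := (yon S).map_surjective (ψ ≫ pT)
  have htl : LocallyOfFiniteType t.left := hlft ψ t hψe ht.symm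
  obtain ⟨V', v, φ, sqV⟩ := hk₂e.rep ψ
  have hve : Etale v.left := hk₂e.2 ψ φ v sqV
  have hφe : RepWith @Etale φ :=
    (repWith_isStableUnderBaseChange (S := S) @Etale).of_isPullback sqV.flip hψe
  have hφs : RepWith @Surjective φ :=
    (repWith_isStableUnderBaseChange (S := S) @Surjective).of_isPullback sqV.flip hψs
  haveI : Epi φ := Groth.Agent.Lib.helper5.epi_of_etale_surjective φ hφe hφs
  obtain ⟨g, hg⟩ := (yon S).map_surjective (φ ≫ f)
  have hgs : g ≫ prod.snd = v ≫ t := by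
    apply (yon S).map_injective
    rw [Functor.map_comp, hg, Category.assoc, hf2, ← Category.assoc, sqV.w, Category.assoc, ← ht,
      Functor.map_comp]
  haveI : LocallyOfFiniteType g.left := by
    haveI : LocallyOfFiniteType (g.left ≫ (prod.snd : W ⨯ T ⟶ T).left) := by
      rw [← Over.comp_left, hgs, Over.comp_left]
      infer_instance
    exact locallyOfFiniteType_of_comp g.left (prod.snd : W ⨯ T ⟶ T).left
  obtain ⟨I, j, e, he, hjm, hjl⟩ := exists_rep_of_mono f φ hφe g hg.symm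
  refine ⟨I, j, e.hom ≫ k₂, hjm, hjl, ?_, ?_⟩
  · have h1 : (yon S).map (j ≫ prod.fst) = e.hom ≫ k₁ := by
      rw [Functor.map_comp, ← he, Category.assoc, hf1]
    rw [h1]
    exact IsPullback.of_iso sqK e.symm (Iso.refl _) (Iso.refl _) (Iso.refl _) (by simp) (by simp)
      (by simp) (by simp)
  · rw [Category.assoc, ← hf2, ← Category.assoc, he, ← Functor.map_comp]

end Groth.Agent.H1.MonoRep
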