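import Groth.Agent.Lib.Helper1.LocProjGen
import Groth.Agent.Lib.Helper1.RhoGE

/-!
Helper library (helper1): abstract form of "negative vanishing on a basis implies negative
vanishing everywhere and `H^0` is a sheaf" for an exact functor `Φ : ℬ ⥤ 𝒜` with derived right
adjoint `RG`, and locally projective generators `PD : D ⥤ ℬ`, `PC : C ⥤ 𝒜` compatible with `Φ`.
-/

set_option autoImplicit false
set_option linter.unusedSectionVars false
universe w w' u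
open CategoryTheory CategoryTheory.Limits Opposite DerivedCategory Pretriangulated

namespace Groth.Agent.H1.NegVanish

open Groth.Agent.H1.SingleHom Groth.Agent.H1.LocProjGen Groth.Agent.H1.RhoGE

variable {C D : Type u} [SmallCategory C] [SmallCategory D] {K : GrothendieckTopology D}
  {𝒜 ℬ : Type (u + 1)} [Category.{u} 𝒜] [Category.{u} ℬ] [Abelian 𝒜] [Abelian ℬ]
  [HasDerivedCategory.{w} 𝒜] [HasDerivedCategory.{w'} ℬ]
  (PC : C ⥤ 𝒜) {PD : D ⥤ ℬ} (hP : LocProj K PD)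
  (Φ : ℬ ⥤ 𝒜) [Φ.Additive] [PreservesFiniteLimits Φ] [PreservesFiniteColimits Φ]
  {RG : DerivedCategory 𝒜 ⥤ DerivedCategory ℬ} (adj : Φ.mapDerivedCategory ⊣ RG)
  (u : D ⥤ C) (θ : PD ⋙ Φ ≅ u ⋙ PC)

/-- `Φ (single_j (PD V)) ≅ single_j (PC (u V))` -/
noncomputable def isoA (V : D) (j : ℤ) :
    Φ.mapDerivedCategory.obj (Xj PD V j) ≅ Xj PC (u.obj V) j :=
  (Φ.mapDerivedCategorySingleFunctor j).app _ ≪≫ (singleFunctor _ j).mapIso (θ.app V)

lemma isoA_naturality {V V' : D} (g : V' ⟶ V) (j : ℤ) :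
    Φ.mapDerivedCategory.map (res PD g j) ≫ (isoA PC Φ u θ V j).hom =
      (isoA PC Φ u θ V' j).hom ≫ res PC (u.map g) j := by
  have h1 := (Φ.mapDerivedCategorySingleFunctor j).hom.naturality (PD.map g)
  have h2 := θ.hom.naturality g
  simp only [Functor.comp_map] at h1 h2
  simp only [isoA, Iso.trans_hom, Iso.app_hom, Functor.mapIso_hom, res, Category.assoc]
  rw [reassoc_of% h1, ← Functor.map_comp, ← Functor.map_comp, h2]

lemma isoA_inv_naturality {V V' : D} (g : V' ⟶ V) (j : ℤ) :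
    (isoA PC Φ u θ V' j).inv ≫ Φ.mapDerivedCategory.map (res PD g j) =
      res PC (u.map g) j ≫ (isoA PC Φ u θ V j).inv := by
  rw [Iso.inv_comp_eq, ← Category.assoc, Iso.eq_comp_inv]
  exact isoA_naturality PC Φ u θ g j

/-- `Hom(single_j (PD V), RG K₀) ≃ Hom(single_j (PC (u V)), K₀)` -/
noncomputable def eqv (V : D) (j : ℤ) (K₀ : DerivedCategory 𝒜) :
    (Xj PD V j ⟶ RG.obj K₀) ≃ (Xj PC (u.obj V) j ⟶ K₀) :=
  (adj.homEquiv _ _).symm.trans (isoA PC Φ u θ V j).homFromEquiv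

lemma eqv_apply (V : D) (j : ℤ) (K₀ : DerivedCategory 𝒜) (σ : Xj PD V j ⟶ RG.obj K₀) :
    eqv PC Φ adj u θ V j K₀ σ = (isoA PC Φ u θ V j).inv ≫ (adj.homEquiv _ _).symm σ := rfl

lemma eqv_naturality {V V' : D} (g : V' ⟶ V) (j : ℤ) (K₀ : DerivedCategory 𝒜)
    (σ : Xj PD V j ⟶ RG.obj K₀) :
    eqv PC Φ adj u θ V' j K₀ (res PD g j ≫ σ) =
      res PC (u.map g) j ≫ eqv PC Φ adj u θ V j K₀ σ := by
  rw [eqv_apply, eqv_apply, Adjunction.homEquiv_naturality_left_symm, ← Category.assoc,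
    isoA_inv_naturality, Category.assoc]

lemma eqv_zero (V : D) (j : ℤ) (K₀ : DerivedCategory 𝒜) :
    eqv PC Φ adj u θ V j K₀ 0 = 0 := by
  rw [eqv_apply, Adjunction.homEquiv_counit, Functor.map_zero, zero_comp, comp_zero]

variable (B : Set D)
  (hB : ∀ U : D, ∃ (ι : Type u) (Y : ι → D) (g : ∀ i, Y i ⟶ U),
    Sieve.ofArrows Y g ∈ K U ∧ ∀ i, Y i ∈ B)
  (K₀ : DerivedCategory 𝒜)
  (h : ∀ V ∈ B, ∀ j : ℤ, j < 0 → ∀ σ : Xj PC (u.obj V) j ⟶ K₀, σ = 0)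

include hP hB h adj θ in
theorem isGE_RG : (RG.obj K₀).IsGE 0 := by
  rw [isGE_iff]
  intro j hj
  rw [IsZero.iff_id_eq_zero]
  apply hP.hom_ext
  intro X s
  rw [comp_zero, Category.comp_id]
  obtain ⟨T, hT, hl⟩ := exists_local_rep hP (RG.obj K₀) j s
  apply hP.ext s 0 T hT
  intro Y g hg
  obtain ⟨σ, hσ⟩ := hl g hg
  rw [comp_zero, ← hσ]
  obtain ⟨ι, W, w, hcov, hW⟩ := hB Y
  apply eq_zero_of_family hP _ W w hcov
  intro i
  rw [← rho_precomp]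
  have h0 : eqv PC Φ adj u θ (W i) j K₀ ((singleFunctor ℬ j).map (PD.map (w i)) ≫ σ) = 0 :=
    h _ (hW i) j hj _
  rw [← eqv_zero PC Φ adj u θ (W i) j K₀] at h0
  rw [(eqv PC Φ adj u θ (W i) j K₀).injective h0, rho_zero]

include hP hB h adj θ in
theorem hom_eq_zero (V : D) (j : ℤ) (hj : j < 0) (σ : Xj PC (u.obj V) j ⟶ K₀) : σ = 0 := by
  have hGE := isGE_RG PC hP Φ adj u θ B hB K₀ h
  obtain ⟨τ, rfl⟩ := (eqv PC Φ adj u θ V j K₀).surjective σ
  have g1 : ((singleFunctor ℬ j).obj (PD.obj V)).IsLE j := inferInstance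
  have : τ = 0 := TStructure.t.zero_of_isLE_of_isGE τ j 0 hj g1 hGE
  rw [this, eqv_zero]

/-- sections of `H^0 (RG K₀)` over `V` are maps `single_0 (PC (u V)) ⟶ K₀` -/
noncomputable def secEquiv (hGE : (RG.obj K₀).IsGE 0) (V : D) :
    (Xj PC (u.obj V) 0 ⟶ K₀) ≃ (PD.obj V ⟶ (homologyFunctor ℬ 0).obj (RG.obj K₀)) :=
  (eqv PC Φ adj u θ V 0 K₀).symm.trans
    (Equiv.ofBijective rho (rho_bijective_of_isGE (PD.obj V) 0 (RG.obj K₀)))

lemma secEquiv_naturality (hGE : (RG.obj K₀).IsGE 0) {V V' : D} (g : V' ⟶ V)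
    (σ : Xj PC (u.obj V) 0 ⟶ K₀) :
    secEquiv PC Φ adj u θ K₀ hGE V' (res PC (u.map g) 0 ≫ σ) =
      PD.map g ≫ secEquiv PC Φ adj u θ K₀ hGE V σ := by
  obtain ⟨τ, rfl⟩ := (eqv PC Φ adj u θ V 0 K₀).surjective σ
  rw [← eqv_naturality]
  simp only [secEquiv, Equiv.trans_apply, Equiv.symm_apply_apply, Equiv.ofBijective_apply]
  exact rho_precomp _ _

end Groth.Agent.H1.NegVanish
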