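import Groth.Agent.Lib.Helper1.SingleHom

/-!
Helper library (helper1): for a projective object `P` of an abelian category,
`Hom_D(single_j P, M) ≅ Hom(P, H^j M)` via `rho`.
-/

set_option autoImplicit false
universe v u
open CategoryTheory CategoryTheory.Limits DerivedCategory

namespace Groth.Agent.H1.ProjHom

open Groth.Agent.H1.SingleHom

variable {𝒜 : Type u} [Category.{v} 𝒜] [Abelian 𝒜] [HasDerivedCategory 𝒜]

lemma rho_sub {P : 𝒜} {j : ℤ} {M : DerivedCategory 𝒜}
    (σ σ' : (singleFunctor 𝒜 j).obj P ⟶ M) : rho (σ - σ') = rho σ - rho σ' := by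
  unfold rho
  rw [Functor.map_sub, Preadditive.comp_sub]

variable {P : 𝒜} [Projective P]

lemma exists_rho_eq (M : DerivedCategory 𝒜) (j : ℤ) (x : P ⟶ (homologyFunctor 𝒜 j).obj M) :
    ∃ σ : (singleFunctor 𝒜 j).obj P ⟶ M, rho σ = x := by
  let e := Q.objObjPreimageIso M
  let E := Q.objPreimage M
  let x₁ : P ⟶ E.homology j := x ≫ (homologyFunctor _ j).map e.inv ≫ (hIso E j).hom
  let z : P ⟶ E.cycles j := Projective.factorThru x₁ (E.homologyπ j)
  have hz : z ≫ E.homologyπ j = x₁ := Projective.factorThru_comp _ _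
  refine ⟨sig E j z ≫ e.hom, ?_⟩
  rw [rho_comp, rho_sig', ← Category.assoc z, hz]
  simp only [x₁, Category.assoc]
  rw [Iso.hom_inv_id_assoc, ← Functor.map_comp, e.inv_hom_id, CategoryTheory.Functor.map_id,
    Category.comp_id]

lemma eq_zero_of_rho_eq_zero {M : DerivedCategory 𝒜} {j : ℤ}
    (σ : (singleFunctor 𝒜 j).obj P ⟶ M) (h : rho σ = 0) : σ = 0 := by
  obtain ⟨E, e, z, hσ⟩ := exists_cycle_rep σ
  have hz : z ≫ E.homologyπ j = 0 := by
    rw [hσ, rho_comp, rho_sig'] at h
    have h2 : (z ≫ E.homologyπ j) ≫ ((hIso E j).inv ≫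
        (homologyFunctor _ j).map e.hom) = 0 := by
      simpa only [Category.assoc] using h
    have : IsIso ((hIso E j).inv ≫ (homologyFunctor 𝒜 j).map e.hom) := inferInstance
    rw [← cancel_mono ((hIso E j).inv ≫ (homologyFunctor 𝒜 j).map e.hom), h2,
      zero_comp]
  obtain ⟨A', π, hπ, x₁, hx⟩ :=
    (exact_toCycles_homologyπ E (j - 1) j (by omega)).exact_up_to_refinements z hz
  let s' : P ⟶ A' := Projective.factorThru (𝟙 P) π
  have hs' : s' ≫ π = 𝟙 P := Projective.factorThru_comp _ _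
  dsimp at hx
  have hz' : z = (s' ≫ x₁) ≫ E.toCycles (j - 1) j := by
    rw [Category.assoc, ← hx, ← Category.assoc, hs', Category.id_comp]
  rw [hσ, hz', sig_toCycles E (j - 1) j (by omega), zero_comp]

lemma rho_bijective (M : DerivedCategory 𝒜) (j : ℤ) :
    Function.Bijective (rho : ((singleFunctor 𝒜 j).obj P ⟶ M) → (P ⟶ (homologyFunctor 𝒜 j).obj M)) := by
  constructor
  · intro σ σ' h
    have : rho (σ - σ') = 0 := by rw [rho_sub, h, sub_self]
    exact sub_eq_zero.1 (eq_zero_of_rho_eq_zero _ this)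
  · intro x
    exact exists_rho_eq M j x

/-- a map inducing bijections on `Hom(single_j P, -)` induces bijections on `Hom(P, H^j -)` -/
lemma bijective_comp_homology {N N' : DerivedCategory 𝒜} (ψ : N ⟶ N') (j : ℤ)
    (h : Function.Bijective (fun σ : (singleFunctor 𝒜 j).obj P ⟶ N => σ ≫ ψ)) :
    Function.Bijective (fun x : P ⟶ (homologyFunctor 𝒜 j).obj N =>
      x ≫ (homologyFunctor 𝒜 j).map ψ) := by
  constructor
  · intro x x' hx
    dsimp only at hx
    obtain ⟨σ, rfl⟩ := (rho_bijective (P := P) N j).2 x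
    obtain ⟨σ', rfl⟩ := (rho_bijective (P := P) N j).2 x'
    rw [← rho_comp, ← rho_comp] at hx
    have := (rho_bijective (P := P) N' j).1 hx
    rw [h.1 this]
  · intro y
    obtain ⟨τ, rfl⟩ := (rho_bijective (P := P) N' j).2 y
    obtain ⟨σ, hσ⟩ := h.2 τ
    dsimp only at hσ
    exact ⟨rho σ, by dsimp only; rw [← rho_comp, hσ]⟩

end Groth.Agent.H1.ProjHom
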