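import Groth.Agent.Lib.Helper1.CptB
import Groth.Agent.Lib.Helper1.TorsColim
import Groth.Agent.Lib.Helper1.Efface
import Groth.Agent.Lib.Helper1.EtStalkPull
import Groth.Agent.S0127

/-!
# Pullback along a surjective morphism is conservative; descent of constructibility (helper1)
-/

set_option autoImplicit false
universe u
open CategoryTheory CategoryTheory.Limits AlgebraicGeometry Opposite

namespace Groth.Agent.H1.PullConserv

open Groth.Agent.H1.ExtZero Groth.Agent.H1.ConstrGen Groth.Agent.H1.EtStalk Groth.Agent.H1.EtGerm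
  Groth.Agent.H1.TorsColim Groth.Agent.Lib.helper21.Constr Groth.Agent.H1.EtStalkPull

/-- vanishing of a stalk only depends on the underlying point of the geometric point -/
theorem isZero_stalk_indep {Y : Scheme.{u}} (Q : EtCoh.Ab Y)
    {Ω₀ : Type u} [Field Ω₀] [IsSepClosed Ω₀] (ξ₀ : Spec (CommRingCat.of Ω₀) ⟶ Y)
    (h₀ : IsZero ((EtCoh.stalk ξ₀).obj Q))
    {Ω : Type u} [Field Ω] [IsSepClosed Ω] (ξ : Spec (CommRingCat.of Ω) ⟶ Y)
    (hξ : ξ.base default = ξ₀.base default) : IsZero ((EtCoh.stalk ξ).obj Q) := by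
  have hsub : Subsingleton ((EtCoh.stalk ξ).obj Q) := by
    refine ⟨fun a b => ?_⟩
    suffices h : ∀ p : (EtCoh.stalk ξ).obj Q, p = 0 by rw [h a, h b]
    intro p
    obtain ⟨V, v, s, rfl⟩ := germ_surjective Q p
    -- lift ξ₀ to V through the same point
    let t : V ⟶ EtCoh.top Y := (EtCore.topIsTerminal Y).from V
    have ht : t.left = V.hom :=
      (Category.comp_id t.left).symm.trans (MorphismProperty.Over.w t)
    let x₀ : Lift ξ₀ (EtCoh.top Y) := Lift.mk ξ₀ ξ₀ (Category.comp_id _)
    have hv : t.left.base (v.hom.base default) = x₀.hom.base default := by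
      rw [ht]
      change (v.hom ≫ V.hom).base default = ξ₀.base default
      rw [v.hom_comp]
      exact hξ
    obtain ⟨v₀, -, hv₀⟩ := exists_lift_of_point t x₀ (v.hom.base default) hv
    have hz : germ ξ₀ Q V v₀ s = 0 :=
      (AddCommGrpCat.subsingleton_of_isZero h₀).elim _ _
    obtain ⟨V', g, v₀', hmap, hs⟩ := (germ_eq_zero_iff Q V v₀ s).1 hz
    have hg : g.left.base (v₀'.hom.base default) = v.hom.base default := by
      rw [← hv₀, ← hmap, Lift.map_hom]
      rfl
    obtain ⟨v', hv', -⟩ := exists_lift_of_point g v (v₀'.hom.base default) hg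
    rw [← hv', ← germ_res, hs, map_zero]
  exact AddCommGrpCat.isZero_of_subsingleton _

variable {X Y : Scheme.{u}} (f : X ⟶ Y) [Surjective f] [EtCoh.BCCont f]

/-- pullback along a surjective morphism detects zero objects -/
theorem isZero_of_isZero_pull (Q : EtCoh.Ab Y) (h : IsZero ((EtCoh.pull f).obj Q)) : IsZero Q := by
  apply isZero_of_stalk
  intro y
  obtain ⟨x, rfl⟩ := f.surjective y
  have h1 : IsZero ((EtCoh.stalk (geomPt X x)).obj ((EtCoh.pull f).obj Q)) :=
    Functor.map_isZero _ h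
  have h2 : IsZero ((EtCoh.stalk (geomPt X x ≫ f)).obj Q) :=
    h1.of_iso ((stalkPullIso f (geomPt X x)).app Q).symm
  refine isZero_stalk_indep Q (geomPt X x ≫ f) h2 _ ?_
  rw [geomPt_default]
  change f.base x = f.base ((geomPt X x).base default)
  rw [geomPt_default]

theorem epi_of_epi_pull {F G : EtCoh.Ab Y} (a : F ⟶ G) [Epi ((EtCoh.pull f).map a)] : Epi a := by
  have h1 : IsZero (cokernel ((EtCoh.pull f).map a)) := isZero_cokernel_of_epi _
  have h2 : IsZero ((EtCoh.pull f).obj (cokernel a)) :=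
    h1.of_iso (PreservesCokernel.iso (EtCoh.pull f) a)
  have h3 := isZero_of_isZero_pull f _ h2
  exact Abelian.epi_of_cokernel_π_eq_zero _ (h3.eq_of_tgt _ _)

theorem eq_zero_of_pull_eq_zero {F G : EtCoh.Ab Y} (a : F ⟶ G)
    (h : (EtCoh.pull f).map a = 0) : a = 0 := by
  -- `kernel.ι a` is an epimorphism
  have h1 : IsIso ((EtCoh.pull f).map (kernel.ι a)) := by
    have e : (EtCoh.pull f).map (kernel.ι a) =
        (PreservesKernel.iso (EtCoh.pull f) a).hom ≫ kernel.ι ((EtCoh.pull f).map a) := by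
      simp
    rw [e]
    have hk : ∀ {A B : EtCoh.Ab X} (b : A ⟶ B), b = 0 → IsIso (kernel.ι b) := by
      rintro A B b rfl
      infer_instance
    haveI : IsIso (kernel.ι ((EtCoh.pull f).map a)) := hk _ h
    infer_instance
  haveI : Epi ((EtCoh.pull f).map (kernel.ι a)) := inferInstance
  haveI := epi_of_epi_pull f (kernel.ι a)
  rw [← cancel_epi (kernel.ι a), kernel.condition, comp_zero]

section Descent

variable [CompactSpace X] [QuasiSeparatedSpace X] [CompactSpace Y] [QuasiSeparatedSpace Y]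

open Groth.Agent.H1.Efface

/-- a torsion sheaf whose pullback is constructible is a quotient of a constructible sheaf -/
theorem exists_epi_of_pull_constructible (T : EtCoh.Ab Y) (hT : EtCoh.IsTorsion T)
    (hc : EtPBC.IsConstructible ((EtCoh.pull f).obj T)) : ∃ j : JObj T, Epi j.m := by
  haveI := isIso_ρ T hT
  have hcpt := Groth.Agent.H1.CptG.isCptG_of_isConstructible.{u + 1, u + 1} _ hc
  haveI : PreservesColimitsOfSize.{u + 1, u + 1} (EtCoh.pull f) :=
    (EtCoh.pullPushAdj f).leftAdjoint_preservesColimits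
  have hcol : IsColimit ((EtCoh.pull f).mapCocone (colimit.cocone (D T))) :=
    isColimitOfPreserves _ (colimit.isColimit _)
  obtain ⟨j, ψ', hψ'⟩ := hcpt.surj (D T ⋙ EtCoh.pull f) _ hcol ((EtCoh.pull f).map (inv (ρ T)))
  refine ⟨j, ?_⟩
  have hψ'' : ψ' ≫ (EtCoh.pull f).map (colimit.ι (D T) j) = (EtCoh.pull f).map (inv (ρ T)) := hψ'
  have h1 : ψ' ≫ (EtCoh.pull f).map j.m = 𝟙 _ := by
    rw [← ι_ρ T j, CategoryTheory.Functor.map_comp, ← Category.assoc, hψ'',
      ← CategoryTheory.Functor.map_comp, IsIso.inv_hom_id, CategoryTheory.Functor.map_id]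
  haveI : Epi ((EtCoh.pull f).map j.m) := (SplitEpi.mk ψ' h1).epi
  exact epi_of_epi_pull f j.m

/-- **descent of constructibility along a surjective morphism** -/
theorem isConstructible_of_pull (F : EtCoh.Ab Y)
    (hc : EtPBC.IsConstructible ((EtCoh.pull f).obj F)) : EtPBC.IsConstructible F := by
  obtain ⟨N, hN, hk⟩ := exists_killedBy _ hc
  have h0 : N • 𝟙 F = 0 := by
    apply eq_zero_of_pull_eq_zero f
    rw [Functor.map_nsmul, CategoryTheory.Functor.map_id]
    exact smul_id_of_killedBy N hk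
  have hFN : EtCoh.KilledBy N F := killedBy_of_smul_id N h0
  have hFt := isTorsion_of_killedBy N hN hFN
  obtain ⟨j, hj⟩ := exists_epi_of_pull_constructible f F hFt hc
  obtain ⟨N', hN', hk'⟩ := exists_killedBy j.i.G j.hc
  have hKt : EtCoh.IsTorsion (kernel j.m) :=
    isTorsion_of_killedBy N' hN' (killedBy_of_mono (kernel.ι j.m) N' hk')
  have hKc : EtPBC.IsConstructible ((EtCoh.pull f).obj (kernel j.m)) :=
    isConstructible_of_iso (PreservesKernel.iso (EtCoh.pull f) j.m).symm
      (constr_kernel_cokernel ((EtCoh.pull f).map j.m)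
        (Groth.Agent.S0127.result f j.i.G j.hc) hc).1
  obtain ⟨l, hl⟩ := exists_epi_of_pull_constructible f (kernel j.m) hKt hKc
  have e1 : cokernel (l.m ≫ kernel.ι j.m) ≅ cokernel (kernel.ι j.m) :=
    cokernelEpiComp l.m (kernel.ι j.m)
  have e2 : cokernel (kernel.ι j.m) ≅ F :=
    (cokernelIsCokernel (kernel.ι j.m)).coconePointUniqueUpToIso
      (Abelian.epiIsCokernelOfKernel _ (limit.isLimit (parallelPair j.m 0)))
  exact isConstructible_of_iso (e1 ≪≫ e2) (constr_kernel_cokernel _ l.hc j.hc).2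

end Descent

end Groth.Agent.H1.PullConserv
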