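import Groth.Agent.Lib.Helper3.LanFlat
import Groth.Prelude.Def_SGA4b

set_option autoImplicit false
open CategoryTheory CategoryTheory.Limits AlgebraicGeometry Opposite
universe u

namespace Groth.Agent.H1.PullShExact

instance hasColimitsOfShape_costructuredArrow {X Y : Scheme.{u}} (f : X ⟶ Y) (K : (X.Etale)ᵒᵖ) :
    HasColimitsOfShape (CostructuredArrow (EtCoh.bc f).op K) (Type (u + 1)) := by
  have : HasColimitsOfSize.{u, u + 1} (Type (u + 1)) :=
    hasColimitsOfSizeShrink.{u, u + 1, u + 1, u + 1} _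
  infer_instance

/-- pullback of etale sheaves of sets is left exact -/
instance pullSh_preservesFiniteLimits {X Y : Scheme.{u}} (f : X ⟶ Y) :
    PreservesFiniteLimits (EtDesc.pullSh f) := by
  have hfilt : ∀ K : (X.Etale)ᵒᵖ, IsFiltered (CostructuredArrow (EtCoh.bc f).op K) := fun K ↦
    IsFiltered.of_equivalence (structuredArrowOpEquivalence (EtCoh.bc f) (unop K))
  have hcolim : ∀ K : (X.Etale)ᵒᵖ, PreservesFiniteLimits
      (colim : (CostructuredArrow (EtCoh.bc f).op K ⥤ Type (u + 1)) ⥤ _) := by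
    intro K
    have := hfilt K
    infer_instance
  have hlan : PreservesFiniteLimits ((EtCoh.bc f).op.lan :
      ((Y.Etale)ᵒᵖ ⥤ Type (u + 1)) ⥤ (X.Etale)ᵒᵖ ⥤ Type (u + 1)) :=
    Groth.Agent.Lib.helper3.lan_preservesFiniteLimits_of_flat_gen _ (EtCoh.bc f)
  exact Functor.sheafPullbackConstruction.preservesFiniteLimits (EtCoh.bc f)
    (Type (u + 1)) Y.smallEtaleTopology X.smallEtaleTopology

end Groth.Agent.H1.PullShExact
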