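import Mathlib
import Groth.Prelude.Def_ModSite
import Groth.Agent.Lib.Helper1.FreeOnLoc
import Groth.Agent.Lib.Helper1.SingleHom

/-!
Helper library (helper1): sections of a direct image `f_* M` on a ringed site versus sections of
`M` (`tr`), a section-wise exactness criterion, and boundaries in K-injective complexes.
-/

set_option autoImplicit false
universe w v' u' u
open CategoryTheory CategoryTheory.Limits Opposite DerivedCategory

namespace Groth.Agent.H1.PushLoc

open Groth.Agent.H1.FreeOnLoc Groth.Agent.H1.SingleHom Groth.Agent.Lib.Helper21.ModFree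

section tr

variable {C : Type u} [SmallCategory C] {J : GrothendieckTopology C} {O_C : Sheaf J CommRingCat.{u}}
  {D : Type u} [SmallCategory D] {K : GrothendieckTopology D} {O_D : Sheaf K CommRingCat.{u}}
  (f : ModSite.RMor O_C O_D)

/-- sections of the direct image -/
def pushSect (X : D) (M : ModSite.Mod O_C) :
    (f.push.obj M).val.obj (op X) ≃ M.val.obj (op (f.fn.obj X)) := Equiv.refl _

lemma pushSect_nat (X : D) {M N : ModSite.Mod O_C} (g : M ⟶ N)
    (t : (f.push.obj M).val.obj (op X)) :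
    pushSect f X N ((f.push.map g).val.app (op X) t) =
      g.val.app (op (f.fn.obj X)) (pushSect f X M t) :=
  rfl

lemma pushSect_map {X Y : D} (g : Y ⟶ X) (M : ModSite.Mod O_C)
    (t : (f.push.obj M).val.obj (op X)) :
    pushSect f Y M ((f.push.obj M).val.map g.op t) =
      M.val.map (f.fn.map g).op (pushSect f X M t) :=
  rfl

/-- maps `freeOn V ⟶ f_* M` are maps `freeOn (u V) ⟶ M` -/
noncomputable def tr (V : D) (M : ModSite.Mod O_C) :
    (ModSite.freeOn O_D V ⟶ f.push.obj M) ≃ (ModSite.freeOn O_C (f.fn.obj V) ⟶ M) :=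
  (freeOnHomEquiv O_D V (f.push.obj M)).trans
    ((pushSect f V M).trans (freeOnHomEquiv O_C (f.fn.obj V) M).symm)

lemma freeOnHomEquiv_symm_comp (X : C) {M N : ModSite.Mod O_C} (t : M.val.obj (op X))
    (g : M ⟶ N) :
    (freeOnHomEquiv O_C X M).symm t ≫ g =
      (freeOnHomEquiv O_C X N).symm (g.val.app (op X) t) := by
  apply (freeOnHomEquiv O_C X N).injective
  rw [freeOnHomEquiv_comp, Equiv.apply_symm_apply, Equiv.apply_symm_apply]

lemma tr_comp (V : D) {M N : ModSite.Mod O_C} (s : ModSite.freeOn O_D V ⟶ f.push.obj M)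
    (φ : M ⟶ N) : tr f V N (s ≫ f.push.map φ) = tr f V M s ≫ φ := by
  simp only [tr, Equiv.trans_apply]
  rw [freeOnHomEquiv_comp, pushSect_nat, freeOnHomEquiv_symm_comp]

lemma tr_fmap {V V' : D} (g : V' ⟶ V) (M : ModSite.Mod O_C)
    (s : ModSite.freeOn O_D V ⟶ f.push.obj M) :
    tr f V' M (fmap O_D g ≫ s) = fmap O_C (f.fn.map g) ≫ tr f V M s := by
  simp only [tr, Equiv.trans_apply]
  apply (freeOnHomEquiv O_C (f.fn.obj V') M).injective
  rw [Equiv.apply_symm_apply, freeOnHomEquiv_fmap_comp, freeOnHomEquiv_fmap_comp,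
    Equiv.apply_symm_apply, pushSect_map]

lemma tr_zero (V : D) (M : ModSite.Mod O_C) : tr f V M 0 = 0 := by
  have h := tr_comp f V (0 : ModSite.freeOn O_D V ⟶ f.push.obj M) (0 : M ⟶ M)
  rw [comp_zero] at h
  have h2 : (0 : ModSite.freeOn O_D V ⟶ f.push.obj M) ≫ f.push.map (0 : M ⟶ M) = 0 := zero_comp
  rw [h2] at h
  exact h

lemma tr_symm_comp (V : D) {M N : ModSite.Mod O_C} (s : ModSite.freeOn O_C (f.fn.obj V) ⟶ M)
    (φ : M ⟶ N) : (tr f V N).symm (s ≫ φ) = (tr f V M).symm s ≫ f.push.map φ := by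
  apply (tr f V N).injective
  rw [Equiv.apply_symm_apply, tr_comp, Equiv.apply_symm_apply]

lemma tr_symm_fmap {V V' : D} (g : V' ⟶ V) (M : ModSite.Mod O_C)
    (s : ModSite.freeOn O_C (f.fn.obj V) ⟶ M) :
    (tr f V' M).symm (fmap O_C (f.fn.map g) ≫ s) = fmap O_D g ≫ (tr f V M).symm s := by
  apply (tr f V' M).injective
  rw [Equiv.apply_symm_apply, tr_fmap, Equiv.apply_symm_apply]

end tr

section exact

variable {C : Type u} [SmallCategory C] {J : GrothendieckTopology C} (O : Sheaf J CommRingCat.{u})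

/-- a short complex of modules is exact if cycles are locally boundaries, section-wise -/
lemma exact_of_local_sections (S : ShortComplex (ModSite.Mod O))
    (h : ∀ (X : C) (s : ModSite.freeOn O X ⟶ S.X₂), s ≫ S.g = 0 →
      ∃ T ∈ J X, ∀ ⦃Y : C⦄ (g : Y ⟶ X), T g →
        ∃ s' : ModSite.freeOn O Y ⟶ S.X₁, s' ≫ S.f = fmap O g ≫ s) : S.Exact := by
  rw [S.exact_iff_epi_kernel_lift]
  apply epi_of_local_sections O
  intro X t
  obtain ⟨T, hT, hl⟩ := h X (t ≫ kernel.ι S.g) (by rw [Category.assoc, kernel.condition, comp_zero])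
  refine ⟨T, hT, fun Y g hg => ?_⟩
  obtain ⟨s', hs'⟩ := hl g hg
  refine ⟨s', ?_⟩
  rw [← cancel_mono (kernel.ι S.g), Category.assoc, kernel.lift_ι, hs', Category.assoc]

/-- in an exact short complex of modules, cycles are locally boundaries, section-wise -/
lemma exists_local_lift_of_exact (S : ShortComplex (ModSite.Mod O)) (hS : S.Exact) {X : C}
    (s : ModSite.freeOn O X ⟶ S.X₂) (hs : s ≫ S.g = 0) :
    ∃ T ∈ J X, ∀ ⦃Y : C⦄ (g : Y ⟶ X), T g →
      ∃ s' : ModSite.freeOn O Y ⟶ S.X₁, s' ≫ S.f = fmap O g ≫ s := by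
  have hepi : Epi (kernel.lift S.g S.f S.zero) := (S.exact_iff_epi_kernel_lift).1 hS
  obtain ⟨T, hT, hl⟩ := exists_local_lift O (kernel.lift S.g S.f S.zero) (kernel.lift S.g s hs)
  refine ⟨T, hT, fun Y g hg => ?_⟩
  obtain ⟨s', hs'⟩ := hl g hg
  refine ⟨s', ?_⟩
  have := hs' =≫ kernel.ι S.g
  simpa using this

end exact

section kinj

variable {𝒜 : Type u'} [Category.{v'} 𝒜] [Abelian 𝒜] [HasDerivedCategory.{w} 𝒜]

/-- in a K-injective complex, a cycle whose class in `D` vanishes is a boundary -/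
lemma exists_boundary_of_sig_eq_zero {P : 𝒜} (E : CochainComplex 𝒜 ℤ) [E.IsKInjective]
    (i j : ℤ) (hij : i + 1 = j) (z : P ⟶ E.cycles j) (hz : sig E j z = 0) :
    ∃ y : P ⟶ E.X i, y ≫ E.toCycles i j = z := by
  have h1 : Q.map (cyc E j z) = 0 := by
    unfold sig at hz
    rw [← cancel_epi (eP P j).hom, hz, comp_zero]
  have h2 : (HomotopyCategory.quotient 𝒜 (ComplexShape.up ℤ)).map (cyc E j z) = 0 := by
    apply (CochainComplex.IsKInjective.Qh_map_bijective _ E).1
    rw [Functor.map_zero]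
    have h3 : Qh.map ((HomotopyCategory.quotient 𝒜 (ComplexShape.up ℤ)).map (cyc E j z)) =
        (quotientCompQhIso 𝒜).hom.app _ ≫ Q.map (cyc E j z) ≫ (quotientCompQhIso 𝒜).inv.app _ := by
      have := (quotientCompQhIso 𝒜).hom.naturality (cyc E j z)
      simp only [Functor.comp_map] at this
      rw [← Category.assoc, ← this, Category.assoc, Iso.hom_inv_id_app, Category.comp_id]
    rw [h3, h1, zero_comp, comp_zero]
  have h : Homotopy (cyc E j z) 0 := HomotopyCategory.homotopyOfEq _ _ (by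
    rw [h2, Functor.map_zero])
  refine ⟨(HomologicalComplex.singleObjXSelf (ComplexShape.up ℤ) j P).inv ≫ h.hom j i, ?_⟩
  rw [← cancel_mono (E.iCycles j), Category.assoc, HomologicalComplex.toCycles_i]
  have hc := h.comm j
  have hrel : (ComplexShape.up ℤ).Rel i j := hij
  rw [prevD_eq _ hrel, dNext_eq _ (show (ComplexShape.up ℤ).Rel j (j + 1) from rfl)] at hc
  unfold cyc at hc
  rw [HomologicalComplex.mkHomFromSingle_f] at hc
  simp only [HomologicalComplex.single_obj_d, zero_comp, zero_add, HomologicalComplex.zero_f,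
    add_zero] at hc
  rw [Category.assoc, ← hc, Iso.inv_hom_id_assoc]

end kinj

end Groth.Agent.H1.PushLoc
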