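import Groth.Agent.Lib.Helper1.PushLocA
import Groth.Agent.Lib.Helper1.HjSite
import Groth.Agent.Lib.Helper1.SingleVanish

/-!
Helper library (helper1): classes over `u V` (for a morphism of ringed sites with underlying
functor `u : D ⥤ C`) which vanish locally on `V`; dévissage.
-/

set_option autoImplicit false
set_option linter.unusedSectionVars false
universe w u
open CategoryTheory CategoryTheory.Limits Opposite DerivedCategory Pretriangulated

namespace Groth.Agent.H1.PushLoc

open Groth.Agent.H1.FreeOnLoc Groth.Agent.H1.SingleHom Groth.Agent.H1.HjSite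
  Groth.Agent.H1.TruncCoh Groth.Agent.H1.WSerreTri Groth.Agent.H1.WayOutCoh
  Groth.Agent.H1.SingleVanish

variable {C : Type u} [SmallCategory C] {J : GrothendieckTopology C} {O_C : Sheaf J CommRingCat.{u}}
  {D : Type u} [SmallCategory D] {K : GrothendieckTopology D} {O_D : Sheaf K CommRingCat.{u}}
  (f : ModSite.RMor O_C O_D) [HasDerivedCategory.{w} (ModSite.Mod O_C)]

omit [HasDerivedCategory.{w} (ModSite.Mod O_C)] in
lemma res_comp' (O : Sheaf J CommRingCat.{u}) [HasDerivedCategory.{w} (ModSite.Mod O)]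
    {X Y Z : C} (g : Z ⟶ Y) (h : Y ⟶ X) (j : ℤ) :
    res O (g ≫ h) j = res O g j ≫ res O h j := by
  unfold res
  rw [fmap_comp, Functor.map_comp]

/-- a class over `u V` vanishes locally on `V` -/
def LocZero {V : D} {j : ℤ} {M : DerivedCategory (ModSite.Mod O_C)}
    (c : Xj O_C (f.fn.obj V) j ⟶ M) : Prop :=
  ∃ S ∈ K V, ∀ ⦃V' : D⦄ (g : V' ⟶ V), S g → res O_C (f.fn.map g) j ≫ c = 0

variable {f}

lemma locZero_zero {V : D} {j : ℤ} {M : DerivedCategory (ModSite.Mod O_C)} :
    LocZero f (0 : Xj O_C (f.fn.obj V) j ⟶ M) :=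
  ⟨⊤, K.top_mem V, fun _ _ _ => comp_zero⟩

lemma LocZero.comp {V : D} {j : ℤ} {M M' : DerivedCategory (ModSite.Mod O_C)}
    {c : Xj O_C (f.fn.obj V) j ⟶ M} (h : LocZero f c) (φ : M ⟶ M') : LocZero f (c ≫ φ) := by
  obtain ⟨S, hS, hl⟩ := h
  refine ⟨S, hS, fun V' g hg => ?_⟩
  rw [← Category.assoc, hl g hg, zero_comp]

lemma LocZero.res {V V' : D} {j : ℤ} {M : DerivedCategory (ModSite.Mod O_C)}
    {c : Xj O_C (f.fn.obj V) j ⟶ M} (h : LocZero f c) (g : V' ⟶ V) :
    LocZero f (res O_C (f.fn.map g) j ≫ c) := by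
  obtain ⟨S, hS, hl⟩ := h
  refine ⟨S.pullback g, K.pullback_stable g hS, fun V'' a ha => ?_⟩
  rw [← Category.assoc, ← res_comp', ← Functor.map_comp]
  exact hl (a ≫ g) ha

lemma locZero_of_local {V : D} {j : ℤ} {M : DerivedCategory (ModSite.Mod O_C)}
    (c : Xj O_C (f.fn.obj V) j ⟶ M) (S : Sieve V) (hS : S ∈ K V)
    (h : ∀ ⦃V' : D⦄ (g : V' ⟶ V), S g → LocZero f (res O_C (f.fn.map g) j ≫ c)) :
    LocZero f c := by
  let R : Sieve V :=
    { arrows := fun V' g => HjSite.res O_C (f.fn.map g) j ≫ c = 0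
      downward_closed := by
        intro Y Z g hg a
        show HjSite.res O_C (f.fn.map (a ≫ g)) j ≫ c = 0
        rw [Functor.map_comp, res_comp', Category.assoc, hg, comp_zero] }
  refine ⟨R, K.transitive hS R (fun V' g hg => ?_), fun V' g hg => hg⟩
  obtain ⟨S', hS', hl⟩ := h g hg
  refine K.superset_covering ?_ hS'
  intro V'' a ha
  show HjSite.res O_C (f.fn.map (a ≫ g)) j ≫ c = 0
  rw [Functor.map_comp, res_comp', Category.assoc]
  exact hl a ha

/-- dévissage along a distinguished triangle -/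
lemma locZero_of_triangle (T : Triangle (DerivedCategory (ModSite.Mod O_C)))
    (hT : T ∈ distTriang _) {V : D} {j : ℤ} (c : Xj O_C (f.fn.obj V) j ⟶ T.obj₂)
    (h3 : LocZero f (c ≫ T.mor₂))
    (h1 : ∀ (V' : D) (c₁ : Xj O_C (f.fn.obj V') j ⟶ T.obj₁), LocZero f c₁) : LocZero f c := by
  obtain ⟨S, hS, hl⟩ := h3
  refine locZero_of_local c S hS (fun V' g hg => ?_)
  have h0 : (HjSite.res O_C (f.fn.map g) j ≫ c) ≫ T.mor₂ = 0 := by
    rw [Category.assoc]; exact hl g hg
  obtain ⟨c₁, hc₁⟩ := Triangle.coyoneda_exact₂ T hT _ h0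
  rw [hc₁]
  exact (h1 V' c₁).comp _

section devissage

variable {A : ObjectProperty (ModSite.Mod O_C)} [WSerre.IsWeakSerre A] {N : ℤ}

/-- dévissage: local vanishing on bounded objects from local vanishing on single sheaves -/
lemma locZero_of_bounded
    (hloc : ∀ F : ModSite.Mod O_C, A F → ∀ j b : ℤ, b + N < j → ∀ (V : D)
      (c : Xj O_C (f.fn.obj V) j ⟶ (singleFunctor (ModSite.Mod O_C) b).obj F), LocZero f c) :
    ∀ (n : ℕ) (b : ℤ) (M : DerivedCategory (ModSite.Mod O_C)), WSerre.cohIn A M →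
      M.IsGE (b - n + 1) → M.IsLE b → ∀ j : ℤ, b + N < j → ∀ (V : D)
      (c : Xj O_C (f.fn.obj V) j ⟶ M), LocZero f c := by
  intro n
  induction n with
  | zero =>
    intro b M _ hGE hLE j _ V c
    have : M.IsGE (b + 1) := by simpa using hGE
    have hc : c = 0 := (TStructure.t.isZero M b (b + 1)).eq_of_tgt _ _
    rw [hc]; exact locZero_zero
  | succ n ih =>
    intro b M hM hGE hLE j hj V c
    let t : Triangulated.TStructure (DerivedCategory (ModSite.Mod O_C)) := TStructure.t
    let T := (t.triangleLEGE (b - 1) b (by omega)).obj M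
    have hT : T ∈ distTriang _ := t.triangleLEGE_distinguished (b - 1) b (by omega) M
    have hGE' : M.IsGE (b - n) := by
      have e : b - ((n + 1 : ℕ) : ℤ) + 1 = b - n := by push_cast; ring
      rwa [e] at hGE
    have h3 : ∀ (V' : D) (c₃ : Xj O_C (f.fn.obj V') j ⟶ T.obj₃), LocZero f c₃ := by
      intro V' c₃
      have g1 : T.obj₃.IsGE b := by
        change t.IsGE ((t.truncGE b).obj M) b
        infer_instance
      have g2 : T.obj₃.IsLE b := by
        change t.IsLE ((t.truncGE b).obj M) b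
        infer_instance
      obtain ⟨Y, ⟨e⟩⟩ := exists_iso_singleFunctor_obj_of_isGE_of_isLE T.obj₃ b
      have hY : A Y := by
        have h1 : A ((homologyFunctor (ModSite.Mod O_C) b).obj T.obj₃) := cohIn_truncGE A M hM b b
        exact A.prop_of_iso ((homologyFunctor (ModSite.Mod O_C) b).mapIso e ≪≫
          (singleFunctorCompHomologyFunctorIso (ModSite.Mod O_C) b).app Y) h1
      have h := (hloc Y hY j b hj V' (c₃ ≫ e.hom)).comp e.inv
      simpa using h
    have h1 : ∀ (V' : D) (c₁ : Xj O_C (f.fn.obj V') j ⟶ T.obj₁), LocZero f c₁ := by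
      intro V' c₁
      have g1 : T.obj₁.IsLE (b - 1) := by
        change t.IsLE ((t.truncLE (b - 1)).obj M) (b - 1)
        infer_instance
      have g2 : T.obj₁.IsGE (b - 1 - n + 1) := by
        have e : b - 1 - (n : ℤ) + 1 = b - n := by ring
        rw [e]
        change t.IsGE ((t.truncLE (b - 1)).obj M) (b - n)
        infer_instance
      exact ih (b - 1) T.obj₁ (cohIn_truncLE A M hM (b - 1)) g2 g1 j (by omega) V' c₁
    have hc : c = c ≫ 𝟙 _ := (Category.comp_id c).symm
    exact locZero_of_triangle T hT c (h3 V _) h1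

end devissage

end Groth.Agent.H1.PushLoc
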