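import Groth.Agent.Lib.Helper1.PushLocB
import Groth.Agent.Lib.Helper21.ModGroth

/-!
Helper library (helper1): if `R^p f_* F = 0` then classes in `Ext^p(freeOn (u V), F)` vanish
locally on `V`.
-/

set_option autoImplicit false
set_option linter.unusedSectionVars false
universe w u
open CategoryTheory CategoryTheory.Limits Opposite DerivedCategory Pretriangulated

namespace Groth.Agent.H1.PushLoc

open Groth.Agent.H1.FreeOnLoc Groth.Agent.H1.SingleHom Groth.Agent.H1.HjSite

variable {C : Type u} [SmallCategory C] {J : GrothendieckTopology C} {O_C : Sheaf J CommRingCat.{u}}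
  {D : Type u} [SmallCategory D] {K : GrothendieckTopology D} {O_D : Sheaf K CommRingCat.{u}}
  (f : ModSite.RMor O_C O_D)

lemma tr_symm_zero (V : D) (M : ModSite.Mod O_C) : (tr f V M).symm 0 = 0 := by
  apply (tr f V M).injective
  rw [Equiv.apply_symm_apply, tr_zero]

variable [HasInjectiveResolutions (ModSite.Mod O_C)]

/-- `Ext`-level local vanishing -/
lemma ext_locZero [HasExt.{u} (ModSite.Mod O_C)] (F : ModSite.Mod O_C) (p : ℕ)
    (hF : IsZero ((f.Rpush p).obj F)) (V : D)
    (α : Abelian.Ext.{u} (ModSite.freeOn O_C (f.fn.obj V)) F p) :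
    ∃ S ∈ K V, ∀ ⦃V' : D⦄ (g : V' ⟶ V), S g →
      (Abelian.Ext.mk₀ (fmap O_C (f.fn.map g))).comp α (zero_add p) = 0 := by
  obtain ⟨R⟩ := (HasInjectiveResolution.out : Nonempty (InjectiveResolution F))
  have hex : ((f.push.mapHomologicalComplex (ComplexShape.up ℕ)).obj R.cocomplex).ExactAt p := by
    rw [HomologicalComplex.exactAt_iff_isZero_homology]
    exact hF.of_iso (R.isoRightDerivedObj f.push p).symm
  obtain ⟨z, hz, rfl⟩ := R.extMk_surjective α (p + 1) rfl
  have hs : (tr f V _).symm z ≫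
      ((f.push.mapHomologicalComplex (ComplexShape.up ℕ)).obj R.cocomplex).d p (p + 1) = 0 := by
    have h : (tr f V _).symm z ≫ f.push.map (R.cocomplex.d p (p + 1)) = 0 := by
      rw [← tr_symm_comp, hz, tr_symm_zero]
    exact h
  cases p with
  | zero =>
    rw [HomologicalComplex.exactAt_iff' _ 0 0 1 CochainComplex.prev_nat_zero
      ((ComplexShape.up ℕ).next_eq' rfl)] at hex
    obtain ⟨T, hT, hl⟩ := exists_local_lift_of_exact O_D _ hex ((tr f V _).symm z) hs
    refine ⟨T, hT, fun V' g hg => ?_⟩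
    obtain ⟨s', hs'⟩ := hl g hg
    have h0 : fmap O_C (f.fn.map g) ≫ z = 0 := by
      have h1 : ((f.push.mapHomologicalComplex (ComplexShape.up ℕ)).obj R.cocomplex).d 0 0 = 0 :=
        HomologicalComplex.shape _ _ _ (by simp)
      have hs'' : (0 : ModSite.freeOn O_D V' ⟶ f.push.obj (R.cocomplex.X 0)) =
          fmap O_D g ≫ (tr f V (R.cocomplex.X 0)).symm z := by
        refine Eq.trans ?_ hs'
        change _ = s' ≫ ((f.push.mapHomologicalComplex (ComplexShape.up ℕ)).obj R.cocomplex).d 0 0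
        rw [h1]
        exact comp_zero.symm
      have h2 := congrArg (tr f V' (R.cocomplex.X 0)) hs''
      rw [tr_zero, tr_fmap, Equiv.apply_symm_apply] at h2
      exact h2.symm
    rw [R.mk₀_comp_extMk]
    have h3 : R.extMk (fmap O_C (f.fn.map g) ≫ z) 1 rfl (by rw [Category.assoc, hz, comp_zero]) =
        R.extMk 0 1 rfl (by simp) := by
      congr 1
    rw [h3, R.extMk_zero]
  | succ q =>
    rw [HomologicalComplex.exactAt_iff' _ q (q + 1) (q + 1 + 1) (CochainComplex.prev_nat_succ q)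
      ((ComplexShape.up ℕ).next_eq' rfl)] at hex
    obtain ⟨T, hT, hl⟩ := exists_local_lift_of_exact O_D _ hex ((tr f V _).symm z) hs
    refine ⟨T, hT, fun V' g hg => ?_⟩
    obtain ⟨s', hs'⟩ := hl g hg
    rw [R.mk₀_comp_extMk]
    rw [R.extMk_eq_zero_iff _ _ rfl _ q rfl]
    have hs'' : (show ModSite.freeOn O_D V' ⟶ f.push.obj (R.cocomplex.X q) from s') ≫
        f.push.map (R.cocomplex.d q (q + 1)) =
          fmap O_D g ≫ (tr f V (R.cocomplex.X (q + 1))).symm z := hs'
    refine ⟨tr f V' (R.cocomplex.X q) s', ?_⟩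
    have h2 := congrArg (tr f V' (R.cocomplex.X (q + 1))) hs''
    rw [tr_fmap, Equiv.apply_symm_apply, tr_comp] at h2
    exact h2

variable [HasDerivedCategory.{w} (ModSite.Mod O_C)]

/-- local vanishing for a single sheaf with `R^p f_* F = 0` -/
theorem locZero_single (F : ModSite.Mod O_C) (p : ℕ) (hF : IsZero ((f.Rpush p).obj F))
    (j b : ℤ) (hjb : j - b = p) (V : D)
    (c : Xj O_C (f.fn.obj V) j ⟶ (singleFunctor (ModSite.Mod O_C) b).obj F) : LocZero f c := by
  have := Groth.Agent.Lib.Helper21.ModGroth.isGrothendieckAbelian_mod (ModSite.ringSh O_C)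
  let SF := singleFunctors (ModSite.Mod O_C)
  let i₁ := SF.shiftIso j 0 j (add_zero j)
  let i₂ := (SF.shiftIso j (-(p : ℤ)) b (by omega)).app F
  let i₃ := (SF.shiftIso (p : ℤ) (-(p : ℤ)) 0 (by omega)).app F
  -- the transport of a class to a shifted hom
  let τ : ∀ {P : ModSite.Mod O_C}, ((singleFunctor (ModSite.Mod O_C) j).obj P ⟶
      (singleFunctor (ModSite.Mod O_C) b).obj F) →
      ((singleFunctor (ModSite.Mod O_C) 0).obj P ⟶
        ((singleFunctor (ModSite.Mod O_C) 0).obj F)⟦(p : ℤ)⟧) :=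
    fun {P} c => i₁.inv.app P ≫ c⟦j⟧' ≫ i₂.hom ≫ i₃.inv
  have hτ_nat : ∀ {P P' : ModSite.Mod O_C} (q : P' ⟶ P)
      (c : (singleFunctor (ModSite.Mod O_C) j).obj P ⟶ (singleFunctor (ModSite.Mod O_C) b).obj F),
      τ ((singleFunctor (ModSite.Mod O_C) j).map q ≫ c) =
        (singleFunctor (ModSite.Mod O_C) 0).map q ≫ τ c := by
    intro P P' q c
    have hn := i₁.inv.naturality q
    simp only [Functor.comp_map] at hn
    simp only [τ, Functor.map_comp, Category.assoc]
    rw [← Category.assoc, ← Category.assoc]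
    erw [← hn]
    simp only [Category.assoc]
    rfl
  have hτ_inj : ∀ {P : ModSite.Mod O_C}
      (c : (singleFunctor (ModSite.Mod O_C) j).obj P ⟶ (singleFunctor (ModSite.Mod O_C) b).obj F),
      τ c = 0 → c = 0 := by
    intro P c hc
    have h2 : c⟦j⟧' = 0 := by
      have : c⟦j⟧' = i₁.hom.app P ≫ (i₁.inv.app P ≫ c⟦j⟧' ≫ i₂.hom ≫ i₃.inv) ≫ i₃.hom ≫ i₂.inv := by
        simp
      rw [this]
      change i₁.hom.app P ≫ τ c ≫ i₃.hom ≫ i₂.inv = 0
      rw [hc, zero_comp, comp_zero]
    exact (shiftFunctor (DerivedCategory (ModSite.Mod O_C)) j).map_injective (by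
      rw [h2, Functor.map_zero])
  let α : Abelian.Ext.{u} (ModSite.freeOn O_C (f.fn.obj V)) F p :=
    (Abelian.Ext.homEquiv).symm (τ c)
  obtain ⟨S, hS, hl⟩ := ext_locZero f F p hF V α
  refine ⟨S, hS, fun V' g hg => ?_⟩
  apply hτ_inj
  unfold HjSite.res
  rw [hτ_nat]
  have h1 := congrArg Abelian.Ext.hom (hl g hg)
  rw [Abelian.Ext.comp_hom, Abelian.Ext.mk₀_hom, ShiftedHom.mk₀_comp, Abelian.Ext.zero_hom] at h1
  have h2 : α.hom = τ c := Equiv.apply_symm_apply _ _
  rw [h2] at h1
  exact h1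

end Groth.Agent.H1.PushLoc
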