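import Groth.Agent.Lib.Helper1.RlimCoh
import Groth.Agent.Lib.Helper25.DProd
import Groth.Agent.Lib.Helper25.KInjMain
import Groth.Agent.Lib.Helper21.ModGroth

/-!
Helper library (helper1): on a ringed site with enough objects of finite cohomological
dimension for the weak Serre class `A`, every `E ∈ D_A(O)` is the derived limit of its truncations
`τ_{≥ -n} E`, and `Hom(single_j (freeOn W), E) = Hom(single_j (freeOn W), τ_{≥ -n} E)` for good `W`
and `n ≥ d + 3 - j`.
-/

set_option autoImplicit false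
set_option linter.unusedSectionVars false
universe w u
open CategoryTheory CategoryTheory.Limits Opposite DerivedCategory Pretriangulated

namespace Groth.Agent.H1.TruncTower

open Groth.Agent.H1.FreeOnLoc Groth.Agent.H1.SingleHom Groth.Agent.H1.HjSite
  Groth.Agent.H1.SingleVanish Groth.Agent.H1.MilnorHom Groth.Agent.H1.GoodCd
  Groth.Agent.H1.RlimCoh Groth.Agent.H1.TruncCoh Groth.Agent.H1.WSerreTri

section general

variable {𝒜 : Type (u + 1)} [Category.{u} 𝒜] [Abelian 𝒜] [HasDerivedCategory.{w} 𝒜]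

lemma toTruncTower_comp (E : DerivedCategory 𝒜) (n : ℕ) :
    CohCx.toTruncTower E (n + 1) ≫ CohCx.truncTowerMap E n = CohCx.toTruncTower E n :=
  TStructure.t.π_natTransTruncGEOfLE_app _ _ _ E

lemma isIso_homology_toTruncTower (E : DerivedCategory 𝒜) (n : ℕ) (i : ℤ) (hi : -(n : ℤ) ≤ i) :
    IsIso ((homologyFunctor 𝒜 i).map (CohCx.toTruncTower E n)) :=
  isIso_homology_truncGEπ E _ i hi

lemma isIso_homology_truncTowerMap (E : DerivedCategory 𝒜) (n : ℕ) (i : ℤ) (hi : -(n : ℤ) ≤ i) :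
    IsIso ((homologyFunctor 𝒜 i).map (CohCx.truncTowerMap E n)) := by
  have h1 := isIso_homology_toTruncTower E n i hi
  have h2 := isIso_homology_toTruncTower E (n + 1) i (by push_cast; omega)
  have h3 : (homologyFunctor 𝒜 i).map (CohCx.toTruncTower E (n + 1)) ≫
      (homologyFunctor 𝒜 i).map (CohCx.truncTowerMap E n) =
      (homologyFunctor 𝒜 i).map (CohCx.toTruncTower E n) := by
    rw [← Functor.map_comp, toTruncTower_comp]
  exact IsIso.of_isIso_fac_left h3

lemma cohInPlus_truncTower (P : ObjectProperty 𝒜) [WSerre.IsWeakSerre P] (E : DerivedCategory 𝒜)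
    (hE : WSerre.cohIn P E) (n : ℕ) : WSerre.cohInPlus P (CohCx.truncTower E n) :=
  ⟨cohIn_truncGE P E hE _, ⟨-(n : ℤ), by
    change TStructure.t.IsGE ((TStructure.t.truncGE (-(n : ℤ))).obj E) (-(n : ℤ))
    infer_instance⟩⟩

end general

variable {C : Type u} [SmallCategory C] {J : GrothendieckTopology C} {O : Sheaf J CommRingCat.{u}}
  [HasDerivedCategory.{w} (ModSite.Mod O)]
  {A : ObjectProperty (ModSite.Mod O)} [WSerre.IsWeakSerre A] {B : Set C}

/-- K-injective resolutions in `Mod(O)` on a small ringed site -/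
theorem hKinj (O : Sheaf J CommRingCat.{u}) (K : CochainComplex (ModSite.Mod O) ℤ) :
    ∃ (I : CochainComplex (ModSite.Mod O) ℤ) (f : K ⟶ I), I.IsKInjective ∧ QuasiIso f := by
  have : IsGrothendieckAbelian.{u} (ModSite.Mod O) :=
    Groth.Agent.Lib.Helper21.ModGroth.isGrothendieckAbelian_mod (ModSite.ringSh O)
  obtain ⟨I, f, hI, hf, -, -⟩ := Groth.Agent.Lib.Helper25.KInjMain.exists_kInjective_resolution K
  exact ⟨I, f, hI, hf⟩

/-- countable products exist in `D(Mod O)` -/
theorem hasProduct_nat (X : ℕ → DerivedCategory (ModSite.Mod O)) : HasProduct X :=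
  Groth.Agent.Lib.Helper25.DProd.hasProduct (hKinj O) X

/-- **Core lemma**: `E ∈ D_A(O)` is the derived limit of its truncations. -/
theorem isRlimVia_truncTower
    (hB : ∀ U : C, ∃ (ι : Type u) (Y : ι → C) (g : ∀ i, Y i ⟶ U),
      Sieve.ofArrows Y g ∈ J U ∧ ∀ i, Y i ∈ B)
    (hA : ∀ V ∈ B, ∃ d : ℕ, ∀ T ∈ J V, ∃ (ι : Type u) (Y : ι → C) (g : ∀ i, Y i ⟶ V),
      (∀ i, T.arrows (g i)) ∧ Sieve.ofArrows Y g ∈ J V ∧ ∀ i, GoodFor O A d (Y i))
    (E : DerivedCategory (ModSite.Mod O)) (hE : WSerre.cohIn A E)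
    [HasProduct (CohCx.truncTower E)] :
    CohCx.IsRlimVia (CohCx.truncTower E) (CohCx.truncTowerMap E) E (CohCx.toTruncTower E) := by
  obtain ⟨L, a', c, hT⟩ := distinguished_cocone_triangle₁
    (delta (CohCx.truncTower E) (CohCx.truncTowerMap E))
  let a : ∀ n, L ⟶ CohCx.truncTower E n := fun n => a' ≫ Pi.π _ n
  have ha' : a' = Pi.lift a := by
    apply Pi.hom_ext
    intro n
    rw [Pi.lift_π]
  rw [ha'] at hT
  have hL : CohCx.IsRlimVia (CohCx.truncTower E) (CohCx.truncTowerMap E) L a := ⟨c, hT⟩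
  -- the comparison map
  have h0 : Pi.lift (CohCx.toTruncTower E) ≫
      delta (CohCx.truncTower E) (CohCx.truncTowerMap E) = 0 := by
    apply Pi.hom_ext
    intro n
    rw [Category.assoc, Pi.lift_π, Preadditive.comp_sub, Pi.lift_π, Pi.lift_π_assoc, zero_comp,
      toTruncTower_comp, sub_self]
  obtain ⟨κ, hκ⟩ := Triangle.coyoneda_exact₂ _ hT (Pi.lift (CohCx.toTruncTower E)) h0
  change E ⟶ L at κ
  change Pi.lift (CohCx.toTruncTower E) = κ ≫ Pi.lift a at hκ
  have hκn : ∀ n, κ ≫ a n = CohCx.toTruncTower E n := by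
    intro n
    have h3 : (Pi.lift (CohCx.toTruncTower E)) ≫ Pi.π _ n = (κ ≫ Pi.lift a) ≫ Pi.π _ n := by
      rw [hκ]
    rw [Pi.lift_π, Category.assoc, Pi.lift_π] at h3
    exact h3.symm
  have hκiso : IsIso κ := by
    rw [DerivedCategory.isIso_iff]
    intro i
    let n : ℕ := (-i).toNat
    have h1 : IsIso ((homologyFunctor (ModSite.Mod O) i).map (a n)) :=
      isIso_homology_a (B := B) hB hA (fun m => cohInPlus_truncTower A E hE m)
        (fun i => (-i).toNat)
        (fun i m hm => isIso_homology_truncTowerMap E m i (by omega)) L a hL i n le_rfl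
    have h2 : IsIso ((homologyFunctor (ModSite.Mod O) i).map (CohCx.toTruncTower E n)) :=
      isIso_homology_toTruncTower E n i (by omega)
    have h3 : (homologyFunctor (ModSite.Mod O) i).map κ ≫
        (homologyFunctor (ModSite.Mod O) i).map (a n) =
        (homologyFunctor (ModSite.Mod O) i).map (CohCx.toTruncTower E n) := by
      rw [← Functor.map_comp, hκn]
    exact IsIso.of_isIso_fac_right h3
  have : IsIso κ := hκiso
  let e : E ≅ L := asIso κ
  have he : e.hom = κ := rfl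
  refine ⟨c ≫ e.inv⟦(1 : ℤ)⟧', ?_⟩
  refine isomorphic_distinguished _ hT _ ?_
  refine Triangle.isoMk _ _ e (Iso.refl _) (Iso.refl _) ?_ ?_ ?_
  · simp only [Triangle.mk_mor₁, Iso.refl_hom]
    erw [Category.comp_id]
    rw [he]
    exact hκ
  · simp only [Triangle.mk_mor₂, Iso.refl_hom]
    erw [Category.comp_id, Category.id_comp]
  · simp only [Triangle.mk_mor₃, Iso.refl_hom]
    erw [Category.id_comp]
    have h5 : (c ≫ e.inv⟦(1 : ℤ)⟧') ≫ e.hom⟦(1 : ℤ)⟧' = c := by
      rw [Category.assoc, ← Functor.map_comp, Iso.inv_hom_id, CategoryTheory.Functor.map_id,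
        Category.comp_id]
    exact h5

/-- **Bijectivity**: for a good object `W` (cohomological dimension `≤ d` for `A`) and `E ∈ D_A`,
maps `single_j (freeOn W) ⟶ E` are the same as maps to `τ_{≥ -n} E` for `n ≥ d + 3 - j`. -/
theorem bijective_comp_toTruncTower
    (hB : ∀ U : C, ∃ (ι : Type u) (Y : ι → C) (g : ∀ i, Y i ⟶ U),
      Sieve.ofArrows Y g ∈ J U ∧ ∀ i, Y i ∈ B)
    (hA : ∀ V ∈ B, ∃ d : ℕ, ∀ T ∈ J V, ∃ (ι : Type u) (Y : ι → C) (g : ∀ i, Y i ⟶ V),
      (∀ i, T.arrows (g i)) ∧ Sieve.ofArrows Y g ∈ J V ∧ ∀ i, GoodFor O A d (Y i))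
    {d : ℕ} {W : C} (hW : GoodFor O A d W)
    (E : DerivedCategory (ModSite.Mod O)) (hE : WSerre.cohIn A E) (j : ℤ) (n : ℕ)
    (hn : (d : ℤ) + 3 - j ≤ n) :
    Function.Bijective (fun σ : Xj O W j ⟶ E => σ ≫ CohCx.toTruncTower E n) := by
  have : HasProduct (CohCx.truncTower E) := hasProduct_nat _
  have hL := isRlimVia_truncTower (B := B) hB hA E hE
  exact bijective_comp_a_of_good hW (CohCx.truncTower E) (CohCx.truncTowerMap E)
    (fun m => cohInPlus_truncTower A E hE m) E (CohCx.toTruncTower E) hL j n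
    (fun m hm i hi _ => isIso_homology_truncTowerMap E m i (by omega)) n le_rfl

end Groth.Agent.H1.TruncTower
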