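import Groth.Agent.Lib.Helper1.PushLocC
import Groth.Agent.Lib.Helper1.TruncTower

/-!
Helper library (helper1): for a morphism of ringed sites `f` with `R^p f_* F = 0` for `F ∈ A`,
`p > N`, and finite cohomological dimension hypotheses upstairs, the direct image of a K-injective
complex `I` with `Q(I) ∈ D_A^{≤ m}` is exact in degrees `> m + N`.
-/

set_option autoImplicit false
set_option linter.unusedSectionVars false
universe w u
open CategoryTheory CategoryTheory.Limits Opposite DerivedCategory Pretriangulated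

namespace Groth.Agent.H1.PushLoc

open Groth.Agent.H1.FreeOnLoc Groth.Agent.H1.SingleHom Groth.Agent.H1.HjSite
  Groth.Agent.H1.GoodCd Groth.Agent.H1.TruncCoh Groth.Agent.H1.WSerreTri

variable {C : Type u} [SmallCategory C] {J : GrothendieckTopology C} {O_C : Sheaf J CommRingCat.{u}}
  {D : Type u} [SmallCategory D] {K : GrothendieckTopology D} {O_D : Sheaf K CommRingCat.{u}}
  (f : ModSite.RMor O_C O_D) [HasInjectiveResolutions (ModSite.Mod O_C)]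
  [HasDerivedCategory.{w} (ModSite.Mod O_C)]
  (A : ObjectProperty (ModSite.Mod O_C)) (N : ℤ)

/-- local vanishing on single sheaves from `R^p f_* F = 0` for `p > N` -/
theorem hloc_of_h3
    (h3 : ∀ F : ModSite.Mod O_C, A F → ∀ p : ℕ, N < (p : ℤ) → IsZero ((f.Rpush p).obj F)) :
    ∀ F : ModSite.Mod O_C, A F → ∀ j b : ℤ, b + N < j → ∀ (V : D)
      (c : Xj O_C (f.fn.obj V) j ⟶ (singleFunctor (ModSite.Mod O_C) b).obj F), LocZero f c := by
  intro F hF j b hjb V c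
  by_cases h : j < b
  · have hc : c = 0 := TStructure.t.zero_of_isLE_of_isGE c j b h inferInstance inferInstance
    rw [hc]; exact locZero_zero
  · exact locZero_single f F (j - b).toNat (h3 F hF _ (by omega)) j b (by omega) V c

variable [WSerre.IsWeakSerre A] {B : Set C} {B' : Set D}

/-- local vanishing of classes in high degree on objects of `D_A^{≤ m}` -/
theorem locZero_of_cohIn
    (hB : ∀ U : C, ∃ (ι : Type u) (Y : ι → C) (g : ∀ i, Y i ⟶ U),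
      Sieve.ofArrows Y g ∈ J U ∧ ∀ i, Y i ∈ B)
    (hA : ∀ V ∈ B, ∃ d : ℕ, ∀ T ∈ J V, ∃ (ι : Type u) (Y : ι → C) (g : ∀ i, Y i ⟶ V),
      (∀ i, T.arrows (g i)) ∧ Sieve.ofArrows Y g ∈ J V ∧ ∀ i, GoodFor O_C A d (Y i))
    (hB' : ∀ U : D, ∃ (ι : Type u) (Y : ι → D) (g : ∀ i, Y i ⟶ U),
      Sieve.ofArrows Y g ∈ K U ∧ ∀ i, Y i ∈ B')
    (hA' : ∀ V ∈ B', ∃ d : ℕ, ∀ T ∈ K V, ∃ (ι : Type u) (Y : ι → D) (g : ∀ i, Y i ⟶ V),
      (∀ i, T.arrows (g i)) ∧ Sieve.ofArrows Y g ∈ K V ∧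
      ∀ i, GoodFor O_C A d (f.fn.obj (Y i)))
    (h3 : ∀ F : ModSite.Mod O_C, A F → ∀ p : ℕ, N < (p : ℤ) → IsZero ((f.Rpush p).obj F))
    (E : DerivedCategory (ModSite.Mod O_C)) (hE : WSerre.cohIn A E) (m : ℤ) [E.IsLE m]
    (j : ℤ) (hj : m + N < j) (V : D) (σ : Xj O_C (f.fn.obj V) j ⟶ E) : LocZero f σ := by
  have hloc := hloc_of_h3 f A N h3
  -- the case `V ∈ B'`
  have key : ∀ V' ∈ B', ∀ σ' : Xj O_C (f.fn.obj V') j ⟶ E, LocZero f σ' := by
    intro V' hV' σ'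
    obtain ⟨d, hd⟩ := hA' V' hV'
    obtain ⟨n', hn'⟩ : ∃ n' : ℕ, (d : ℤ) + 3 - j ≤ n' := ⟨((d : ℤ) + 3 - j).toNat, by omega⟩
    let T := CohCx.truncTower E n'
    have hTcoh : WSerre.cohIn A T := cohIn_truncGE A E hE _
    have hTGE : T.IsGE (-(n' : ℤ)) := by
      change TStructure.t.IsGE ((TStructure.t.truncGE (-(n' : ℤ))).obj E) (-(n' : ℤ))
      infer_instance
    have hTLE : T.IsLE m := by
      change TStructure.t.IsLE ((TStructure.t.truncGE (-(n' : ℤ))).obj E) m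
      infer_instance
    let n'' : ℕ := (m + n' + 1).toNat
    have hTGE' : T.IsGE (m - n'' + 1) :=
      TStructure.t.isGE_of_ge T (m - n'' + 1) (-(n' : ℤ)) (by omega)
    obtain ⟨S₁, hS₁, hl₁⟩ := locZero_of_bounded (f := f) (A := A) (N := N) hloc n'' m T hTcoh
      hTGE' hTLE j hj V' (σ' ≫ CohCx.toTruncTower E n')
    obtain ⟨ι', W', g', hg'S, hcov', hgood⟩ := hd S₁ hS₁
    refine ⟨Sieve.ofArrows W' g', hcov', ?_⟩
    rintro V'' a ⟨Z, b, _, ⟨i⟩, rfl⟩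
    rw [Functor.map_comp, res_comp', Category.assoc]
    have hz : res O_C (f.fn.map (g' i)) j ≫ σ' = 0 := by
      apply (TruncTower.bijective_comp_toTruncTower (B := B) hB hA (hgood i) E hE j n' hn').1
      dsimp only
      rw [zero_comp, Category.assoc]
      exact hl₁ (g' i) (hg'S i)
    rw [hz, comp_zero]
  obtain ⟨ι, W, g, hcov, hWB'⟩ := hB' V
  refine locZero_of_local σ _ hcov ?_
  rintro V'' a ⟨Z, b, _, ⟨i⟩, rfl⟩
  rw [Functor.map_comp, res_comp', Category.assoc]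
  exact (key (W i) (hWB' i) _).res b

/-- exactness of `f_* I` in high degrees -/
theorem exactAt_push_of_kInjective
    (hB : ∀ U : C, ∃ (ι : Type u) (Y : ι → C) (g : ∀ i, Y i ⟶ U),
      Sieve.ofArrows Y g ∈ J U ∧ ∀ i, Y i ∈ B)
    (hA : ∀ V ∈ B, ∃ d : ℕ, ∀ T ∈ J V, ∃ (ι : Type u) (Y : ι → C) (g : ∀ i, Y i ⟶ V),
      (∀ i, T.arrows (g i)) ∧ Sieve.ofArrows Y g ∈ J V ∧ ∀ i, GoodFor O_C A d (Y i))
    (hB' : ∀ U : D, ∃ (ι : Type u) (Y : ι → D) (g : ∀ i, Y i ⟶ U),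
      Sieve.ofArrows Y g ∈ K U ∧ ∀ i, Y i ∈ B')
    (hA' : ∀ V ∈ B', ∃ d : ℕ, ∀ T ∈ K V, ∃ (ι : Type u) (Y : ι → D) (g : ∀ i, Y i ⟶ V),
      (∀ i, T.arrows (g i)) ∧ Sieve.ofArrows Y g ∈ K V ∧
      ∀ i, GoodFor O_C A d (f.fn.obj (Y i)))
    (h3 : ∀ F : ModSite.Mod O_C, A F → ∀ p : ℕ, N < (p : ℤ) → IsZero ((f.Rpush p).obj F))
    (I : CochainComplex (ModSite.Mod O_C) ℤ) [I.IsKInjective]
    (hI : WSerre.cohIn A (Q.obj I)) (m : ℤ) [(Q.obj I).IsLE m] (j : ℤ) (hj : m + N < j) :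
    ((f.push.mapHomologicalComplex (ComplexShape.up ℤ)).obj I).ExactAt j := by
  rw [HomologicalComplex.exactAt_iff' _ (j - 1) j (j + 1) (by simp) (by simp)]
  apply exact_of_local_sections O_D
  intro V s hs
  have hs' : (show ModSite.freeOn O_D V ⟶ f.push.obj (I.X j) from s) ≫
      f.push.map (I.d j (j + 1)) = 0 := hs
  let z₀ : ModSite.freeOn O_C (f.fn.obj V) ⟶ I.X j := tr f V (I.X j) s
  have hz₀ : z₀ ≫ I.d j (j + 1) = 0 := by
    rw [← tr_comp, hs', tr_zero]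
  let z : ModSite.freeOn O_C (f.fn.obj V) ⟶ I.cycles j := I.liftCycles z₀ (j + 1) (by simp) hz₀
  obtain ⟨S, hS, hl⟩ := locZero_of_cohIn f A N (B := B) (B' := B') hB hA hB' hA' h3 (Q.obj I) hI m
    j hj V (sig I j z)
  refine ⟨S, hS, fun V' g hg => ?_⟩
  have h0 : sig I j (fmap O_C (f.fn.map g) ≫ z) = 0 := by
    rw [← sig_precomp]; exact hl g hg
  obtain ⟨y, hy⟩ := exists_boundary_of_sig_eq_zero I (j - 1) j (by omega) _ h0
  have hyd : y ≫ I.d (j - 1) j = fmap O_C (f.fn.map g) ≫ z₀ := by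
    rw [← I.toCycles_i (j - 1) j, ← Category.assoc, hy, Category.assoc, I.liftCycles_i]
  have hfin : (tr f V' (I.X (j - 1))).symm y ≫ f.push.map (I.d (j - 1) j) = fmap O_D g ≫ s := by
    rw [← tr_symm_comp, hyd, tr_symm_fmap, Equiv.symm_apply_apply]
    rfl
  exact ⟨(tr f V' (I.X (j - 1))).symm y, hfin⟩

end Groth.Agent.H1.PushLoc
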