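import Groth.Agent.S6166
import Groth.Agent.Lib.Helper1.PushLocD
import Groth.Agent.Lib.Helper1.LerayHom
import Groth.Agent.Lib.Helper1.ExtFreeOn

/-!
Helper library (helper1): for a morphism of ringed sites `f : (C, O_C) → (D, O_D)` with underlying
functor `u`, and weak Serre classes `A`, `A'` with `R^p f_* F ∈ A'`, `R^p f_* F = 0` for `p > N₀`
(`F ∈ A`): if `W` has cohomological dimension `≤ d` for `A'` then `u W` has cohomological dimension
`≤ d + N₀` for `A`.
-/

set_option autoImplicit false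
set_option linter.unusedSectionVars false
universe u
open CategoryTheory CategoryTheory.Limits Opposite DerivedCategory Pretriangulated

namespace Groth.Agent.H1.PushLoc

open Groth.Agent.H1.FreeOnLoc Groth.Agent.H1.SingleHom Groth.Agent.H1.HjSite
  Groth.Agent.H1.GoodCd Groth.Agent.H1.TruncCoh Groth.Agent.H1.WSerreTri
  Groth.Agent.H1.SingleVanish

attribute [local instance] HasDerivedCategory.standard

variable {C : Type u} [SmallCategory C] {J : GrothendieckTopology C} {O_C : Sheaf J CommRingCat.{u}}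
  {D : Type u} [SmallCategory D] {K : GrothendieckTopology D} {O_D : Sheaf K CommRingCat.{u}}
  (f : ModSite.RMor O_C O_D)

/-- the direct image of an injective module is acyclic for sections over every object -/
lemma subsingleton_ext_push_injective [HasExt.{u} (ModSite.Mod O_C)] [HasExt.{u} (ModSite.Mod O_D)]
    (I : ModSite.Mod O_C) [Injective I] (V : D) (q : ℕ) :
    Subsingleton (Abelian.Ext.{u} (ModSite.freeOn O_D V) (f.push.obj I) (q + 1)) := by
  have hF : ∀ (U : C) (q : ℕ), Subsingleton (CohSite.HU (ModSite.toAb I) (q + 1) U) := by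
    intro U q
    obtain ⟨e⟩ := Groth.Agent.H1.ExtFreeOn.ext_freeOn_equiv_HU O_C U I (q + 1)
    have : Subsingleton (Abelian.Ext.{u} (ModSite.freeOn O_C U) I (q + 1)) :=
      ⟨fun a b => by rw [Abelian.Ext.eq_zero_of_injective a, Abelian.Ext.eq_zero_of_injective b]⟩
    exact e.symm.toEquiv.subsingleton
  have h1 : Subsingleton (CohSite.HU ((CohSite.push J K f.fn).obj (ModSite.toAb I)) (q + 1) V) :=
    Groth.Agent.S6166.result J K f.fn (ModSite.toAb I) hF V q
  obtain ⟨e⟩ := Groth.Agent.H1.ExtFreeOn.ext_freeOn_equiv_HU O_D V (f.push.obj I) (q + 1)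
  have h2 : Subsingleton (ModSite.HU O_D (f.push.obj I) (q + 1) V) := h1
  exact e.toEquiv.subsingleton


section extiso

variable {𝒜 : Type (u + 1)} [Category.{u} 𝒜] [Abelian 𝒜] [HasExt.{u} 𝒜]

lemma subsingleton_ext_of_iso {P Y Y' : 𝒜} (e : Y ≅ Y') (k : ℕ)
    (h : Subsingleton (Abelian.Ext.{u} P Y k)) : Subsingleton (Abelian.Ext.{u} P Y' k) := by
  have h0 : ∀ α : Abelian.Ext.{u} P Y' k, α = 0 := by
    intro α
    have h1 : (α.comp (Abelian.Ext.mk₀ e.inv) (add_zero k)) = 0 := Subsingleton.elim _ _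
    have h2 : α = (α.comp (Abelian.Ext.mk₀ e.inv) (add_zero k)).comp (Abelian.Ext.mk₀ e.hom)
        (add_zero k) := by
      rw [Abelian.Ext.comp_assoc_of_third_deg_zero, Abelian.Ext.mk₀_comp_mk₀, e.inv_hom_id,
        Abelian.Ext.comp_mk₀_id]
    rw [h2, h1, Abelian.Ext.zero_comp]
  exact ⟨fun a b => by rw [h0 a, h0 b]⟩

lemma subsingleton_ext_of_isZero {P Y : 𝒜} (hY : IsZero Y) (k : ℕ) :
    Subsingleton (Abelian.Ext.{u} P Y k) := by
  have h0 : ∀ α : Abelian.Ext.{u} P Y k, α = 0 := by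
    intro α
    have h2 : α = α.comp (Abelian.Ext.mk₀ (𝟙 Y)) (add_zero k) := (Abelian.Ext.comp_mk₀_id α).symm
    rw [h2, hY.eq_of_src (𝟙 Y) 0, Abelian.Ext.mk₀_zero, Abelian.Ext.comp_zero]
  exact ⟨fun a b => by rw [h0 a, h0 b]⟩

end extiso


section up

variable [HasInjectiveResolutions (ModSite.Mod O_C)]
  (A : ObjectProperty (ModSite.Mod O_C)) (A' : ObjectProperty (ModSite.Mod O_D))
  [WSerre.IsWeakSerre A']

/-- cohomological dimension upstairs from cohomological dimension downstairs -/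
theorem goodFor_up (N₀ : ℕ)
    (h3 : ∀ F : ModSite.Mod O_C, A F → ∀ p : ℕ, A' ((f.Rpush p).obj F))
    (h4 : ∀ F : ModSite.Mod O_C, A F → ∀ p : ℕ, N₀ < p → IsZero ((f.Rpush p).obj F))
    {d : ℕ} {W : D} (h : GoodFor O_D A' d W) : GoodFor O_C A (d + N₀) (f.fn.obj W) := by
  intro F hF k hk
  have instC := Groth.Agent.Lib.Helper21.ModGroth.isGrothendieckAbelian_mod (ModSite.ringSh O_C)
  have instD := Groth.Agent.Lib.Helper21.ModGroth.isGrothendieckAbelian_mod (ModSite.ringSh O_D)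
  obtain ⟨e₀⟩ := Groth.Agent.H1.ExtFreeOn.ext_freeOn_equiv_HU O_C (f.fn.obj W) F k
  suffices h0 : ∀ α : Abelian.Ext.{u} (ModSite.freeOn O_C (f.fn.obj W)) F k, α = 0 by
    have : Subsingleton (Abelian.Ext.{u} (ModSite.freeOn O_C (f.fn.obj W)) F k) :=
      ⟨fun a b => by rw [h0 a, h0 b]⟩
    exact e₀.symm.toEquiv.subsingleton
  intro α
  obtain ⟨R⟩ := (HasInjectiveResolution.out : Nonempty (InjectiveResolution F))
  obtain ⟨q, rfl⟩ : ∃ q, k = q + 1 := ⟨k - 1, by omega⟩
  obtain ⟨z, hz, rfl⟩ := R.extMk_surjective α (q + 1 + 1) rfl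
  rw [R.extMk_eq_zero_iff _ _ rfl _ q rfl]
  -- the `O_D` side
  let P := ModSite.freeOn O_D W
  let Gn := (f.push.mapHomologicalComplex (ComplexShape.up ℕ)).obj R.cocomplex
  let e := ComplexShape.embeddingUpNat
  let G : CochainComplex (ModSite.Mod O_D) ℤ := Gn.extend e
  have hG0 : CochainComplex.IsStrictlyGE G 0 := by
    dsimp only [G, e]
    infer_instance
  -- homology of `G`
  have hHpos : ∀ p : ℕ, Nonempty ((homologyFunctor (ModSite.Mod O_D) (p : ℤ)).obj (Q.obj G) ≅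
      (f.Rpush p).obj F) := fun p =>
    ⟨(homologyFunctorFactors (ModSite.Mod O_D) (p : ℤ)).app G ≪≫
      Gn.extendHomologyIso e (show e.f p = (p : ℤ) from rfl) ≪≫
      (R.isoRightDerivedObj f.push p).symm⟩
  have hHneg : ∀ j : ℤ, j < 0 → IsZero ((homologyFunctor (ModSite.Mod O_D) j).obj (Q.obj G)) := by
    intro j hj
    have h1 : G.ExactAt j := Gn.extend_exactAt e j (fun n hn => by
      have : e.f n = (n : ℤ) := rfl
      omega)
    rw [HomologicalComplex.exactAt_iff_isZero_homology] at h1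
    exact h1.of_iso ((homologyFunctorFactors (ModSite.Mod O_D) j).app G)
  -- an injective resolution of `G`
  obtain ⟨E, φ, hφ, hEinj, hEGE⟩ :=
    CochainComplex.Plus.modelCategoryQuillen.exists_quasiIso_injective G 0
  have hEK : E.IsKInjective := CochainComplex.isKInjective_of_injective E 0
  have hQφ : IsIso (Q.map φ) := by rw [isIso_Q_map_iff_quasiIso]; exact hφ
  let eGE : Q.obj G ≅ Q.obj E := asIso (Q.map φ)
  have hcoh : WSerre.cohIn A' (Q.obj E) := by
    apply cohIn_of_iso A' eGE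
    intro j
    by_cases hj : 0 ≤ j
    · obtain ⟨p, rfl⟩ := Int.eq_ofNat_of_zero_le hj
      obtain ⟨i⟩ := hHpos p
      exact A'.prop_of_iso i.symm (h3 F hF p)
    · exact A'.prop_of_isZero (hHneg j (by omega))
  have hGE : (Q.obj E).IsGE ((N₀ : ℤ) - ((N₀ + 1 : ℕ) : ℤ) + 1) := by
    have e0 : (N₀ : ℤ) - ((N₀ + 1 : ℕ) : ℤ) + 1 = 0 := by push_cast; ring
    rw [e0]
    have : (Q.obj G).IsGE 0 := by
      rw [isGE_iff]
      intro i hi
      exact hHneg i hi
    exact TStructure.t.isGE_of_iso eGE 0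
  have hLE : (Q.obj E).IsLE (N₀ : ℤ) := by
    have : (Q.obj G).IsLE (N₀ : ℤ) := by
      rw [isLE_iff]
      intro i hi
      obtain ⟨p, rfl⟩ := Int.eq_ofNat_of_zero_le (show 0 ≤ i by omega)
      obtain ⟨i'⟩ := hHpos p
      exact (h4 F hF p (by omega)).of_iso i'
    exact TStructure.t.isLE_of_iso eGE _
  -- the cycle
  let s : P ⟶ Gn.X (q + 1) := (tr f W (R.cocomplex.X (q + 1))).symm z
  have hs : s ≫ Gn.d (q + 1) (q + 1 + 1) = 0 := by
    have h : (tr f W _).symm z ≫ f.push.map (R.cocomplex.d (q + 1) (q + 1 + 1)) = 0 := by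
      rw [← tr_symm_comp, hz, tr_symm_zero]
    exact h
  let j : ℤ := ((q + 1 : ℕ) : ℤ)
  have hj1 : e.f (q + 1) = j := rfl
  have hj2 : e.f (q + 1 + 1) = j + 1 := by
    show ((q + 1 + 1 : ℕ) : ℤ) = ((q + 1 : ℕ) : ℤ) + 1
    push_cast; ring
  have hj0 : e.f q = j - 1 := by
    show (q : ℤ) = ((q + 1 : ℕ) : ℤ) - 1
    push_cast; ring
  let x : P ⟶ G.X j := s ≫ (Gn.extendXIso e hj1).inv
  have hx : x ≫ G.d j (j + 1) = 0 := by
    dsimp only [x, G]
    rw [Gn.extend_d_eq e hj1 hj2, Category.assoc, Iso.inv_hom_id_assoc, ← Category.assoc, hs,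
      zero_comp]
  have hcyc : (x ≫ φ.f j) ≫ E.d j (j + 1) = 0 := by
    rw [Category.assoc, φ.comm, ← Category.assoc, hx, zero_comp]
  let zE : P ⟶ E.cycles j := E.liftCycles (x ≫ φ.f j) (j + 1) (by simp) hcyc
  have hσ : sig E j zE = 0 :=
    hom_eq_zero_of_bounded (extVanish_of_goodFor h) (N₀ + 1) (N₀ : ℤ) (Q.obj E) hcoh hGE hLE j
      (by
        show (N₀ : ℤ) + (d : ℤ) < ((q + 1 : ℕ) : ℤ)
        have : d + N₀ < q + 1 := hk
        omega) _
  obtain ⟨y, hy⟩ := exists_boundary_of_sig_eq_zero E (j - 1) j (by omega) zE hσ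
  have hxy : x ≫ φ.f j = y ≫ E.d (j - 1) j := by
    rw [← E.toCycles_i (j - 1) j, ← Category.assoc, hy, E.liftCycles_i]
  have hKacyc : ∀ (m : ℤ) (k : ℕ), 0 < k →
      Subsingleton (Abelian.Ext.{u} P (G.X m) k) := by
    intro m k hk
    obtain ⟨k', rfl⟩ : ∃ k', k = k' + 1 := ⟨k - 1, by omega⟩
    by_cases hm : ∃ n, e.f n = m
    · obtain ⟨n, hn⟩ := hm
      have : Injective (R.cocomplex.X n) := inferInstance
      exact subsingleton_ext_of_iso (Gn.extendXIso e hn).symm _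
        (subsingleton_ext_push_injective f (R.cocomplex.X n) W k')
    · exact subsingleton_ext_of_isZero (Gn.isZero_extend_X e m (by
        intro n hn; exact hm ⟨n, hn⟩)) _
  have hEacyc : ∀ (m : ℤ) (k : ℕ), 0 < k →
      Subsingleton (Abelian.Ext.{u} P (E.X m) k) := by
    intro m k hk
    obtain ⟨k', rfl⟩ : ∃ k', k = k' + 1 := ⟨k - 1, by omega⟩
    have := hEinj m
    exact ⟨fun a b => by
      rw [Abelian.Ext.eq_zero_of_injective a, Abelian.Ext.eq_zero_of_injective b]⟩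
  obtain ⟨w, hw⟩ := Groth.Agent.H1.LerayHom.exists_bound P φ 0 0 hKacyc hEacyc (j - 1) j
    (by omega) x hx y hxy
  -- back to `O_C`
  let w' : P ⟶ f.push.obj (R.cocomplex.X q) := w ≫ (Gn.extendXIso e hj0).hom
  have hsw : s = w' ≫ Gn.d q (q + 1) := by
    have h1 := hw
    dsimp only [x, G] at h1
    rw [Gn.extend_d_eq e hj0 hj1] at h1
    rw [← cancel_mono (Gn.extendXIso e hj1).inv, h1]
    simp only [w', Category.assoc]
    rfl
  refine ⟨tr f W (R.cocomplex.X q) w', ?_⟩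
  have h2 : tr f W (R.cocomplex.X (q + 1)) (w' ≫ f.push.map (R.cocomplex.d q (q + 1))) = z := by
    have : w' ≫ f.push.map (R.cocomplex.d q (q + 1)) = s := hsw.symm
    rw [this]
    exact Equiv.apply_symm_apply _ _
  have h3 := tr_comp f W w' (R.cocomplex.d q (q + 1))
  rw [← h3]
  exact h2

end up

end Groth.Agent.H1.PushLoc
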