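import Groth.Agent.Lib.Helper1.PushLocE
import Groth.Agent.Lib.Helper25.DerAdjK
import Groth.Agent.Lib.Helper25.ExtendFunctor
import Groth.Prelude.Def_SiteCmp

/-!
Helper library (helper1): the unbounded derived direct image `Rf_*` of a morphism of ringed sites,
computed on K-injective models: images of distinguished triangles (object level), left
t-exactness, shifts, `H^p(Rf_* F) = R^p f_* F`, and dévissage for `D^+_A`.
-/

set_option autoImplicit false
set_option linter.unusedSectionVars false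
universe u
open CategoryTheory CategoryTheory.Limits Opposite DerivedCategory Pretriangulated

namespace Groth.Agent.H1.PushLoc

open Groth.Agent.H1.TruncCoh Groth.Agent.H1.WSerreTri Groth.Agent.H1.SingleVanish

attribute [local instance] HasDerivedCategory.standard

section general

variable {𝒜 : Type (u + 1)} [Category.{u} 𝒜] [Abelian 𝒜]

lemma isKInjective_mappingCone {K L : CochainComplex 𝒜 ℤ} [K.IsKInjective] [L.IsKInjective]
    (φ : K ⟶ L) : (CochainComplex.mappingCone φ).IsKInjective := by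
  rw [CochainComplex.isKInjective_iff_rightOrthogonal]
  exact ObjectProperty.ext_of_isTriangulatedClosed₃ _ _
    (HomotopyCategory.mappingCone_triangleh_distinguished φ)
    (CochainComplex.IsKInjective.rightOrthogonal K) (CochainComplex.IsKInjective.rightOrthogonal L)

lemma isKInjective_of_isZero (K : CochainComplex 𝒜 ℤ) (hK : IsZero K) : K.IsKInjective :=
  ⟨fun g _ => ⟨Homotopy.ofEq (hK.eq_of_tgt g 0)⟩⟩

lemma exists_lift_kInjective (I I' : CochainComplex 𝒜 ℤ) [I'.IsKInjective]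
    (ψ : Q.obj I ⟶ Q.obj I') : ∃ φ : I ⟶ I', Q.map φ = ψ := by
  obtain ⟨φh, hφh⟩ := (CochainComplex.IsKInjective.Qh_map_bijective
    ((HomotopyCategory.quotient _ _).obj I) I').2 ψ
  obtain ⟨φ, rfl⟩ := (HomotopyCategory.quotient _ _).map_surjective φh
  exact ⟨φ, hφh⟩

lemma isIso_homology_mor₁' (T : Triangle (DerivedCategory 𝒜)) (hT : T ∈ distTriang _) (i : ℤ)
    (h₃ : IsZero ((homologyFunctor 𝒜 (i - 1)).obj T.obj₃))
    (h₃' : IsZero ((homologyFunctor 𝒜 i).obj T.obj₃)) :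
    IsIso ((homologyFunctor 𝒜 i).map T.mor₁) := by
  have h1 : Mono ((homologyFunctor 𝒜 i).map T.mor₁) :=
    (HomologySequence.mono_homologyMap_mor₁_iff T hT (i - 1) i (by omega)).2 (h₃.eq_of_src _ _)
  have h2 : Epi ((homologyFunctor 𝒜 i).map T.mor₁) :=
    (HomologySequence.epi_homologyMap_mor₁_iff T hT i).2 (h₃'.eq_of_tgt _ _)
  exact isIso_of_mono_of_epi _

end general

variable {C : Type u} [SmallCategory C] {J : GrothendieckTopology C} {O_C : Sheaf J CommRingCat.{u}}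
  {D : Type u} [SmallCategory D] {K : GrothendieckTopology D} {O_D : Sheaf K CommRingCat.{u}}
  (f : ModSite.RMor O_C O_D) [SiteCmp.HasRpushD f]

/-- `Rf_*` is computed by K-injective complexes -/
lemma nonempty_rpushIso (I : CochainComplex (ModSite.Mod O_C) ℤ) [I.IsKInjective] :
    Nonempty (Q.obj ((f.push.mapHomologicalComplex (ComplexShape.up ℤ)).obj I) ≅
      (SiteCmp.RpushD f).obj (Q.obj I)) := by
  let W := HomotopyCategory.quasiIso (ModSite.Mod O_C) (ComplexShape.up ℤ)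
  let β := (SiteCmp.pushKh f).totalRightDerivedUnit Qh W
  have hβ : IsIso (β.app ((HomotopyCategory.quotient _ _).obj I)) :=
    Groth.Agent.Lib.Helper25.DerAdjK.isIso_unit_of_isKInjective
      (Groth.Agent.H1.TruncTower.hKinj O_C) (SiteCmp.RpushD f) β I
  exact ⟨@asIso _ _ _ _ (β.app ((HomotopyCategory.quotient _ _).obj I)) hβ⟩

omit [SiteCmp.HasRpushD f] in
lemma exists_kinj_model (X : DerivedCategory (ModSite.Mod O_C)) :
    ∃ (I : CochainComplex (ModSite.Mod O_C) ℤ) (_ : I.IsKInjective), Nonempty (Q.obj I ≅ X) := by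
  obtain ⟨I, a, hI, ha⟩ := Groth.Agent.H1.TruncTower.hKinj O_C (Q.objPreimage X)
  have hQa : IsIso (Q.map a) := by rw [isIso_Q_map_iff_quasiIso]; exact ha
  exact ⟨I, hI, ⟨(asIso (Q.map a)).symm ≪≫ Q.objObjPreimageIso X⟩⟩

/-- the image under `Rf_*` of a distinguished triangle, at the level of objects -/
theorem exists_triangle_rpush (T : Triangle (DerivedCategory (ModSite.Mod O_C)))
    (hT : T ∈ distTriang _) :
    ∃ T' : Triangle (DerivedCategory (ModSite.Mod O_D)), T' ∈ distTriang _ ∧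
      Nonempty (T'.obj₁ ≅ (SiteCmp.RpushD f).obj T.obj₁) ∧
      Nonempty (T'.obj₂ ≅ (SiteCmp.RpushD f).obj T.obj₂) ∧
      Nonempty (T'.obj₃ ≅ (SiteCmp.RpushD f).obj T.obj₃) := by
  obtain ⟨I₁, hI₁, ⟨e₁⟩⟩ := exists_kinj_model T.obj₁
  obtain ⟨I₂, hI₂, ⟨e₂⟩⟩ := exists_kinj_model T.obj₂
  obtain ⟨φ, hφ⟩ := exists_lift_kInjective I₁ I₂ (e₁.hom ≫ T.mor₁ ≫ e₂.inv)
  have : (CochainComplex.mappingCone φ).IsKInjective := isKInjective_mappingCone φ
  let T₀ := Q.mapTriangle.obj (CochainComplex.mappingCone.triangle φ)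
  have hT₀ : T₀ ∈ distTriang _ := (mem_distTriang_iff _).2 ⟨_, _, φ, ⟨Iso.refl _⟩⟩
  have comm : T₀.mor₁ ≫ e₂.hom = e₁.hom ≫ T.mor₁ := by
    change Q.map φ ≫ e₂.hom = _
    rw [hφ]; simp
  let iso := isoTriangleOfIso₁₂ T₀ T hT₀ hT e₁ e₂ comm
  let e₃ : Q.obj (CochainComplex.mappingCone φ) ≅ T.obj₃ := Triangle.π₃.mapIso iso
  let φ' := (f.push.mapHomologicalComplex (ComplexShape.up ℤ)).map φ
  refine ⟨Q.mapTriangle.obj (CochainComplex.mappingCone.triangle φ'),
    (mem_distTriang_iff _).2 ⟨_, _, φ', ⟨Iso.refl _⟩⟩, ?_, ?_, ?_⟩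
  · obtain ⟨i⟩ := nonempty_rpushIso f I₁
    exact ⟨i ≪≫ (SiteCmp.RpushD f).mapIso e₁⟩
  · obtain ⟨i⟩ := nonempty_rpushIso f I₂
    exact ⟨i ≪≫ (SiteCmp.RpushD f).mapIso e₂⟩
  · obtain ⟨i⟩ := nonempty_rpushIso f (CochainComplex.mappingCone φ)
    exact ⟨Q.mapIso (CochainComplex.mappingCone.mapHomologicalComplexIso φ f.push).symm ≪≫ i ≪≫
      (SiteCmp.RpushD f).mapIso e₃⟩

/-- `Rf_*` is left t-exact -/
theorem isGE_rpush (Y : DerivedCategory (ModSite.Mod O_C)) (c : ℤ) [Y.IsGE c] :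
    ((SiteCmp.RpushD f).obj Y).IsGE c := by
  have instC := Groth.Agent.Lib.Helper21.ModGroth.isGrothendieckAbelian_mod (ModSite.ringSh O_C)
  obtain ⟨K₀, hK₀, ⟨e⟩⟩ := Y.exists_iso_Q_obj_of_isGE c
  obtain ⟨L, φ, hφ, hLinj, hLGE⟩ :=
    CochainComplex.Plus.modelCategoryQuillen.exists_quasiIso_injective K₀ c
  have hLK : L.IsKInjective := CochainComplex.isKInjective_of_injective L c
  have hQφ : IsIso (Q.map φ) := by rw [isIso_Q_map_iff_quasiIso]; exact hφ
  obtain ⟨i⟩ := nonempty_rpushIso f L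
  have h1 : CochainComplex.IsStrictlyGE
      ((f.push.mapHomologicalComplex (ComplexShape.up ℤ)).obj L) c := by
    infer_instance
  have h2 : (Q.obj ((f.push.mapHomologicalComplex (ComplexShape.up ℤ)).obj L)).IsGE c := by
    infer_instance
  exact TStructure.t.isGE_of_iso (i ≪≫ (SiteCmp.RpushD f).mapIso
    ((asIso (Q.map φ)).symm ≪≫ e.symm)) c

/-- `Rf_*` commutes with shifts, at the level of objects -/
theorem nonempty_rpush_shift_iso (X : DerivedCategory (ModSite.Mod O_C)) (n : ℤ) :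
    Nonempty ((SiteCmp.RpushD f).obj (X⟦n⟧) ≅ ((SiteCmp.RpushD f).obj X)⟦n⟧) := by
  obtain ⟨I, hI, ⟨e⟩⟩ := exists_kinj_model X
  obtain ⟨i⟩ := nonempty_rpushIso f I
  obtain ⟨i'⟩ := nonempty_rpushIso f (I⟦n⟧)
  exact ⟨(SiteCmp.RpushD f).mapIso ((shiftFunctor _ n).mapIso e.symm ≪≫
      ((Q.commShiftIso n).app I).symm) ≪≫ i'.symm ≪≫
    Q.mapIso ((f.push.mapCochainComplexShiftIso n).app I) ≪≫
    (Q.commShiftIso n).app _ ≪≫ (shiftFunctor _ n).mapIso (i ≪≫ (SiteCmp.RpushD f).mapIso e)⟩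


/-- `H^p(Rf_* F) = R^p f_* F` -/
theorem nonempty_homology_rpush_single [HasInjectiveResolutions (ModSite.Mod O_C)]
    (Y : ModSite.Mod O_C) (p : ℕ) :
    Nonempty ((homologyFunctor (ModSite.Mod O_D) (p : ℤ)).obj
      ((SiteCmp.RpushD f).obj ((singleFunctor (ModSite.Mod O_C) 0).obj Y)) ≅
        (f.Rpush p).obj Y) := by
  obtain ⟨R⟩ := (HasInjectiveResolution.out : Nonempty (InjectiveResolution Y))
  have hRK : R.cochainComplex.IsKInjective :=
    CochainComplex.isKInjective_of_injective R.cochainComplex 0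
  have : IsIso (Q.map R.ι') := by rw [isIso_Q_map_iff_quasiIso]; infer_instance
  let e₀ : Q.obj R.cochainComplex ≅ (singleFunctor (ModSite.Mod O_C) 0).obj Y :=
    (asIso (Q.map R.ι')).symm ≪≫ ((singleFunctorIsoCompQ (ModSite.Mod O_C) 0).app Y).symm
  obtain ⟨i⟩ := nonempty_rpushIso f R.cochainComplex
  let e := ComplexShape.embeddingUpNat
  let Gn := (f.push.mapHomologicalComplex (ComplexShape.up ℕ)).obj R.cocomplex
  let cmp : (f.push.mapHomologicalComplex (ComplexShape.up ℤ)).obj (R.cocomplex.extend e) ≅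
      Gn.extend e :=
    asIso (Groth.Agent.Lib.helper25.ExtendFunctor.comparison e f.push R.cocomplex)
  exact ⟨(homologyFunctor (ModSite.Mod O_D) (p : ℤ)).mapIso
      ((SiteCmp.RpushD f).mapIso e₀.symm ≪≫ i.symm ≪≫ Q.mapIso cmp) ≪≫
    (homologyFunctorFactors (ModSite.Mod O_D) (p : ℤ)).app (Gn.extend e) ≪≫
    Gn.extendHomologyIso e (show e.f p = (p : ℤ) from rfl) ≪≫
    (R.isoRightDerivedObj f.push p).symm⟩

end Groth.Agent.H1.PushLoc
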