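import Groth.Agent.Lib.Helper1.PushLocF

/-!
Helper library (helper1): dévissage for `Rf_*` on `D^+_A`: if `R^p f_* F ∈ A'` for `F ∈ A` then
`Rf_*` maps `D^+_A(O_C)` to `D_{A'}(O_D)`.
-/

set_option autoImplicit false
set_option linter.unusedSectionVars false
universe u
open CategoryTheory CategoryTheory.Limits Opposite DerivedCategory Pretriangulated

namespace Groth.Agent.H1.PushLoc

open Groth.Agent.H1.TruncCoh Groth.Agent.H1.WSerreTri Groth.Agent.H1.SingleVanish
open ZeroObject

attribute [local instance] HasDerivedCategory.standard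

variable {C : Type u} [SmallCategory C] {J : GrothendieckTopology C} {O_C : Sheaf J CommRingCat.{u}}
  {D : Type u} [SmallCategory D] {K : GrothendieckTopology D} {O_D : Sheaf K CommRingCat.{u}}
  (f : ModSite.RMor O_C O_D) [SiteCmp.HasRpushD f]
  (A : ObjectProperty (ModSite.Mod O_C)) [WSerre.IsWeakSerre A]
  (A' : ObjectProperty (ModSite.Mod O_D)) [WSerre.IsWeakSerre A']

theorem cohIn_rpush_obj₂ (T : Triangle (DerivedCategory (ModSite.Mod O_C)))
    (hT : T ∈ distTriang _)
    (h₁ : WSerre.cohIn A' ((SiteCmp.RpushD f).obj T.obj₁))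
    (h₃ : WSerre.cohIn A' ((SiteCmp.RpushD f).obj T.obj₃)) :
    WSerre.cohIn A' ((SiteCmp.RpushD f).obj T.obj₂) := by
  obtain ⟨T', hT', ⟨i₁⟩, ⟨i₂⟩, ⟨i₃⟩⟩ := exists_triangle_rpush f T hT
  exact cohIn_of_iso A' i₂ (cohIn_obj₂ A' T' hT' (cohIn_of_iso A' i₁.symm h₁)
    (cohIn_of_iso A' i₃.symm h₃))

theorem cohIn_rpush_of_isZero (X : DerivedCategory (ModSite.Mod O_C)) (hX : IsZero X) :
    WSerre.cohIn A' ((SiteCmp.RpushD f).obj X) := by
  have hz : IsZero (0 : CochainComplex (ModSite.Mod O_C) ℤ) := isZero_zero _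
  have := isKInjective_of_isZero _ hz
  obtain ⟨i⟩ := nonempty_rpushIso f (0 : CochainComplex (ModSite.Mod O_C) ℤ)
  have e : Q.obj (0 : CochainComplex (ModSite.Mod O_C) ℤ) ≅ X := (Q.map_isZero hz).iso hX
  apply cohIn_of_iso A' (i ≪≫ (SiteCmp.RpushD f).mapIso e)
  apply cohIn_of_isZero
  exact Q.map_isZero ((f.push.mapHomologicalComplex (ComplexShape.up ℤ)).map_isZero hz)

variable [HasInjectiveResolutions (ModSite.Mod O_C)]
  (h3 : ∀ F : ModSite.Mod O_C, A F → ∀ p : ℕ, A' ((f.Rpush p).obj F))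

include h3

theorem cohIn_rpush_single (Y : ModSite.Mod O_C) (hY : A Y) (b : ℤ) :
    WSerre.cohIn A' ((SiteCmp.RpushD f).obj ((singleFunctor (ModSite.Mod O_C) b).obj Y)) := by
  let e : ((singleFunctor (ModSite.Mod O_C) 0).obj Y)⟦-b⟧ ≅
      (singleFunctor (ModSite.Mod O_C) b).obj Y :=
    ((singleFunctors (ModSite.Mod O_C)).shiftIso (-b) b 0 (by omega)).app Y
  obtain ⟨i⟩ := nonempty_rpush_shift_iso f ((singleFunctor (ModSite.Mod O_C) 0).obj Y) (-b)
  have h0 : WSerre.cohIn A'
      ((SiteCmp.RpushD f).obj ((singleFunctor (ModSite.Mod O_C) 0).obj Y)) := by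
    intro j
    by_cases hj : 0 ≤ j
    · obtain ⟨p, rfl⟩ := Int.eq_ofNat_of_zero_le hj
      obtain ⟨i'⟩ := nonempty_homology_rpush_single f Y p
      exact A'.prop_of_iso i'.symm (h3 Y hY p)
    · have : ((SiteCmp.RpushD f).obj ((singleFunctor (ModSite.Mod O_C) 0).obj Y)).IsGE 0 :=
        isGE_rpush f _ 0
      exact A'.prop_of_isZero (isZero_of_isGE _ 0 j (by omega))
  exact cohIn_of_iso A' (i.symm ≪≫ (SiteCmp.RpushD f).mapIso e) (cohIn_shift A' (-b) h0)

theorem cohIn_rpush_bounded :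
    ∀ (n : ℕ) (b : ℤ) (M : DerivedCategory (ModSite.Mod O_C)), WSerre.cohIn A M →
      M.IsGE (b - n + 1) → M.IsLE b → WSerre.cohIn A' ((SiteCmp.RpushD f).obj M) := by
  intro n
  induction n with
  | zero =>
    intro b M _ hGE hLE
    have : M.IsGE (b + 1) := by simpa using hGE
    exact cohIn_rpush_of_isZero f A' M (TStructure.t.isZero M b (b + 1))
  | succ n ih =>
    intro b M hM hGE hLE
    let t : Triangulated.TStructure (DerivedCategory (ModSite.Mod O_C)) := TStructure.t
    let T := (t.triangleLEGE (b - 1) b (by omega)).obj M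
    have hT : T ∈ distTriang _ := t.triangleLEGE_distinguished (b - 1) b (by omega) M
    have hGE' : M.IsGE (b - n) := by
      have e : b - ((n + 1 : ℕ) : ℤ) + 1 = b - n := by push_cast; ring
      rwa [e] at hGE
    have h₃ : WSerre.cohIn A' ((SiteCmp.RpushD f).obj T.obj₃) := by
      have g1 : T.obj₃.IsGE b := by
        change t.IsGE ((t.truncGE b).obj M) b
        infer_instance
      have g2 : T.obj₃.IsLE b := by
        change t.IsLE ((t.truncGE b).obj M) b
        infer_instance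
      obtain ⟨Y, ⟨e⟩⟩ := exists_iso_singleFunctor_obj_of_isGE_of_isLE T.obj₃ b
      have hY : A Y := by
        have h1 : A ((homologyFunctor (ModSite.Mod O_C) b).obj T.obj₃) := cohIn_truncGE A M hM b b
        exact A.prop_of_iso ((homologyFunctor (ModSite.Mod O_C) b).mapIso e ≪≫
          (singleFunctorCompHomologyFunctorIso (ModSite.Mod O_C) b).app Y) h1
      exact cohIn_of_iso A' ((SiteCmp.RpushD f).mapIso e.symm) (cohIn_rpush_single f A A' h3 Y hY b)
    have h₁ : WSerre.cohIn A' ((SiteCmp.RpushD f).obj T.obj₁) := by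
      have g1 : T.obj₁.IsLE (b - 1) := by
        change t.IsLE ((t.truncLE (b - 1)).obj M) (b - 1)
        infer_instance
      have g2 : T.obj₁.IsGE (b - 1 - n + 1) := by
        have e : b - 1 - (n : ℤ) + 1 = b - n := by ring
        rw [e]
        change t.IsGE ((t.truncLE (b - 1)).obj M) (b - n)
        infer_instance
      exact ih (b - 1) T.obj₁ (cohIn_truncLE A M hM (b - 1)) g2 g1
    exact cohIn_rpush_obj₂ f A' T hT h₁ h₃

theorem cohIn_rpush_plus (M : DerivedCategory (ModSite.Mod O_C)) (hM : WSerre.cohIn A M)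
    (a : ℤ) (hGE : M.IsGE a) : WSerre.cohIn A' ((SiteCmp.RpushD f).obj M) := by
  intro j
  let t : Triangulated.TStructure (DerivedCategory (ModSite.Mod O_C)) := TStructure.t
  let m : ℤ := max j a
  let T := (t.triangleLEGE m (m + 1) rfl).obj M
  have hT : T ∈ distTriang _ := t.triangleLEGE_distinguished m (m + 1) rfl M
  obtain ⟨T', hT', ⟨i₁⟩, ⟨i₂⟩, ⟨i₃⟩⟩ := exists_triangle_rpush f T hT
  have g3 : T.obj₃.IsGE (m + 1) := by
    change t.IsGE ((t.truncGE (m + 1)).obj M) (m + 1)
    infer_instance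
  have g3' : T'.obj₃.IsGE (m + 1) := by
    have := isGE_rpush f T.obj₃ (m + 1)
    exact TStructure.t.isGE_of_iso i₃.symm (m + 1)
  have hiso := isIso_homology_mor₁' T' hT' j
    (isZero_of_isGE T'.obj₃ (m + 1) (j - 1) (by omega))
    (isZero_of_isGE T'.obj₃ (m + 1) j (by omega))
  have g1 : T.obj₁.IsLE m := by
    change t.IsLE ((t.truncLE m).obj M) m
    infer_instance
  have g1' : T.obj₁.IsGE (m - ((m - a + 1).toNat : ℤ) + 1) := by
    have e : m - ((m - a + 1).toNat : ℤ) + 1 = a := by omega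
    rw [e]
    change t.IsGE ((t.truncLE m).obj M) a
    infer_instance
  have hb : WSerre.cohIn A' ((SiteCmp.RpushD f).obj T.obj₁) :=
    cohIn_rpush_bounded f A A' h3 (m - a + 1).toNat m T.obj₁ (cohIn_truncLE A M hM m) g1' g1
  exact A'.prop_of_iso ((homologyFunctor (ModSite.Mod O_D) j).mapIso i₁.symm ≪≫
    asIso ((homologyFunctor (ModSite.Mod O_D) j).map T'.mor₁) ≪≫
    (homologyFunctor (ModSite.Mod O_D) j).mapIso i₂) (hb j)

end Groth.Agent.H1.PushLoc
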