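import Groth.Agent.Lib.Helper1.QDescC

/-!
# Descent of representable open subspaces along an étale map: the descent step (helper1)
-/

set_option autoImplicit false
universe u
open CategoryTheory CategoryTheory.Limits AlgebraicGeometry Opposite

namespace Groth.Agent.H1.QDesc

open AlgSp Groth.Agent.Lib.helper5 Groth.Agent.Lib.helper5.OpenSub Groth.Agent.H1.QGlue
open Groth.Agent.Lib.helper5.LocPBC

variable {S : Scheme.{u}}

theorem repWith_etale_of_oi {A X : Sp S} (j : A ⟶ X) (hj : RepWith @IsOpenImmersion j) :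
    RepWith @Etale j :=
  Groth.Agent.S10194.repWith_mono (fun _ _ g hg => by
    have : IsOpenImmersion g := hg
    exact (inferInstance : Etale g)) hj

/-- The structure morphism of a representable open subspace of a space over `h_T` inherits the local
properties of the ambient morphism. -/
theorem props_of_oi {P : Sp S} {T' W' : Over S} (p1 : P ⟶ (yon S).obj T')
    (hs : IsSeparatedMor p1) (hq : LocP (@LocallyQuasiFinite ⊓ @LocallyOfFiniteType) p1)
    (α : (yon S).obj W' ⟶ P) (hα : RepWith @IsOpenImmersion α) (w' : W' ⟶ T')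
    (hw' : α ≫ p1 = (yon S).map w') :
    LocallyQuasiFinite w'.left ∧ LocallyOfFiniteType w'.left ∧ IsSeparated w'.left := by
  have h1 : (@LocallyQuasiFinite ⊓ @LocallyOfFiniteType : MorphismProperty Scheme.{u}) w'.left :=
    hq α (𝟙 _) w' (repWith_etale_of_oi α hα) (repWith_id _ T') (by rw [hw', Category.comp_id])
  have := mono_of_oi α hα
  have h2 : IsSeparatedMor ((yon S).map w') := by
    rw [← hw']
    exact isSeparatedMor_comp_mono α p1 hs
  exact ⟨h1.1, h1.2, (isSeparatedMor_yon_map_iff w').1 h2⟩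

theorem descend_rep {T T' W' : Over S} (e : T' ⟶ T) (he : Etale e.left) (hqc : QuasiCompact e.left)
    {X P : Sp S} (hX : IsAlgSpace X) (f : X ⟶ (yon S).obj T) (hfs : IsSeparatedMor f)
    (hfq : LocP (@LocallyQuasiFinite ⊓ @LocallyOfFiniteType) f)
    {p1 : P ⟶ (yon S).obj T'} {p2 : P ⟶ X} (sq : IsPullback p2 p1 f ((yon S).map e))
    (Ω : Set (Points X)) (hΩ : IsOpen Ω)
    (hΩe : ∀ x ∈ Ω, ∃ t' : T'.left, Points.map f x = Points.schemeHomeo T (e.left t'))
    (α : (yon S).obj W' ⟶ P) (hα : RepWith @IsOpenImmersion α)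
    (hαr : Set.range (Points.map α) = Points.map p2 ⁻¹' Ω)
    (w' : W' ⟶ T') (hw' : α ≫ p1 = (yon S).map w') (hw'qc : QuasiCompact w'.left) :
    ∃ (W : Over S) (i : (yon S).obj W ⟶ X) (w : W ⟶ T), RepWith @IsOpenImmersion i ∧
      i ≫ f = (yon S).map w ∧ QuasiCompact w.left ∧ Set.range (Points.map i) = Ω := by
  have hP : IsAlgSpace P :=
    isAlgSpace_of_isPullback (IsAlgSpace.yon_obj T).diag hX (IsAlgSpace.yon_obj T') sq
  -- the open image of `e`
  let D : T.left.Opens := ⟨Set.range e.left, e.left.isOpenMap.isOpen_range⟩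
  have hrange : Set.range e.left ⊆ Set.range D.ι := by
    rw [Scheme.Opens.range_ι]
    exact subset_rfl
  let e₀l : T'.left ⟶ D.toScheme := IsOpenImmersion.lift D.ι e.left hrange
  have he₀l : e₀l ≫ D.ι = e.left := IsOpenImmersion.lift_fac _ _ _
  let e₀ : T' ⟶ subOver T D := Over.homMk e₀l (by
    change e₀l ≫ D.ι ≫ T.hom = T'.hom
    rw [← Category.assoc, he₀l]
    exact Over.w e)
  have he₀ : e₀ ≫ subOverι T D = e := by
    ext
    exact he₀l
  have he₀et : Etale e₀.left := by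
    have : Etale (e₀l ≫ D.ι) := by rw [he₀l]; exact he
    exact Etale.of_comp e₀l D.ι
  have he₀surj : Surjective e₀.left := by
    refine ⟨fun y => ?_⟩
    obtain ⟨t', ht'⟩ : D.ι y ∈ Set.range e.left := by
      have h0 : D.ι y ∈ Set.range D.ι := ⟨y, rfl⟩
      rw [Scheme.Opens.range_ι] at h0
      exact h0
    refine ⟨t', ?_⟩
    apply D.ι.injective
    change (e₀l ≫ D.ι) t' = D.ι y
    rw [he₀l, ht']
  have hDqc : QuasiCompact D.ι := by
    have : QuasiCompact (e₀l ≫ D.ι) := by rw [he₀l]; exact hqc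
    exact quasiCompact_of_comp_surjective e₀l D.ι he₀surj.surj
  have hj₀mono : Mono (subOverι T D) := by
    have : Mono ((Over.forget S).map (subOverι T D)) := inferInstanceAs (Mono D.ι)
    exact (Over.forget S).mono_of_mono_map this
  have hyj₀mono : Mono ((yon S).map (subOverι T D)) := inferInstance
  -- the open subspace
  have hU : IsAlgSpace (sub X Ω) := isAlgSpace_sub hX hΩ
  obtain ⟨f₀, hf₀⟩ : ∃ f₀ : sub X Ω ⟶ (yon S).obj (subOver T D),
      f₀ ≫ (yon S).map (subOverι T D) = OpenSub.ι X Ω ≫ f := by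
    refine (factors_iff _ (repWith_subOverι T D) (OpenSub.ι X Ω ≫ f)).2 ?_
    rintro _ ⟨u, rfl⟩
    rw [range_map_subOverι, Points.map_comp]
    have hu : Points.map (OpenSub.ι X Ω) u ∈ Ω := (range_map_ι X Ω).subset ⟨u, rfl⟩
    obtain ⟨t', ht'⟩ := hΩe _ hu
    exact ⟨e.left t', ⟨t', rfl⟩, ht'.symm⟩
  -- the pullback of the open subspace to `P`
  have sqU : IsPullback (pullback.fst (OpenSub.ι X Ω) p2) (pullback.snd (OpenSub.ι X Ω) p2)
      (OpenSub.ι X Ω) p2 := IsPullback.of_hasPullback _ _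
  have hu₂ : RepWith @IsOpenImmersion (pullback.snd (OpenSub.ι X Ω) p2) :=
    (RepWith (S := S) @IsOpenImmersion).of_isPullback sqU (repWith_ι X hΩ)
  have hu₂r : Set.range (Points.map (pullback.snd (OpenSub.ι X Ω) p2)) = Points.map p2 ⁻¹' Ω := by
    rw [range_fst_of_isPullback sqU.flip, range_map_ι]
  obtain ⟨φ, hφiso, hφ⟩ := exists_iso_of_range_eq α _ hα hu₂ (hαr.trans hu₂r.symm)
  have sqb : IsPullback (φ ≫ pullback.fst (OpenSub.ι X Ω) p2) α (OpenSub.ι X Ω) p2 := by
    have h1 : IsPullback φ α (pullback.snd (OpenSub.ι X Ω) p2) (𝟙 P) :=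
      IsPullback.of_horiz_isIso ⟨by rw [hφ, Category.comp_id]⟩
    have h2 := h1.paste_horiz sqU
    rwa [Category.id_comp] at h2
  have sqT : IsPullback (φ ≫ pullback.fst (OpenSub.ι X Ω) p2) ((yon S).map w') f₀
      ((yon S).map e₀) := by
    have h1 := sqb.paste_vert sq
    rw [hw', ← hf₀, ← he₀, Functor.map_comp] at h1
    exact (Groth.Agent.S9888.isPullback_comp_mono_iff _).1 h1
  -- properties of `w'`
  have hp1s : IsSeparatedMor p1 := isSeparatedMor_of_isPullback sq hfs
  have hp1q : LocP (@LocallyQuasiFinite ⊓ @LocallyOfFiniteType) p1 :=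
    locP_of_isPullback locPData_lqf hX (IsAlgSpace.yon_obj T) (IsAlgSpace.yon_obj T') sq hfq
  obtain ⟨h1, h2, h3⟩ := props_of_oi p1 hp1s hp1q α hα w' hw'
  obtain ⟨W, c, w, hc, hcw, hwqc⟩ := exists_rep_of_etale_cover e₀ he₀et he₀surj hU f₀ w' h1 h2 h3
    hw'qc _ sqT
  refine ⟨W, c ≫ OpenSub.ι X Ω, w ≫ subOverι T D, ?_, ?_, ?_, ?_⟩
  · exact (RepWith (S := S) @IsOpenImmersion).comp_mem _ _
      (Groth.Agent.Lib.helper7.repWith_of_isIso _ c) (repWith_ι X hΩ)
  · rw [Category.assoc, ← hf₀, ← Category.assoc, hcw, Functor.map_comp]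
  · change QuasiCompact (w.left ≫ D.ι)
    infer_instance
  · refine Eq.trans ?_ (range_map_ι X Ω)
    ext x
    constructor
    · rintro ⟨y, rfl⟩
      exact ⟨Points.map c y, (Points.map_comp _ _ _).symm⟩
    · rintro ⟨y, rfl⟩
      refine ⟨Points.map (inv c) y, ?_⟩
      rw [Points.map_comp, ← Points.map_comp (inv c) c, IsIso.inv_hom_id, Points.map_id]

end Groth.Agent.H1.QDesc
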