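import Groth.Agent.Lib.Helper1.QDescD
import Groth.Agent.Lib.Helper1.MonoRepC

/-!
# Descent of representable open subspaces along an étale map: set-theoretic part (helper1)
-/

set_option autoImplicit false
universe u
open CategoryTheory CategoryTheory.Limits AlgebraicGeometry Opposite

namespace Groth.Agent.H1.QDesc

open AlgSp Groth.Agent.Lib.helper5 Groth.Agent.Lib.helper5.OpenSub Groth.Agent.H1.QGlue

variable {S : Scheme.{u}}

/-- Two representable open subspaces glue. -/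
theorem exists_rep_union₂ {X : Sp S} (hX : IsAlgSpace X) {W₁ W₂ : Over S}
    (a₁ : (yon S).obj W₁ ⟶ X) (a₂ : (yon S).obj W₂ ⟶ X) (h₁ : RepWith @IsOpenImmersion a₁)
    (h₂ : RepWith @IsOpenImmersion a₂) :
    ∃ (G₀ : Over S) (α : (yon S).obj G₀ ⟶ X) (g₁ : W₁ ⟶ G₀) (g₂ : W₂ ⟶ G₀),
      RepWith @IsOpenImmersion α ∧ (yon S).map g₁ ≫ α = a₁ ∧ (yon S).map g₂ ≫ α = a₂ ∧
      (∀ x : G₀.left, x ∈ Set.range g₁.left ∨ x ∈ Set.range g₂.left) ∧
      Set.range (Points.map α) = Set.range (Points.map a₁) ∪ Set.range (Points.map a₂) := by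
  let W : ULift.{u} Bool → Over S := fun b => if b.down then W₁ else W₂
  let a : ∀ b, (yon S).obj (W b) ⟶ X := fun b =>
    match b with
    | ⟨true⟩ => a₁
    | ⟨false⟩ => a₂
  have ha : ∀ b, RepWith @IsOpenImmersion (a b) := fun b =>
    match b with
    | ⟨true⟩ => h₁
    | ⟨false⟩ => h₂
  obtain ⟨G₀, α, g, hα, hg, -, hcov, hr⟩ := exists_rep_union hX a ha
  refine ⟨G₀, α, g ⟨true⟩, g ⟨false⟩, hα, hg ⟨true⟩, hg ⟨false⟩, ?_, ?_⟩
  · intro x
    obtain ⟨b, hb⟩ := hcov x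
    match b, hb with
    | ⟨true⟩, hb => exact Or.inl hb
    | ⟨false⟩, hb => exact Or.inr hb
  · rw [hr]
    ext x
    simp only [Set.mem_iUnion, Set.mem_union]
    constructor
    · rintro ⟨b, hb⟩
      match b, hb with
      | ⟨true⟩, hb => exact Or.inl hb
      | ⟨false⟩, hb => exact Or.inr hb
    · rintro (h | h)
      · exact ⟨⟨true⟩, h⟩
      · exact ⟨⟨false⟩, h⟩

/-- The key identity: the saturation of an open subspace of `P = X ×_T T'` under `P ⟶ X`. -/
theorem preimage_range_eq {X P P'' PC A AC : Sp S} {T' T'' C₀ : Over S}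
    {p2 : P ⟶ X} {p1 : P ⟶ (yon S).obj T'} {r : P'' ⟶ (yon S).obj T''} {π₁ π₂ : P'' ⟶ P}
    (hπ : IsPullback π₁ π₂ p2 p2) (Δ : T' ⟶ T'') (c : C₀ ⟶ T'')
    (hcov : ∀ t : T''.left, t ∈ Set.range Δ.left ∨ t ∈ Set.range c.left)
    {d : P ⟶ P''} (hd1 : d ≫ π₁ = 𝟙 _) (hd2 : d ≫ π₂ = 𝟙 _)
    (sqd : IsPullback d p1 r ((yon S).map Δ))
    {q1 : PC ⟶ (yon S).obj C₀} {κ : PC ⟶ P''} (sqκ : IsPullback κ q1 r ((yon S).map c))
    {a : A ⟶ P} {aC : AC ⟶ PC} {pr : AC ⟶ A} (sqa : IsPullback aC pr (κ ≫ π₁) a) :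
    Points.map p2 ⁻¹' (Set.range (Points.map (a ≫ p2))) =
      Set.range (Points.map a) ∪ Set.range (Points.map (aC ≫ κ ≫ π₂)) := by
  ext x'
  constructor
  · rintro ⟨y, hy⟩
    rw [Points.map_comp] at hy
    obtain ⟨z, hz1, hz2⟩ := Groth.Agent.Lib.helper10.exists_point_of_isPullback hπ
      (Points.map a y) x' hy
    obtain ⟨t, ht⟩ := (Points.schemeHomeo T'').surjective (Points.map r z)
    rcases hcov t with ⟨t', rfl⟩ | ⟨c₀, rfl⟩
    · left
      have h1 : Points.map r z = Points.map ((yon S).map Δ) (Points.schemeHomeo T' t') := by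
        rw [Points.map_yon_map_apply, ht]
      obtain ⟨x, hx, -⟩ := Groth.Agent.Lib.helper10.exists_point_of_isPullback sqd z _ h1
      have e1 : Points.map π₁ z = x := by
        rw [← hx, ← Points.map_comp, hd1, Points.map_id]
      have e2 : Points.map π₂ z = x := by
        rw [← hx, ← Points.map_comp, hd2, Points.map_id]
      exact ⟨y, by rw [← hz1, e1, ← e2, hz2]⟩
    · right
      have h1 : Points.map r z = Points.map ((yon S).map c) (Points.schemeHomeo C₀ c₀) := by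
        rw [Points.map_yon_map_apply, ht]
      obtain ⟨zC, hzC, -⟩ := Groth.Agent.Lib.helper10.exists_point_of_isPullback sqκ z _ h1
      have h2 : Points.map (κ ≫ π₁) zC = Points.map a y := by
        rw [Points.map_comp, hzC, hz1]
      obtain ⟨yC, hyC, -⟩ := Groth.Agent.Lib.helper10.exists_point_of_isPullback sqa zC y h2
      refine ⟨yC, ?_⟩
      rw [Points.map_comp, Points.map_comp, hyC, hzC, hz2]
  · rintro (⟨y, rfl⟩ | ⟨y, rfl⟩)
    · exact ⟨y, Points.map_comp _ _ _⟩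
    · refine ⟨Points.map pr y, ?_⟩
      rw [← Points.map_comp, ← Points.map_comp]
      congr 1
      rw [Category.assoc, Category.assoc, ← hπ.w, ← Category.assoc κ, ← Category.assoc aC,
        sqa.w, Category.assoc]

end Groth.Agent.H1.QDesc
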