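import Groth.Agent.Lib.Helper1.QDescE
import Groth.Agent.S10211

/-!
# Descent of representable open subspaces along an étale map: the induction (helper1)

Let `f : X ⟶ h_T` be a separated locally quasi-finite morphism from an algebraic space, `e : T' ⟶ T`
étale, separated and quasi-compact with fibres of bounded cardinality, and `h_{Y'} ⟶ X ×_T T'` a
representable open subspace, quasi-compact over `T'`.  Then its image in `X` is a representable open
subspace, quasi-compact over `T`.
-/

set_option autoImplicit false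
universe u
open CategoryTheory CategoryTheory.Limits AlgebraicGeometry Opposite

namespace Groth.Agent.H1.QDesc

open AlgSp Groth.Agent.Lib.helper5 Groth.Agent.Lib.helper5.OpenSub Groth.Agent.H1.QGlue
open Groth.Agent.Lib.helper5.LocPBC Groth.Agent.H1.MonoRep Groth.Agent.H1.ZarRep

variable {S : Scheme.{u}}

theorem isOpen_range_of_etale {A X : Sp S} (hA : IsAlgSpace A) (hX : IsAlgSpace X) (j : A ⟶ X)
    (hj : RepWith @Etale j) : IsOpen (Set.range (Points.map j)) :=
  (Groth.Agent.S10211.result (X := ⟨A, hA⟩) (Y := ⟨X, hX⟩) (ObjectProperty.homMk j)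
    (fun _ φ hφ => (RepWith (S := S) @Etale).comp_mem φ j hφ hj)).isOpen_range

theorem exists_rep_image (n : ℕ) : ∀ {T T' Y' : Over S} (e : T' ⟶ T) (_ : Etale e.left)
    (_ : IsSeparated e.left) (_ : QuasiCompact e.left) (_ : Bdd n e.left)
    {X P : Sp S} (_ : IsAlgSpace X) (f : X ⟶ (yon S).obj T) (_ : IsSeparatedMor f)
    (_ : LocP (@LocallyQuasiFinite ⊓ @LocallyOfFiniteType) f)
    {p1 : P ⟶ (yon S).obj T'} {p2 : P ⟶ X} (_ : IsPullback p2 p1 f ((yon S).map e))
    (a : (yon S).obj Y' ⟶ P) (_ : RepWith @IsOpenImmersion a) (y' : Y' ⟶ T')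
    (_ : a ≫ p1 = (yon S).map y') (_ : QuasiCompact y'.left),
    ∃ (W : Over S) (i : (yon S).obj W ⟶ X) (w : W ⟶ T), RepWith @IsOpenImmersion i ∧
      i ≫ f = (yon S).map w ∧ QuasiCompact w.left ∧
      Set.range (Points.map i) = Set.range (Points.map (a ≫ p2)) := by
  induction n with
  | zero =>
    intro T T' Y' e he hes heqc hb X P hX f hfs hfq p1 p2 sq a ha y' hy' hyqc
    haveI : IsEmpty T'.left := isEmpty_of_bdd_zero e.left hb
    haveI : IsEmpty Y'.left := ⟨fun y => IsEmpty.false (y'.left y)⟩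
    haveI : IsEmpty (Points ((yon S).obj Y')) := (Points.schemeHomeo Y').symm.toEquiv.isEmpty
    have h0 : Set.range (Points.map (a ≫ p2)) = ∅ := Set.range_eq_empty _
    have h1 : Set.range (Points.map a) = ∅ := Set.range_eq_empty _
    rw [h0]
    refine descend_rep e he heqc hX f hfs hfq sq ∅ isOpen_empty (fun x hx => hx.elim) a ha ?_ y' hy'
      hyqc
    rw [h1, Set.preimage_empty]
  | succ n ih =>
    intro T T' Y' e he hes heqc hb X P hX f hfs hfq p1 p2 sq a ha y' hy' hyqc
    have hP : IsAlgSpace P :=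
      isAlgSpace_of_isPullback (IsAlgSpace.yon_obj T).diag hX (IsAlgSpace.yon_obj T') sq
    have hp1s : IsSeparatedMor p1 := isSeparatedMor_of_isPullback sq hfs
    have hp1q : LocP (@LocallyQuasiFinite ⊓ @LocallyOfFiniteType) p1 :=
      locP_of_isPullback locPData_lqf hX (IsAlgSpace.yon_obj T) (IsAlgSpace.yon_obj T') sq hfq
    -- the self-product of `T'`
    let T'' : Over S := Limits.pullback e e
    let p₁ : T'' ⟶ T' := pullback.fst e e
    let p₂ : T'' ⟶ T' := pullback.snd e e
    have sqT : IsPullback p₁ p₂ e e := IsPullback.of_hasPullback e e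
    have sqT' := sqT.map (Over.forget S)
    let Δ : T' ⟶ T'' := sqT.lift (𝟙 _) (𝟙 _) rfl
    have hΔ1 : Δ ≫ p₁ = 𝟙 _ := sqT.lift_fst _ _ _
    have hΔ2 : Δ ≫ p₂ = 𝟙 _ := sqT.lift_snd _ _ _
    have hΔ1' : Δ.left ≫ p₁.left = 𝟙 _ := by
      rw [← Over.comp_left, hΔ1]
      rfl
    have hΔ2' : Δ.left ≫ p₂.left = 𝟙 _ := by
      rw [← Over.comp_left, hΔ2]
      rfl
    haveI hp₁e : Etale p₁.left := MorphismProperty.of_isPullback (P := @Etale) sqT'.flip he
    haveI hp₂e : Etale p₂.left := MorphismProperty.of_isPullback (P := @Etale) sqT' he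
    haveI hp₁s : IsSeparated p₁.left :=
      MorphismProperty.of_isPullback (P := @IsSeparated) sqT'.flip hes
    haveI hp₂s : IsSeparated p₂.left := MorphismProperty.of_isPullback (P := @IsSeparated) sqT' hes
    haveI hp₂q : QuasiCompact p₂.left :=
      MorphismProperty.of_isPullback (P := @QuasiCompact) sqT' heqc
    haveI hΔc : IsClosedImmersion Δ.left := by
      haveI : IsClosedImmersion (Δ.left ≫ p₁.left) := by
        rw [hΔ1']
        infer_instance
      exact IsClosedImmersion.of_comp Δ.left p₁.left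
    haveI hΔe : Etale Δ.left := by
      haveI : Etale (Δ.left ≫ p₁.left) := by
        rw [hΔ1']
        infer_instance
      exact Etale.of_comp Δ.left p₁.left
    have hΔo : IsOpen (Set.range Δ.left) := Δ.left.isOpenMap.isOpen_range
    have hΔcl : IsClosed (Set.range Δ.left) := (Scheme.Hom.isClosedEmbedding Δ.left).isClosed_range
    let C : T''.left.Opens := ⟨(Set.range Δ.left)ᶜ, hΔcl.isOpen_compl⟩
    let T''c : Over S := ov T'' C
    let ιC : T''c ⟶ T'' := ovι T'' C
    haveI hCc : IsClosedImmersion C.ι := isClosedImmersion_of_isOpenImmersion C.ι (by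
      rw [Scheme.Opens.range_ι]
      exact hΔo.isClosed_compl)
    let e' : T''c ⟶ T' := ιC ≫ p₂
    have he'l : e'.left = C.ι ≫ p₂.left := rfl
    have he'e : Etale e'.left := by rw [he'l]; infer_instance
    have he's : IsSeparated e'.left := by rw [he'l]; infer_instance
    have he'q : QuasiCompact e'.left := by rw [he'l]; infer_instance
    have hb' : Bdd n e'.left := by
      rw [he'l]
      have sqT'' : IsPullback p₁.left p₂.left e.left e.left := sqT'
      exact bdd_step sqT'' Δ.left hΔ1' hΔ2' hb C.ι (fun x => x.2)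
    have hcovT : ∀ t : T''.left, t ∈ Set.range Δ.left ∨ t ∈ Set.range ιC.left := by
      intro t
      by_cases ht : t ∈ Set.range Δ.left
      · exact Or.inl ht
      · right
        change t ∈ Set.range C.ι
        rw [Scheme.Opens.range_ι]
        exact ht
    -- the kernel pair of `p2`
    have sq₂ : IsPullback (pullback.fst p1 ((yon S).map p₂)) (pullback.snd p1 ((yon S).map p₂)) p1
        ((yon S).map p₂) := IsPullback.of_hasPullback _ _
    obtain ⟨π₁, h1, h2, sq₁, hπ⟩ := exists_pi1 sq (sqT.map (yon S)) sq₂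
    obtain ⟨d, hd1, hd2, sqd⟩ := exists_diag sq sq₂ h1 h2 ((yon S).map Δ)
      (by rw [← Functor.map_comp, hΔ1, CategoryTheory.Functor.map_id])
      (by rw [← Functor.map_comp, hΔ2, CategoryTheory.Functor.map_id])
    -- the part over `C`
    have sqC : IsPullback (pullback.fst p1 ((yon S).map e')) (pullback.snd p1 ((yon S).map e')) p1
        ((yon S).map e') := IsPullback.of_hasPullback _ _
    have sqC' : IsPullback (pullback.fst p1 ((yon S).map e')) (pullback.snd p1 ((yon S).map e')) p1
        ((yon S).map ιC ≫ (yon S).map p₂) := by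
      rw [← Functor.map_comp]
      exact sqC
    obtain ⟨κ, hκ2, -, sqκ, sqσ⟩ := exists_kappa sq₂ sq₁ ((yon S).map ιC) sqC'
    -- the base change of `Y'`
    let YC : Over S := Limits.pullback y' (ιC ≫ p₁)
    let pr₁ : YC ⟶ Y' := pullback.fst y' (ιC ≫ p₁)
    let pr₂ : YC ⟶ T''c := pullback.snd y' (ιC ≫ p₁)
    have sqY : IsPullback pr₁ pr₂ y' (ιC ≫ p₁) := IsPullback.of_hasPullback _ _
    have hwC : ((yon S).map pr₁ ≫ a) ≫ p1 = (yon S).map pr₂ ≫ (yon S).map ιC ≫ (yon S).map p₁ := by
      rw [Category.assoc, hy', ← Functor.map_comp, sqY.w, Functor.map_comp, Functor.map_comp]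
    have haC1 : sqσ.lift _ _ hwC ≫ κ ≫ π₁ = (yon S).map pr₁ ≫ a := sqσ.lift_fst _ _ _
    have haC2 : sqσ.lift _ _ hwC ≫ pullback.snd p1 ((yon S).map e') = (yon S).map pr₂ :=
      sqσ.lift_snd _ _ _
    have sqa : IsPullback (sqσ.lift _ _ hwC) ((yon S).map pr₁) (κ ≫ π₁) a := by
      refine IsPullback.of_right ?_ haC1 sqσ.flip
      rw [haC2, hy', ← Functor.map_comp]
      exact sqY.flip.map (yon S)
    have haCoi : RepWith @IsOpenImmersion (sqσ.lift _ _ hwC) :=
      (RepWith (S := S) @IsOpenImmersion).of_isPullback sqa.flip ha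
    have hpr₂qc : QuasiCompact pr₂.left :=
      MorphismProperty.of_isPullback (P := @QuasiCompact) (sqY.map (Over.forget S)) hyqc
    -- induction hypothesis
    obtain ⟨W₁, i₁, w₁, hi₁, hi₁w, hw₁qc, hr₁⟩ := ih e' he'e he's he'q hb' hP p1 hp1s hp1q sqC
      (sqσ.lift _ _ hwC) haCoi pr₂ haC2 hpr₂qc
    -- glue
    obtain ⟨W'', α, g₁, g₂, hα, hg₁, hg₂, hgcov, hαr⟩ := exists_rep_union₂ hP a i₁ ha hi₁
    obtain ⟨w'', hw''⟩ := (yon S).map_surjective (α ≫ p1)
    have hgw₁ : g₁ ≫ w'' = y' := by
      apply (yon S).map_injective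
      rw [Functor.map_comp, hw'', ← Category.assoc, hg₁, hy']
    have hgw₂ : g₂ ≫ w'' = w₁ := by
      apply (yon S).map_injective
      rw [Functor.map_comp, hw'', ← Category.assoc, hg₂, hi₁w]
    have hw''qc : QuasiCompact w''.left := by
      haveI : QuasiCompact (g₁.left ≫ w''.left) := by
        rw [← Over.comp_left, hgw₁]
        exact hyqc
      haveI : QuasiCompact (g₂.left ≫ w''.left) := by
        rw [← Over.comp_left, hgw₂]
        exact hw₁qc
      exact quasiCompact_of_two g₁.left g₂.left w''.left hgcov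
    -- the open set
    have hp2et : RepWith @Etale p2 :=
      (RepWith (S := S) @Etale).of_isPullback sq.flip ((repWith_yon_map_iff _ _).2 he)
    have hΩ : IsOpen (Set.range (Points.map (a ≫ p2))) :=
      isOpen_range_of_etale (IsAlgSpace.yon_obj Y') hX _
        ((RepWith (S := S) @Etale).comp_mem _ _ (repWith_etale_of_oi a ha) hp2et)
    have hΩe : ∀ x ∈ Set.range (Points.map (a ≫ p2)),
        ∃ t' : T'.left, Points.map f x = Points.schemeHomeo T (e.left t') := by
      rintro _ ⟨y, rfl⟩
      obtain ⟨y₀, rfl⟩ := (Points.schemeHomeo Y').surjective y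
      refine ⟨y'.left y₀, ?_⟩
      rw [← Points.map_comp, Category.assoc, sq.w, ← Category.assoc, hy', ← Functor.map_comp,
        Points.map_yon_map_apply]
      rfl
    refine descend_rep e he heqc hX f hfs hfq sq _ hΩ hΩe α hα ?_ w'' hw''.symm hw''qc
    rw [hαr, hr₁, preimage_range_eq hπ Δ ιC hcovT hd1 hd2 sqd sqκ sqa, ← Category.assoc _ κ,
      Category.assoc _ κ, hκ2]

end Groth.Agent.H1.QDesc
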