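import Groth.Agent.Lib.Helper1.QDescF
import Groth.Agent.Lib.Helper1.MonoRepF

/-!
# Descent of representable open subspaces along an étale map of affine schemes (helper1)
-/

set_option autoImplicit false
universe u
open CategoryTheory CategoryTheory.Limits AlgebraicGeometry Opposite

namespace Groth.Agent.H1.QDesc

open AlgSp Groth.Agent.Lib.helper5 Groth.Agent.Lib.helper5.OpenSub Groth.Agent.H1.QGlue
open Groth.Agent.Lib.helper5.LocPBC Groth.Agent.H1.MonoRep Groth.Agent.H1.ZarRep

variable {S : Scheme.{u}}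

theorem bdd_mono_comp {A B C : Scheme.{u}} (i : A ⟶ B) [Mono i] (g : B ⟶ C) {n : ℕ}
    (h : Bdd n g) : Bdd n (i ≫ g) := by
  intro K hK x hx
  obtain ⟨a, b, hab, h'⟩ := h K hK (fun k => x k ≫ i) (fun a b => by
    rw [Category.assoc, Category.assoc]
    exact hx a b)
  exact ⟨a, b, hab, (cancel_mono i).1 h'⟩

/-- Zariski locally on the source an étale morphism has fibres of bounded cardinality. -/
theorem exists_bdd_nbhd {T' T : Scheme.{u}} (e : T' ⟶ T) [Etale e] (x : T') :
    ∃ (O : T'.Opens) (n : ℕ), x ∈ O ∧ IsAffine O.toScheme ∧ Bdd n (O.ι ≫ e) := by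
  obtain ⟨A, _, P, jY, O, i, hjY, hxO, hi, hcomp⟩ := exists_stdEtale_factor e x
  refine ⟨O, P.f.natDegree, hxO, isAffine_of_isAffineHom i, ?_⟩
  rw [hcomp]
  exact bdd_mono_comp i _ (bdd_comp_mono _ jY (bdd_stdEtale P))

/-- Base change of a representable open piece of `P` over `h_{T'}` along `O ⟶ T'`. -/
theorem exists_baseChange_open {P PO : Sp S} {T' Y' O : Over S} (p1 : P ⟶ (yon S).obj T')
    (a : (yon S).obj Y' ⟶ P) (y' : Y' ⟶ T') (hy' : a ≫ p1 = (yon S).map y') (o : O ⟶ T')
    {σ : PO ⟶ P} {q1 : PO ⟶ (yon S).obj O} (sqσ : IsPullback σ q1 p1 ((yon S).map o)) :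
    ∃ aO : (yon S).obj (Limits.pullback y' o) ⟶ PO,
      aO ≫ σ = (yon S).map (pullback.fst y' o) ≫ a ∧
      aO ≫ q1 = (yon S).map (pullback.snd y' o) ∧
      IsPullback aO ((yon S).map (pullback.fst y' o)) σ a := by
  have sqY : IsPullback (pullback.fst y' o) (pullback.snd y' o) y' o := IsPullback.of_hasPullback _ _
  have hw : ((yon S).map (pullback.fst y' o) ≫ a) ≫ p1 =
      (yon S).map (pullback.snd y' o) ≫ (yon S).map o := by
    rw [Category.assoc, hy', ← Functor.map_comp, sqY.w, Functor.map_comp]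
  have h1 : sqσ.lift _ _ hw ≫ σ = (yon S).map (pullback.fst y' o) ≫ a := sqσ.lift_fst _ _ _
  have h2 : sqσ.lift _ _ hw ≫ q1 = (yon S).map (pullback.snd y' o) := sqσ.lift_snd _ _ _
  refine ⟨sqσ.lift _ _ hw, h1, h2, ?_⟩
  refine IsPullback.of_right ?_ h1 sqσ.flip
  rw [h2, hy']
  exact sqY.flip.map (yon S)


/-- **Descent of representable open subspaces.**  Let `f : X ⟶ h_T` be separated and locally quasi-finite with
`T` affine, `e : T' ⟶ T` étale with `T'` affine, and `h_{Y'} ⟶ X ×_T T'` a representable open subspace with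
`Y'` quasi-compact over `T'`.  Its image in `X` is a representable quasi-compact open subspace. -/
theorem exists_rep_image_affine {T T' Y' : Over S} [IsAffine T.left] [IsAffine T'.left]
    (e : T' ⟶ T) [Etale e.left] {X P : Sp S} (hX : IsAlgSpace X) (f : X ⟶ (yon S).obj T)
    (hfs : IsSeparatedMor f) (hfq : LocP (@LocallyQuasiFinite ⊓ @LocallyOfFiniteType) f)
    {p1 : P ⟶ (yon S).obj T'} {p2 : P ⟶ X} (sq : IsPullback p2 p1 f ((yon S).map e))
    (a : (yon S).obj Y' ⟶ P) (ha : RepWith @IsOpenImmersion a) (y' : Y' ⟶ T')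
    (hy' : a ≫ p1 = (yon S).map y') (hyqc : QuasiCompact y'.left) :
    ∃ (W : Over S) (i : (yon S).obj W ⟶ X), RepWith @IsOpenImmersion i ∧ CompactSpace W.left ∧
      Set.range (Points.map i) = Set.range (Points.map (a ≫ p2)) := by
  -- local pieces
  have hloc : ∀ x : T'.left, ∃ (O : Over S) (o : O ⟶ T') (W : Over S) (i : (yon S).obj W ⟶ X),
      x ∈ Set.range o.left ∧ RepWith @IsOpenImmersion i ∧
      Set.range (Points.map i) =
        Set.range (Points.map ((yon S).map (pullback.fst y' o) ≫ a ≫ p2)) := by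
    intro x
    obtain ⟨O, n, hxO, hOaff, hb⟩ := exists_bdd_nbhd e.left x
    let o : ov T' O ⟶ T' := ovι T' O
    have hol : (o ≫ e).left = O.ι ≫ e.left := rfl
    haveI : IsAffine (ov T' O).left := hOaff
    have he1 : Etale (o ≫ e).left := by rw [hol]; infer_instance
    have he2 : IsSeparated (o ≫ e).left := inferInstance
    have he3 : QuasiCompact (o ≫ e).left := inferInstance
    have sqσ : IsPullback (pullback.fst p1 ((yon S).map o)) (pullback.snd p1 ((yon S).map o)) p1
        ((yon S).map o) := IsPullback.of_hasPullback _ _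
    have sqx : IsPullback (pullback.fst p1 ((yon S).map o) ≫ p2) (pullback.snd p1 ((yon S).map o)) f
        ((yon S).map (o ≫ e)) := by
      rw [Functor.map_comp]
      exact sqσ.paste_horiz sq
    obtain ⟨aO, h1, h2, sqa⟩ := exists_baseChange_open p1 a y' hy' o sqσ
    have haO : RepWith @IsOpenImmersion aO :=
      (RepWith (S := S) @IsOpenImmersion).of_isPullback sqa.flip ha
    have hqc : QuasiCompact (pullback.snd y' o).left :=
      MorphismProperty.of_isPullback (P := @QuasiCompact)
        ((IsPullback.of_hasPullback y' o).map (Over.forget S)) hyqc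
    obtain ⟨W, i, w, hi, -, -, hr⟩ := exists_rep_image n (o ≫ e) he1 he2 he3 (by rw [hol]; exact hb)
      hX f hfs hfq sqx aO haO (pullback.snd y' o) h2 hqc
    refine ⟨ov T' O, o, W, i, ?_, hi, ?_⟩
    · change x ∈ Set.range O.ι
      rw [Scheme.Opens.range_ι]
      exact hxO
    · rw [hr, ← Category.assoc aO, h1, Category.assoc]
  choose O o W i hxo hi hr using hloc
  obtain ⟨G₀, α, g, hα, hg, -, hcov, hαr⟩ := exists_rep_union hX i hi
  have hrange : Set.range (Points.map α) = Set.range (Points.map (a ≫ p2)) := by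
    rw [hαr]
    apply Set.Subset.antisymm
    · intro z hz
      obtain ⟨x, hx⟩ := Set.mem_iUnion.1 hz
      rw [hr x] at hx
      obtain ⟨y, rfl⟩ := hx
      exact ⟨Points.map ((yon S).map (pullback.fst y' (o x))) y, (Points.map_comp _ _ _).symm⟩
    · rintro _ ⟨y, rfl⟩
      obtain ⟨y₀, rfl⟩ := (Points.schemeHomeo Y').surjective y
      obtain ⟨t, ht⟩ := hxo (y'.left y₀)
      have sqY : IsPullback ((yon S).map (pullback.fst y' (o (y'.left y₀))))
          ((yon S).map (pullback.snd y' (o (y'.left y₀)))) ((yon S).map y')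
          ((yon S).map (o (y'.left y₀))) := (IsPullback.of_hasPullback _ _).map (yon S)
      obtain ⟨w, hw, -⟩ := Groth.Agent.Lib.helper10.exists_point_of_isPullback sqY
        (Points.schemeHomeo Y' y₀) (Points.schemeHomeo _ t) (by
          rw [Points.map_yon_map_apply, Points.map_yon_map_apply, ht])
      refine Set.mem_iUnion.2 ⟨y'.left y₀, ?_⟩
      rw [hr]
      exact ⟨w, by rw [Points.map_comp, hw]⟩
  refine ⟨G₀, α, hα, ?_, hrange⟩
  -- compactness
  haveI : CompactSpace Y'.left := by
    haveI : QuasiCompact y'.left := hyqc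
    exact QuasiCompact.compactSpace_of_compactSpace y'.left
  haveI : CompactSpace (Points ((yon S).obj Y')) := (Points.schemeHomeo Y').compactSpace
  have hK : IsCompact (Set.range (Points.map α)) := by
    rw [hrange]
    exact isCompact_range (Points.continuous_map _)
  haveI := mono_of_oi α hα
  have hemb : Topology.IsOpenEmbedding (Points.map α) :=
    Topology.IsOpenEmbedding.of_continuous_injective_isOpenMap (Points.continuous_map α)
      (Groth.Agent.H1.MonoSp.points_map_injective_of_mono α)
      (Groth.Agent.S10211.result (X := ⟨_, IsAlgSpace.yon_obj G₀⟩) (Y := ⟨X, hX⟩)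
        (ObjectProperty.homMk α)
        (fun _ φ hφ => (RepWith (S := S) @Etale).comp_mem φ α hφ (repWith_etale_of_oi α hα)))
  haveI : CompactSpace (Points ((yon S).obj G₀)) := by
    rw [← isCompact_univ_iff, ← Set.preimage_range (f := Points.map α)]
    exact (hemb.isInducing.isCompact_preimage_iff subset_rfl).2 hK
  exact (Points.schemeHomeo G₀).symm.compactSpace

end Groth.Agent.H1.QDesc
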