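import Groth.Agent.Lib.Helper1.QDescG
import Groth.Agent.Lib.Helper5.AlgSpEtaleMono
import Groth.Agent.Lib.Helper5.FieldQuot

/-!
# Open immersions from finite étale-local charts (helper1)
-/

set_option autoImplicit false
universe u
open CategoryTheory CategoryTheory.Limits AlgebraicGeometry Opposite

namespace Groth.Agent.H1.QLoc

open AlgSp Groth.Agent.Lib.helper5 Groth.Agent.Lib.helper5.OpenSub

variable {S : Scheme.{u}}

/-- For a separated `s : F ⟶ h_T`, the kernel pair of a chart `h_U ⟶ F` is a closed subscheme of `U ×_T U`. -/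
theorem isClosedImmersion_kernelPair {T U R : Over S} {F : Sp S}
    (s : F ⟶ (yon S).obj T) (hsep : IsSeparatedMor s) (p : (yon S).obj U ⟶ F) (t : U ⟶ T)
    (ht : (yon S).map t = p ≫ s) (r₁ r₂ : R ⟶ U)
    (hKP : IsPullback ((yon S).map r₁) ((yon S).map r₂) p p) (hr : r₁ ≫ t = r₂ ≫ t) :
    IsClosedImmersion (pullback.lift r₁ r₂ hr).left := by
  have sqV : IsPullback (pullback.fst t t) (pullback.snd t t) t t := IsPullback.of_hasPullback _ _
  have sqVy := sqV.map (yon S)
  have hg : ((yon S).map (pullback.fst t t) ≫ p) ≫ s = ((yon S).map (pullback.snd t t) ≫ p) ≫ s := by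
    rw [Category.assoc, Category.assoc, ← ht]
    exact sqVy.w
  let g : (yon S).obj (pullback t t) ⟶ pullback s s := pullback.lift _ _ hg
  let δ : R ⟶ pullback t t := pullback.lift r₁ r₂ hr
  have hδ1 : δ ≫ pullback.fst t t = r₁ := pullback.lift_fst _ _ _
  have hδ2 : δ ≫ pullback.snd t t = r₂ := pullback.lift_snd _ _ _
  have hg1 : g ≫ pullback.fst s s = (yon S).map (pullback.fst t t) ≫ p := pullback.lift_fst _ _ _
  have hg2 : g ≫ pullback.snd s s = (yon S).map (pullback.snd t t) ≫ p := pullback.lift_snd _ _ _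
  have hcomm : ((yon S).map r₁ ≫ p) ≫ pullback.diagonal s = (yon S).map δ ≫ g := by
    apply pullback.hom_ext
    · rw [Category.assoc, pullback.diagonal_fst, Category.comp_id, Category.assoc, hg1,
        ← Category.assoc, ← Functor.map_comp, hδ1]
    · rw [Category.assoc, pullback.diagonal_snd, Category.comp_id, Category.assoc, hg2,
        ← Category.assoc, ← Functor.map_comp, hδ2, hKP.w]
  have sq : IsPullback ((yon S).map r₁ ≫ p) ((yon S).map δ) (pullback.diagonal s) g := by
    refine IsPullback.of_isLimit (c := PullbackCone.mk _ _ hcomm) ?_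
    refine PullbackCone.IsLimit.mk hcomm (fun c => ?_) (fun c => ?_) (fun c => ?_)
      (fun c m hm1 hm2 => ?_)
    · refine hKP.lift (c.snd ≫ (yon S).map (pullback.fst t t)) (c.snd ≫ (yon S).map (pullback.snd t t)) ?_
      have h1 := congrArg (fun k => k ≫ pullback.fst s s) c.condition
      have h2 := congrArg (fun k => k ≫ pullback.snd s s) c.condition
      simp only [Category.assoc, pullback.diagonal_fst, pullback.diagonal_snd, Category.comp_id,
        hg1, hg2] at h1 h2
      rw [Category.assoc, Category.assoc, ← h1, ← h2]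
    · have h1 := congrArg (fun k => k ≫ pullback.fst s s) c.condition
      simp only [Category.assoc, pullback.diagonal_fst, Category.comp_id, hg1] at h1
      rw [← Category.assoc, hKP.lift_fst, Category.assoc, ← h1]
    · apply sqVy.hom_ext
      · rw [Category.assoc, ← Functor.map_comp, hδ1, hKP.lift_fst]
      · rw [Category.assoc, ← Functor.map_comp, hδ2, hKP.lift_snd]
    · apply hKP.hom_ext
      · rw [hKP.lift_fst, ← hm2, Category.assoc, ← Functor.map_comp, hδ1]
      · rw [hKP.lift_snd, ← hm2, Category.assoc, ← Functor.map_comp, hδ2]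
  exact hsep.2 _ _ _ sq

/-- **Lemma M'.**  Let `p1 : P ⟶ h_{T'}` be a separated morphism from an algebraic space, `b : h_{V'} ⟶ P` étale with
`V'` finite over `T'`, and assume that geometric points of `V'` over the point `t₀` of `T'` are determined by their
image in `T'`.  Then over an affine open neighbourhood `D` of `t₀` the chart `b` is an open immersion. -/
theorem exists_open_mono {T' V' : Over S} (t : V' ⟶ T') [IsFinite t.left]
    {P : Sp S} (hP : IsAlgSpace P) (p1 : P ⟶ (yon S).obj T') (hsep : IsSeparatedMor p1)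
    (b : (yon S).obj V' ⟶ P) (hb : RepWith @Etale b) (hbt : b ≫ p1 = (yon S).map t)
    (t₀ : T'.left)
    (RAD : ∀ (K : Type u) [Field K] (x₁ x₂ : Spec (.of K) ⟶ V'.left),
      x₁ ≫ t.left = x₂ ≫ t.left → (∀ w, (x₁ ≫ t.left) w = t₀) → x₁ = x₂) :
    ∃ D : T'.left.Opens, IsAffineOpen D ∧ t₀ ∈ D ∧
      RepWith @IsOpenImmersion ((yon S).map (subOverι V' (t.left ⁻¹ᵁ D)) ≫ b) := by
  classical
  obtain ⟨R, r₂, r₁', hKP'⟩ := hP.representable_from_yon b b
  obtain ⟨r₁, rfl⟩ := (yon S).map_surjective r₁'
  have hKP : IsPullback ((yon S).map r₁) ((yon S).map r₂) b b := hKP'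
  have hr : r₁ ≫ t = r₂ ≫ t := (yon S).map_injective (by
    rw [Functor.map_comp, Functor.map_comp, ← hbt, ← Category.assoc, hKP.w, Category.assoc])
  have hr₂ : Etale r₂.left := hb.2 _ _ _ hKP
  have hr₁ : Etale r₁.left := hb.2 _ _ _ hKP.flip
  let δ : R ⟶ pullback t t := pullback.lift r₁ r₂ hr
  have hδ : IsClosedImmersion δ.left :=
    isClosedImmersion_kernelPair p1 hsep b t hbt.symm r₁ r₂ hKP hr
  have hδ1 : δ ≫ pullback.fst t t = r₁ := pullback.lift_fst _ _ _
  have sqVl : IsPullback (pullback.fst t t).left (pullback.snd t t).left t.left t.left :=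
    (IsPullback.of_hasPullback t t).map (Over.forget S)
  have hfst : IsFinite (pullback.fst t t).left :=
    MorphismProperty.of_isPullback (P := @IsFinite) sqVl.flip inferInstance
  have hπ : IsFinite (r₁ ≫ t).left := by
    rw [← hδ1]
    simp only [Over.comp_left]
    infer_instance
  -- the diagonal
  obtain ⟨dg', hdg1', hdg2'⟩ := hKP.exists_lift (𝟙 _) (𝟙 _) rfl
  obtain ⟨dg, rfl⟩ := (yon S).map_surjective dg'
  have hdg1 : dg ≫ r₁ = 𝟙 V' := (yon S).map_injective (by
    rw [Functor.map_comp, hdg1', CategoryTheory.Functor.map_id])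
  have hdg2 : dg ≫ r₂ = 𝟙 V' := (yon S).map_injective (by
    rw [Functor.map_comp, hdg2', CategoryTheory.Functor.map_id])
  have hdg1l : dg.left ≫ r₁.left = 𝟙 V'.left := by rw [← Over.comp_left, hdg1]; rfl
  have hdg2l : dg.left ≫ r₂.left = 𝟙 V'.left := by rw [← Over.comp_left, hdg2]; rfl
  have hdgE : Etale dg.left := by
    haveI : Etale (dg.left ≫ r₁.left) := by rw [hdg1l]; infer_instance
    exact Etale.of_comp dg.left r₁.left
  haveI : Mono dg.left := mono_of_mono_fac hdg1l
  have hdgOI : IsOpenImmersion dg.left := IsOpenImmersion.of_flat_of_mono dg.left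
  let π : R.left ⟶ T'.left := (r₁ ≫ t).left
  haveI : IsFinite π := hπ
  let Z : Set T'.left := π '' (Set.range dg.left)ᶜ
  have hZ : IsClosed Z := π.isClosedMap _ hdgOI.isOpen_range.isClosed_compl
  have ht₀ : t₀ ∉ Z := by
    rintro ⟨z, hz, hzt⟩
    apply hz
    let x : Spec (R.left.residueField z) ⟶ R.left := R.left.fromSpecResidueField z
    have h12 : x ≫ r₁.left = x ≫ r₂.left := by
      apply RAD (R.left.residueField z)
      · simp only [Category.assoc]
        rw [← Over.comp_left, ← Over.comp_left, hr]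
      · intro w
        rw [Category.assoc, ← Over.comp_left]
        show π (x w) = t₀
        rw [Scheme.fromSpecResidueField_apply]
        exact hzt
    have hx : x = (x ≫ r₁.left) ≫ dg.left := by
      let W : Over S := Over.mk (x ≫ R.hom)
      let xo : W ⟶ R := Over.homMk x rfl
      have h12o : xo ≫ r₂ = xo ≫ r₁ := Over.OverMorphism.ext h12.symm
      have : xo = (xo ≫ r₁) ≫ dg := by
        apply (yon S).map_injective
        apply hKP.hom_ext
        · rw [← Functor.map_comp, ← Functor.map_comp]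
          congr 1
          rw [Category.assoc, hdg1, Category.comp_id]
        · rw [← Functor.map_comp, ← Functor.map_comp]
          congr 1
          rw [Category.assoc, hdg2, Category.comp_id, h12o]
      exact congrArg (fun k => k.left) this
    obtain ⟨w⟩ : Nonempty (Spec (R.left.residueField z)) := inferInstance
    refine ⟨(x ≫ r₁.left) w, ?_⟩
    rw [← Scheme.Hom.comp_apply, ← hx, Scheme.fromSpecResidueField_apply]
  obtain ⟨D, hD, ht₀D, hDZ⟩ : ∃ D : T'.left.Opens, IsAffineOpen D ∧ t₀ ∈ D ∧
      (D : Set T'.left) ⊆ Zᶜ := by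
    obtain ⟨_, ⟨D, hD, rfl⟩, h1, h2⟩ := T'.left.isBasis_affineOpens.exists_subset_of_mem_open
      (show t₀ ∈ Zᶜ from ht₀) hZ.isOpen_compl
    exact ⟨D, hD, h1, h2⟩
  refine ⟨D, hD, ht₀D, ?_⟩
  let j : subOver V' (t.left ⁻¹ᵁ D) ⟶ V' := subOverι V' (t.left ⁻¹ᵁ D)
  haveI : Mono j := by
    haveI : Mono ((Over.forget S).map j) := inferInstanceAs (Mono (t.left ⁻¹ᵁ D).ι)
    exact (Over.forget S).mono_of_mono_map inferInstance
  have hmono : Mono ((yon S).map j ≫ b) := by
    apply FieldQuot.mono_of_sections_unique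
    intro W c₁ c₂ h
    obtain ⟨g₁, rfl⟩ := (yon S).map_surjective c₁
    obtain ⟨g₂, rfl⟩ := (yon S).map_surjective c₂
    congr 1
    obtain ⟨l', hl1', hl2'⟩ := hKP.exists_lift ((yon S).map (g₁ ≫ j)) ((yon S).map (g₂ ≫ j)) (by
      simpa using h)
    obtain ⟨l, rfl⟩ := (yon S).map_surjective l'
    have hl1 : l ≫ r₁ = g₁ ≫ j := (yon S).map_injective (by rw [Functor.map_comp]; exact hl1')
    have hl2 : l ≫ r₂ = g₂ ≫ j := (yon S).map_injective (by rw [Functor.map_comp]; exact hl2')
    have hrange : Set.range l.left ⊆ Set.range dg.left := by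
      rintro _ ⟨w, rfl⟩
      by_contra hw
      have h1 : π (l.left w) ∈ Z := ⟨_, hw, rfl⟩
      have h2 : π (l.left w) ∈ D := by
        have e : π (l.left w) = t.left (j.left (g₁.left w)) := by
          have e' : l.left ≫ π = g₁.left ≫ j.left ≫ t.left := by
            show l.left ≫ (r₁ ≫ t).left = _
            rw [Over.comp_left, ← Category.assoc, ← Over.comp_left, hl1, Over.comp_left,
              Category.assoc]
          have := congrArg (fun k : W.left ⟶ T'.left => k w) e'
          simpa using this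
        rw [e]
        exact (g₁.left w).2
      exact hDZ h2 h1
    let l₀ := IsOpenImmersion.lift dg.left l.left hrange
    have hl₀ : l₀ ≫ dg.left = l.left := IsOpenImmersion.lift_fac _ _ _
    have e1 : (g₁ ≫ j).left = l₀ := by
      rw [← hl1, Over.comp_left, ← hl₀, Category.assoc, hdg1l, Category.comp_id]
    have e2 : (g₂ ≫ j).left = l₀ := by
      rw [← hl2, Over.comp_left, ← hl₀, Category.assoc, hdg2l, Category.comp_id]
    have : g₁ ≫ j = g₂ ≫ j := Over.OverMorphism.ext (e1.trans e2.symm)
    exact (cancel_mono j).1 this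
  have het : IsEtaleMor ((yon S).map j ≫ b) := by
    intro U φ hφ
    obtain ⟨g, rfl⟩ := (yon S).map_surjective φ
    have hg : Etale g.left := (repWith_yon_map_iff @Etale g).1 hφ
    rw [← Category.assoc, ← Functor.map_comp]
    refine (RepWith (S := S) @Etale).comp_mem _ _ ((repWith_yon_map_iff @Etale _).2 ?_) hb
    rw [Over.comp_left]
    haveI : Etale j.left := inferInstanceAs (Etale (t.left ⁻¹ᵁ D).ι)
    infer_instance
  exact EtMono.repWith_oi_of_etale_mono (IsAlgSpace.yon_obj _) hP _ het

end Groth.Agent.H1.QLoc
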