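import Groth.Agent.Lib.Helper1.QLocB
import Groth.Agent.Lib.Helper1.EtRadD

set_option autoImplicit false
universe u
open CategoryTheory CategoryTheory.Limits AlgebraicGeometry Opposite TensorProduct

namespace Groth.Agent.H1.QLoc

open AlgSp Groth.Agent.Lib.helper5 Groth.Agent.Lib.helper5.OpenSub

variable {S : Scheme.{u}}

/-- ring-level radiciality gives scheme-level radiciality -/
theorem radSch {R' B : Type u} [CommRing R'] [CommRing B] [Algebra R' B] (e : B) (P : Ideal R')
    [P.IsPrime]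
    (RAD : ∀ (K : Type u) [Field K] (φ φ' : B →+* K), φ e ≠ 0 → φ' e ≠ 0 →
        φ.comp (algebraMap R' B) = φ'.comp (algebraMap R' B) →
        RingHom.ker (φ.comp (algebraMap R' B)) = P → φ = φ')
    (K : Type u) [Field K] (x₁ x₂ : Spec (.of K) ⟶ Spec (.of (Localization.Away e)))
    (h : x₁ ≫ Spec.map (CommRingCat.ofHom (algebraMap R' (Localization.Away e))) =
      x₂ ≫ Spec.map (CommRingCat.ofHom (algebraMap R' (Localization.Away e))))
    (hpt : ∀ w, (x₁ ≫ Spec.map (CommRingCat.ofHom (algebraMap R' (Localization.Away e)))) w =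
      (⟨P, inferInstance⟩ : PrimeSpectrum R')) : x₁ = x₂ := by
  obtain ⟨φ₁, rfl⟩ := Spec.map_surjective x₁
  obtain ⟨φ₂, rfl⟩ := Spec.map_surjective x₂
  congr 1
  rw [← Spec.map_comp, ← Spec.map_comp] at h
  have h' := Spec.map_injective h
  have hu : IsUnit (algebraMap B (Localization.Away e) e) := IsLocalization.Away.algebraMap_isUnit e
  have key : φ₁.hom.comp (algebraMap B (Localization.Away e)) =
      φ₂.hom.comp (algebraMap B (Localization.Away e)) := by
    apply RAD K
    · exact (hu.map φ₁.hom).ne_zero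
    · exact (hu.map φ₂.hom).ne_zero
    · rw [RingHom.comp_assoc, RingHom.comp_assoc, ← IsScalarTower.algebraMap_eq]
      exact congrArg CommRingCat.Hom.hom h'
    · rw [RingHom.comp_assoc, ← IsScalarTower.algebraMap_eq]
      obtain ⟨w⟩ : Nonempty (Spec (.of K)) := inferInstance
      have h1 := congrArg PrimeSpectrum.asIdeal (hpt w)
      have hw : w.asIdeal = ⊥ := Ideal.eq_bot_of_prime w.asIdeal
      rw [← Spec.map_comp] at h1
      have h2 : ((Spec.map (CommRingCat.ofHom (algebraMap R' (Localization.Away e)) ≫ φ₁)) w).asIdeal =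
          Ideal.comap (CommRingCat.ofHom (algebraMap R' (Localization.Away e)) ≫ φ₁).hom w.asIdeal := rfl
      rw [h2, hw] at h1
      exact h1
  ext1
  exact IsLocalization.ringHom_ext (Submonoid.powers e) key

section Main

variable {R : Type u} [CommRing R] (τ : Spec (.of R) ⟶ S)

/-- `Spec B` over `S` for an `R`-algebra `B`. -/
noncomputable abbrev oSpec (B : Type u) [CommRing B] [Algebra R B] : Over S :=
  Over.mk (Spec.map (CommRingCat.ofHom (algebraMap R B)) ≫ τ)

/-- The structure morphism of `Spec B` to `Spec R`, over `S`. -/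
noncomputable abbrev oStr (B : Type u) [CommRing B] [Algebra R B] : oSpec τ B ⟶ Over.mk τ :=
  Over.homMk (Spec.map (CommRingCat.ofHom (algebraMap R B))) rfl

/-- The morphism induced by a ring homomorphism compatible with the algebra maps. -/
noncomputable abbrev oMap {B C : Type u} [CommRing B] [CommRing C] [Algebra R B] [Algebra R C]
    (φ : B →+* C) (h : φ.comp (algebraMap R B) = algebraMap R C) : oSpec τ C ⟶ oSpec τ B :=
  Over.homMk (Spec.map (CommRingCat.ofHom φ)) (by
    show Spec.map (CommRingCat.ofHom φ) ≫ Spec.map (CommRingCat.ofHom (algebraMap R B)) ≫ τ =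
      Spec.map (CommRingCat.ofHom (algebraMap R C)) ≫ τ
    rw [← Category.assoc, ← Spec.map_comp, ← CommRingCat.ofHom_comp, h])

theorem oMap_oStr {B C : Type u} [CommRing B] [CommRing C] [Algebra R B] [Algebra R C]
    (φ : B →+* C) (h : φ.comp (algebraMap R B) = algebraMap R C) :
    oMap τ φ h ≫ oStr τ B = oStr τ C := by
  apply Over.OverMorphism.ext
  show Spec.map (CommRingCat.ofHom φ) ≫ Spec.map (CommRingCat.ofHom (algebraMap R B)) =
    Spec.map (CommRingCat.ofHom (algebraMap R C))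
  rw [← Spec.map_comp, ← CommRingCat.ofHom_comp, h]

theorem oMap_comp {B C D : Type u} [CommRing B] [CommRing C] [CommRing D] [Algebra R B] [Algebra R C]
    [Algebra R D] (φ : B →+* C) (h : φ.comp (algebraMap R B) = algebraMap R C)
    (φ' : C →+* D) (h' : φ'.comp (algebraMap R C) = algebraMap R D) :
    oMap τ φ' h' ≫ oMap τ φ h = oMap τ (φ'.comp φ) (by rw [RingHom.comp_assoc, h, h']) := by
  apply Over.OverMorphism.ext
  show Spec.map (CommRingCat.ofHom φ') ≫ Spec.map (CommRingCat.ofHom φ) =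
    Spec.map (CommRingCat.ofHom (φ'.comp φ))
  rw [← Spec.map_comp, ← CommRingCat.ofHom_comp]

set_option maxHeartbeats 1600000 in
/-- Auxiliary form of `exists_rep_nbhd_Spec`, with the étale neighbourhood given. -/
theorem exists_rep_nbhd_aux {A : Type u} [CommRing A] [Algebra R A] {X : Sp S} (hX : IsAlgSpace X)
    (f : X ⟶ (yon S).obj (Over.mk τ)) (hfs : IsSeparatedMor f)
    (hfq : LocP (@LocallyQuasiFinite ⊓ @LocallyOfFiniteType) f)
    (p : (yon S).obj (oSpec τ A) ⟶ X) (hp : RepWith @Etale p)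
    (hpf : p ≫ f = (yon S).map (oStr τ A)) (v : Spec (.of A))
    (R' : Type u) [CommRing R'] [Algebra R R'] [Algebra.Etale R R'] (P : Ideal R') [P.IsPrime]
    (e : R' ⊗[R] A) (Q : Ideal (R' ⊗[R] A)) [Q.IsPrime]
    (hQP : Q.comap (algebraMap R' (R' ⊗[R] A)) = P)
    (hQq : Q.comap Algebra.TensorProduct.includeRight.toRingHom = v.asIdeal) (heQ : e ∉ Q)
    (hfin : Module.Finite R' (Localization.Away e))
    (RAD : ∀ (K : Type u) [Field K] (φ φ' : R' ⊗[R] A →+* K), φ e ≠ 0 → φ' e ≠ 0 →
        φ.comp (algebraMap R' (R' ⊗[R] A)) = φ'.comp (algebraMap R' (R' ⊗[R] A)) →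
        RingHom.ker (φ.comp (algebraMap R' (R' ⊗[R] A))) = P → φ = φ') :
    ∃ (W : Over S) (i : (yon S).obj W ⟶ X), RepWith @IsOpenImmersion i ∧
      Points.ofPt p v ∈ Set.range (Points.map i) := by
  let T : Over S := Over.mk τ
  let T' : Over S := oSpec τ R'
  let e' : T' ⟶ T := oStr τ R'
  let V : Over S := oSpec τ A
  let Pb : Over S := oSpec τ (R' ⊗[R] A)
  let pr₂ : Pb ⟶ T' := oMap τ (algebraMap R' (R' ⊗[R] A))
    (IsScalarTower.algebraMap_eq R R' (R' ⊗[R] A)).symm
  let pr₁ : Pb ⟶ V := oMap τ Algebra.TensorProduct.includeRight.toRingHom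
    (Algebra.TensorProduct.includeRight : A →ₐ[R] R' ⊗[R] A).comp_algebraMap
  haveI : IsAffine T.left := inferInstanceAs (IsAffine (Spec (.of R)))
  haveI : IsAffine T'.left := inferInstanceAs (IsAffine (Spec (.of R')))
  haveI : Etale e'.left :=
    HasRingHomProperty.Spec_iff.2 (RingHom.etale_algebraMap.2 inferInstance)
  have hPb : IsPullback pr₁ pr₂ (oStr τ A) e' := by
    refine IsPullback.of_map (Over.forget S) ?_ ?_
    · rw [oMap_oStr, oMap_oStr]
    · exact (isPullback_SpecMap_of_isPushout _ _ _ _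
        (CommRingCat.isPushout_tensorProduct R R' A)).flip
  -- the base change of `X` to `T'`
  have sq : IsPullback (pullback.fst f ((yon S).map e')) (pullback.snd f ((yon S).map e')) f
      ((yon S).map e') := IsPullback.of_hasPullback _ _
  let PP : Sp S := pullback f ((yon S).map e')
  let p2 : PP ⟶ X := pullback.fst f ((yon S).map e')
  let p1 : PP ⟶ (yon S).obj T' := pullback.snd f ((yon S).map e')
  have hPP : IsAlgSpace PP :=
    isAlgSpace_of_isPullback (IsAlgSpace.yon_obj T).diag hX (IsAlgSpace.yon_obj T') sq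
  have hp1s : IsSeparatedMor p1 := QDesc.isSeparatedMor_of_isPullback sq hfs
  have hb₁c : ((yon S).map pr₁ ≫ p) ≫ f = (yon S).map pr₂ ≫ (yon S).map e' := by
    rw [Category.assoc, hpf, ← Functor.map_comp, ← Functor.map_comp, hPb.w]
  let b₁ : (yon S).obj Pb ⟶ PP := pullback.lift _ _ hb₁c
  have hb₁1 : b₁ ≫ p2 = (yon S).map pr₁ ≫ p := pullback.lift_fst _ _ _
  have hb₁2 : b₁ ≫ p1 = (yon S).map pr₂ := pullback.lift_snd _ _ _
  have hb₁sq : IsPullback ((yon S).map pr₁) b₁ p p2 := by
    have big : IsPullback (b₁ ≫ p1) ((yon S).map pr₁) ((yon S).map e') (p ≫ f) := by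
      rw [hb₁2, hpf]
      exact (hPb.map (yon S)).flip
    exact (IsPullback.of_right big hb₁1 sq.flip).flip
  have hb₁e : RepWith @Etale b₁ := (RepWith @Etale).of_isPullback hb₁sq hp
  -- the finite part
  let V' : Over S := oSpec τ (Localization.Away e)
  let k : V' ⟶ Pb := oMap τ (algebraMap (R' ⊗[R] A) (Localization.Away e))
    (IsScalarTower.algebraMap_eq R (R' ⊗[R] A) (Localization.Away e)).symm
  let t' : V' ⟶ T' := oMap τ (algebraMap R' (Localization.Away e))
    (IsScalarTower.algebraMap_eq R R' (Localization.Away e)).symm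
  have hkt : k ≫ pr₂ = t' := by
    apply Over.OverMorphism.ext
    show Spec.map (CommRingCat.ofHom (algebraMap (R' ⊗[R] A) (Localization.Away e))) ≫
      Spec.map (CommRingCat.ofHom (algebraMap R' (R' ⊗[R] A))) =
      Spec.map (CommRingCat.ofHom (algebraMap R' (Localization.Away e)))
    rw [← Spec.map_comp, ← CommRingCat.ofHom_comp,
      ← IsScalarTower.algebraMap_eq R' (R' ⊗[R] A) (Localization.Away e)]
  haveI hkoi : IsOpenImmersion k.left :=
    (inferInstance : IsOpenImmersion
      (Spec.map (CommRingCat.ofHom (algebraMap (R' ⊗[R] A) (Localization.Away e)))))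
  haveI : IsFinite t'.left := (IsFinite.SpecMap_iff _).2 (RingHom.finite_algebraMap.2 hfin)
  let b : (yon S).obj V' ⟶ PP := (yon S).map k ≫ b₁
  have hbe : RepWith @Etale b :=
    (RepWith (S := S) @Etale).comp_mem _ _ ((repWith_yon_map_iff @Etale k).2 inferInstance) hb₁e
  have hbt : b ≫ p1 = (yon S).map t' := by
    rw [Category.assoc, hb₁2, ← Functor.map_comp, hkt]
  let t₀ : T'.left := (⟨P, inferInstance⟩ : PrimeSpectrum R')
  obtain ⟨D, hD, ht₀D, hOI⟩ := exists_open_mono t' hPP p1 hp1s b hbe hbt t₀ (radSch e P RAD)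
  -- descent of the open subspace
  let Y' : Over S := subOver V' (t'.left ⁻¹ᵁ D)
  let j : Y' ⟶ V' := subOverι V' (t'.left ⁻¹ᵁ D)
  let a : (yon S).obj Y' ⟶ PP := (yon S).map j ≫ b
  let y' : Y' ⟶ T' := j ≫ t'
  have hy' : a ≫ p1 = (yon S).map y' := by
    rw [Category.assoc, hbt, ← Functor.map_comp]
  have hyqc : QuasiCompact y'.left := by
    haveI : IsAffine Y'.left := (hD.preimage t'.left : IsAffineOpen (t'.left ⁻¹ᵁ D))
    infer_instance
  obtain ⟨W, i, hi, -, hrange⟩ :=
    QDesc.exists_rep_image_affine e' hX f hfs hfq sq a hOI y' hy' hyqc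
  refine ⟨W, i, hi, ?_⟩
  rw [hrange]
  -- the point `Q`
  let zQ : Pb.left := (⟨Q, inferInstance⟩ : PrimeSpectrum (R' ⊗[R] A))
  have h1 : pr₁.left zQ = v := PrimeSpectrum.ext hQq
  have h2 : pr₂.left zQ = t₀ := PrimeSpectrum.ext hQP
  have h3 : zQ ∈ Set.range k.left := by
    have hr : Set.range k.left = (PrimeSpectrum.basicOpen e : Set (PrimeSpectrum (R' ⊗[R] A))) :=
      PrimeSpectrum.localization_away_comap_range (Localization.Away e) e
    rw [hr]
    exact heQ
  obtain ⟨z', hz'⟩ := h3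
  have h4 : t'.left z' = t₀ := by
    rw [← hkt, Over.comp_left, Scheme.Hom.comp_apply, hz', h2]
  have h5 : z' ∈ t'.left ⁻¹ᵁ D := by
    show t'.left z' ∈ D
    rw [h4]
    exact ht₀D
  refine ⟨Points.ofScheme Y' ⟨z', h5⟩, ?_⟩
  rw [← Points.ofPt_eq_map_ofScheme]
  have hap : a ≫ p2 = (yon S).map (j ≫ k ≫ pr₁) ≫ p := by
    simp only [a, b, Category.assoc, hb₁1, Functor.map_comp]
  rw [hap, Groth.Agent.Lib.helper11.ofPt_yon_map_comp]
  congr 1
  show pr₁.left (k.left (j.left ⟨z', h5⟩)) = v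
  rw [show j.left ⟨z', h5⟩ = z' from rfl, hz', h1]

set_option maxHeartbeats 1600000 in
/-- **Local representability, affine literal case.** -/
theorem exists_rep_nbhd_Spec {A : Type u} [CommRing A] [Algebra R A] {X : Sp S} (hX : IsAlgSpace X)
    (f : X ⟶ (yon S).obj (Over.mk τ)) (hfs : IsSeparatedMor f)
    (hfq : LocP (@LocallyQuasiFinite ⊓ @LocallyOfFiniteType) f)
    (p : (yon S).obj (oSpec τ A) ⟶ X) (hp : RepWith @Etale p)
    (hpf : p ≫ f = (yon S).map (oStr τ A)) (v : Spec (.of A)) :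
    ∃ (W : Over S) (i : (yon S).obj W ⟶ X), RepWith @IsOpenImmersion i ∧
      Points.ofPt p v ∈ Set.range (Points.map i) := by
  -- ring-level input
  have hg : (@LocallyQuasiFinite ⊓ @LocallyOfFiniteType) (oStr τ A).left :=
    hfq p (𝟙 _) (oStr τ A) hp (repWith_id @Etale _) (by rw [Category.comp_id, hpf])
  have hlft : LocallyOfFiniteType (Spec.map (CommRingCat.ofHom (algebraMap R A))) := hg.2
  have hlqf : LocallyQuasiFinite (Spec.map (CommRingCat.ofHom (algebraMap R A))) := hg.1
  haveI : Algebra.FiniteType R A :=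
    RingHom.finiteType_algebraMap.1 (HasRingHomProperty.Spec_iff.1 hlft)
  haveI : Algebra.QuasiFinite R A :=
    RingHom.quasiFinite_algebraMap.1 (HasRingHomProperty.Spec_iff.1 hlqf)
  let q : Ideal A := v.asIdeal
  haveI : q.IsPrime := v.isPrime
  haveI : Algebra.QuasiFiniteAt R q := inferInstance
  obtain ⟨R', _, _, _, P, _, e, he, Q, _, hQP, hQq, heQ, hfin, RAD⟩ :=
    EtRad.exists_etale_finite_radicial' (R := R) q
  exact exists_rep_nbhd_aux τ hX f hfs hfq p hp hpf v R' P e Q hQP hQq heQ hfin RAD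

end Main

end Groth.Agent.H1.QLoc
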