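import Groth.Agent.Lib.Helper1.QLocC

/-!
# Separated locally quasi-finite algebraic spaces over a scheme are schemes (helper1)
-/

set_option autoImplicit false
universe u
open CategoryTheory CategoryTheory.Limits AlgebraicGeometry Opposite TensorProduct

namespace Groth.Agent.H1.QLoc

open AlgSp Groth.Agent.Lib.helper5 Groth.Agent.Lib.helper5.OpenSub

variable {S : Scheme.{u}}

/-- Postcomposition with an isomorphism preserves separatedness. -/
theorem isSeparatedMor_comp_iso {X Y Y' : Sp S} (f : X ⟶ Y) (hf : IsSeparatedMor f) (ε : Y ≅ Y') :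
    IsSeparatedMor (f ≫ ε.hom) := by
  have sq : IsPullback (𝟙 X) (f ≫ ε.hom) f ε.inv :=
    IsPullback.of_horiz_isIso ⟨by rw [Category.id_comp, Category.assoc, ε.hom_inv_id, Category.comp_id]⟩
  exact QDesc.isSeparatedMor_of_isPullback sq hf

/-- Postcomposition with an isomorphism preserves `LocP`. -/
theorem locP_comp_iso {X Y Y' : Sp S} (hX : IsAlgSpace X) (hY : IsAlgSpace Y) (hY' : IsAlgSpace Y')
    (f : X ⟶ Y) (hf : LocP (@LocallyQuasiFinite ⊓ @LocallyOfFiniteType) f) (ε : Y ≅ Y') :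
    LocP (@LocallyQuasiFinite ⊓ @LocallyOfFiniteType) (f ≫ ε.hom) := by
  have sq : IsPullback (𝟙 X) (f ≫ ε.hom) f ε.inv :=
    IsPullback.of_horiz_isIso ⟨by rw [Category.id_comp, Category.assoc, ε.hom_inv_id, Category.comp_id]⟩
  exact LocPBC.locP_of_isPullback LocPBC.locPData_lqf hX hY hY' sq hf

set_option maxHeartbeats 1600000 in
/-- **Local representability, affine case.** -/
theorem exists_rep_nbhd_affine {T V : Over S} [IsAffine T.left] [IsAffine V.left] (g : V ⟶ T)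
    {X : Sp S} (hX : IsAlgSpace X) (f : X ⟶ (yon S).obj T) (hfs : IsSeparatedMor f)
    (hfq : LocP (@LocallyQuasiFinite ⊓ @LocallyOfFiniteType) f)
    (p : (yon S).obj V ⟶ X) (hp : RepWith @Etale p) (hpf : p ≫ f = (yon S).map g) (v : V.left) :
    ∃ (W : Over S) (i : (yon S).obj W ⟶ X), RepWith @IsOpenImmersion i ∧
      Points.ofPt p v ∈ Set.range (Points.map i) := by
  let isoT : T.left ≅ Spec (.of Γ(T.left, ⊤)) := T.left.isoSpec
  let isoV : V.left ≅ Spec (.of Γ(V.left, ⊤)) := V.left.isoSpec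
  let ψ : Γ(T.left, ⊤) →+* Γ(V.left, ⊤) := g.left.appTop.hom
  letI : Algebra Γ(T.left, ⊤) Γ(V.left, ⊤) := ψ.toAlgebra
  have hnat : isoV.hom ≫ Spec.map (CommRingCat.ofHom (algebraMap Γ(T.left, ⊤) Γ(V.left, ⊤))) =
      g.left ≫ isoT.hom := Scheme.isoSpec_hom_naturality g.left
  let τ : Spec (.of Γ(T.left, ⊤)) ⟶ S := isoT.inv ≫ T.hom
  let εT : T ≅ Over.mk τ := Over.isoMk isoT (by
    show isoT.hom ≫ isoT.inv ≫ T.hom = T.hom
    rw [Iso.hom_inv_id_assoc])
  let εV : V ≅ oSpec τ Γ(V.left, ⊤) := Over.isoMk isoV (by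
    show isoV.hom ≫ Spec.map (CommRingCat.ofHom (algebraMap Γ(T.left, ⊤) Γ(V.left, ⊤))) ≫
      isoT.inv ≫ T.hom = V.hom
    rw [← Category.assoc, hnat, Category.assoc, Iso.hom_inv_id_assoc]
    exact Over.w g)
  let f₁ : X ⟶ (yon S).obj (Over.mk τ) := f ≫ (yon S).map εT.hom
  let p₁ : (yon S).obj (oSpec τ Γ(V.left, ⊤)) ⟶ X := (yon S).map εV.inv ≫ p
  have hfs₁ : IsSeparatedMor f₁ := isSeparatedMor_comp_iso f hfs ((yon S).mapIso εT)
  have hfq₁ : LocP (@LocallyQuasiFinite ⊓ @LocallyOfFiniteType) f₁ :=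
    locP_comp_iso hX (IsAlgSpace.yon_obj _) (IsAlgSpace.yon_obj _) f hfq ((yon S).mapIso εT)
  have hp₁ : RepWith @Etale p₁ :=
    (RepWith (S := S) @Etale).comp_mem _ _
      (MorphismProperty.of_isIso (RepWith (S := S) @Etale) ((yon S).map εV.inv)) hp
  have hpf₁ : p₁ ≫ f₁ = (yon S).map (oStr τ Γ(V.left, ⊤)) := by
    show ((yon S).map εV.inv ≫ p) ≫ f ≫ (yon S).map εT.hom = _
    rw [Category.assoc, ← Category.assoc p, hpf, ← Functor.map_comp, ← Functor.map_comp]
    congr 1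
    apply Over.OverMorphism.ext
    show isoV.inv ≫ g.left ≫ isoT.hom =
      Spec.map (CommRingCat.ofHom (algebraMap Γ(T.left, ⊤) Γ(V.left, ⊤)))
    rw [← hnat, Iso.inv_hom_id_assoc]
  obtain ⟨W, i, hi, hmem⟩ := exists_rep_nbhd_Spec τ hX f₁ hfs₁ hfq₁ p₁ hp₁ hpf₁ (isoV.hom v)
  refine ⟨W, i, hi, ?_⟩
  have h : Points.ofPt p₁ (isoV.hom v) = Points.ofPt p v := by
    show Points.ofPt ((yon S).map εV.inv ≫ p) (isoV.hom v) = _
    rw [Groth.Agent.Lib.helper11.ofPt_yon_map_comp]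
    congr 1
    show isoV.inv (isoV.hom v) = v
    rw [← Scheme.Hom.comp_apply, Iso.hom_inv_id]
    rfl
  rwa [h] at hmem

/-- **Theorem Q, affine base.** -/
theorem exists_iso_of_affine {T : Over S} [IsAffine T.left] {X : Sp S} (hX : IsAlgSpace X)
    (f : X ⟶ (yon S).obj T) (hfs : IsSeparatedMor f)
    (hfq : LocP (@LocallyQuasiFinite ⊓ @LocallyOfFiniteType) f) :
    ∃ (W : Over S) (α : (yon S).obj W ⟶ X), IsIso α := by
  obtain ⟨U, p₀, hp₀e, hp₀s⟩ := hX.atlas
  have hloc : ∀ u : U.left, ∃ (W : Over S) (i : (yon S).obj W ⟶ X), RepWith @IsOpenImmersion i ∧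
      Points.ofPt p₀ u ∈ Set.range (Points.map i) := by
    intro u
    obtain ⟨_, ⟨O, hO, rfl⟩, huO, -⟩ := U.left.isBasis_affineOpens.exists_subset_of_mem_open
      (Set.mem_univ u) isOpen_univ
    let V : Over S := subOver U O
    haveI : IsAffine V.left := hO
    let p : (yon S).obj V ⟶ X := (yon S).map (subOverι U O) ≫ p₀
    have hp : RepWith @Etale p :=
      (RepWith (S := S) @Etale).comp_mem _ _
        ((repWith_yon_map_iff @Etale _).2 (inferInstanceAs (Etale (Scheme.Opens.ι O)))) hp₀e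
    obtain ⟨g, hg⟩ := (yon S).map_surjective (p ≫ f)
    obtain ⟨W, i, hi, hmem⟩ := exists_rep_nbhd_affine g hX f hfs hfq p hp hg.symm ⟨u, huO⟩
    refine ⟨W, i, hi, ?_⟩
    have h : Points.ofPt p ⟨u, huO⟩ = Points.ofPt p₀ u := by
      show Points.ofPt ((yon S).map (subOverι U O) ≫ p₀) ⟨u, huO⟩ = _
      rw [Groth.Agent.Lib.helper11.ofPt_yon_map_comp]
      rfl
    rwa [h] at hmem
  choose W i hi hmem using hloc
  obtain ⟨G₀, α, -, hα, -, -, -, hrange⟩ := QGlue.exists_rep_union hX i hi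
  have hs : IsSurjectiveMor α := by
    intro x
    obtain ⟨u, rfl⟩ := Groth.Agent.Lib.helper11.surjective_ofPt p₀ hp₀s x
    have : Points.ofPt p₀ u ∈ Set.range (Points.map α) := by
      rw [hrange]
      exact Set.mem_iUnion.2 ⟨u, hmem u⟩
    exact this
  exact ⟨G₀, α, Groth.Agent.S10194.isIso_of_openImmersion_of_surjective α hα hs⟩

/-- **Theorem Q.**  An algebraic space separated and locally quasi-finite over a scheme is a scheme. -/
theorem exists_iso_of_lqf_separated {T : Over S} {X : Sp S} (hX : IsAlgSpace X)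
    (f : X ⟶ (yon S).obj T) (hfs : IsSeparatedMor f)
    (hfq : LocP (@LocallyQuasiFinite ⊓ @LocallyOfFiniteType) f) :
    ∃ (W : Over S) (α : (yon S).obj W ⟶ X), IsIso α := by
  have h : ∀ V : T.left.affineOpens, Nonempty (ZarRep.LocRep f V.1) := by
    intro V
    have sq : IsPullback (pullback.fst f ((yon S).map (ZarRep.ovι T V.1)))
        (pullback.snd f ((yon S).map (ZarRep.ovι T V.1))) f ((yon S).map (ZarRep.ovι T V.1)) :=
      IsPullback.of_hasPullback _ _
    haveI : IsAffine (ZarRep.ov T V.1).left := V.2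
    have hXV : IsAlgSpace (pullback f ((yon S).map (ZarRep.ovι T V.1))) :=
      isAlgSpace_of_isPullback (IsAlgSpace.yon_obj T).diag hX (IsAlgSpace.yon_obj _) sq
    have hs := QDesc.isSeparatedMor_of_isPullback sq hfs
    have hq := LocPBC.locP_of_isPullback LocPBC.locPData_lqf hX (IsAlgSpace.yon_obj T)
      (IsAlgSpace.yon_obj _) sq hfq
    obtain ⟨W, α, hα⟩ := exists_iso_of_affine hXV _ hs hq
    obtain ⟨w, hw⟩ := (yon S).map_surjective (α ≫ pullback.snd f ((yon S).map (ZarRep.ovι T V.1)))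
    refine ⟨⟨W, w, α ≫ pullback.fst f ((yon S).map (ZarRep.ovι T V.1)), ?_⟩⟩
    rw [hw]
    have h1 : IsPullback α (α ≫ pullback.snd f ((yon S).map (ZarRep.ovι T V.1)))
        (pullback.snd f ((yon S).map (ZarRep.ovι T V.1))) (𝟙 _) :=
      IsPullback.of_horiz_isIso ⟨by rw [Category.comp_id]⟩
    have h2 := h1.paste_horiz sq
    rw [Category.id_comp] at h2
    exact h2
  obtain ⟨W, w, a, ha, -, -⟩ := ZarRep.exists_rep f h
  exact ⟨W, a, ha⟩

end Groth.Agent.H1.QLoc
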