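import Groth.Agent.Lib.Helper1.CoprodFiltered
import Groth.Prelude.Def_CohCx
import Groth.Agent.Lib.Helper1.FreeOnLoc
import Groth.Agent.Lib.Helper27.FiltCohA
import Groth.Agent.Lib.Helper21.ModSh
import Groth.Agent.Lib.Helper21.ModGroth

/-!
Helper library (helper1): sections of a coproduct of modules on a ringed site are locally finite sums;
over a quasi-compact object they are finite sums (`Hom(freeOn O W, -)` commutes with coproducts).
-/

set_option autoImplicit false
set_option linter.unusedSectionVars false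
universe u
open CategoryTheory CategoryTheory.Limits Opposite

namespace Groth.Agent.H1.QcSections

open Groth.Agent.H1.HomSum Groth.Agent.H1.CoprodFiltered CoproductsFromFiniteFiltered
  Groth.Agent.H1.FreeOnLoc Groth.Agent.Lib.Helper21.ModFree Groth.Agent.Lib.helper27.FiltCoh

section locsurj

variable {Λ : Type u} [SmallCategory Λ] [IsFiltered Λ]
  {C : Type u} [SmallCategory C] {J : GrothendieckTopology C}
  (F : Λ ⥤ Sheaf J AddCommGrpCat.{u})

/-- sections of a filtered colimit of abelian sheaves locally come from a stage -/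
lemma loc_surj' (c : Cocone F) (hc : IsColimit c) (V : C) (s : c.pt.obj.obj (op V)) :
    ∃ T ∈ J V, ∀ ⦃W : C⦄ (g : W ⟶ V), T.arrows g →
      ∃ (μ : Λ) (t : (F.obj μ).obj.obj (op W)),
        (c.ι.app μ).hom.app (op W) t = c.pt.obj.map g.op s := by
  let e : c₀ F ≅ c := IsColimit.uniqueUpToIso (hc₀ F) hc
  obtain ⟨T, hT, h⟩ := loc_surj F V (e.inv.hom.hom.app (op V) s)
  refine ⟨T, hT, fun W g hg => ?_⟩
  obtain ⟨μ, t, ht⟩ := h g hg
  refine ⟨μ, t, ?_⟩
  have h1 : c.ι.app μ = (c₀ F).ι.app μ ≫ e.hom.hom := (e.hom.w μ).symm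
  rw [h1]
  change e.hom.hom.hom.app (op W) (((c₀ F).ι.app μ).hom.app (op W) t) = _
  rw [ht, nat_apply]
  congr 1
  have h2 : e.inv.hom ≫ e.hom.hom = 𝟙 _ := by
    rw [← Cocone.category_comp_hom, e.inv_hom_id]; rfl
  exact congrArg (fun φ => φ.hom.app (op V) s) h2

end locsurj

section idem

variable {𝒜 : Type*} [Category 𝒜] [Preadditive 𝒜] {ι : Type u} (Y : ι → 𝒜) [HasCoproduct Y]

/-- the idempotent of `∐ Y` projecting onto the summands in `S` -/
noncomputable def eS (S : Finset (Discrete ι)) : ∐ Y ⟶ ∐ Y :=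
  ∑ d ∈ S, proj Y d.as ≫ Sigma.ι Y d.as

lemma ι_eS_of_mem (S : Finset (Discrete ι)) (d : Discrete ι) (hd : d ∈ S) :
    Sigma.ι Y d.as ≫ eS Y S = Sigma.ι Y d.as := by
  classical
  unfold eS
  rw [Preadditive.comp_sum, Finset.sum_eq_single d]
  · rw [← Category.assoc, ι_proj_self]
    exact Category.id_comp _
  · intro d' _ hd'
    rw [← Category.assoc, ι_proj_of_ne Y d.as d'.as (fun h => hd' (Discrete.ext h.symm)),
      zero_comp]
  · intro h
    exact absurd hd h

lemma eS_mono {S S' : Finset (Discrete ι)} (h : S ⊆ S') : eS Y S ≫ eS Y S' = eS Y S := by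
  have h1 : eS Y S ≫ eS Y S' = ∑ d ∈ S, (proj Y d.as ≫ Sigma.ι Y d.as) ≫ eS Y S' := by
    conv_lhs => rw [show eS Y S = ∑ d ∈ S, proj Y d.as ≫ Sigma.ι Y d.as from rfl]
    rw [Preadditive.sum_comp]
  rw [h1]
  conv_rhs => rw [show eS Y S = ∑ d ∈ S, proj Y d.as ≫ Sigma.ι Y d.as from rfl]
  apply Finset.sum_congr rfl
  intro d hd
  rw [Category.assoc, ι_eS_of_mem Y S' d (h hd)]

lemma comp_eS_of_subset {P : 𝒜} (y : P ⟶ ∐ Y) {S S' : Finset (Discrete ι)} (h : S ⊆ S')
    (hy : y ≫ eS Y S = y) : y ≫ eS Y S' = y := by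
  rw [← hy, Category.assoc, eS_mono Y h]

lemma incl_eS [HasFiniteCoproducts 𝒜] (S : Finset (Discrete ι)) :
    incl Y S ≫ eS Y S = incl Y S := by
  apply Sigma.hom_ext
  intro s
  rw [← Category.assoc, ι_incl, ι_eS_of_mem Y S s.1 s.2]

/-- a map fixed by some `eS` is a finite sum -/
lemma exists_decomp_of_eS {P : 𝒜} (x : P ⟶ ∐ Y) (S : Finset (Discrete ι))
    (hx : x ≫ eS Y S = x) :
    ∃ (S' : Finset ι) (σ : ∀ i, P ⟶ Y i), x = ∑ i ∈ S', σ i ≫ Sigma.ι Y i := by
  classical
  refine ⟨S.image Discrete.as, fun i => x ≫ proj Y i, ?_⟩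
  rw [Finset.sum_image (by intro a _ b _ h; exact Discrete.ext h)]
  refine hx.symm.trans ?_
  unfold eS
  rw [Preadditive.comp_sum]
  apply Finset.sum_congr rfl
  intro d _
  rw [Category.assoc]

end idem

section qc

variable {C : Type u} [SmallCategory C] (J : GrothendieckTopology C)

/-- the sheaf of sets `h_V^#` -/
noncomputable abbrev hSh (V : C) : Sheaf J (Type u) :=
  (presheafToSheaf J (Type u)).obj (yoneda.obj V)

/-- the class of a morphism `V ⟶ W` in `h_W^#(V)` -/
noncomputable def cls {V W : C} (m : V ⟶ W) : (hSh J W).obj.obj (op V) :=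
  (toSheafify J (yoneda.obj W)).app (op V) m

/-- `h_V^# ⟶ h_W^#` -/
noncomputable abbrev hMap {V W : C} (g : V ⟶ W) : hSh J V ⟶ hSh J W :=
  (presheafToSheaf J (Type u)).map (yoneda.map g)

lemma hMap_cls {V' V W : C} (g : V ⟶ W) (n : V' ⟶ V) :
    (hMap J g).hom.app (op V') (cls J n) = cls J (n ≫ g) := by
  have h := congrArg (fun φ => φ.app (op V') n) (toSheafify_naturality J (yoneda.map g))
  exact h.symm

lemma map_cls {V' V W : C} (k : V' ⟶ V) (m : V ⟶ W) :
    (hSh J W).obj.map k.op (cls J m) = cls J (k ≫ m) := by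
  have h := congrArg (fun φ => φ m) ((toSheafify J (yoneda.obj W)).naturality k.op)
  exact h.symm

lemma map_map_apply' {W : C} {V V' V2 : C} (k : V' ⟶ V) (k' : V2 ⟶ V')
    (σ : (hSh J W).obj.obj (op V)) :
    (hSh J W).obj.map (k' ≫ k).op σ = (hSh J W).obj.map k'.op ((hSh J W).obj.map k.op σ) := by
  rw [op_comp, Functor.map_comp]
  rfl

lemma hMap_naturality {V W : C} (g : V ⟶ W) {X X' : C} (k : X' ⟶ X)
    (x : (hSh J V).obj.obj (op X)) :
    (hMap J g).hom.app (op X') ((hSh J V).obj.map k.op x) =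
      (hSh J W).obj.map k.op ((hMap J g).hom.app (op X) x) :=
  congrArg (fun φ => φ x) ((hMap J g).hom.naturality k.op)

variable {J}

/-- the members of a covering sieve give a jointly surjective family of representable sheaves -/
lemma jointlySurjective_of_covering {W : C} (T : Sieve W) (hT : T ∈ J W) :
    CohCx.JointlySurjective (K := hSh J W)
      (I := Σ V : C, {g : V ⟶ W // T g}) (L := fun i => hSh J i.1)
      (fun i => hMap J i.2.1) := by
  intro U' σ
  let S : Sieve U' :=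
    { arrows := fun V' k => ∃ (i : Σ V : C, {g : V ⟶ W // T g}) (x : (hSh J i.1).obj.obj (op V')),
        (hMap J i.2.1).hom.app (op V') x = (hSh J W).obj.map k.op σ
      downward_closed := by
        rintro V' V2 k ⟨i, x, hx⟩ k'
        refine ⟨i, (hSh J i.1).obj.map k'.op x, ?_⟩
        rw [hMap_naturality, hx, map_map_apply'] }
  refine ⟨S, ?_, fun V' k hk => hk⟩
  have hR₁ : Presheaf.imageSieve (toSheafify J (yoneda.obj W)) σ ∈ J U' :=
    Presheaf.imageSieve_mem J (toSheafify J (yoneda.obj W)) σ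
  refine J.transitive hR₁ S ?_
  rintro U2 k₁ ⟨m, hm⟩
  refine J.superset_covering ?_ (J.pullback_stable m hT)
  intro V' k₂ hk₂
  change S.arrows (k₂ ≫ k₁)
  refine ⟨⟨V', k₂ ≫ m, hk₂⟩, cls J (𝟙 V'), ?_⟩
  rw [hMap_cls, Category.id_comp, map_map_apply']
  have hm' : cls J m = (hSh J W).obj.map k₁.op σ := hm
  rw [← hm', map_cls]

/-- a sieve containing a finite jointly surjective family of arrows is covering -/
lemma covering_of_jointlySurjective {W : C} {I : Type u} (V : I → C) (g : ∀ i, V i ⟶ W)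
    (t : Finset I)
    (hjs : CohCx.JointlySurjective (K := hSh J W) (I := t) (L := fun i => hSh J (V i.1))
      (fun i => hMap J (g i.1)))
    (G : Sieve W) (hG : ∀ i ∈ t, G (g i)) : G ∈ J W := by
  obtain ⟨S', hS', h⟩ := hjs W (cls J (𝟙 W))
  refine J.transitive hS' G ?_
  intro V' k hk
  obtain ⟨i, x, hx⟩ := h V' k hk
  rw [map_cls, Category.comp_id] at hx
  have hR₂ : Presheaf.imageSieve (toSheafify J (yoneda.obj (V i.1))) x ∈ J V' :=
    Presheaf.imageSieve_mem J (toSheafify J (yoneda.obj (V i.1))) x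
  refine J.transitive hR₂ _ ?_
  rintro V2 k' ⟨n, hn⟩
  have hn' : cls J n = (hSh J (V i.1)).obj.map k'.op x := hn
  have heq : cls J (n ≫ g i.1) = cls J (k' ≫ k) := by
    rw [← hMap_cls, hn', hMap_naturality, hx, map_cls]
  have hR₃ : Presheaf.equalizerSieve (F := yoneda.obj W) (X := op V2) (n ≫ g i.1) (k' ≫ k) ∈
      J V2 :=
    Presheaf.equalizerSieve_mem J (toSheafify J (yoneda.obj W)) _ _ heq
  refine J.superset_covering ?_ hR₃
  intro V3 k2 hk2
  change G ((k2 ≫ k') ≫ k)
  rw [Category.assoc]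
  have h1 : k2 ≫ n ≫ g i.1 = k2 ≫ k' ≫ k := hk2
  rw [← h1, ← Category.assoc]
  exact G.downward_closed (hG i.1 i.2) _

end qc

section modules

variable {C : Type u} [SmallCategory C] {J : GrothendieckTopology C} (O : Sheaf J CommRingCat.{u})
  {ι : Type u} (Y : ι → ModSite.Mod O)

/-- local finiteness of sections of a coproduct of modules -/
lemma exists_local_eS (X : C) (x : ModSite.freeOn O X ⟶ ∐ Y) :
    ∃ T ∈ J X, ∀ ⦃V : C⦄ (g : V ⟶ X), T.arrows g →
      ∃ S : Finset (Discrete ι), (fmap O g ≫ x) ≫ eS Y S = fmap O g ≫ x := by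
  have hpc := Groth.Agent.Lib.Helper21.ModSh.toSheaf_preservesColimits (ModSite.ringSh O)
  let c := (SheafOfModules.toSheaf (ModSite.ringSh O)).mapCocone (finiteSubcoproductsCocone Y)
  have hc : IsColimit c := isColimitOfPreserves _ (isColimitFiniteSubproductsCocone Y)
  obtain ⟨T, hT, h⟩ := loc_surj'
    (liftToFinsetObj (Discrete.functor Y) ⋙ SheafOfModules.toSheaf (ModSite.ringSh O)) c hc X
    (freeOnHomEquiv O X _ x)
  refine ⟨T, hT, fun V g hg => ?_⟩
  obtain ⟨S, t, ht⟩ := h g hg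
  refine ⟨S, ?_⟩
  obtain ⟨z, hz⟩ : ∃ z : ModSite.freeOn O V ⟶ ∐ fun x : S => (Discrete.functor Y).obj x,
      fmap O g ≫ x = z ≫ incl Y S := by
    refine ⟨(freeOnHomEquiv O V _).symm t, ?_⟩
    apply (freeOnHomEquiv O V _).injective
    rw [freeOnHomEquiv_fmap_comp, freeOnHomEquiv_comp, Equiv.apply_symm_apply]
    exact ht.symm
  rw [hz, Category.assoc, incl_eS]

/-- over a quasi-compact object every section of a coproduct of modules is a finite sum -/
theorem exists_eS_of_isQcObject (W : C) (hW : CohCx.IsQcObject (hSh J W))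
    (x : ModSite.freeOn O W ⟶ ∐ Y) : ∃ S : Finset (Discrete ι), x ≫ eS Y S = x := by
  classical
  obtain ⟨T, hT, h⟩ := exists_local_eS O Y W x
  choose Sg hSg using fun i : (Σ V : C, {g : V ⟶ W // T g}) => h i.2.1 i.2.2
  obtain ⟨t, ht⟩ := hW (Σ V : C, {g : V ⟶ W // T g}) (fun i => hSh J i.1)
    (fun i => hMap J i.2.1) (jointlySurjective_of_covering T hT)
  refine ⟨t.biUnion Sg, ?_⟩
  let G : Sieve W :=
    { arrows := fun V h => (fmap O h ≫ x) ≫ eS Y (t.biUnion Sg) = fmap O h ≫ x
      downward_closed := by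
        intro V V' h hh k
        change (fmap O (k ≫ h) ≫ x) ≫ eS Y (t.biUnion Sg) = fmap O (k ≫ h) ≫ x
        have hh' : (fmap O h ≫ x) ≫ eS Y (t.biUnion Sg) = fmap O h ≫ x := hh
        rw [fmap_comp, Category.assoc, Category.assoc, ← Category.assoc (fmap O h), hh', Category.assoc] }
  have hG : G ∈ J W :=
    covering_of_jointlySurjective (fun i : (Σ V : C, {g : V ⟶ W // T g}) => i.1)
      (fun i => i.2.1) t ht G
      (fun i hi => comp_eS_of_subset Y _ (Finset.subset_biUnion_of_mem Sg hi) (hSg i))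
  apply hom_ext_of_cover O _ _ G hG
  intro V h hh
  rw [← Category.assoc]
  exact hh

/-- `Hom(freeOn O W, -)` commutes with coproducts for quasi-compact `W` -/
theorem bijective_homSum_of_isQcObject (W : C) (hW : CohCx.IsQcObject (hSh J W)) :
    Function.Bijective (homSum (ModSite.freeOn O W) Y (Cofan.mk (∐ Y) (Sigma.ι Y))) := by
  refine ⟨injective_homSum Y _, ?_⟩
  rw [surjective_iff]
  intro x
  obtain ⟨S, hS⟩ := exists_eS_of_isQcObject O Y W hW x
  exact exists_decomp_of_eS Y x S hS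

end modules

end Groth.Agent.H1.QcSections
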