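import Groth.Agent.Lib.Helper1.EtStalkPull

set_option autoImplicit false
set_option linter.unusedSectionVars false

namespace Groth.Agent.H1.Recoll

open CategoryTheory CategoryTheory.Limits

universe v₁ v₂ v₃ u₁ u₂ u₃

variable {A : Type u₁} {B : Type u₂} {C : Type u₃} [Category.{v₁} A] [Category.{v₂} B]
  [Category.{v₃} C]
  {iU : A ⥤ B} {iL : B ⥤ A} (adjI : iU ⊣ iL) {jU : A ⥤ C} {jL : C ⥤ A} (adjJ : jU ⊣ jL)

/-- the abstract recollement functor `F ↦ (i^* F, j^* F, i^*(F → j_* j^* F))` -/
@[simps]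
def Φ : A ⥤ Comma (𝟭 B) (jL ⋙ iU) where
  obj F :=
    { left := iU.obj F
      right := jU.obj F
      hom := iU.map (adjJ.unit.app F) }
  map {F G} φ :=
    { left := iU.map φ
      right := jU.map φ
      w := by
        dsimp
        rw [← Functor.map_comp, ← Functor.map_comp]
        congr 1
        exact (adjJ.unit.naturality φ) }
  map_id F := by ext <;> simp
  map_comp φ ψ := by ext <;> simp

variable [HasPullbacks A] [HasEqualizers A]
  [PreservesLimitsOfShape WalkingCospan iU] [PreservesLimitsOfShape WalkingCospan jU]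
  [PreservesLimitsOfShape WalkingParallelPair iU] [PreservesLimitsOfShape WalkingParallelPair jU]
  [IsIso adjI.counit] [IsIso adjJ.counit]
  (hz : ∀ G : B, IsZero (jU.obj (iL.obj G)))
  (hc : ∀ {F F' : A} (f : F ⟶ F'), IsIso (iU.map f) → IsIso (jU.map f) → IsIso f)

include adjI in
theorem isIso_iU_unit (F : A) : IsIso (iU.map (adjI.unit.app F)) := by
  have h := adjI.left_triangle_components F
  have : iU.map (adjI.unit.app F) = inv (adjI.counit.app (iU.obj F)) := by
    rw [← cancel_mono (adjI.counit.app (iU.obj F)), h, IsIso.inv_hom_id]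
    rfl
  rw [this]
  infer_instance

theorem isIso_of_isZero {D : Type*} [Category D] {X Y : D} (hX : IsZero X) (hY : IsZero Y)
    (f : X ⟶ Y) : IsIso f :=
  ⟨hY.to_ X, hX.eq_of_src _ _, hY.eq_of_src _ _⟩

theorem isIso_of_comp_eq_id {D : Type*} [Category D] {X Y : D} (f : X ⟶ Y) (g : Y ⟶ X) [IsIso g]
    (h : f ≫ g = 𝟙 X) : IsIso f := by
  have : f = inv g := by rw [← cancel_mono g, h, IsIso.inv_hom_id]
  rw [this]
  infer_instance

section Glue

variable (T : Comma (𝟭 B) (jL ⋙ iU))

/-- the glued object -/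
noncomputable def glue : A := pullback (iL.map T.hom) (adjI.unit.app (jL.obj T.right))

/-- first projection of the glued object -/
noncomputable def p₁ : glue adjI T ⟶ iL.obj T.left := pullback.fst _ _

/-- second projection of the glued object -/
noncomputable def p₂ : glue adjI T ⟶ jL.obj T.right := pullback.snd _ _

theorem glue_cond : p₁ adjI T ≫ iL.map T.hom = p₂ adjI T ≫ adjI.unit.app (jL.obj T.right) :=
  pullback.condition

theorem isPullback_glue : IsPullback (p₁ adjI T) (p₂ adjI T) (iL.map T.hom)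
    (adjI.unit.app (jL.obj T.right)) := IsPullback.of_hasPullback _ _

/-- the comparison `i^* (glue) ⟶ G` -/
noncomputable def a : iU.obj (glue adjI T) ⟶ T.left := iU.map (p₁ adjI T) ≫ adjI.counit.app T.left

/-- the comparison `j^* (glue) ⟶ H` -/
noncomputable def b : jU.obj (glue adjI T) ⟶ T.right :=
  jU.map (p₂ adjI T) ≫ adjJ.counit.app T.right

theorem isIso_a : IsIso (a adjI T) := by
  have h := (isPullback_glue adjI T).map iU
  have := isIso_iU_unit adjI (jL.obj T.right)
  have : IsIso (iU.map (p₁ adjI T)) := h.isIso_fst_of_isIso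
  unfold a
  infer_instance

include hz in
theorem isIso_b : IsIso (b adjI adjJ T) := by
  have h := (isPullback_glue adjI T).map jU
  have : IsIso (jU.map (iL.map T.hom)) := isIso_of_isZero (hz _) (hz _) _
  have : IsIso (jU.map (p₂ adjI T)) := h.isIso_snd_of_isIso
  unfold b
  infer_instance

theorem glue_w : ((Φ adjJ).obj (glue adjI T)).hom ≫ (jL ⋙ iU).map (b adjI adjJ T) =
    (𝟭 B).map (a adjI T) ≫ T.hom := by
  have e1 : adjJ.unit.app (glue adjI T) ≫ jL.map (b adjI adjJ T) = p₂ adjI T := by
    unfold b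
    rw [Functor.map_comp, ← Category.assoc]
    have := adjJ.unit.naturality (p₂ adjI T)
    dsimp at this
    rw [← this, Category.assoc, adjJ.right_triangle_components, Category.comp_id]
  have e2 : a adjI T ≫ T.hom = iU.map (p₂ adjI T) := by
    unfold a
    have := adjI.counit.naturality T.hom
    dsimp at this
    rw [Category.assoc, ← this, ← Category.assoc, ← Functor.map_comp, glue_cond, Functor.map_comp,
      Category.assoc, adjI.left_triangle_components, Category.comp_id]
  change iU.map (adjJ.unit.app (glue adjI T)) ≫ iU.map (jL.map (b adjI adjJ T)) =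
    a adjI T ≫ T.hom
  rw [← Functor.map_comp, e1]
  exact e2.symm

/-- the glued object realizes the triple -/
noncomputable def glueIso : (Φ adjJ).obj (glue adjI T) ≅ T :=
  Comma.isoMk (@asIso _ _ _ _ (a adjI T) (isIso_a adjI T))
    (@asIso _ _ _ _ (b adjI adjJ T) (isIso_b adjI adjJ hz T)) (glue_w adjI adjJ T).symm

end Glue

include hz adjI in
theorem essSurj : (Φ (iU := iU) adjJ).EssSurj :=
  ⟨fun T => ⟨glue adjI T, ⟨glueIso adjI adjJ hz T⟩⟩⟩


include hc in
theorem faithful : (Φ (iU := iU) adjJ).Faithful := by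
  constructor
  intro F F' f g h
  have h1 : iU.map f = iU.map g := congrArg CommaMorphism.left h
  have h2 : jU.map f = jU.map g := congrArg CommaMorphism.right h
  have : IsIso (equalizer.ι f g) := by
    apply hc
    · have hl := isLimitForkMapOfIsLimit iU (equalizer.condition f g) (equalizerIsEqualizer f g)
      exact isIso_limit_cone_parallelPair_of_eq h1 hl
    · have hl := isLimitForkMapOfIsLimit jU (equalizer.condition f g) (equalizerIsEqualizer f g)
      exact isIso_limit_cone_parallelPair_of_eq h2 hl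
  exact (cancel_epi (equalizer.ι f g)).1 (equalizer.condition f g)

include hz hc in
theorem isPullback_unit (F' : A) :
    IsPullback (adjI.unit.app F') (adjJ.unit.app F') (iL.map (iU.map (adjJ.unit.app F')))
      (adjI.unit.app (jL.obj (jU.obj F'))) := by
  have comm : adjI.unit.app F' ≫ iL.map (iU.map (adjJ.unit.app F')) =
      adjJ.unit.app F' ≫ adjI.unit.app (jL.obj (jU.obj F')) :=
    (adjI.unit.naturality (adjJ.unit.app F')).symm
  obtain ⟨c, c1, c2⟩ : ∃ c : F' ⟶ glue adjI ((Φ adjJ).obj F'),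
      c ≫ p₁ adjI ((Φ adjJ).obj F') = adjI.unit.app F' ∧
      c ≫ p₂ adjI ((Φ adjJ).obj F') = adjJ.unit.app F' :=
    ⟨pullback.lift (adjI.unit.app F') (adjJ.unit.app F') comm, pullback.lift_fst _ _ _,
      pullback.lift_snd _ _ _⟩
  have ha := isIso_a adjI ((Φ adjJ).obj F')
  have hb := isIso_b adjI adjJ hz ((Φ adjJ).obj F')
  have hc1 : IsIso (iU.map c) := by
    have e : iU.map c ≫ a adjI ((Φ adjJ).obj F') = 𝟙 _ := by
      unfold a
      rw [← Category.assoc, ← Functor.map_comp, c1]
      exact adjI.left_triangle_components F'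
    exact @isIso_of_comp_eq_id _ _ _ _ _ (a adjI ((Φ adjJ).obj F')) ha e
  have hc2 : IsIso (jU.map c) := by
    have e : jU.map c ≫ b adjI adjJ ((Φ adjJ).obj F') = 𝟙 _ := by
      unfold b
      rw [← Category.assoc, ← Functor.map_comp, c2]
      exact adjJ.left_triangle_components F'
    exact @isIso_of_comp_eq_id _ _ _ _ _ (b adjI adjJ ((Φ adjJ).obj F')) hb e
  have hci : IsIso c := hc c hc1 hc2
  exact IsPullback.of_iso_pullback ⟨comm⟩ (@asIso _ _ _ _ c hci) c1 c2

include adjI hz hc in
theorem full : (Φ (iU := iU) adjJ).Full := by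
  constructor
  intro F F' m
  have sq := isPullback_unit adjI adjJ hz hc F'
  obtain ⟨ml, hml⟩ : ∃ ml : iU.obj F ⟶ iU.obj F', ml = m.left := ⟨_, rfl⟩
  obtain ⟨mr, hmr⟩ : ∃ mr : jU.obj F ⟶ jU.obj F', mr = m.right := ⟨_, rfl⟩
  have mw : ml ≫ iU.map (adjJ.unit.app F') =
      iU.map (adjJ.unit.app F) ≫ iU.map (jL.map mr) := by
    rw [hml, hmr]
    exact m.w
  have hw : (adjI.unit.app F ≫ iL.map ml) ≫ iL.map (iU.map (adjJ.unit.app F')) =
      (adjJ.unit.app F ≫ jL.map mr) ≫ adjI.unit.app (jL.obj (jU.obj F')) := by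
    have n : (adjJ.unit.app F ≫ jL.map mr) ≫ adjI.unit.app (jL.obj (jU.obj F')) =
        adjI.unit.app F ≫ iL.map (iU.map (adjJ.unit.app F ≫ jL.map mr)) :=
      adjI.unit.naturality (adjJ.unit.app F ≫ jL.map mr)
    rw [n, Category.assoc, ← Functor.map_comp, mw, Functor.map_comp, Functor.map_comp,
      Functor.map_comp]
  refine ⟨sq.lift _ _ hw, ?_⟩
  apply Comma.hom_ext
  · rw [← hml]
    apply (adjI.homEquiv _ _).injective
    rw [adjI.homEquiv_unit, adjI.homEquiv_unit]
    have n : sq.lift _ _ hw ≫ adjI.unit.app F' =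
        adjI.unit.app F ≫ iL.map (iU.map (sq.lift _ _ hw)) :=
      adjI.unit.naturality (sq.lift _ _ hw)
    change adjI.unit.app F ≫ iL.map (iU.map (sq.lift _ _ hw)) = adjI.unit.app F ≫ iL.map ml
    rw [← n, sq.lift_fst]
  · rw [← hmr]
    apply (adjJ.homEquiv _ _).injective
    rw [adjJ.homEquiv_unit, adjJ.homEquiv_unit]
    have n : sq.lift _ _ hw ≫ adjJ.unit.app F' =
        adjJ.unit.app F ≫ jL.map (jU.map (sq.lift _ _ hw)) :=
      adjJ.unit.naturality (sq.lift _ _ hw)
    change adjJ.unit.app F ≫ jL.map (jU.map (sq.lift _ _ hw)) = adjJ.unit.app F ≫ jL.map mr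
    rw [← n, sq.lift_snd]

include adjI hz hc in
theorem isEquivalence : (Φ (iU := iU) adjJ).IsEquivalence := by
  have := faithful adjJ hc
  have := full adjI adjJ hz hc
  have := essSurj adjI adjJ hz
  exact { }

end Groth.Agent.H1.Recoll
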