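import Groth.Agent.Lib.Helper1.Recoll

set_option autoImplicit false
set_option linter.unusedSectionVars false

namespace Groth.Agent.H1.Recoll

open CategoryTheory CategoryTheory.Limits

universe v₁ v₂ v₃ u₁ u₂ u₃

variable {A : Type u₁} {B : Type u₂} {C : Type u₃} [Category.{v₁} A] [Category.{v₂} B]
  [Category.{v₃} C] [Abelian A] [Abelian C]
  {iU : A ⥤ B} {iL : B ⥤ A} (adjI : iU ⊣ iL) {jU : A ⥤ C} {jL : C ⥤ A} (adjJ : jU ⊣ jL)
  [jU.PreservesZeroMorphisms] [jU.PreservesMonomorphisms]
  [IsIso adjI.counit] [IsIso adjJ.counit]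
  (hz : ∀ G : B, IsZero (jU.obj (iL.obj G)))
  (hc : ∀ {F F' : A} (f : F ⟶ F'), IsIso (iU.map f) → IsIso (jU.map f) → IsIso f)

include adjI in
theorem isIso_iU_unit' (F : A) : IsIso (iU.map (adjI.unit.app F)) := by
  have h := adjI.left_triangle_components F
  have : iU.map (adjI.unit.app F) = inv (adjI.counit.app (iU.obj F)) := by
    rw [← cancel_mono (adjI.counit.app (iU.obj F)), h, IsIso.inv_hom_id]
    rfl
  rw [this]
  infer_instance

include adjJ in
/-- the sections supported on the closed part restrict to zero on the open part -/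
theorem isZero_jU_kernel_unit (I : A) : IsZero (jU.obj (kernel (adjJ.unit.app I))) := by
  have h0 : jU.map (kernel.ι (adjJ.unit.app I)) ≫ jU.map (adjJ.unit.app I) = 0 := by
    rw [← Functor.map_comp, kernel.condition, Functor.map_zero]
  have hm : Mono (jU.map (adjJ.unit.app I)) :=
    (SplitMono.mk (adjJ.counit.app (jU.obj I)) (adjJ.left_triangle_components I)).mono
  have h1 : jU.map (kernel.ι (adjJ.unit.app I)) = 0 := by
    rw [← cancel_mono (jU.map (adjJ.unit.app I)), h0, zero_comp]
  exact IsZero.of_mono_eq_zero _ h1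

include adjI adjJ hz hc in
/-- `i^! I` is injective for injective `I` -/
theorem injective_iU_kernel_unit (I : A) [Injective I] :
    Injective (iU.obj (kernel (adjJ.unit.app I))) := by
  have hK := isZero_jU_kernel_unit adjJ I
  have huK : IsIso (adjI.unit.app (kernel (adjJ.unit.app I))) :=
    hc _ (isIso_iU_unit' adjI _) (isIso_of_isZero hK (hz _) _)
  constructor
  intro G G' a m _
  have : iL.PreservesMonomorphisms := Functor.preservesMonomorphisms_of_adjunction adjI
  have : Mono (iL.map m) := inferInstance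
  obtain ⟨bt, hbt⟩ : ∃ bt : iL.obj G' ⟶ I, iL.map m ≫ bt =
      iL.map a ≫ inv (adjI.unit.app (kernel (adjJ.unit.app I))) ≫ kernel.ι (adjJ.unit.app I) :=
    ⟨Injective.factorThru _ (iL.map m), Injective.comp_factorThru _ _⟩
  have hb : bt ≫ adjJ.unit.app I = 0 := by
    apply (adjJ.homEquiv _ _).symm.injective
    exact (hz G').eq_of_src _ _
  obtain ⟨b', hb'⟩ : ∃ b' : iL.obj G' ⟶ kernel (adjJ.unit.app I),
      b' ≫ kernel.ι (adjJ.unit.app I) = bt := ⟨kernel.lift _ bt hb, kernel.lift_ι _ _ _⟩
  refine ⟨inv (adjI.counit.app G') ≫ iU.map b', ?_⟩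
  have s1 : m ≫ inv (adjI.counit.app G') = inv (adjI.counit.app G) ≫ iU.map (iL.map m) := by
    rw [IsIso.comp_inv_eq, Category.assoc]
    have := adjI.counit.naturality m
    dsimp at this
    rw [this, IsIso.inv_hom_id_assoc]
  have s2 : iL.map m ≫ b' =
      iL.map a ≫ inv (adjI.unit.app (kernel (adjJ.unit.app I))) := by
    rw [← cancel_mono (kernel.ι (adjJ.unit.app I)), Category.assoc, hb', hbt, Category.assoc]
  have s3 : inv (adjI.counit.app G) ≫ iU.map (iL.map a) =
      a ≫ inv (adjI.counit.app (iU.obj (kernel (adjJ.unit.app I)))) := by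
    rw [IsIso.inv_comp_eq, ← Category.assoc, IsIso.eq_comp_inv]
    have := adjI.counit.naturality a
    dsimp at this
    exact this
  have s4 : inv (adjI.counit.app (iU.obj (kernel (adjJ.unit.app I)))) =
      iU.map (adjI.unit.app (kernel (adjJ.unit.app I))) := by
    rw [← cancel_mono (adjI.counit.app (iU.obj (kernel (adjJ.unit.app I)))), IsIso.inv_hom_id]
    exact (adjI.left_triangle_components _).symm
  rw [← Category.assoc, s1, Category.assoc, ← Functor.map_comp, s2, Functor.map_comp,
    ← Category.assoc, s3, Category.assoc, s4, ← Functor.map_comp, IsIso.hom_inv_id]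
  exact (congrArg (a ≫ ·) (iU.map_id _)).trans (Category.comp_id a)

end Groth.Agent.H1.Recoll
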