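import Groth.Agent.Lib.Helper1.MilnorHom
import Groth.Agent.Lib.Helper1.AdjExact

/-!
Helper library (helper1):
* `homologyNatIso`: exact functors commute with cohomology on derived categories, naturally.
* `isRlimVia_map`: a triangulated functor preserving the relevant countable product preserves
  derived limits (`CohCx.IsRlimVia`).
-/

set_option autoImplicit false
set_option linter.unusedSectionVars false
universe w w' v v' u u'
open CategoryTheory CategoryTheory.Limits Pretriangulated

namespace Groth.Agent.H1.RlimAdj

open Groth.Agent.H1.MilnorHom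

section homology

open DerivedCategory

variable {A : Type u} [Category.{v} A] [Abelian A] [HasDerivedCategory.{w} A]
  {B : Type u'} [Category.{v'} B] [Abelian B] [HasDerivedCategory.{w'} B]
  (Φ : B ⥤ A) [Φ.Additive] [PreservesFiniteLimits Φ] [PreservesFiniteColimits Φ]

/-- on complexes: exact functors commute with homology, naturally -/
noncomputable def homologyNatIsoCx (n : ℤ) :
    Φ.mapHomologicalComplex (ComplexShape.up ℤ) ⋙ HomologicalComplex.homologyFunctor A _ n ≅
      HomologicalComplex.homologyFunctor B _ n ⋙ Φ :=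
  NatIso.ofComponents (fun E => (E.sc n).mapHomologyIso Φ)
    (fun f => ShortComplex.mapHomologyIso_hom_naturality
      ((HomologicalComplex.shortComplexFunctor B (ComplexShape.up ℤ) n).map f) Φ)

/-- exact functors commute with cohomology on the derived category, naturally -/
noncomputable def homologyNatIso (n : ℤ) :
    Φ.mapDerivedCategory ⋙ homologyFunctor A n ≅ homologyFunctor B n ⋙ Φ :=
  Localization.liftNatIso Q (HomologicalComplex.quasiIso B (ComplexShape.up ℤ))
    (Q ⋙ Φ.mapDerivedCategory ⋙ homologyFunctor A n) (Q ⋙ homologyFunctor B n ⋙ Φ) _ _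
    ((Functor.associator _ _ _).symm ≪≫
      Functor.isoWhiskerRight Φ.mapDerivedCategoryFactors (homologyFunctor A n) ≪≫
      Functor.associator _ _ _ ≪≫
      Functor.isoWhiskerLeft _ (homologyFunctorFactors A n) ≪≫
      homologyNatIsoCx Φ n ≪≫
      Functor.isoWhiskerRight (homologyFunctorFactors B n).symm Φ ≪≫
      Functor.associator _ _ _)

lemma isIso_homology_map_iff {Y Y' : DerivedCategory B} (φ : Y ⟶ Y') (n : ℤ) :
    IsIso ((homologyFunctor A n).map (Φ.mapDerivedCategory.map φ)) ↔
      IsIso (Φ.map ((homologyFunctor B n).map φ)) := by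
  have h := (homologyNatIso Φ n).hom.naturality φ
  dsimp only [Functor.comp_map] at h
  constructor
  · intro h1
    have : Φ.map ((homologyFunctor B n).map φ) =
        (homologyNatIso Φ n).inv.app Y ≫ (homologyFunctor A n).map (Φ.mapDerivedCategory.map φ) ≫
          (homologyNatIso Φ n).hom.app Y' := by
      rw [h, ← Category.assoc, ← NatTrans.comp_app, Iso.inv_hom_id, NatTrans.id_app]
      exact (Category.id_comp _).symm
    rw [this]
    infer_instance
  · intro h1
    have : (homologyFunctor A n).map (Φ.mapDerivedCategory.map φ) =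
        (homologyNatIso Φ n).hom.app Y ≫ Φ.map ((homologyFunctor B n).map φ) ≫
          (homologyNatIso Φ n).inv.app Y' := by
      rw [← Category.assoc, ← h, Category.assoc, ← NatTrans.comp_app, Iso.hom_inv_id,
        NatTrans.id_app]
      exact (Category.comp_id _).symm
    rw [this]
    infer_instance

end homology

section rlim

variable {T : Type u} [Category.{v} T] [Preadditive T] [HasZeroObject T] [HasShift T ℤ]
  [∀ n : ℤ, (shiftFunctor T n).Additive] [Pretriangulated T]
  {T' : Type u'} [Category.{v'} T'] [Preadditive T'] [HasZeroObject T'] [HasShift T' ℤ]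
  [∀ n : ℤ, (shiftFunctor T' n).Additive] [Pretriangulated T']
  (R : T ⥤ T') [R.Additive] [R.CommShift ℤ] [R.IsTriangulated]

/-- triangulated functors preserving countable products preserve derived limits -/
theorem isRlimVia_map (K : ℕ → T) (t : ∀ n, K (n + 1) ⟶ K n) [HasProduct K]
    [HasProduct (fun n => R.obj (K n))] [PreservesLimit (Discrete.functor K) R]
    (L : T) (a : ∀ n, L ⟶ K n) (h : CohCx.IsRlimVia K t L a) :
    CohCx.IsRlimVia (fun n => R.obj (K n)) (fun n => R.map (t n)) (R.obj L)
      (fun n => R.map (a n)) := by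
  obtain ⟨c, hc⟩ := h
  have hd := R.map_distinguished _ hc
  let e : R.obj (∏ᶜ K) ≅ ∏ᶜ (fun n => R.obj (K n)) := PreservesProduct.iso R K
  have he : e.hom = piComparison R K := PreservesProduct.iso_hom R K
  have heπ : ∀ n, e.hom ≫ Pi.π (fun n => R.obj (K n)) n = R.map (Pi.π K n) := by
    intro n
    rw [he, piComparison_comp_π]
  refine ⟨e.inv ≫ R.map c ≫ (R.commShiftIso (1 : ℤ)).hom.app L, ?_⟩
  refine isomorphic_distinguished _ hd _ ?_
  refine Triangle.isoMk _ _ (Iso.refl _) e.symm e.symm ?_ ?_ ?_
  · have h1 : Pi.lift (fun n => R.map (a n)) ≫ e.inv = R.map (Pi.lift a) := by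
      rw [Iso.comp_inv_eq, he, map_lift_piComparison]
    have h2 : (Pi.lift fun n => R.map (a n)) ≫ e.symm.hom =
        𝟙 (R.obj L) ≫ R.map (Pi.lift a) := by
      rw [Category.id_comp]
      exact h1
    exact h2
  · have h1 : delta (fun n => R.obj (K n)) (fun n => R.map (t n)) ≫ e.inv =
        e.inv ≫ R.map (delta K t) := by
      rw [Iso.comp_inv_eq, Category.assoc, Iso.eq_inv_comp]
      apply Pi.hom_ext
      intro n
      rw [Category.assoc, Category.assoc, Pi.lift_π, heπ, ← Functor.map_comp, Pi.lift_π,
        Preadditive.comp_sub, heπ, ← Category.assoc, heπ, Functor.map_sub, Functor.map_comp]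
    exact h1
  · have h1 : (e.inv ≫ R.map c ≫ (R.commShiftIso (1 : ℤ)).hom.app L) ≫
        (𝟙 (R.obj L))⟦(1 : ℤ)⟧' = e.inv ≫ R.map c ≫ (R.commShiftIso (1 : ℤ)).hom.app L := by
      rw [CategoryTheory.Functor.map_id]
      exact Category.comp_id _
    exact h1

end rlim

end Groth.Agent.H1.RlimAdj
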