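import Groth.Agent.Lib.Helper1.GoodCd

/-!
Helper library (helper1): cohomology sheaves of a derived limit of an eventually constant tower
in `D^+_A` on a ringed site with enough objects of finite cohomological dimension.
-/

set_option autoImplicit false
set_option linter.unusedSectionVars false
universe w u
open CategoryTheory CategoryTheory.Limits Opposite DerivedCategory Pretriangulated

namespace Groth.Agent.H1.RlimCoh

open Groth.Agent.H1.FreeOnLoc Groth.Agent.H1.SingleHom Groth.Agent.H1.HjSite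
  Groth.Agent.H1.SingleVanish Groth.Agent.H1.MilnorHom Groth.Agent.H1.GoodCd

variable {C : Type u} [SmallCategory C] {J : GrothendieckTopology C} {O : Sheaf J CommRingCat.{u}}
  [HasDerivedCategory.{w} (ModSite.Mod O)]
  {A : ObjectProperty (ModSite.Mod O)} [WSerre.IsWeakSerre A] {B : Set C}

/-- sections vanish if they vanish on all members of `B` -/
lemma eq_zero_of_cover
    (hB : ∀ U : C, ∃ (ι : Type u) (Y : ι → C) (g : ∀ i, Y i ⟶ U),
      Sieve.ofArrows Y g ∈ J U ∧ ∀ i, Y i ∈ B)
    {G : ModSite.Mod O} {X : C} (s : ModSite.freeOn O X ⟶ G)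
    (h : ∀ V ∈ B, ∀ g : V ⟶ X, fmap O g ≫ s = 0) : s = 0 := by
  obtain ⟨ι, Y, g, hcov, hY⟩ := hB X
  apply hom_ext_of_cover O s 0 _ hcov
  intro Z f hf
  obtain ⟨i, u, rfl⟩ := (Sieve.mem_ofArrows_iff Y g f).1 hf
  rw [fmap_comp, Category.assoc, h (Y i) (hY i) (g i), comp_zero, comp_zero]

/-- sections over a covering family determine a section -/
lemma eq_zero_of_family {G : ModSite.Mod O} {X : C} (s : ModSite.freeOn O X ⟶ G)
    {ι : Type u} (Y : ι → C) (g : ∀ i, Y i ⟶ X) (hcov : Sieve.ofArrows Y g ∈ J X)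
    (h : ∀ i, fmap O (g i) ≫ s = 0) : s = 0 := by
  apply hom_ext_of_cover O s 0 _ hcov
  intro Z f hf
  obtain ⟨i, u, rfl⟩ := (Sieve.mem_ofArrows_iff Y g f).1 hf
  rw [fmap_comp, Category.assoc, h i, comp_zero, comp_zero]

variable (K : ℕ → DerivedCategory (ModSite.Mod O)) (t : ∀ n, K (n + 1) ⟶ K n)

lemma transition_spec {L : DerivedCategory (ModSite.Mod O)} (a : ∀ n, L ⟶ K n)
    (hcompat : ∀ m, a (m + 1) ≫ t m = a m) (j : ℤ) (n : ℕ)
    (hn : ∀ m, n ≤ m → IsIso ((homologyFunctor (ModSite.Mod O) j).map (t m))) (k : ℕ) :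
    a (n + k) ≫ CohCx.transition K t n k = a n ∧
      IsIso ((homologyFunctor (ModSite.Mod O) j).map (CohCx.transition K t n k)) := by
  induction k with
  | zero =>
    constructor
    · exact Category.comp_id _
    · change IsIso ((homologyFunctor (ModSite.Mod O) j).map (𝟙 _))
      infer_instance
  | succ k ih =>
    constructor
    · change a (n + k + 1) ≫ t (n + k) ≫ CohCx.transition K t n k = a n
      rw [← Category.assoc, hcompat, ih.1]
    · change IsIso ((homologyFunctor (ModSite.Mod O) j).map (t (n + k) ≫ CohCx.transition K t n k))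
      rw [Functor.map_comp]
      have := hn (n + k) (by omega)
      have := ih.2
      infer_instance

variable {K t}

/-- **Main theorem** (Stacks, Cohomology on Sites, "derived limits of eventually constant
systems"): cohomology sheaves of `R lim K_n`. -/
theorem isIso_homology_a [HasProduct K]
    (hB : ∀ U : C, ∃ (ι : Type u) (Y : ι → C) (g : ∀ i, Y i ⟶ U),
      Sieve.ofArrows Y g ∈ J U ∧ ∀ i, Y i ∈ B)
    (hA : ∀ V ∈ B, ∃ d : ℕ, ∀ T ∈ J V, ∃ (ι : Type u) (Y : ι → C) (g : ∀ i, Y i ⟶ V),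
      (∀ i, T.arrows (g i)) ∧ Sieve.ofArrows Y g ∈ J V ∧ ∀ i, GoodFor O A d (Y i))
    (hK : ∀ n, WSerre.cohInPlus A (K n))
    (N : ℤ → ℕ)
    (hN : ∀ (i : ℤ) (n : ℕ), N i ≤ n → IsIso ((homologyFunctor (ModSite.Mod O) i).map (t n)))
    (L : DerivedCategory (ModSite.Mod O)) (a : ∀ n, L ⟶ K n) (hL : CohCx.IsRlimVia K t L a)
    (j : ℤ) (n : ℕ) (hn : N j ≤ n) :
    IsIso ((homologyFunctor (ModSite.Mod O) j).map (a n)) := by
  have hcompat : ∀ m, a (m + 1) ≫ t m = a m := a_compat hL
  -- the key fact for members of `B`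
  have key : ∀ V ∈ B, ∃ (d : ℕ) (k : ℕ),
      (∀ T ∈ J V, ∃ (ι : Type u) (Y : ι → C) (g : ∀ i, Y i ⟶ V),
        (∀ i, T.arrows (g i)) ∧ Sieve.ofArrows Y g ∈ J V ∧ ∀ i, GoodFor O A d (Y i)) ∧
      (∀ W : C, GoodFor O A d W →
        Function.Bijective (fun σ : Xj O W j ⟶ L => σ ≫ a (n + k))) := by
    intro V hV
    obtain ⟨d, hd⟩ := hA V hV
    let n₁ : ℕ := (Finset.Icc (j - d - 3) (j + 1)).sup N
    have hn₁ : ∀ m, n₁ ≤ m → ∀ i : ℤ, j - d - 3 ≤ i → i ≤ j + 1 →
        IsIso ((homologyFunctor (ModSite.Mod O) i).map (t m)) := by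
      intro m hm i h1 h2
      exact hN i m (le_trans (Finset.le_sup (f := N) (Finset.mem_Icc.2 ⟨h1, h2⟩)) hm)
    refine ⟨d, n₁ - n, hd, fun W hW => ?_⟩
    exact bijective_comp_a_of_good hW K t hK L a hL j n₁ hn₁ (n + (n₁ - n)) (by omega)
  apply isIso_of_sections O
  · -- injectivity on sections
    intro X s hs
    apply eq_zero_of_cover hB
    intro V hV g
    obtain ⟨d, k, hd, hbij⟩ := key V hV
    obtain ⟨htr, htriso⟩ := transition_spec K t a hcompat j n (fun m hm => hN j m (by omega)) k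
    set s' := fmap O g ≫ s with hs'
    have hs0 : s' ≫ (homologyFunctor (ModSite.Mod O) j).map (a (n + k)) = 0 := by
      have h1 : s' ≫ (homologyFunctor (ModSite.Mod O) j).map (a n) = 0 := by
        rw [hs', Category.assoc, hs, comp_zero]
      rw [← htr, Functor.map_comp, ← Category.assoc] at h1
      rw [← cancel_mono ((homologyFunctor (ModSite.Mod O) j).map (CohCx.transition K t n k)), h1,
        zero_comp]
    -- the sieve of arrows on which `s'` is represented by a class killed by `a (n + k)`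
    let T : Sieve V :=
      { arrows := fun Z f => ∃ σ : Xj O Z j ⟶ L, rho σ = fmap O f ≫ s' ∧ σ ≫ a (n + k) = 0
        downward_closed := by
          rintro Z Z' f ⟨σ, h1, h2⟩ u
          refine ⟨res O u j ≫ σ, ?_, ?_⟩
          · rw [rho_precomp, h1, fmap_comp, Category.assoc]
          · rw [Category.assoc, h2, comp_zero] }
    have hT : T ∈ J V := by
      obtain ⟨T₁, hT₁, hl₁⟩ := exists_local_rep O L j s'
      refine J.transitive hT₁ T ?_
      intro Y f hf
      obtain ⟨σ, hσ⟩ := hl₁ f hf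
      have h0 : rho (σ ≫ a (n + k)) = 0 := by
        rw [rho_comp, hσ, Category.assoc, hs0, comp_zero]
      obtain ⟨T₂, hT₂, hl₂⟩ := exists_local_zero O (K (n + k)) j (σ ≫ a (n + k)) h0
      refine J.superset_covering ?_ hT₂
      intro Z u hu
      refine ⟨res O u j ≫ σ, ?_, ?_⟩
      · rw [rho_precomp, hσ, fmap_comp, Category.assoc]
      · rw [Category.assoc]
        exact hl₂ u hu
    obtain ⟨ι, Y, gY, hYT, hYcov, hYgood⟩ := hd T hT
    apply eq_zero_of_family s' Y gY hYcov
    intro i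
    obtain ⟨σ, h1, h2⟩ := hYT i
    have : σ = 0 := (hbij (Y i) (hYgood i)).1 (by
      dsimp only
      rw [h2, zero_comp])
    rw [← h1, this, rho_zero]
  · -- local surjectivity on sections
    intro X s'
    -- the sieve of arrows over which `s'` lifts
    let T : Sieve X :=
      { arrows := fun Z f => ∃ s : ModSite.freeOn O Z ⟶ (homologyFunctor (ModSite.Mod O) j).obj L,
          s ≫ (homologyFunctor (ModSite.Mod O) j).map (a n) = fmap O f ≫ s'
        downward_closed := by
          rintro Z Z' f ⟨s, hs⟩ u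
          exact ⟨fmap O u ≫ s, by rw [Category.assoc, hs, fmap_comp, Category.assoc]⟩ }
    refine ⟨T, ?_, fun Y g hg => hg⟩
    obtain ⟨ι, V, gV, hVcov, hVB⟩ := hB X
    refine J.transitive hVcov T ?_
    intro Z f hf
    obtain ⟨i, u, rfl⟩ := (Sieve.mem_ofArrows_iff V gV f).1 hf
    rw [Sieve.pullback_comp]
    apply J.pullback_stable
    obtain ⟨d, k, hd, hbij⟩ := key (V i) (hVB i)
    obtain ⟨htr, htriso⟩ := transition_spec K t a hcompat j n (fun m hm => hN j m (by omega)) k
    let s'' : ModSite.freeOn O (V i) ⟶ (homologyFunctor (ModSite.Mod O) j).obj (K (n + k)) :=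
      fmap O (gV i) ≫ s' ≫ inv ((homologyFunctor (ModSite.Mod O) j).map (CohCx.transition K t n k))
    obtain ⟨T₁, hT₁, hl₁⟩ := exists_local_rep O (K (n + k)) j s''
    obtain ⟨ι', W, gW, hWT, hWcov, hWgood⟩ := hd T₁ hT₁
    refine J.superset_covering ?_ hWcov
    intro Z' f' hf'
    obtain ⟨i', u', rfl⟩ := (Sieve.mem_ofArrows_iff W gW f').1 hf'
    change T.arrows ((u' ≫ gW i') ≫ gV i)
    rw [Category.assoc]
    apply T.downward_closed
    obtain ⟨σ', hσ'⟩ := hl₁ (gW i') (hWT i')
    obtain ⟨σ, hσ⟩ := (hbij (W i') (hWgood i')).2 σ'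
    dsimp only at hσ
    refine ⟨rho σ, ?_⟩
    rw [← htr, Functor.map_comp, ← Category.assoc, ← rho_comp, hσ, hσ']
    simp only [s'', Category.assoc, IsIso.inv_hom_id, Category.comp_id]
    rw [fmap_comp, Category.assoc]

end Groth.Agent.H1.RlimCoh
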