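import Groth.Agent.Lib.Helper1.HDUNat
import Groth.Agent.Lib.Helper1.AbSheafAcyc

/-!
Helper library (helper1): cohomology sheaves of a derived limit of complexes of abelian sheaves
whose cohomology sheaves are acyclic on a covering class `B` and have vanishing `R^1 lim` of
sections over members of `B`.
-/

set_option autoImplicit false
set_option linter.unusedSectionVars false
universe w u
open CategoryTheory CategoryTheory.Limits Opposite DerivedCategory

namespace Groth.Agent.H1.RlimSheaves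

open Groth.Agent.H1.LocProjGen Groth.Agent.Lib.helper7.FreeYoneda Groth.Agent.H1.SingleHom
  Groth.Agent.H1.AbSheafRlim Groth.Agent.H1.HDUSections Groth.Agent.H1.HDUNat
  Groth.Agent.H1.AbSheafAcyc Groth.Agent.H1.MilnorHom

variable {C : Type u} [SmallCategory C] {J : GrothendieckTopology C}
  [HasDerivedCategory.{w} (Sheaf J AddCommGrpCat.{u})]

/-- the test object `ℤ_U[-q]` -/
noncomputable abbrev X' (U : C) (q : ℤ) : DerivedCategory (Sheaf J AddCommGrpCat.{u}) :=
  ((singleFunctor _ 0).obj ((freeSheaf J).obj U))⟦-q⟧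

noncomputable def eps (U : C) (q : ℤ) :
    (singleFunctor _ 0).obj ((freeSheaf J).obj U) ≅ (X' (J := J) U q)⟦q⟧ :=
  ((shiftFunctorCompIsoId _ (-q) q (by omega)).app _).symm

noncomputable def eps' (U : C) (q : ℤ) :
    (singleFunctor _ 0).obj ((freeSheaf J).obj U) ≅ ((X' (J := J) U q)⟦(1 : ℤ)⟧)⟦q - 1⟧ :=
  eps U q ≪≫ (shiftFunctorAdd' _ 1 (q - 1) q (by omega)).app (X' U q)

/-- `Hom(ℤ_U[-q], M) → H^q(M)(U)` -/
noncomputable def beta (U : C) (q : ℤ) (M : DerivedCategory (Sheaf J AddCommGrpCat.{u})) :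
    (X' (J := J) U q ⟶ M) →+ (CohCx.HD M q).obj.obj (op U) :=
  (rhoHom M q U).comp (homShiftEquiv (eps U q) M).toAddMonoidHom

/-- `Hom(ℤ_U[-q][1], M) → H^{q-1}(M)(U)` -/
noncomputable def beta' (U : C) (q : ℤ) (M : DerivedCategory (Sheaf J AddCommGrpCat.{u})) :
    ((X' (J := J) U q)⟦(1 : ℤ)⟧ ⟶ M) →+ (CohCx.HD M (q - 1)).obj.obj (op U) :=
  (rhoHom M (q - 1) U).comp (homShiftEquiv (eps' U q) M).toAddMonoidHom

lemma beta_comp (U : C) (q : ℤ) {M M' : DerivedCategory (Sheaf J AddCommGrpCat.{u})}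
    (σ : X' (J := J) U q ⟶ M) (φ : M ⟶ M') :
    beta U q M' (σ ≫ φ) = ((homologyFunctor _ q).map φ).hom.app (op U) (beta U q M σ) := by
  change rhoHom M' q U (homShiftEquiv (eps U q) M' (σ ≫ φ)) = _
  rw [homShiftEquiv_comp, rhoHom_comp]
  rfl

lemma beta'_comp (U : C) (q : ℤ) {M M' : DerivedCategory (Sheaf J AddCommGrpCat.{u})}
    (σ : (X' (J := J) U q)⟦(1 : ℤ)⟧ ⟶ M) (φ : M ⟶ M') :
    beta' U q M' (σ ≫ φ) =
      ((homologyFunctor _ (q - 1)).map φ).hom.app (op U) (beta' U q M σ) := by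
  change rhoHom M' (q - 1) U (homShiftEquiv (eps' U q) M' (σ ≫ φ)) = _
  rw [homShiftEquiv_comp, rhoHom_comp]
  rfl

lemma beta_bijective (U : C) (q : ℤ) (M : DerivedCategory (Sheaf J AddCommGrpCat.{u}))
    (h : Function.Bijective (rhoHom M q U)) : Function.Bijective (beta U q M) :=
  h.comp (homShiftEquiv (eps U q) M).bijective

lemma beta'_bijective (U : C) (q : ℤ) (M : DerivedCategory (Sheaf J AddCommGrpCat.{u}))
    (h : Function.Bijective (rhoHom M (q - 1) U)) : Function.Bijective (beta' U q M) :=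
  h.comp (homShiftEquiv (eps' U q) M).bijective

section tower

variable {K : ℕ → DerivedCategory (Sheaf J AddCommGrpCat.{u})} {t : ∀ n, K (n + 1) ⟶ K n}
  [HasProduct K] {L : DerivedCategory (Sheaf J AddCommGrpCat.{u})} {a : ∀ n, L ⟶ K n}

/-- Milnor injectivity over an object `U` -/
theorem eq_zero_of_comp_a (hL : CohCx.IsRlimVia K t L a) (U : C) (q : ℤ)
    (hbij : ∀ n, Function.Bijective (rhoHom (K n) (q - 1) U))
    (h2 : CohCx.LimOneIsZero (fun n => (CohCx.HD (K n) (q - 1)).obj.obj (op U))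
      (fun n => (((homologyFunctor _ (q - 1)).map (t n)).hom.app (op U)).hom))
    (σ : X' (J := J) U q ⟶ L) (hσ : ∀ n, σ ≫ a n = 0) : σ = 0 := by
  apply eq_zero_of_limOne hL _ _ σ hσ
  intro v
  obtain ⟨wbar, hw⟩ := h2 (fun n => beta' U q (K n) (v n))
  choose w hw' using fun n => (beta'_bijective U q (K n) (hbij n)).2 (wbar n)
  refine ⟨w, fun n => ?_⟩
  apply (beta'_bijective U q (K n) (hbij n)).1
  rw [map_sub, beta'_comp, hw', hw']
  exact (congrFun hw n).symm

/-- Milnor surjectivity over an object `U` -/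
theorem exists_of_compatible_sections (hL : CohCx.IsRlimVia K t L a) (U : C) (q : ℤ)
    (hbij : ∀ n, Function.Bijective (rhoHom (K n) q U))
    (s : ∀ n, (CohCx.HD (K n) q).obj.obj (op U))
    (hs : ∀ n, ((homologyFunctor _ q).map (t n)).hom.app (op U) (s (n + 1)) = s n) :
    ∃ σ : X' (J := J) U q ⟶ L, ∀ n, beta U q (K n) (σ ≫ a n) = s n := by
  choose y hy using fun n => (beta_bijective U q (K n) (hbij n)).2 (s n)
  have hcompat : ∀ n, y (n + 1) ≫ t n = y n := by
    intro n
    apply (beta_bijective U q (K n) (hbij n)).1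
    rw [beta_comp, hy, hy, hs]
  obtain ⟨σ, hσ⟩ := exists_of_compatible hL _ y hcompat
  exact ⟨σ, fun n => by rw [hσ, hy]⟩

variable (K t) in
/-- the inverse system of `q`-th cohomology sheaves -/
noncomputable abbrev Hsys (q : ℤ) : ℕᵒᵖ ⥤ Sheaf J AddCommGrpCat.{u} :=
  CohCx.opSequence (fun n => CohCx.HD (K n) q) (fun n => (homologyFunctor _ q).map (t n))

/-- the cone `H^q(L) ⟶ H^q(K n)` -/
noncomputable def coneL (hL : CohCx.IsRlimVia K t L a) (q : ℤ) : Cone (Hsys K t q) where
  pt := CohCx.HD L q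
  π := NatTrans.ofOpSequence (fun n => (homologyFunctor _ q).map (a n)) (fun n => by
    dsimp only [Functor.const_obj_obj, Functor.const_obj_map]
    rw [Category.id_comp]
    erw [Functor.ofOpSequence_map_homOfLE_succ]
    exact ((homologyFunctor _ q).congr_map (a_compat hL n)).symm.trans
      ((homologyFunctor _ q).map_comp _ _))

variable (K t) in
/-- the projections of the limit of cohomology sheaves -/
noncomputable def piN (q : ℤ) (n : ℕ) : limit (Hsys K t q) ⟶ CohCx.HD (K n) q :=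
  limit.π (Hsys K t q) (op n)

lemma Hsys_w (q : ℤ) (n : ℕ) :
    piN K t q (n + 1) ≫ (homologyFunctor _ q).map (t n) = piN K t q n := by
  have := limit.w (Hsys K t q) (homOfLE (Nat.le_add_right n 1)).op
  erw [Functor.ofOpSequence_map_homOfLE_succ] at this
  exact this

/-- the comparison map `H^q(L) ⟶ lim H^q(K n)` -/
noncomputable def phi (hL : CohCx.IsRlimVia K t L a) (q : ℤ) :
    CohCx.HD L q ⟶ limit (Hsys K t q) :=
  limit.lift _ (coneL hL q)

lemma phi_π (hL : CohCx.IsRlimVia K t L a) (q : ℤ) (n : ℕ) :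
    phi hL q ≫ piN K t q n = (homologyFunctor _ q).map (a n) :=
  limit.lift_π _ _

lemma hom_ext_piN (q : ℤ) {Z : Sheaf J AddCommGrpCat.{u}} (f g : Z ⟶ limit (Hsys K t q))
    (h : ∀ n, f ≫ piN K t q n = g ≫ piN K t q n) : f = g := by
  apply limit.hom_ext
  intro j
  obtain ⟨n⟩ := j
  exact h n

theorem isIso_phi (hL : CohCx.IsRlimVia K t L a) (B : Set C)
    (hB : ∀ U : C, ∃ (ι : Type u) (Y : ι → C) (f : ∀ i, Y i ⟶ U),
      Sieve.ofArrows Y f ∈ J U ∧ ∀ i, Y i ∈ B)
    (h1 : ∀ U ∈ B, ∀ (p : ℕ) (q : ℤ) (n : ℕ),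
      Subsingleton (CohSite.HU (CohCx.HD (K n) q) (p + 1) U))
    (h2 : ∀ U ∈ B, ∀ (q : ℤ), CohCx.LimOneIsZero (fun n => (CohCx.HD (K n) q).obj.obj (op U))
      (fun n => (((homologyFunctor _ q).map (t n)).hom.app (op U)).hom))
    (q : ℤ) : IsIso (phi hL q) := by
  have hP := locProj_freeSheaf J
  have hbij : ∀ (q : ℤ) (U : C), U ∈ B → ∀ n, Function.Bijective (rhoHom (K n) q U) :=
    fun q U hU n => rhoHom_bijective (K n) B hB (fun V hV p q' => h1 V hV p q' n) U hU q
  apply isIso_of_sections hP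
  · intro X s hs
    let s' : (freeSheaf J).obj X ⟶ (homologyFunctor _ 0).obj (L⟦q⟧) := s ≫ (shIso L q).inv
    have hss' : s = s' ≫ (shIso L q).hom := by simp [s']
    obtain ⟨T, hT, hl⟩ := exists_local_rep hP (L⟦q⟧) 0 s'
    apply hP.ext s 0 T hT
    intro Y g hg
    obtain ⟨σ, hσ⟩ := hl g hg
    rw [comp_zero]
    obtain ⟨ι, W, w, hcov, hW⟩ := hB Y
    apply eq_zero_of_family hP _ W w hcov
    intro i
    let r : (freeSheaf J).obj (W i) ⟶ (freeSheaf J).obj X :=
      (freeSheaf J).map (w i) ≫ (freeSheaf J).map g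
    let σi : CohCx.HDU L q (W i) := (singleFunctor _ 0).map ((freeSheaf J).map (w i)) ≫ σ
    have hσi : rho σi = r ≫ s' := by
      rw [rho_precomp, hσ, Category.assoc]
    let τ : X' (J := J) (W i) q ⟶ L := (homShiftEquiv (eps (W i) q) L).symm σi
    have hτ : beta (W i) q L τ = homEquiv J (W i) _ (r ≫ s) := by
      change rhoHom L q (W i) (homShiftEquiv (eps (W i) q) L τ) = _
      rw [AddEquiv.apply_symm_apply, rhoHom_apply, hσi, hss', Category.assoc]
    have hτa : ∀ n, τ ≫ a n = 0 := by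
      intro n
      apply (beta_bijective (W i) q (K n) (hbij q (W i) (hW i) n)).1
      rw [beta_comp, hτ, ← homEquiv_naturality_right, map_zero]
      have e1 : s ≫ (homologyFunctor _ q).map (a n) = 0 := by
        have h3 : (s ≫ phi hL q) ≫ piN K t q n = 0 := by rw [hs, zero_comp]
        rw [Category.assoc, phi_π] at h3
        exact h3
      have : (r ≫ s) ≫ (homologyFunctor _ q).map (a n) = 0 := by
        rw [Category.assoc, e1, comp_zero]
      rw [this]
      exact map_zero (secAddEquiv (W i) (CohCx.HD (K n) q))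
    have hτ0 : τ = 0 := eq_zero_of_comp_a hL (W i) q (hbij (q - 1) (W i) (hW i))
      (h2 (W i) (hW i) (q - 1)) τ hτa
    have hσi0 : σi = 0 := by
      have := congrArg (homShiftEquiv (eps (W i) q) L) hτ0
      rw [AddEquiv.apply_symm_apply, map_zero] at this
      exact this
    rw [hσi0, rho_zero] at hσi
    change r ≫ s = 0
    rw [hss', ← Category.assoc, ← hσi, zero_comp]
  · intro X s
    obtain ⟨ι, W, w, hcov, hW⟩ := hB X
    refine ⟨Sieve.ofArrows W w, hcov, ?_⟩
    intro Y g hg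
    obtain ⟨i, u', rfl⟩ := (Sieve.mem_ofArrows_iff W w g).1 hg
    let sec : ∀ n, (CohCx.HD (K n) q).obj.obj (op (W i)) := fun n =>
      homEquiv J (W i) _ ((freeSheaf J).map (w i) ≫ s ≫ piN K t q n)
    have hsec : ∀ n, ((homologyFunctor _ q).map (t n)).hom.app (op (W i)) (sec (n + 1)) = sec n := by
      intro n
      simp only [sec]
      rw [← homEquiv_naturality_right, Category.assoc, Category.assoc, Hsys_w]
    obtain ⟨σ, hσ⟩ := exists_of_compatible_sections hL (W i) q (hbij q (W i) (hW i)) sec hsec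
    let si : (freeSheaf J).obj (W i) ⟶ CohCx.HD L q :=
      (homEquiv J (W i) (CohCx.HD L q)).symm (beta (W i) q L σ)
    have hsi : si ≫ phi hL q = (freeSheaf J).map (w i) ≫ s := by
      apply hom_ext_piN
      intro n
      rw [Category.assoc, phi_π, Category.assoc]
      apply (homEquiv J (W i) _).injective
      rw [homEquiv_naturality_right, Equiv.apply_symm_apply, ← beta_comp, hσ]
    refine ⟨(freeSheaf J).map u' ≫ si, ?_⟩
    rw [Category.assoc, hsi, Functor.map_comp, Category.assoc]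

end tower

end Groth.Agent.H1.RlimSheaves
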