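import Mathlib
import Groth.Agent.S14454
import Groth.Agent.Lib.Helper1.PullGerm

set_option autoImplicit false
universe u
open CategoryTheory CategoryTheory.Limits AlgebraicGeometry Opposite

namespace Groth.Agent.H1.SecPullEtale

open Groth.Agent.H1.PullGerm Groth.Agent.Lib.Helper18.JCont

variable {U X : Scheme.{u}} (j : U ⟶ X) [AlgebraicGeometry.Etale j]

theorem adj3_unit_app (G : EtCoh.Ab X) (V : X.Etale) (t : G.obj.obj (op V)) :
    ((Groth.Agent.S0651.adj3 j).unit.app G).hom.app (op V) t =
      G.obj.map ((Groth.Agent.S0651.adj0 j).counit.app V).op t := by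
  rfl


/-- the object `U ⟶ X` of the small étale site of `X` -/
noncomputable abbrev E : X.Etale := Scheme.Etale.mk j

/-- the diagonal `U ⟶ U ×_X U` as a morphism of the small étale site of `U` -/
noncomputable def δ : EtCoh.top U ⟶ (EtCoh.bc j).obj (E j) :=
  MorphismProperty.Over.homMk (pullback.lift (𝟙 U) (𝟙 U) rfl) (pullback.lift_snd _ _ _) trivial

/-- sections of `G` over `U ⟶ X` give global sections of the pullback to `U` -/
noncomputable def uMap (G : EtCoh.Ab X) :
    G.obj.obj (op (E j)) → ((EtCoh.pull j).obj G).obj.obj (op (EtCoh.top U)) :=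
  fun t => ((EtCoh.pull j).obj G).obj.map (δ j).op (usec j G (E j) t)

theorem isIso_comp_counit :
    IsIso ((EtShriek.compEtale j).map (δ j) ≫ (Groth.Agent.S0651.adj0 j).counit.app (E j)) := by
  have h1 : IsIso ((Scheme.Etale.forget X ⋙ CategoryTheory.Over.forget X).map
      ((EtShriek.compEtale j).map (δ j) ≫ (Groth.Agent.S0651.adj0 j).counit.app (E j))) := by
    have : (Scheme.Etale.forget X ⋙ CategoryTheory.Over.forget X).map
        ((EtShriek.compEtale j).map (δ j) ≫ (Groth.Agent.S0651.adj0 j).counit.app (E j)) =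
        𝟙 U := by
      change pullback.lift (𝟙 U) (𝟙 U) rfl ≫ pullback.fst j j = 𝟙 U
      exact pullback.lift_fst _ _ _
    rw [this]
    exact IsIso.id U
  exact isIso_of_reflects_iso _ (Scheme.Etale.forget X ⋙ CategoryTheory.Over.forget X)

theorem uMap_bijective (G : EtCoh.Ab X) : Function.Bijective (uMap j G) := by
  let φ := Groth.Agent.S14454.pullIsoRestr' j
  have hunit : (EtCoh.pullPushAdj j).unit.app G ≫ (EtCoh.push j).map (φ.hom.app G) =
      (Groth.Agent.S0651.adj3 j).unit.app G :=
    Adjunction.unit_leftAdjointUniq_hom_app _ _ G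
  have h1 : ∀ t : G.obj.obj (op (E j)),
      (φ.hom.app G).hom.app (op ((EtCoh.bc j).obj (E j))) (usec j G (E j) t) =
        G.obj.map ((Groth.Agent.S0651.adj0 j).counit.app (E j)).op t := by
    intro t
    rw [← adj3_unit_app, ← hunit]
    rfl
  have h2 : ∀ t : G.obj.obj (op (E j)),
      (φ.hom.app G).hom.app (op (EtCoh.top U)) (uMap j G t) =
        G.obj.map ((EtShriek.compEtale j).map (δ j) ≫
          (Groth.Agent.S0651.adj0 j).counit.app (E j)).op t := by
    intro t
    have nat := NatTrans.naturality_apply (φ.hom.app G).hom (δ j).op (usec j G (E j) t)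
    refine nat.trans ?_
    rw [h1, op_comp, Functor.map_comp]
    rfl
  haveI := isIso_comp_counit j
  have hb1 : Function.Bijective (G.obj.map ((EtShriek.compEtale j).map (δ j) ≫
      (Groth.Agent.S0651.adj0 j).counit.app (E j)).op) :=
    ConcreteCategory.bijective_of_isIso _
  have hb2 : Function.Bijective ((φ.hom.app G).hom.app (op (EtCoh.top U))) := by
    haveI : IsIso (φ.hom.app G).hom := by
      change IsIso ((sheafToPresheaf _ _).map (φ.hom.app G))
      infer_instance
    exact ConcreteCategory.bijective_of_isIso ((φ.hom.app G).hom.app (op (EtCoh.top U)))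
  have : (φ.hom.app G).hom.app (op (EtCoh.top U)) ∘ uMap j G =
      G.obj.map ((EtShriek.compEtale j).map (δ j) ≫
        (Groth.Agent.S0651.adj0 j).counit.app (E j)).op := funext h2
  exact (Function.Bijective.of_comp_iff' hb2 _).1 (this ▸ hb1)

end Groth.Agent.H1.SecPullEtale
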