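import Mathlib
import Groth.Agent.Lib.Helper1.EtGerm

/-!
# Closed points of finite type schemes over a separably closed field (helper1)
-/

set_option autoImplicit false
universe u
open CategoryTheory CategoryTheory.Limits AlgebraicGeometry Opposite

namespace Groth.Agent.H1.SepClosedPts

/-- an algebraic extension of a separably closed field is separably closed -/
theorem isSepClosed_of_isAlgebraic (K L : Type*) [Field K] [Field L] [Algebra K L] [IsSepClosed K]
    [Algebra.IsAlgebraic K L] : IsSepClosed L := by
  apply IsSepClosed.of_exists_root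
  intro p hmon hirr hsep
  haveI : Fact (Irreducible p) := ⟨hirr⟩
  haveI : IsScalarTower K L (AdjoinRoot p) := inferInstance
  haveI : Module.Finite L (AdjoinRoot p) := (AdjoinRoot.powerBasis hirr.ne_zero).finite
  haveI : Algebra.IsAlgebraic L (AdjoinRoot p) := Algebra.IsAlgebraic.of_finite L (AdjoinRoot p)
  haveI : Algebra.IsAlgebraic K (AdjoinRoot p) := Algebra.IsAlgebraic.trans K L (AdjoinRoot p)
  haveI : IsPurelyInseparable K (AdjoinRoot p) := inferInstance
  haveI : IsPurelyInseparable L (AdjoinRoot p) := IsPurelyInseparable.tower_top K L (AdjoinRoot p)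
  have hr : IsSeparable L (AdjoinRoot.root p) := by
    have h1 : minpoly L (AdjoinRoot.root p) = p := by
      have := AdjoinRoot.minpoly_root hirr.ne_zero
      rw [this, hmon.leadingCoeff, inv_one, Polynomial.C_1, mul_one]
    rw [IsSeparable, h1]
    exact hsep
  obtain ⟨x, hx⟩ := IsPurelyInseparable.inseparable L (AdjoinRoot.root p) hr
  refine ⟨x, ?_⟩
  have h2 : Polynomial.aeval (AdjoinRoot.root p) p = 0 := AdjoinRoot.eval₂_root p
  rw [← hx, Polynomial.aeval_algebraMap_apply] at h2
  exact (algebraMap L (AdjoinRoot p)).injective (h2.trans (map_zero _).symm)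

/-- the residue field at a closed point of a scheme locally of finite type over a separably
closed field is separably closed -/
theorem isSepClosed_residueField {K : Type u} [Field K] [IsSepClosed K] {X : Scheme.{u}}
    (a : X ⟶ Spec (CommRingCat.of K)) [LocallyOfFiniteType a] (x : X)
    (hx : IsClosed ({x} : Set X)) : IsSepClosed (X.residueField x) := by
  haveI : IsClosedImmersion (X.fromSpecResidueField x) :=
    isClosed_singleton_iff_isClosedImmersion.mp hx
  haveI : LocallyOfFiniteType (X.fromSpecResidueField x ≫ a) := inferInstance
  have hfin : IsFinite (X.fromSpecResidueField x ≫ a) :=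
    (isFinite_iff_locallyOfFiniteType_of_jacobsonSpace
      (f := X.fromSpecResidueField x ≫ a)).mpr inferInstance
  obtain ⟨φ, hφ⟩ := Spec.map_surjective (X.fromSpecResidueField x ≫ a)
  rw [← hφ, IsFinite.SpecMap_iff] at hfin
  letI : Algebra K (X.residueField x) := φ.hom.toAlgebra
  haveI : Module.Finite K (X.residueField x) := hfin
  haveI : Algebra.IsAlgebraic K (X.residueField x) := Algebra.IsAlgebraic.of_finite K _
  exact isSepClosed_of_isAlgebraic K (X.residueField x)

end Groth.Agent.H1.SepClosedPts
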