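import Groth.Prelude.Def_W4stkfunctorsequivSib
import Groth.Agent.S6707
import Groth.Agent.Lib.Helper25.DerivedTrunc

set_option autoImplicit false
set_option linter.unusedSectionVars false
universe w v u v' u'
open CategoryTheory
open DEquiv

namespace Groth.Agent.H1.Sib

open CategoryTheory.Limits CategoryTheory.Pretriangulated DerivedCategory

section derived

variable {A : Type u} [Category.{v} A] [Abelian A] [HasDerivedCategory.{w} A]

open Groth.Agent.S6707 in
/-- variant of S6707 with two test maps and an extra object. -/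
theorem main2 (hneg : ∀ X : A, ∃ (N : A) (p : N ⟶ X), Epi p ∧ ∀ f : X ⟶ N, f = 0)
    (X X₁ X₂ : DerivedCategory A) (f₁ : X ⟶ X₁) (f₂ : X ⟶ X₂) (M₂ : A) (b : ℤ) [X.IsLE b]
    [X₁.IsLE (b - 1)] [X₂.IsLE (b - 1)] :
    ∃ (N : A) (g : (DerivedCategory.singleFunctor A b).obj N ⟶ X),
      Epi ((DerivedCategory.homologyFunctor A b).map g) ∧
        (∀ φ : (DerivedCategory.homologyFunctor A b).obj X ⟶ N, φ = 0) ∧
        (∀ φ : M₂ ⟶ N, φ = 0) ∧ g ≫ f₁ = 0 ∧ g ≫ f₂ = 0 := by
  obtain ⟨N₀, g₀, hg₀, -, h₀⟩ := main hneg X X₁ f₁ b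
  obtain ⟨N₁, p₁, hp₁, h₁⟩ := efface b (g₀ ≫ f₂)
  obtain ⟨N₂, p₂, hp₂, h₂⟩ := hneg (N₁ ⊞ M₂)
  have hε : Epi ((DerivedCategory.homologyFunctor A b).map
      ((DerivedCategory.singleFunctor A b).map p₁ ≫ g₀)) := by
    rw [Functor.map_comp]
    have := epi_homology_single_map p₁ b
    infer_instance
  have hq : Epi (p₂ ≫ (biprod.fst : N₁ ⊞ M₂ ⟶ N₁)) := inferInstance
  refine ⟨N₂, (DerivedCategory.singleFunctor A b).map (p₂ ≫ biprod.fst) ≫
    (DerivedCategory.singleFunctor A b).map p₁ ≫ g₀, ?_, ?_, ?_, ?_, ?_⟩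
  · rw [Functor.map_comp]
    have := epi_homology_single_map (p₂ ≫ (biprod.fst : N₁ ⊞ M₂ ⟶ N₁)) b
    infer_instance
  · intro φ
    have h0 := h₂ (biprod.fst ≫ ((singleFunctorCompHomologyFunctorIso A b).inv.app N₁ ≫
      (DerivedCategory.homologyFunctor A b).map
        ((DerivedCategory.singleFunctor A b).map p₁ ≫ g₀)) ≫ φ)
    have : Epi ((biprod.fst : N₁ ⊞ M₂ ⟶ N₁) ≫
      ((singleFunctorCompHomologyFunctorIso A b).inv.app N₁ ≫
      (DerivedCategory.homologyFunctor A b).map
        ((DerivedCategory.singleFunctor A b).map p₁ ≫ g₀))) := inferInstance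
    have h0' : ((biprod.fst : N₁ ⊞ M₂ ⟶ N₁) ≫
      ((singleFunctorCompHomologyFunctorIso A b).inv.app N₁ ≫
      (DerivedCategory.homologyFunctor A b).map
        ((DerivedCategory.singleFunctor A b).map p₁ ≫ g₀))) ≫ φ = 0 := by
      simpa only [Category.assoc] using h0
    exact (cancel_epi _).1 (h0'.trans comp_zero.symm)
  · intro φ
    have h0 := h₂ ((biprod.snd : N₁ ⊞ M₂ ⟶ M₂) ≫ φ)
    exact (cancel_epi _).1 (h0.trans comp_zero.symm)
  · rw [Category.assoc, Category.assoc, h₀, comp_zero, comp_zero]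
  · rw [Category.assoc, Category.assoc, h₁, comp_zero]

open Groth.Agent.Lib.helper25.DerivedTrunc in
/-- a map from an object `≤ n` to an object concentrated in degree `n` is determined by `H^n`. -/
lemma hom_to_single_zero (n : ℤ) {X S : DerivedCategory A} [X.IsLE n] [S.IsGE n] [S.IsLE n]
    (φ : X ⟶ S) (h : (DerivedCategory.homologyFunctor A n).map φ = 0) : φ = 0 := by
  have h1 : ((tD A).truncGEπ n).app X ≫ (tD A).descTruncGE φ n = φ := (tD A).π_descTruncGE φ n
  have : (((tD A).truncGE n).obj X).IsLE n := isLE_truncGE n n X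
  have hepi := epi_homology_truncGEπ n n X
  have h2 : (DerivedCategory.homologyFunctor A n).map ((tD A).descTruncGE φ n) = 0 := by
    rw [← cancel_epi ((DerivedCategory.homologyFunctor A n).map (((tD A).truncGEπ n).app X)),
      ← Functor.map_comp, h1, h, comp_zero]
  have h3 := eq_zero_of_single_degree n ((tD A).descTruncGE φ n) h2
  rw [← h1, h3, comp_zero]

end derived

end Groth.Agent.H1.Sib
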