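import Groth.Agent.Lib.Helper1.SibA

set_option autoImplicit false
set_option linter.unusedSectionVars false
universe w v u v' u'
open CategoryTheory
open DEquiv

namespace Groth.Agent.H1.Sib

open CategoryTheory.Limits CategoryTheory.Pretriangulated DerivedCategory

section pres

variable {A : Type u} [Category.{v} A] [Abelian A] [HasDerivedCategory.{w} A]

/-- the bounded property -/
abbrev bdd : ObjectProperty (DerivedCategory A) :=
  (TStructure.t : Triangulated.TStructure (DerivedCategory A)).bounded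

/-- cohomological amplitude in `[a, b]`. -/
def InAB (a b : ℤ) (K : DerivedCategory.Bounded A) : Prop := K.obj.IsGE a ∧ K.obj.IsLE b

lemma InAB.mono {a b a' b' : ℤ} {K : DerivedCategory.Bounded A} (h : InAB a b K) (ha : a' ≤ a)
    (hb : b ≤ b') : InAB a' b' K := by
  obtain ⟨h1, h2⟩ := h
  exact ⟨TStructure.t.isGE_of_ge _ a' a ha, TStructure.t.isLE_of_le _ b b' hb⟩

/-- negativity of a map to a single object from its `H^n`-negativity. -/
lemma neg_of_homology (n : ℤ) (N : A) (X : DerivedCategory A) [X.IsLE n]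
    (hn : ∀ φ : (DerivedCategory.homologyFunctor A n).obj X ⟶ N, φ = 0)
    (φ : X ⟶ (DerivedCategory.singleFunctor A n).obj N) : φ = 0 := by
  apply hom_to_single_zero n φ
  have h := hn ((DerivedCategory.homologyFunctor A n).map φ ≫
    (singleFunctorCompHomologyFunctorIso A n).hom.app N)
  have h' := h =≫ (singleFunctorCompHomologyFunctorIso A n).inv.app N
  simpa using h'

lemma exists_pres (hneg : ∀ X : A, ∃ (N : A) (p : N ⟶ X), Epi p ∧ ∀ f : X ⟶ N, f = 0)
    (a b : ℤ) (hab : a ≤ b) (X : DerivedCategory.Bounded A) (hX : InAB a (b + 1) X)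
    (X₁ X₂ : DerivedCategory.Bounded A) (h₁ : X₁.obj.IsLE b) (h₂ : X₂.obj.IsLE b)
    (f₁ : X ⟶ X₁) (f₂ : X ⟶ X₂) (Z : DerivedCategory.Bounded A) (hZ : Z.obj.IsLE (b + 1)) :
    ∃ (Nb Y : DerivedCategory.Bounded A) (x : Nb ⟶ X) (y : X ⟶ Y) (z : Y ⟶ Nb⟦(1 : ℤ)⟧),
      Triangle.mk x y z ∈ distTriang _ ∧ InAB a b Y ∧ InAB a b (Nb⟦(1 : ℤ)⟧) ∧
      (∀ φ : X ⟶ Nb, φ = 0) ∧ (∀ φ : Z ⟶ Nb, φ = 0) ∧ x ≫ f₁ = 0 ∧ x ≫ f₂ = 0 := by
  let ι := (bdd (A := A)).ι
  obtain ⟨hXa, hXb⟩ := hX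
  have : X.obj.IsLE (b + 1) := hXb
  have : X.obj.IsGE a := hXa
  have : X₁.obj.IsLE (b + 1 - 1) := by rw [add_sub_cancel_right]; exact h₁
  have : X₂.obj.IsLE (b + 1 - 1) := by rw [add_sub_cancel_right]; exact h₂
  have : Z.obj.IsLE (b + 1) := hZ
  obtain ⟨N, g, hg, hn1, hn2, hg1, hg2⟩ := main2 hneg X.obj X₁.obj X₂.obj (ι.map f₁) (ι.map f₂)
    ((DerivedCategory.homologyFunctor A (b + 1)).obj Z.obj) (b + 1)
  let Nb : DerivedCategory.Bounded A := ⟨(DerivedCategory.singleFunctor A (b + 1)).obj N,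
    ⟨⟨b + 1, inferInstance⟩, ⟨b + 1, inferInstance⟩⟩⟩
  let x : Nb ⟶ X := (bdd (A := A)).fullyFaithfulι.preimage (X := Nb) (Y := X) g
  have hx : ι.map x = g := (bdd (A := A)).fullyFaithfulι.map_preimage (X := Nb) (Y := X) g
  obtain ⟨Y, y, z, hT⟩ := distinguished_cocone_triangle x
  have hT' : ι.mapTriangle.obj (Triangle.mk x y z) ∈ distTriang _ := hT
  have hNbGE : Nb.obj.IsGE (b + 1) := by
    change ((DerivedCategory.singleFunctor A (b + 1)).obj N).IsGE (b + 1)
    infer_instance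
  have hNbLE : Nb.obj.IsLE (b + 1) := by
    change ((DerivedCategory.singleFunctor A (b + 1)).obj N).IsLE (b + 1)
    infer_instance
  have hs1 : (Nb.obj⟦(1 : ℤ)⟧).IsGE b := TStructure.t.isGE_shift _ (b + 1) 1 b (by omega)
  have hs2 : (Nb.obj⟦(1 : ℤ)⟧).IsLE b := TStructure.t.isLE_shift _ (b + 1) 1 b (by omega)
  have hs1'' : TStructure.t.IsGE ((ι ⋙ shiftFunctor (DerivedCategory A) (1 : ℤ)).obj Nb) b := hs1
  have hs2'' : TStructure.t.IsLE ((ι ⋙ shiftFunctor (DerivedCategory A) (1 : ℤ)).obj Nb) b := hs2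
  have hNb1 : (Nb⟦(1 : ℤ)⟧).obj.IsGE b :=
    TStructure.t.isGE_of_iso ((ι.commShiftIso (1 : ℤ)).app Nb).symm b
  have hNb2 : (Nb⟦(1 : ℤ)⟧).obj.IsLE b :=
    TStructure.t.isLE_of_iso ((ι.commShiftIso (1 : ℤ)).app Nb).symm b
  have hNb1' : (Nb⟦(1 : ℤ)⟧).obj.IsGE a := TStructure.t.isGE_of_ge _ a b hab
  have hs1' : (Nb.obj⟦(1 : ℤ)⟧).IsGE a := TStructure.t.isGE_of_ge _ a b hab
  refine ⟨Nb, Y, x, y, z, hT, ⟨?_, ?_⟩, ⟨hNb1', hNb2⟩, ?_, ?_, ?_, ?_⟩
  · -- Y ≥ a
    have hrot := rot_of_distTriang _ hT'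
    exact TStructure.t.isGE₂ _ hrot a hXa hs1'
  · -- Y ≤ b
    change Y.obj.IsLE b
    rw [DerivedCategory.isLE_iff]
    intro i hi
    have ex := HomologySequence.exact₃ _ hT' i (i + 1) rfl
    apply ex.isZero_of_both_zeros
    · by_cases hi' : i = b + 1
      · subst hi'
        change (DerivedCategory.homologyFunctor A (b + 1)).map (ι.map y) = 0
        have := (HomologySequence.epi_homologyMap_mor₁_iff _ hT' (b + 1)).1 (by
          change Epi ((DerivedCategory.homologyFunctor A (b + 1)).map (ι.map x))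
          rw [hx]; exact hg)
        exact this
      · exact (isZero_of_isLE X.obj (b + 1) i (by omega)).eq_of_src _ _
    · exact (isZero_of_isLE Nb.obj (b + 1) (i + 1) (by omega)).eq_of_tgt _ _
  · intro φ
    apply ι.map_injective
    rw [Functor.map_zero]
    exact neg_of_homology (b + 1) N X.obj hn1 (ι.map φ)
  · intro φ
    apply ι.map_injective
    rw [Functor.map_zero]
    exact neg_of_homology (b + 1) N Z.obj hn2 (ι.map φ)
  · apply ι.map_injective
    rw [Functor.map_zero, Functor.map_comp, hx, hg1]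
  · apply ι.map_injective
    rw [Functor.map_zero, Functor.map_comp, hx, hg2]

end pres

end Groth.Agent.H1.Sib
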