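import Groth.Agent.Lib.Helper1.SibB

set_option autoImplicit false
set_option linter.unusedSectionVars false
universe w v u v' u'
open CategoryTheory
open DEquiv

namespace Groth.Agent.H1.Sib

open CategoryTheory.Limits CategoryTheory.Pretriangulated DerivedCategory ZeroObject

section step

variable {A : Type u} [Category.{v} A] [Abelian A] [HasDerivedCategory.{w} A]
  {D : Type u'} [Category.{v'} D] [Preadditive D] [HasZeroObject D] [HasShift D ℤ]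
  [∀ n : ℤ, (shiftFunctor D n).Additive] [Pretriangulated D] [IsTriangulated D]
  (F F' : DerivedCategory.Bounded A ⥤ D) [F.CommShift ℤ] [F.IsTriangulated]
  [F'.CommShift ℤ] [F'.IsTriangulated]

/-- families of isomorphisms natural on a class of objects -/
def NatOn (P : DerivedCategory.Bounded A → Prop)
    (c : ∀ K : DerivedCategory.Bounded A, F.obj K ≅ F'.obj K) : Prop :=
  ∀ ⦃K L : DerivedCategory.Bounded A⦄, P K → P L → ∀ f : K ⟶ L,
    (c K).hom ≫ F'.map f = F.map f ≫ (c L).hom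

variable {F F'} in
lemma NatOn.mono {P Q : DerivedCategory.Bounded A → Prop}
    {c : ∀ K : DerivedCategory.Bounded A, F.obj K ≅ F'.obj K} (h : NatOn F F' Q c)
    (hPQ : ∀ K, P K → Q K) : NatOn F F' P c :=
  fun _ _ hK hL f => h (hPQ _ hK) (hPQ _ hL) f

/-- the vanishing hypothesis -/
def HZ : Prop := ∀ K L : DerivedCategory.Bounded A, (∀ φ : K ⟶ L, φ = 0) →
  ∀ ψ : F.obj K ⟶ F'.obj L, ψ = 0

lemma factor_zero (hz : HZ F F') {Nb X Y : DerivedCategory.Bounded A} (x : Nb ⟶ X) (y : X ⟶ Y)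
    (z : Y ⟶ Nb⟦(1 : ℤ)⟧) (hT : Triangle.mk x y z ∈ distTriang _)
    (X' : DerivedCategory.Bounded A) (hX' : ∀ φ : X' ⟶ Nb, φ = 0)
    (ε : F.obj X' ⟶ F'.obj X) (hε : ε ≫ F'.map y = 0) : ε = 0 := by
  have hT' := F'.map_distinguished _ hT
  obtain ⟨w, hw⟩ : ∃ w : F.obj X' ⟶ F'.obj Nb, ε = w ≫ F'.map x :=
    Triangle.coyoneda_exact₂ _ hT' ε hε
  rw [hw, hz X' Nb hX' w, zero_comp]

lemma tr3 {P : DerivedCategory.Bounded A → Prop}
    {c : ∀ K : DerivedCategory.Bounded A, F.obj K ≅ F'.obj K} (hc : NatOn F F' P c)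
    {Nb X Y : DerivedCategory.Bounded A} (x : Nb ⟶ X) (y : X ⟶ Y)
    (z : Y ⟶ Nb⟦(1 : ℤ)⟧) (hT : Triangle.mk x y z ∈ distTriang _)
    (hY : P Y) (hNb : P (Nb⟦(1 : ℤ)⟧)) :
    ∃ u : F.obj X ≅ F'.obj X, u.hom ≫ F'.map y = F.map y ≫ (c Y).hom := by
  have hrot := rot_of_distTriang _ hT
  have hT₁ := F.map_distinguished _ hrot
  have hT₂ := F'.map_distinguished _ hrot
  have comm : F.map z ≫ (c (Nb⟦(1 : ℤ)⟧)).hom = (c Y).hom ≫ F'.map z := (hc hY hNb z).symm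
  obtain ⟨a, ha₁, ha₂⟩ := complete_distinguished_triangle_morphism₁ _ _ hT₁ hT₂
    (c Y).hom (c (Nb⟦(1 : ℤ)⟧)).hom comm
  let φ : F.mapTriangle.obj (Triangle.mk x y z).rotate ⟶
      F'.mapTriangle.obj (Triangle.mk x y z).rotate :=
    { hom₁ := a
      hom₂ := (c Y).hom
      hom₃ := (c (Nb⟦(1 : ℤ)⟧)).hom
      comm₁ := ha₁
      comm₂ := comm
      comm₃ := ha₂ }
  have hiso : IsIso a := isIso₁_of_isIso₂₃ φ hT₁ hT₂
    (inferInstanceAs (IsIso (c Y).hom)) (inferInstanceAs (IsIso (c (Nb⟦(1 : ℤ)⟧)).hom))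
  exact ⟨@asIso _ _ _ _ a hiso, ha₁.symm⟩

lemma good_of_factor {P : DerivedCategory.Bounded A → Prop}
    {c : ∀ K : DerivedCategory.Bounded A, F.obj K ≅ F'.obj K} (hc : NatOn F F' P c)
    {X Y' Y : DerivedCategory.Bounded A} (u' : F.obj X ⟶ F'.obj X) (y' : X ⟶ Y')
    (hY' : P Y') (hY : P Y) (h : u' ≫ F'.map y' = F.map y' ≫ (c Y').hom) (t : Y' ⟶ Y) :
    u' ≫ F'.map (y' ≫ t) = F.map (y' ≫ t) ≫ (c Y).hom := by
  rw [F'.map_comp, ← Category.assoc, h, Category.assoc, hc hY' hY t, ← Category.assoc,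
    ← F.map_comp]

/-- compatibility of `u` with the family `c` on `[a,b]`. -/
def Good (a b : ℤ) (c : ∀ K : DerivedCategory.Bounded A, F.obj K ≅ F'.obj K)
    (X : DerivedCategory.Bounded A) (u : F.obj X ⟶ F'.obj X) : Prop :=
  ∀ (Y : DerivedCategory.Bounded A), InAB a b Y → ∀ y : X ⟶ Y,
    u ≫ F'.map y = F.map y ≫ (c Y).hom

lemma zero_isLE (b : ℤ) : (0 : DerivedCategory.Bounded A).obj.IsLE b :=
  TStructure.t.isLE_of_isZero ((bdd (A := A)).ι.map_isZero (isZero_zero _)) b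

lemma good_unique (hneg : ∀ X : A, ∃ (N : A) (p : N ⟶ X), Epi p ∧ ∀ f : X ⟶ N, f = 0)
    (hz : HZ F F') (a b : ℤ) (hab : a ≤ b)
    (c : ∀ K : DerivedCategory.Bounded A, F.obj K ≅ F'.obj K)
    (X : DerivedCategory.Bounded A) (hX : InAB a (b + 1) X) (u u' : F.obj X ⟶ F'.obj X)
    (hu : Good F F' a b c X u) (hu' : Good F F' a b c X u') : u = u' := by
  obtain ⟨Nb₀, Y₀, x₀, y₀, z₀, hT₀, hY₀, hNb₀, hn₀, -, -, -⟩ :=
    exists_pres hneg a b hab X hX 0 0 (zero_isLE b) (zero_isLE b) 0 0 X hX.2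
  rw [← sub_eq_zero]
  apply factor_zero F F' hz x₀ y₀ z₀ hT₀ X hn₀
  rw [Preadditive.sub_comp, hu Y₀ hY₀ y₀, hu' Y₀ hY₀ y₀, sub_self]

lemma exists_good (hneg : ∀ X : A, ∃ (N : A) (p : N ⟶ X), Epi p ∧ ∀ f : X ⟶ N, f = 0)
    (hz : HZ F F') (a b : ℤ) (hab : a ≤ b)
    (c : ∀ K : DerivedCategory.Bounded A, F.obj K ≅ F'.obj K)
    (hc : NatOn F F' (InAB a b) c)
    (X : DerivedCategory.Bounded A) (hX : InAB a (b + 1) X) :
    ∃ u : F.obj X ≅ F'.obj X, Good F F' a b c X u.hom := by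
  obtain ⟨Nb₀, Y₀, x₀, y₀, z₀, hT₀, hY₀, hNb₀, hn₀, -, -, -⟩ :=
    exists_pres hneg a b hab X hX 0 0 (zero_isLE b) (zero_isLE b) 0 0 X hX.2
  obtain ⟨u₀, hu₀⟩ := tr3 F F' hc x₀ y₀ z₀ hT₀ hY₀ hNb₀
  refine ⟨u₀, ?_⟩
  intro Y hY y
  obtain ⟨Nb', Y', x', y', z', hT', hY', hNb', hn', -, hk₀, hk⟩ :=
    exists_pres hneg a b hab X hX Y₀ Y hY₀.2 hY.2 y₀ y X hX.2
  obtain ⟨u', hu'⟩ := tr3 F F' hc x' y' z' hT' hY' hNb'
  obtain ⟨t₀, ht₀⟩ := Triangle.yoneda_exact₂ _ hT' y₀ hk₀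
  obtain ⟨t, ht⟩ := Triangle.yoneda_exact₂ _ hT' y hk
  have e1 := good_of_factor F F' hc u'.hom y' hY' hY₀ hu' t₀
  have e2 := good_of_factor F F' hc u'.hom y' hY' hY hu' t
  change y₀ = y' ≫ t₀ at ht₀
  change y = y' ≫ t at ht
  rw [← ht₀] at e1
  rw [← ht] at e2
  have e3 : u'.hom = u₀.hom := by
    rw [← sub_eq_zero]
    apply factor_zero F F' hz x₀ y₀ z₀ hT₀ X hn₀
    rw [Preadditive.sub_comp, e1, hu₀, sub_self]
  rw [← e3]
  exact e2

lemma step_b (hneg : ∀ X : A, ∃ (N : A) (p : N ⟶ X), Epi p ∧ ∀ f : X ⟶ N, f = 0)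
    (hz : HZ F F') (a b : ℤ) (hab : a ≤ b)
    (c : ∀ K : DerivedCategory.Bounded A, F.obj K ≅ F'.obj K)
    (hc : NatOn F F' (InAB a b) c) :
    ∃ c' : ∀ K : DerivedCategory.Bounded A, F.obj K ≅ F'.obj K,
      NatOn F F' (InAB a (b + 1)) c' ∧ ∀ K, InAB a b K → c' K = c K := by
  classical
  let c' : ∀ K : DerivedCategory.Bounded A, F.obj K ≅ F'.obj K := fun K =>
    if h : InAB a (b + 1) K then (exists_good F F' hneg hz a b hab c hc K h).choose else c K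
  have hc' : ∀ K (h : InAB a (b + 1) K), Good F F' a b c K (c' K).hom := by
    intro K h
    simp only [c', dif_pos h]
    exact (exists_good F F' hneg hz a b hab c hc K h).choose_spec
  refine ⟨c', ?_, ?_⟩
  · intro K L hK hL f
    rw [← sub_eq_zero]
    obtain ⟨Nb', Y', x', y', z', hT', hY', hNb', -, hn', -, -⟩ :=
      exists_pres hneg a b hab L hL 0 0 (zero_isLE b) (zero_isLE b) 0 0 K hK.2
    apply factor_zero F F' hz x' y' z' hT' K hn'
    rw [Preadditive.sub_comp, Category.assoc, ← F'.map_comp, hc' K hK Y' hY' (f ≫ y'),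
      Category.assoc, hc' L hL Y' hY' y', F.map_comp, Category.assoc, sub_self]
  · intro K hK
    have hK' : InAB a (b + 1) K := hK.mono le_rfl (by omega)
    apply Iso.ext
    apply good_unique F F' hneg hz a b hab c K hK' _ _ (hc' K hK')
    intro Y hY y
    exact hc hK hY y

lemma uniq_b (hneg : ∀ X : A, ∃ (N : A) (p : N ⟶ X), Epi p ∧ ∀ f : X ⟶ N, f = 0)
    (hz : HZ F F') (a b : ℤ) (hab : a ≤ b)
    (c₁ c₂ : ∀ K : DerivedCategory.Bounded A, F.obj K ≅ F'.obj K)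
    (h₁ : NatOn F F' (InAB a (b + 1)) c₁) (h₂ : NatOn F F' (InAB a (b + 1)) c₂)
    (heq : ∀ K, InAB a b K → c₁ K = c₂ K) : ∀ K, InAB a (b + 1) K → c₁ K = c₂ K := by
  intro K hK
  apply Iso.ext
  apply good_unique F F' hneg hz a b hab c₁ K hK
  · intro Y hY y
    exact h₁ hK (hY.mono le_rfl (by omega)) y
  · intro Y hY y
    rw [heq Y hY]
    exact h₂ hK (hY.mono le_rfl (by omega)) y

end step

end Groth.Agent.H1.Sib
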