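import Groth.Agent.Lib.Helper1.SibC

set_option autoImplicit false
set_option linter.unusedSectionVars false
universe w v u v' u'
open CategoryTheory
open DEquiv

namespace Groth.Agent.H1.Sib

open CategoryTheory.Limits CategoryTheory.Pretriangulated DerivedCategory ZeroObject

section tower

variable {A : Type u} [Category.{v} A] [Abelian A] [HasDerivedCategory.{w} A]
  {D : Type u'} [Category.{v'} D] [Preadditive D] [HasZeroObject D] [HasShift D ℤ]
  [∀ n : ℤ, (shiftFunctor D n).Additive] [Pretriangulated D] [IsTriangulated D]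
  (F F' : DerivedCategory.Bounded A ⥤ D) [F.CommShift ℤ] [F.IsTriangulated]
  [F'.CommShift ℤ] [F'.IsTriangulated]

lemma exists_seq (P : ℕ → DerivedCategory.Bounded A → Prop)
    (step : ∀ (k : ℕ) (c : ∀ K : DerivedCategory.Bounded A, F.obj K ≅ F'.obj K),
      NatOn F F' (P k) c → ∃ c' : ∀ K : DerivedCategory.Bounded A, F.obj K ≅ F'.obj K,
        NatOn F F' (P (k + 1)) c' ∧ ∀ K, P k K → c' K = c K)
    (c₀ : ∀ K : DerivedCategory.Bounded A, F.obj K ≅ F'.obj K) (h₀ : NatOn F F' (P 0) c₀) :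
    ∃ cs : ℕ → (∀ K : DerivedCategory.Bounded A, F.obj K ≅ F'.obj K), cs 0 = c₀ ∧
      ∀ k, NatOn F F' (P k) (cs k) ∧ ∀ K, P k K → cs (k + 1) K = cs k K := by
  let s : ∀ k : ℕ, {c : ∀ K : DerivedCategory.Bounded A, F.obj K ≅ F'.obj K //
      NatOn F F' (P k) c} := fun k =>
    Nat.rec (motive := fun k => {c : ∀ K : DerivedCategory.Bounded A, F.obj K ≅ F'.obj K //
      NatOn F F' (P k) c}) ⟨c₀, h₀⟩
      (fun k sk => ⟨(step k sk.1 sk.2).choose, (step k sk.1 sk.2).choose_spec.1⟩) k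
  refine ⟨fun k => (s k).1, rfl, fun k => ⟨(s k).2, ?_⟩⟩
  intro K hK
  exact (step k (s k).1 (s k).2).choose_spec.2 K hK

lemma tower (P : ℕ → DerivedCategory.Bounded A → Prop) (hP : ∀ k K, P k K → P (k + 1) K)
    (cs : ℕ → (∀ K : DerivedCategory.Bounded A, F.obj K ≅ F'.obj K))
    (hcs : ∀ k, NatOn F F' (P k) (cs k))
    (hcompat : ∀ k K, P k K → cs (k + 1) K = cs k K) :
    ∃ c : ∀ K : DerivedCategory.Bounded A, F.obj K ≅ F'.obj K,
      NatOn F F' (fun K => ∃ k, P k K) c ∧ ∀ k K, P k K → c K = cs k K := by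
  classical
  have mono : ∀ (k k' : ℕ), k ≤ k' → ∀ K, P k K → P k' K := by
    intro k k' hkk'
    induction hkk' with
    | refl => exact fun K h => h
    | step _ ih => exact fun K h => hP _ K (ih K h)
  have compat : ∀ (k k' : ℕ), k ≤ k' → ∀ K, P k K → cs k' K = cs k K := by
    intro k k' hkk'
    induction hkk' with
    | refl => exact fun K _ => rfl
    | @step m hm ih =>
      intro K h
      rw [hcompat m K (mono k m hm K h), ih K h]
  let c : ∀ K : DerivedCategory.Bounded A, F.obj K ≅ F'.obj K := fun K =>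
    if h : ∃ k, P k K then cs (Nat.find h) K else cs 0 K
  have hc : ∀ k K, P k K → c K = cs k K := by
    intro k K hk
    have h : ∃ k, P k K := ⟨k, hk⟩
    simp only [c, dif_pos h]
    exact (compat (Nat.find h) k (Nat.find_min' h hk) K (Nat.find_spec h)).symm
  refine ⟨c, ?_, hc⟩
  rintro K L ⟨k₁, h₁⟩ ⟨k₂, h₂⟩ f
  have h₁' := mono k₁ (max k₁ k₂) (le_max_left _ _) K h₁
  have h₂' := mono k₂ (max k₁ k₂) (le_max_right _ _) L h₂
  rw [hc _ K h₁', hc _ L h₂']
  exact hcs _ h₁' h₂' f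

lemma extend (P : ℕ → DerivedCategory.Bounded A → Prop) (hP : ∀ k K, P k K → P (k + 1) K)
    (step : ∀ (k : ℕ) (c : ∀ K : DerivedCategory.Bounded A, F.obj K ≅ F'.obj K),
      NatOn F F' (P k) c → ∃ c' : ∀ K : DerivedCategory.Bounded A, F.obj K ≅ F'.obj K,
        NatOn F F' (P (k + 1)) c' ∧ ∀ K, P k K → c' K = c K)
    (c₀ : ∀ K : DerivedCategory.Bounded A, F.obj K ≅ F'.obj K) (h₀ : NatOn F F' (P 0) c₀) :
    ∃ c : ∀ K : DerivedCategory.Bounded A, F.obj K ≅ F'.obj K,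
      NatOn F F' (fun K => ∃ k, P k K) c ∧ ∀ K, P 0 K → c K = c₀ K := by
  obtain ⟨cs, hcs0, hcs⟩ := exists_seq F F' P step c₀ h₀
  obtain ⟨c, hc1, hc2⟩ := tower F F' P hP cs (fun k => (hcs k).1) (fun k => (hcs k).2)
  refine ⟨c, hc1, ?_⟩
  intro K hK
  rw [hc2 0 K hK, hcs0]

/-- cohomological amplitude in `[a, ∞)`. -/
def GE (a : ℤ) (K : DerivedCategory.Bounded A) : Prop := K.obj.IsGE a

lemma exists_inAB (a : ℤ) (K : DerivedCategory.Bounded A) (hK : GE a K) :
    ∃ k : ℕ, InAB a (a + k) K := by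
  obtain ⟨-, ⟨n, hn⟩⟩ := K.property
  have : K.obj.IsLE n := hn
  refine ⟨(n - a).toNat, hK, TStructure.t.isLE_of_le _ n _ (by omega)⟩

lemma ext_a (hneg : ∀ X : A, ∃ (N : A) (p : N ⟶ X), Epi p ∧ ∀ f : X ⟶ N, f = 0)
    (hz : HZ F F') (a : ℤ)
    (c₀ : ∀ K : DerivedCategory.Bounded A, F.obj K ≅ F'.obj K)
    (h₀ : NatOn F F' (InAB a a) c₀) :
    ∃ c : ∀ K : DerivedCategory.Bounded A, F.obj K ≅ F'.obj K,
      NatOn F F' (GE a) c ∧ ∀ K, InAB a a K → c K = c₀ K := by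
  obtain ⟨c, hc1, hc2⟩ := extend F F' (fun k K => InAB a (a + k) K)
    (fun k K h => h.mono le_rfl (by push_cast; omega))
    (fun k c hc => by
      have h := step_b F F' hneg hz a (a + k) (by omega) c hc
      have e : a + ((k + 1 : ℕ) : ℤ) = a + k + 1 := by push_cast; ring
      rw [e]
      exact h) c₀ (by simpa using h₀)
  refine ⟨c, ?_, ?_⟩
  · exact hc1.mono (fun K hK => exists_inAB a K hK)
  · intro K hK
    exact hc2 K (by simpa using hK)

lemma uniq_a (hneg : ∀ X : A, ∃ (N : A) (p : N ⟶ X), Epi p ∧ ∀ f : X ⟶ N, f = 0)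
    (hz : HZ F F') (a : ℤ)
    (c₁ c₂ : ∀ K : DerivedCategory.Bounded A, F.obj K ≅ F'.obj K)
    (h₁ : NatOn F F' (GE a) c₁) (h₂ : NatOn F F' (GE a) c₂)
    (heq : ∀ K, InAB a a K → c₁ K = c₂ K) : ∀ K, GE a K → c₁ K = c₂ K := by
  have key : ∀ (k : ℕ) K, InAB a (a + k) K → c₁ K = c₂ K := by
    intro k
    induction k with
    | zero => intro K hK; exact heq K (by simpa using hK)
    | succ k ih =>
      intro K hK
      have e : a + ((k + 1 : ℕ) : ℤ) = a + k + 1 := by push_cast; ring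
      rw [e] at hK
      exact uniq_b F F' hneg hz a (a + k) (by omega) c₁ c₂
        (h₁.mono (fun K hK => hK.1)) (h₂.mono (fun K hK => hK.1)) ih K hK
  intro K hK
  obtain ⟨k, hk⟩ := exists_inAB a K hK
  exact key k K hk

end tower

end Groth.Agent.H1.Sib
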