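import Groth.Agent.Lib.Helper1.SibD

set_option autoImplicit false
set_option linter.unusedSectionVars false
universe w v u v' u'
open CategoryTheory
open DEquiv

namespace Groth.Agent.H1.Sib

open CategoryTheory.Limits CategoryTheory.Pretriangulated DerivedCategory ZeroObject

section amplitude

variable {A : Type u} [Category.{v} A] [Abelian A] [HasDerivedCategory.{w} A]

lemma InAB.shift {a b : ℤ} {K : DerivedCategory.Bounded A} (h : InAB a b K) (n a' b' : ℤ)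
    (ha : a' + n = a) (hb : b' + n = b) : InAB a' b' (K⟦n⟧) := by
  let ι := (bdd (A := A)).ι
  obtain ⟨h1, h2⟩ := h
  have : K.obj.IsGE a := h1
  have : K.obj.IsLE b := h2
  have hs1 : TStructure.t.IsGE ((ι ⋙ shiftFunctor (DerivedCategory A) n).obj K) a' :=
    TStructure.t.isGE_shift K.obj a n a' (by omega)
  have hs2 : TStructure.t.IsLE ((ι ⋙ shiftFunctor (DerivedCategory A) n).obj K) b' :=
    TStructure.t.isLE_shift K.obj b n b' (by omega)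
  exact ⟨TStructure.t.isGE_of_iso ((ι.commShiftIso n).app K).symm a',
    TStructure.t.isLE_of_iso ((ι.commShiftIso n).app K).symm b'⟩

lemma InAB.ext₂ {a b : ℤ} (T : Triangle (DerivedCategory.Bounded A))
    (hT : T ∈ distTriang _) (h₁ : InAB a b T.obj₁) (h₃ : InAB a b T.obj₃) : InAB a b T.obj₂ := by
  have hT' : (bdd (A := A)).ι.mapTriangle.obj T ∈ distTriang _ := hT
  exact ⟨TStructure.t.isGE₂ _ hT' a h₁.1 h₃.1, TStructure.t.isLE₂ _ hT' b h₁.2 h₃.2⟩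

lemma hom_zero_of_inAB {a b a' b' : ℤ} {K L : DerivedCategory.Bounded A} (hK : InAB a b K)
    (hL : InAB a' b' L) (h : b < a') (φ : K ⟶ L) : φ = 0 := by
  apply (bdd (A := A)).ι.map_injective
  rw [Functor.map_zero]
  exact (TStructure.t : Triangulated.TStructure (DerivedCategory A)).zero_of_isLE_of_isGE
    _ b a' h hK.2 hL.1

instance : (DEquiv.singleB A).Full := by unfold DEquiv.singleB; infer_instance
instance : (DEquiv.singleB A).Faithful := by unfold DEquiv.singleB; infer_instance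

lemma exists_iso_singleB (X : DerivedCategory.Bounded A) (hX : InAB 0 0 X) :
    ∃ M : A, Nonempty (X ≅ (DEquiv.singleB A).obj M) := by
  have : X.obj.IsGE 0 := hX.1
  have : X.obj.IsLE 0 := hX.2
  obtain ⟨C, hC1, hC2, ⟨e⟩⟩ := DerivedCategory.exists_iso_Q_obj_of_isGE_of_isLE X.obj 0 0
  obtain ⟨Y, ⟨e'⟩⟩ := CochainComplex.exists_iso_single C 0
  let e₂ : (bdd (A := A)).ι.obj X ≅ (bdd (A := A)).ι.obj ((DEquiv.singleB A).obj Y) :=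
    e ≪≫ Q.mapIso e' ≪≫ ((DerivedCategory.singleFunctorIsoCompQ A 0).app Y).symm
  exact ⟨Y, ⟨(bdd (A := A)).fullyFaithfulι.preimageIso e₂⟩⟩

end amplitude

section glue

variable {A : Type u} [Category.{v} A] [Abelian A] [HasDerivedCategory.{w} A]
  {D : Type u'} [Category.{v'} D] [Preadditive D] [HasZeroObject D] [HasShift D ℤ]
  [∀ n : ℤ, (shiftFunctor D n).Additive] [Pretriangulated D] [IsTriangulated D]
  (F F' : DerivedCategory.Bounded A ⥤ D) [F.CommShift ℤ] [F.IsTriangulated]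
  [F'.CommShift ℤ] [F'.IsTriangulated]

/-- the canonical isomorphism `Y ≅ Y⟦-1⟧⟦1⟧`. -/
noncomputable def eIso (Y : DerivedCategory.Bounded A) : Y ≅ (Y⟦(-1 : ℤ)⟧)⟦(1 : ℤ)⟧ :=
  ((shiftFunctorCompIsoId (DerivedCategory.Bounded A) (-1 : ℤ) 1 (by norm_num)).app Y).symm

lemma eIso_inv_naturality {K L : DerivedCategory.Bounded A} (f : K ⟶ L) :
    (eIso K).inv ≫ f = (f⟦(-1 : ℤ)⟧')⟦(1 : ℤ)⟧' ≫ (eIso L).inv :=
  ((shiftFunctorCompIsoId (DerivedCategory.Bounded A) (-1 : ℤ) 1 (by norm_num)).hom.naturality f).symm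

lemma eIso_hom_naturality {K L : DerivedCategory.Bounded A} (f : K ⟶ L) :
    (eIso K).hom ≫ (f⟦(-1 : ℤ)⟧')⟦(1 : ℤ)⟧' = f ≫ (eIso L).hom := by
  rw [← cancel_mono (eIso L).inv, Category.assoc, ← eIso_inv_naturality, Iso.hom_inv_id_assoc,
    Category.assoc, Iso.hom_inv_id, Category.comp_id]

/-- shifting a family down by one. -/
noncomputable def dn (c : ∀ K : DerivedCategory.Bounded A, F.obj K ≅ F'.obj K) :
    ∀ K : DerivedCategory.Bounded A, F.obj K ≅ F'.obj K := fun Y =>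
  F.mapIso (eIso Y) ≪≫ (F.commShiftIso (1 : ℤ)).app (Y⟦(-1 : ℤ)⟧) ≪≫
    (shiftFunctor D (1 : ℤ)).mapIso (c (Y⟦(-1 : ℤ)⟧)) ≪≫
    ((F'.commShiftIso (1 : ℤ)).app (Y⟦(-1 : ℤ)⟧)).symm ≪≫ (F'.mapIso (eIso Y)).symm

lemma dn_hom (c : ∀ K : DerivedCategory.Bounded A, F.obj K ≅ F'.obj K)
    (Y : DerivedCategory.Bounded A) :
    (dn F F' c Y).hom = F.map (eIso Y).hom ≫ (F.commShiftIso (1 : ℤ)).hom.app (Y⟦(-1 : ℤ)⟧) ≫
      ((c (Y⟦(-1 : ℤ)⟧)).hom)⟦(1 : ℤ)⟧' ≫ (F'.commShiftIso (1 : ℤ)).inv.app (Y⟦(-1 : ℤ)⟧) ≫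
      F'.map (eIso Y).inv := rfl

lemma dn_natOn {P : DerivedCategory.Bounded A → Prop}
    {c : ∀ K : DerivedCategory.Bounded A, F.obj K ≅ F'.obj K} (hc : NatOn F F' P c) :
    NatOn F F' (fun K => P (K⟦(-1 : ℤ)⟧)) (dn F F' c) := by
  intro K L hK hL f
  have n2 : F.map ((f⟦(-1 : ℤ)⟧')⟦(1 : ℤ)⟧') ≫ (F.commShiftIso (1 : ℤ)).hom.app (L⟦(-1 : ℤ)⟧) =
      (F.commShiftIso (1 : ℤ)).hom.app (K⟦(-1 : ℤ)⟧) ≫ (F.map (f⟦(-1 : ℤ)⟧'))⟦(1 : ℤ)⟧' :=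
    (F.commShiftIso (1 : ℤ)).hom.naturality (f⟦(-1 : ℤ)⟧')
  have n3 : (F'.map (f⟦(-1 : ℤ)⟧'))⟦(1 : ℤ)⟧' ≫ (F'.commShiftIso (1 : ℤ)).inv.app (L⟦(-1 : ℤ)⟧) =
      (F'.commShiftIso (1 : ℤ)).inv.app (K⟦(-1 : ℤ)⟧) ≫ F'.map ((f⟦(-1 : ℤ)⟧')⟦(1 : ℤ)⟧') :=
    (F'.commShiftIso (1 : ℤ)).inv.naturality (f⟦(-1 : ℤ)⟧')
  have n4 : ((c (K⟦(-1 : ℤ)⟧)).hom)⟦(1 : ℤ)⟧' ≫ (F'.map (f⟦(-1 : ℤ)⟧'))⟦(1 : ℤ)⟧' =
      (F.map (f⟦(-1 : ℤ)⟧'))⟦(1 : ℤ)⟧' ≫ ((c (L⟦(-1 : ℤ)⟧)).hom)⟦(1 : ℤ)⟧' := by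
    rw [← Functor.map_comp, ← Functor.map_comp, hc hK hL (f⟦(-1 : ℤ)⟧')]
  rw [dn_hom, dn_hom]
  calc (F.map (eIso K).hom ≫ (F.commShiftIso (1 : ℤ)).hom.app (K⟦(-1 : ℤ)⟧) ≫
      ((c (K⟦(-1 : ℤ)⟧)).hom)⟦(1 : ℤ)⟧' ≫ (F'.commShiftIso (1 : ℤ)).inv.app (K⟦(-1 : ℤ)⟧) ≫
      F'.map (eIso K).inv) ≫ F'.map f
      = F.map (eIso K).hom ≫ (F.commShiftIso (1 : ℤ)).hom.app (K⟦(-1 : ℤ)⟧) ≫
        ((c (K⟦(-1 : ℤ)⟧)).hom)⟦(1 : ℤ)⟧' ≫ (F'.commShiftIso (1 : ℤ)).inv.app (K⟦(-1 : ℤ)⟧) ≫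
        F'.map ((f⟦(-1 : ℤ)⟧')⟦(1 : ℤ)⟧') ≫ F'.map (eIso L).inv := by
        simp only [Category.assoc, ← F'.map_comp, eIso_inv_naturality]
    _ = F.map (eIso K).hom ≫ (F.commShiftIso (1 : ℤ)).hom.app (K⟦(-1 : ℤ)⟧) ≫
        (((c (K⟦(-1 : ℤ)⟧)).hom)⟦(1 : ℤ)⟧' ≫ (F'.map (f⟦(-1 : ℤ)⟧'))⟦(1 : ℤ)⟧') ≫
        (F'.commShiftIso (1 : ℤ)).inv.app (L⟦(-1 : ℤ)⟧) ≫ F'.map (eIso L).inv := by
        simp only [Category.assoc, reassoc_of% n3]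
    _ = F.map (eIso K).hom ≫ ((F.commShiftIso (1 : ℤ)).hom.app (K⟦(-1 : ℤ)⟧) ≫
        (F.map (f⟦(-1 : ℤ)⟧'))⟦(1 : ℤ)⟧') ≫ ((c (L⟦(-1 : ℤ)⟧)).hom)⟦(1 : ℤ)⟧' ≫
        (F'.commShiftIso (1 : ℤ)).inv.app (L⟦(-1 : ℤ)⟧) ≫ F'.map (eIso L).inv := by
        rw [n4]; simp only [Category.assoc]
    _ = (F.map (eIso K).hom ≫ F.map ((f⟦(-1 : ℤ)⟧')⟦(1 : ℤ)⟧')) ≫
        (F.commShiftIso (1 : ℤ)).hom.app (L⟦(-1 : ℤ)⟧) ≫ ((c (L⟦(-1 : ℤ)⟧)).hom)⟦(1 : ℤ)⟧' ≫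
        (F'.commShiftIso (1 : ℤ)).inv.app (L⟦(-1 : ℤ)⟧) ≫ F'.map (eIso L).inv := by
        rw [← n2]; simp only [Category.assoc]
    _ = F.map f ≫ F.map (eIso L).hom ≫ (F.commShiftIso (1 : ℤ)).hom.app (L⟦(-1 : ℤ)⟧) ≫
        ((c (L⟦(-1 : ℤ)⟧)).hom)⟦(1 : ℤ)⟧' ≫ (F'.commShiftIso (1 : ℤ)).inv.app (L⟦(-1 : ℤ)⟧) ≫
        F'.map (eIso L).inv := by
        rw [← F.map_comp, eIso_hom_naturality, F.map_comp]; simp only [Category.assoc]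

lemma delta_compat (hz : HZ F F') (a : ℤ)
    (c : ∀ K : DerivedCategory.Bounded A, F.obj K ≅ F'.obj K) (hc : NatOn F F' (InAB a a) c)
    (X Y' : DerivedCategory.Bounded A) (hX : InAB a a X) (hY' : InAB a a Y')
    (y' : X ⟶ Y'⟦(1 : ℤ)⟧) :
    (c X).hom ≫ F'.map y' ≫ (F'.commShiftIso (1 : ℤ)).hom.app Y' =
      F.map y' ≫ (F.commShiftIso (1 : ℤ)).hom.app Y' ≫ ((c Y').hom)⟦(1 : ℤ)⟧' := by
  obtain ⟨E, i, p, hT⟩ := distinguished_cocone_triangle₂ y'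
  have hE : InAB a a E := InAB.ext₂ _ hT hY' hX
  have hT₁ := F.map_distinguished _ hT
  have hT₂ := F'.map_distinguished _ hT
  obtain ⟨γ, hγ₁', hγ₂'⟩ : ∃ γ : F.obj X ⟶ F'.obj X, F.map p ≫ γ = (c E).hom ≫ F'.map p ∧
      (F.map y' ≫ (F.commShiftIso (1 : ℤ)).hom.app Y') ≫ ((c Y').hom)⟦(1 : ℤ)⟧' =
      γ ≫ F'.map y' ≫ (F'.commShiftIso (1 : ℤ)).hom.app Y' :=
    complete_distinguished_triangle_morphism _ _ hT₁ hT₂
      (c Y').hom (c E).hom (hc hY' hE i).symm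
  have hγ : γ = (c X).hom := by
    rw [← sub_eq_zero]
    obtain ⟨w, hw⟩ : ∃ w : (F.obj Y')⟦(1 : ℤ)⟧ ⟶ F'.obj X,
        γ - (c X).hom = (F.map y' ≫ (F.commShiftIso (1 : ℤ)).hom.app Y') ≫ w :=
      Triangle.yoneda_exact₃ _ hT₁ (γ - (c X).hom) (by
        change F.map p ≫ _ = 0
        rw [Preadditive.comp_sub, hγ₁', hc hE hX p, sub_self])
    rw [hw, Category.assoc, hz (Y'⟦(1 : ℤ)⟧) X
      (hom_zero_of_inAB (hY'.shift 1 (a - 1) (a - 1) (by omega) (by omega)) hX (by omega))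
      ((F.commShiftIso (1 : ℤ)).hom.app Y' ≫ w), comp_zero]
  rw [← hγ, ← hγ₂', Category.assoc]

lemma dn_good (hz : HZ F F') (a : ℤ)
    (c : ∀ K : DerivedCategory.Bounded A, F.obj K ≅ F'.obj K) (hc : NatOn F F' (InAB a a) c)
    (X Y : DerivedCategory.Bounded A) (hX : InAB a a X) (hY : InAB (a - 1) (a - 1) Y)
    (y : X ⟶ Y) : (c X).hom ≫ F'.map y = F.map y ≫ (dn F F' c Y).hom := by
  have hY' : InAB a a (Y⟦(-1 : ℤ)⟧) := hY.shift (-1) a a (by omega) (by omega)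
  have h := delta_compat F F' hz a c hc X (Y⟦(-1 : ℤ)⟧) hX hY' (y ≫ (eIso Y).hom)
  rw [dn_hom]
  calc (c X).hom ≫ F'.map y
      = ((c X).hom ≫ F'.map (y ≫ (eIso Y).hom) ≫
          (F'.commShiftIso (1 : ℤ)).hom.app (Y⟦(-1 : ℤ)⟧)) ≫
          (F'.commShiftIso (1 : ℤ)).inv.app (Y⟦(-1 : ℤ)⟧) ≫ F'.map (eIso Y).inv := by
        simp only [Category.assoc, Iso.hom_inv_id_app_assoc, ← F'.map_comp, Iso.hom_inv_id,
          Category.comp_id]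
    _ = F.map y ≫ F.map (eIso Y).hom ≫ (F.commShiftIso (1 : ℤ)).hom.app (Y⟦(-1 : ℤ)⟧) ≫
        ((c (Y⟦(-1 : ℤ)⟧)).hom)⟦(1 : ℤ)⟧' ≫ (F'.commShiftIso (1 : ℤ)).inv.app (Y⟦(-1 : ℤ)⟧) ≫
        F'.map (eIso Y).inv := by
        rw [h, F.map_comp]; simp only [Category.assoc]

lemma step_a (hneg : ∀ X : A, ∃ (N : A) (p : N ⟶ X), Epi p ∧ ∀ f : X ⟶ N, f = 0)
    (hz : HZ F F') (a : ℤ)
    (c : ∀ K : DerivedCategory.Bounded A, F.obj K ≅ F'.obj K) (hc : NatOn F F' (GE a) c) :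
    ∃ c' : ∀ K : DerivedCategory.Bounded A, F.obj K ≅ F'.obj K,
      NatOn F F' (GE (a - 1)) c' ∧ ∀ K, GE a K → c' K = c K := by
  have hdn : NatOn F F' (InAB (a - 1) (a - 1)) (dn F F' c) :=
    (dn_natOn F F' hc).mono
      (fun K hK => (hK.shift (-1) a a (by omega) (by omega)).1)
  obtain ⟨c', hc'1, hc'2⟩ := ext_a F F' hneg hz (a - 1) (dn F F' c) hdn
  have hsub : ∀ K : DerivedCategory.Bounded A, GE a K → GE (a - 1) K := fun K hK => by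
    have : K.obj.IsGE a := hK
    exact TStructure.t.isGE_of_ge _ (a - 1) a (by omega)
  refine ⟨c', hc'1, ?_⟩
  apply uniq_a F F' hneg hz a c' c (hc'1.mono hsub) hc
  intro X hX
  apply Iso.ext
  have hcaa : NatOn F F' (InAB a a) c := hc.mono (fun K hK => hK.1)
  apply good_unique F F' hneg hz (a - 1) (a - 1) le_rfl (dn F F' c) X
    (hX.mono (by omega) (by omega))
  · intro Y hY y
    rw [← hc'2 Y hY]
    exact hc'1 (hsub X hX.1) hY.1 y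
  · intro Y hY y
    exact dn_good F F' hz a c hcaa X Y hX hY y

end glue

end Groth.Agent.H1.Sib
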