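import Mathlib
import Groth.Agent.Lib.Helper1.ExtNat

/-!
# Comparison of sheaf cohomology along a continuous functor with exact restriction

Let `u : C ⥤ D` be a continuous functor of sites preserving the terminal object, such that the restriction
functor `u^s : Sh(D) ⥤ Sh(C)` is exact and has an exact left adjoint `L`.  Then
`H^n(D, F) ≃+ H^n(C, u^s F)`.
-/

set_option autoImplicit false
set_option linter.unusedSectionVars false

namespace Groth.Agent.H1.SiteCompare

open CategoryTheory Limits Abelian Opposite Groth.Agent.H1.ExtNat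

universe w v₁ u₁ v₂ u₂

variable {C : Type u₁} [Category.{v₁} C] {D : Type u₂} [Category.{v₂} D]
  (J : GrothendieckTopology C) (K : GrothendieckTopology D) (u : C ⥤ D) [u.IsContinuous J K]
  [HasSheafify J AddCommGrpCat.{w}] [HasSheafify K AddCommGrpCat.{w}]

/-- restriction followed by sections over `T` is sections over `u T` -/
noncomputable def sectionsIso (T : C) :
    u.sheafPushforwardContinuous AddCommGrpCat.{w} J K ⋙ (sheafSections J AddCommGrpCat.{w}).obj (op T) ≅
      (sheafSections K AddCommGrpCat.{w}).obj (op (u.obj T)) :=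
  NatIso.ofComponents (fun _ => Iso.refl _) (fun _ => by simp; rfl)

variable {L : Sheaf J AddCommGrpCat.{w} ⥤ Sheaf K AddCommGrpCat.{w}}
  (adj : L ⊣ u.sheafPushforwardContinuous AddCommGrpCat.{w} J K)
  {T : C} (hT : IsTerminal T) (hT' : IsTerminal (u.obj T))

/-- the left adjoint of restriction preserves constant sheaves -/
noncomputable def constIso : constantSheaf J AddCommGrpCat.{w} ⋙ L ≅ constantSheaf K AddCommGrpCat.{w} :=
  (((constantSheafAdj J AddCommGrpCat.{w} hT).comp adj).ofNatIsoRight
    (sectionsIso J K u T)).leftAdjointUniq (constantSheafAdj K AddCommGrpCat.{w} hT')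

universe w'

variable [HasExt.{w'} (Sheaf J AddCommGrpCat.{w})] [HasExt.{w'} (Sheaf K AddCommGrpCat.{w})]
  [EnoughInjectives (Sheaf J AddCommGrpCat.{w})] [EnoughInjectives (Sheaf K AddCommGrpCat.{w})]
  [L.Additive] [PreservesFiniteLimits L] [PreservesFiniteColimits L]
  [(u.sheafPushforwardContinuous AddCommGrpCat.{w} J K).Additive]
  [PreservesFiniteLimits (u.sheafPushforwardContinuous AddCommGrpCat.{w} J K)]
  [PreservesFiniteColimits (u.sheafPushforwardContinuous AddCommGrpCat.{w} J K)]

include adj hT hT' in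
theorem nonempty_H_addEquiv (F : Sheaf K AddCommGrpCat.{w}) (n : ℕ) :
    Nonempty (Sheaf.H.{w', w} ((u.sheafPushforwardContinuous AddCommGrpCat.{w} J K).obj F) n ≃+
      Sheaf.H.{w', w} F n) := by
  let e1 : Sheaf.H.{w', w} ((u.sheafPushforwardContinuous AddCommGrpCat.{w} J K).obj F) n ≃+
      Ext.{w'} (L.obj ((constantSheaf J AddCommGrpCat.{w}).obj (AddCommGrpCat.of (ULift ℤ)))) F n :=
    AddEquiv.ofBijective (ΨHom adj _ F n) ⟨Ψ_injective adj _ F n, Ψ_surjective adj _ F n⟩
  let i := (constIso J K u adj hT hT').app (AddCommGrpCat.of (ULift ℤ))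
  let e2 : Ext.{w'} (L.obj ((constantSheaf J AddCommGrpCat.{w}).obj (AddCommGrpCat.of (ULift ℤ)))) F n ≃+
      Sheaf.H.{w', w} F n :=
    { toFun := fun x => (Ext.mk₀ i.inv).comp x (zero_add n)
      invFun := fun x => (Ext.mk₀ i.hom).comp x (zero_add n)
      left_inv := fun x => by simp
      right_inv := fun x => by simp
      map_add' := fun x y => by simp }
  exact ⟨e1.trans e2⟩

end Groth.Agent.H1.SiteCompare
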