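import Groth.Agent.Lib.Helper1.SliceA

/-!
# The extension by the empty set along a localization morphism of slice sites (helper1)

For `g : S ⟶ S'` in a category `ℰ` with a subcanonical topology `L`, and a presheaf `F` on
`Over S`, the presheaf `sigPre g F` on `Over S'` sends `U'` to the set of pairs `(ψ, x)` where
`ψ : U' ⟶ S` lifts the structure map of `U'` and `x` is a section of `F` over `(U', ψ)`.
-/

set_option autoImplicit false
universe u

namespace Groth.Agent.H1.Slice

open CategoryTheory CategoryTheory.Limits Opposite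

variable {ℰ : Type (u + 1)} [Category.{u} ℰ] {S S' : ℰ} (g : S ⟶ S')

/-- Lifts of the structure morphism of `U'` to `S`. -/
@[ext]
structure Str (U' : Over S') where
  /-- the lift -/
  hom : U'.left ⟶ S
  w : hom ≫ g = U'.hom

variable {g}

/-- Restriction of lifts. -/
def Str.pull {U' V' : Over S'} (a : V' ⟶ U') (ψ : Str g U') : Str g V' :=
  ⟨a.left ≫ ψ.hom, by rw [Category.assoc, ψ.w, Over.w]⟩

@[simp]
lemma Str.pull_hom {U' V' : Over S'} (a : V' ⟶ U') (ψ : Str g U') :
    (ψ.pull a).hom = a.left ≫ ψ.hom := rfl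

/-- The comparison morphism between objects of `Over S` with the same underlying object and
equal structure morphisms. -/
def tr {A : ℰ} {ψ ψ' : A ⟶ S} (h : ψ = ψ') : (Over.mk ψ : Over S) ⟶ Over.mk ψ' :=
  Over.homMk (𝟙 A) (by simp [h])

@[simp]
lemma tr_left {A : ℰ} {ψ ψ' : A ⟶ S} (h : ψ = ψ') : (tr h).left = 𝟙 A := rfl

lemma tr_rfl {A : ℰ} (ψ : A ⟶ S) : tr (rfl : ψ = ψ) = 𝟙 _ := by
  ext
  simp

section MapLemmas

variable (F : (Over S)ᵒᵖ ⥤ Type (u + 1))

lemma map_map {A B D : Over S} (f : A ⟶ B) (h : B ⟶ D) (x : F.obj (op D)) :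
    F.map f.op (F.map h.op x) = F.map (f ≫ h).op x := by
  rw [op_comp, Functor.map_comp]
  rfl

lemma map_eq {A B : Over S} {f f' : A ⟶ B} (h : f = f') (x : F.obj (op B)) :
    F.map f.op x = F.map f'.op x := by rw [h]

lemma map_id' {A : Over S} (x : F.obj (op A)) : F.map (𝟙 A).op x = x := by
  rw [op_id, F.map_id]
  rfl

end MapLemmas

variable (g) (F : (Over S)ᵒᵖ ⥤ Type (u + 1))

/-- Sections of the extension of `F`. -/
structure SigObj (U' : Over S') where
  /-- the lift of the structure morphism -/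
  str : Str g U'
  /-- the section -/
  sec : F.obj (op (Over.mk str.hom))

variable {g F}

lemma sig_ext {U' : Over S'} {p q : SigObj g F U'} (h : p.str.hom = q.str.hom)
    (hx : F.map (tr h.symm).op p.sec = q.sec) : p = q := by
  obtain ⟨⟨ψ, hψ⟩, x⟩ := p
  obtain ⟨⟨ψ', hψ'⟩, x'⟩ := q
  dsimp only at h
  subst h
  have h2 : F.map (tr (rfl : ψ = ψ)).op x = x := by
    rw [tr_rfl]
    exact map_id' F x
  have h3 : x = x' := h2.symm.trans hx
  subst h3
  rfl

lemma sig_ext_iff {U' : Over S'} {p q : SigObj g F U'} :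
    p = q ↔ ∃ h : p.str.hom = q.str.hom, F.map (tr h.symm).op p.sec = q.sec := by
  constructor
  · rintro rfl
    refine ⟨rfl, ?_⟩
    rw [tr_rfl]
    exact map_id' F _
  · rintro ⟨h, hx⟩
    exact sig_ext h hx

variable (g F)

/-- The restriction maps of the extension. -/
def sigMap {U' V' : Over S'} (a : V' ⟶ U') (p : SigObj g F U') : SigObj g F V' :=
  ⟨p.str.pull a,
    F.map (Over.homMk a.left rfl : Over.mk (a.left ≫ p.str.hom) ⟶ Over.mk p.str.hom).op p.sec⟩

lemma sigMap_id {U' : Over S'} (p : SigObj g F U') : sigMap g F (𝟙 U') p = p := by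
  refine sig_ext (Category.id_comp _) ?_
  refine (map_map F _ _ _).trans ?_
  refine (map_eq F ?_ _).trans (map_id' F _)
  ext
  simp

lemma sigMap_comp {U' V' W' : Over S'} (a : V' ⟶ U') (b : W' ⟶ V') (p : SigObj g F U') :
    sigMap g F (b ≫ a) p = sigMap g F b (sigMap g F a p) := by
  refine sig_ext (Category.assoc _ _ _) ?_
  refine (map_map F _ _ _).trans ?_
  refine Eq.trans ?_ (map_map F _ _ _).symm
  refine map_eq F ?_ _
  ext
  simp

/-- The extension of a presheaf on `Over S` to `Over S'`. -/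
def sigPre : (Over S')ᵒᵖ ⥤ Type (u + 1) where
  obj U' := SigObj g F U'.unop
  map a := ↾(sigMap g F a.unop)
  map_id U' := by
    ext p
    exact sigMap_id g F p
  map_comp a b := by
    ext p
    exact sigMap_comp g F a.unop b.unop p

section SheafCond

variable {g F}

lemma sigMap_str_hom {U' V' : Over S'} (a : V' ⟶ U') (p : SigObj g F U') :
    (sigMap g F a p).str.hom = a.left ≫ p.str.hom := rfl

lemma fam_congr {P : (Over S')ᵒᵖ ⥤ Type (u + 1)} {U' : Over S'} {R : Sieve U'}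
    (x : Presieve.FamilyOfElements P R.arrows) {V' : Over S'} {f f' : V' ⟶ U'} (h : f = f')
    (hf : R f) : x f hf = x f' (h ▸ hf) := by
  subst h
  rfl

/-- The canonical arrow over `U'` attached to a morphism to the underlying object. -/
abbrev arr {U' : Over S'} {Z : ℰ} (f₀ : Z ⟶ U'.left) : Over.mk (f₀ ≫ U'.hom) ⟶ U' :=
  Over.homMk f₀ rfl

/-- Every object over `U'` is isomorphic to the canonical one with the same underlying map. -/
def toArr {U' V' : Over S'} (f : V' ⟶ U') : V' ⟶ Over.mk (f.left ≫ U'.hom) :=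
  Over.homMk (𝟙 _) (by simp)

/-- The inverse of `toArr`. -/
def ofArr {U' V' : Over S'} (f : V' ⟶ U') : Over.mk (f.left ≫ U'.hom) ⟶ V' :=
  Over.homMk (𝟙 _) (by simp)

lemma toArr_comp {U' V' : Over S'} (f : V' ⟶ U') : toArr f ≫ arr f.left = f := by
  ext
  simp [toArr]

lemma ofArr_comp {U' V' : Over S'} (f : V' ⟶ U') : ofArr f ≫ f = arr f.left := by
  ext
  simp [ofArr]

lemma mem_arr {U' V' : Over S'} {R : Sieve U'} (f : V' ⟶ U') (hf : R f) : R (arr f.left) := by
  have h := R.downward_closed hf (ofArr f)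
  rwa [ofArr_comp] at h

variable (L : GrothendieckTopology ℰ) [L.Subcanonical]

/-- Glueing the lifts of the structure morphism. -/
lemma str_glue {U' : Over S'} (R : Sieve U') (hR : R ∈ (L.over S') U')
    (x : Presieve.FamilyOfElements (sigPre g F) R.arrows) (hx : x.SieveCompatible) :
    ∃ Ψ : Str g U', (∀ {V' : Over S'} (f : V' ⟶ U') (hf : R f),
      (x f hf).str.hom = f.left ≫ Ψ.hom) ∧
      ∀ Ψ' : Str g U', (∀ {V' : Over S'} (f : V' ⟶ U') (hf : R f),
        (x f hf).str.hom = f.left ≫ Ψ'.hom) → Ψ' = Ψ := by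
  have hR₀ : Sieve.overEquiv U' R ∈ L U'.left := (GrothendieckTopology.mem_over_iff L R).1 hR
  let ψz : Presieve.FamilyOfElements (yoneda.obj S) (Sieve.overEquiv U' R).arrows :=
    fun Z f₀ hf₀ => (x (arr f₀) ((Sieve.overEquiv_iff R f₀).1 hf₀)).str.hom
  have hS : Presieve.IsSheaf L (yoneda.obj S) :=
    GrothendieckTopology.Subcanonical.isSheaf_of_isRepresentable _
  have hS' : Presieve.IsSheaf L (yoneda.obj S') :=
    GrothendieckTopology.Subcanonical.isSheaf_of_isRepresentable _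
  have hcompat : ψz.Compatible := by
    rw [Presieve.compatible_iff_sieveCompatible]
    intro Y Z f₀ k₀ hf₀
    let K : Over.mk ((k₀ ≫ f₀) ≫ U'.hom) ⟶ Over.mk (f₀ ≫ U'.hom) := Over.homMk k₀ (by simp)
    have hK : K ≫ arr f₀ = arr (k₀ ≫ f₀) := by
      ext
      simp [K]
    have h1 := hx (arr f₀) K ((Sieve.overEquiv_iff R f₀).1 hf₀)
    have h2 := fam_congr x hK (R.downward_closed ((Sieve.overEquiv_iff R f₀).1 hf₀) K)
    change (x (arr (k₀ ≫ f₀)) _).str.hom = k₀ ≫ (x (arr f₀) _).str.hom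
    rw [← h2, h1]
    rfl
  have key : ∀ {V' : Over S'} (f : V' ⟶ U') (hf : R f),
      (x f hf).str.hom = ψz f.left ((Sieve.overEquiv_iff R f.left).2 (mem_arr f hf)) := by
    intro V' f hf
    have hf' : R (arr f.left) := mem_arr f hf
    have h1 := hx (arr f.left) (toArr f) hf'
    have h2 := fam_congr x (toArr_comp f) (R.downward_closed hf' (toArr f))
    rw [← h2, h1]
    change (toArr f).left ≫ _ = _
    simp [toArr, ψz]
  obtain ⟨ψ, hψ, hψu⟩ := hS _ hR₀ ψz hcompat
  have hψg : ψ ≫ g = U'.hom := by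
    refine (hS' _ hR₀).isSeparatedFor.ext ?_
    intro Z f₀ hf₀
    change f₀ ≫ ψ ≫ g = f₀ ≫ U'.hom
    have h1 : f₀ ≫ ψ = ψz f₀ hf₀ := hψ f₀ hf₀
    rw [← Category.assoc, h1]
    exact (x (arr f₀) ((Sieve.overEquiv_iff R f₀).1 hf₀)).str.w
  refine ⟨⟨ψ, hψg⟩, ?_, ?_⟩
  · intro V' f hf
    rw [key f hf]
    exact (hψ f.left ((Sieve.overEquiv_iff R f.left).2 (mem_arr f hf))).symm
  · intro Ψ' hΨ'
    ext
    refine hψu Ψ'.hom ?_
    intro Z f₀ hf₀
    exact (hΨ' (arr f₀) ((Sieve.overEquiv_iff R f₀).1 hf₀)).symm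

omit [L.Subcanonical] in
lemma sec_of_eq {U' : Over S'} {p q : SigObj g F U'} (h : p = q) {T : Over S}
    (a : T ⟶ Over.mk p.str.hom) (b : T ⟶ Over.mk q.str.hom) (hab : a.left = b.left) :
    F.map a.op p.sec = F.map b.op q.sec := by
  subst h
  refine map_eq F ?_ _
  ext
  exact hab

lemma mem_of_left_eq {U' : Over S'} (R : Sieve U') {V₁ V₂ : Over S'} (f₁ : V₁ ⟶ U')
    (f₂ : V₂ ⟶ U') (e : V₂.left ⟶ V₁.left) (he : e ≫ f₁.left = f₂.left) (h₁ : R f₁) : R f₂ := by
  have hw : e ≫ V₁.hom = V₂.hom := by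
    rw [← Over.w f₁, ← Category.assoc, he, Over.w f₂]
  have h2 : Over.homMk e hw ≫ f₁ = f₂ := by
    ext
    simpa using he
  rw [← h2]
  exact R.downward_closed h₁ _

/-- The arrow over `U'` attached to an arrow over `(U', Ψ)`. -/
def iota {U' : Over S'} (Ψ : Str g U') {T : Over S} (h : T ⟶ Over.mk Ψ.hom) :
    Over.mk (T.hom ≫ g) ⟶ U' :=
  Over.homMk h.left (by
    have h1 : h.left ≫ Ψ.hom = T.hom := Over.w h
    change h.left ≫ U'.hom = T.hom ≫ g
    rw [← Ψ.w, ← Category.assoc, h1])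

@[simp]
lemma iota_left {U' : Over S'} (Ψ : Str g U') {T : Over S} (h : T ⟶ Over.mk Ψ.hom) :
    (iota Ψ h).left = h.left := rfl

/-- The sieve on `(U', Ψ)` induced by a sieve on `U'`. -/
def lowerSieve {U' : Over S'} (R : Sieve U') (Ψ : Str g U') :
    Sieve (Over.mk Ψ.hom : Over S) where
  arrows T h := R (iota Ψ h)
  downward_closed := by
    intro T T₂ h hh k
    exact mem_of_left_eq R (iota Ψ h) (iota Ψ (k ≫ h)) k.left rfl hh

lemma lowerSieve_mem {U' : Over S'} (R : Sieve U') (hR : R ∈ (L.over S') U') (Ψ : Str g U') :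
    lowerSieve R Ψ ∈ (L.over S) (Over.mk Ψ.hom) := by
  rw [GrothendieckTopology.mem_over_iff]
  have hR₀ : Sieve.overEquiv U' R ∈ L U'.left := (GrothendieckTopology.mem_over_iff L R).1 hR
  refine L.superset_covering ?_ hR₀
  intro Z f₀ hf₀
  rw [Sieve.overEquiv_iff] at hf₀ ⊢
  change R (iota Ψ _)
  have h1 : R (arr (U' := U') f₀) := hf₀
  exact mem_of_left_eq R (arr (U' := U') f₀) (iota Ψ _) (𝟙 Z) (Category.id_comp _) h1

/-- Glueing the sections. -/
lemma sec_glue (hF : Presieve.IsSheaf (L.over S) F) {U' : Over S'} (R : Sieve U')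
    (hR : R ∈ (L.over S') U')
    (x : Presieve.FamilyOfElements (sigPre g F) R.arrows) (hx : x.SieveCompatible)
    (Ψ : Str g U')
    (hΨ : ∀ {V' : Over S'} (f : V' ⟶ U') (hf : R f), (x f hf).str.hom = f.left ≫ Ψ.hom) :
    ∃ z₀ : F.obj (op (Over.mk Ψ.hom)),
      (∀ {V' : Over S'} (f : V' ⟶ U') (hf : R f),
        F.map (Over.homMk f.left (hΨ f hf).symm :
          Over.mk (x f hf).str.hom ⟶ Over.mk Ψ.hom).op z₀ = (x f hf).sec) ∧
      ∀ z' : F.obj (op (Over.mk Ψ.hom)),
        (∀ {V' : Over S'} (f : V' ⟶ U') (hf : R f),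
          F.map (Over.homMk f.left (hΨ f hf).symm :
            Over.mk (x f hf).str.hom ⟶ Over.mk Ψ.hom).op z' = (x f hf).sec) → z' = z₀ := by
  have hR₁ := lowerSieve_mem L R hR Ψ
  have hstr : ∀ {T : Over S} (h : T ⟶ Over.mk Ψ.hom) (hh : lowerSieve R Ψ h),
      T.hom = (x (iota Ψ h) hh).str.hom := by
    intro T h hh
    rw [hΨ (iota Ψ h) hh]
    exact (Over.w h).symm
  let z : Presieve.FamilyOfElements F (lowerSieve R Ψ).arrows :=
    fun T h hh => F.map (tr (hstr h hh)).op (x (iota Ψ h) hh).sec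
  have hz : z.Compatible := by
    rw [Presieve.compatible_iff_sieveCompatible]
    intro T T₂ h k hh
    let K' : Over.mk (T₂.hom ≫ g) ⟶ Over.mk (T.hom ≫ g) :=
      Over.homMk k.left (by
        have := Over.w k
        change k.left ≫ T.hom ≫ g = T₂.hom ≫ g
        rw [← Category.assoc, this])
    have hK' : K' ≫ iota Ψ h = iota Ψ (k ≫ h) := by
      ext
      simp [K']
    have h1 := hx (iota Ψ h) K' hh
    have h2 := fam_congr x hK' (R.downward_closed hh K')
    have h3 : x (iota Ψ (k ≫ h)) ((lowerSieve R Ψ).downward_closed hh k) =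
        sigMap g F K' (x (iota Ψ h) hh) := h2.symm.trans h1
    change F.map (tr _).op (x (iota Ψ (k ≫ h)) _).sec =
      F.map k.op (F.map (tr _).op (x (iota Ψ h) hh).sec)
    refine (sec_of_eq h3 _ (tr (by
      rw [sigMap_str_hom, hΨ (iota Ψ h) hh]
      have := Over.w (k ≫ h)
      simpa [K'] using this.symm)) rfl).trans ?_
    refine (map_map F _ _ _).trans ?_
    refine Eq.trans ?_ (map_map F _ _ _).symm
    refine map_eq F ?_ _
    ext
    simp [K']
  refine ⟨(hF _ hR₁).amalgamate z hz, ?_, ?_⟩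
  · intro V' f hf
    have hmem : lowerSieve R Ψ (Over.homMk f.left (hΨ f hf).symm :
        Over.mk (x f hf).str.hom ⟶ Over.mk Ψ.hom) :=
      mem_of_left_eq R f _ (𝟙 _) (by simp) hf
    refine ((hF _ hR₁).valid_glue hz _ hmem).trans ?_
    let E : Over.mk ((x f hf).str.hom ≫ g) ⟶ V' := Over.homMk (𝟙 _) (by
      simpa using (x f hf).str.w.symm)
    have hE : E ≫ f = iota Ψ (Over.homMk f.left (hΨ f hf).symm :
        Over.mk (x f hf).str.hom ⟶ Over.mk Ψ.hom) := by
      ext
      simp [E]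
    have h1 := hx f E hf
    have h2 := fam_congr x hE (R.downward_closed hf E)
    have h3 : x (iota Ψ (Over.homMk f.left (hΨ f hf).symm :
        Over.mk (x f hf).str.hom ⟶ Over.mk Ψ.hom)) hmem = sigMap g F E (x f hf) :=
      h2.symm.trans h1
    change F.map (tr _).op (x (iota Ψ _) hmem).sec = (x f hf).sec
    refine (sec_of_eq h3 _ (tr (by simp [sigMap_str_hom, E])) rfl).trans ?_
    refine (map_map F _ _ _).trans ?_
    refine (map_eq F ?_ _).trans (map_id' F _)
    ext
    simp [E]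
  · intro z' hz'
    refine (hF _ hR₁).isSeparatedFor.ext ?_
    intro T h hh
    refine Eq.trans ?_ ((hF _ hR₁).valid_glue hz h hh).symm
    change F.map h.op z' = F.map (tr _).op (x (iota Ψ h) hh).sec
    rw [← hz' (iota Ψ h) hh]
    refine Eq.trans ?_ (map_map F _ _ _).symm
    refine map_eq F ?_ _
    ext
    simp

/-- The extension of a sheaf is a sheaf. -/
theorem sigPre_isSheaf (hF : Presieve.IsSheaf (L.over S) F) :
    Presieve.IsSheaf (L.over S') (sigPre g F) := by
  intro U' R hR x hx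
  have hx' := (Presieve.compatible_iff_sieveCompatible x).1 hx
  obtain ⟨Ψ, hΨ, hΨu⟩ := str_glue L R hR x hx'
  obtain ⟨z₀, hz₀, hz₀u⟩ := sec_glue L hF R hR x hx' Ψ hΨ
  refine ⟨⟨Ψ, z₀⟩, ?_, ?_⟩
  · intro V' f hf
    change sigMap g F f ⟨Ψ, z₀⟩ = x f hf
    refine sig_ext (hΨ f hf).symm ?_
    refine (map_map F _ _ _).trans ?_
    refine Eq.trans (map_eq F ?_ _) (hz₀ f hf)
    ext
    simp
  · intro t' ht'
    obtain ⟨Ψ', z'⟩ := t'
    have ht'' : ∀ {V' : Over S'} (f : V' ⟶ U') (hf : R f),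
        sigMap g F f ⟨Ψ', z'⟩ = x f hf := fun f hf => ht' f hf
    have h1 : Ψ' = Ψ := hΨu Ψ' (fun f hf => by
      have := congrArg (fun p => p.str.hom) (ht'' f hf)
      exact this.symm)
    subst h1
    have h2 : z' = z₀ := hz₀u z' (fun f hf => by
      have h3 := sec_of_eq (ht'' f hf) (tr (hΨ f hf)) (𝟙 _) rfl
      refine Eq.trans ?_ (h3.trans (map_id' F _))
      refine Eq.trans ?_ (map_map F _ _ _).symm
      refine map_eq F ?_ _
      ext
      simp)
    subst h2
    rfl

end SheafCond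

end Groth.Agent.H1.Slice
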