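import Groth.Agent.Lib.Helper1.SliceB

/-!
# The extension functor on sheaves and its adjunction with restriction (helper1)
-/

set_option autoImplicit false
universe u

namespace Groth.Agent.H1.Slice

open CategoryTheory CategoryTheory.Limits Opposite

section General

variable {D : Type (u + 1)} [Category.{u} D] (P : Dᵒᵖ ⥤ Type (u + 1))

lemma gmap_map {A B E : D} (f : A ⟶ B) (h : B ⟶ E) (x : P.obj (op E)) :
    P.map f.op (P.map h.op x) = P.map (f ≫ h).op x := by
  rw [op_comp, Functor.map_comp]
  rfl

lemma gmap_eq {A B : D} {f f' : A ⟶ B} (h : f = f') (x : P.obj (op B)) :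
    P.map f.op x = P.map f'.op x := by rw [h]

lemma gmap_id {A : D} (x : P.obj (op A)) : P.map (𝟙 A).op x = x := by
  rw [op_id, P.map_id]
  rfl

end General

variable {ℰ : Type (u + 1)} [Category.{u} ℰ] {S S' : ℰ} (g : S ⟶ S')

/-- Functoriality of the extension in the presheaf. -/
def sigNat {F G : (Over S)ᵒᵖ ⥤ Type (u + 1)} (α : F ⟶ G) : sigPre g F ⟶ sigPre g G where
  app U' := ↾fun p : SigObj g F U'.unop => (⟨p.str, α.app _ p.sec⟩ : SigObj g G U'.unop)
  naturality := by
    intro U' V' a
    ext (p : SigObj g F U'.unop)
    change (⟨(sigMap g F a.unop p).str, α.app _ (sigMap g F a.unop p).sec⟩ :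
      SigObj g G V'.unop) = sigMap g G a.unop ⟨p.str, α.app _ p.sec⟩
    refine sig_ext rfl ?_
    refine Eq.trans (map_eq G (f' := 𝟙 _) ?_ _) ((map_id' G _).trans ?_)
    · ext
      simp
    · exact ConcreteCategory.congr_hom (α.naturality _) p.sec

lemma sigNat_app {F G : (Over S)ᵒᵖ ⥤ Type (u + 1)} (α : F ⟶ G) {U' : Over S'}
    (p : SigObj g F U') :
    (sigNat g α).app (op U') p = (⟨p.str, α.app _ p.sec⟩ : SigObj g G U') := rfl

variable (L : GrothendieckTopology ℰ) [L.Subcanonical]

/-- The extension functor on sheaves. -/
def sigSh : Sheaf (L.over S) (Type (u + 1)) ⥤ Sheaf (L.over S') (Type (u + 1)) where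
  obj F := ⟨sigPre g F.obj, (isSheaf_iff_isSheaf_of_type _ _).2
    (sigPre_isSheaf L ((isSheaf_iff_isSheaf_of_type _ _).1 F.property))⟩
  map α := ObjectProperty.homMk (sigNat g α.hom)
  map_id F := by
    apply Sheaf.hom_ext
    ext U' p
    rfl
  map_comp α β := by
    apply Sheaf.hom_ext
    ext U' p
    rfl

/-- The restriction functor. -/
abbrev resSh : Sheaf (L.over S') (Type (u + 1)) ⥤ Sheaf (L.over S) (Type (u + 1)) :=
  (Over.map g).sheafPushforwardContinuous (Type (u + 1)) (L.over S) (L.over S')

variable {g}

/-- The tautological lift of the structure morphism of the image of an object over `S`. -/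
def Str.taut (T : Over S) : Str g ((Over.map g).obj T) := ⟨T.hom, rfl⟩

/-- The comparison between `U'` and the image of `(U', ψ)`. -/
def cmp {U' : Over S'} (ψ : Str g U') : U' ⟶ (Over.map g).obj (Over.mk ψ.hom) :=
  Over.homMk (𝟙 _) (by simp [ψ.w])

@[simp]
lemma cmp_left {U' : Over S'} (ψ : Str g U') : (cmp ψ).left = 𝟙 _ := rfl

variable (g)

/-- The unit of the adjunction. -/
def sigUnit (F : Sheaf (L.over S) (Type (u + 1))) :
    F ⟶ (resSh g L).obj ((sigSh g L).obj F) :=
  ObjectProperty.homMk
    { app := fun T => ↾fun x : F.obj.obj T =>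
        (⟨Str.taut T.unop, x⟩ : SigObj g F.obj ((Over.map g).obj T.unop))
      naturality := by
        intro T T₂ k
        ext x
        change (⟨Str.taut T₂.unop, F.obj.map k x⟩ : SigObj g F.obj ((Over.map g).obj T₂.unop)) =
          sigMap g F.obj ((Over.map g).map k.unop) ⟨Str.taut T.unop, x⟩
        refine sig_ext (Over.w k.unop).symm ?_
        change F.obj.map (tr _).op (F.obj.map k.unop.op x) = F.obj.map _ x
        refine (map_map F.obj _ k.unop x).trans (map_eq F.obj ?_ x)
        ext
        simp [Str.taut, sigMap] }

/-- The counit of the adjunction. -/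
def sigCounit (G : Sheaf (L.over S') (Type (u + 1))) :
    (sigSh g L).obj ((resSh g L).obj G) ⟶ G :=
  ObjectProperty.homMk
    { app := fun U' => ↾fun p : SigObj g ((resSh g L).obj G).obj U'.unop =>
        G.obj.map (cmp p.str).op p.sec
      naturality := by
        intro U' V' a
        ext (p : SigObj g ((resSh g L).obj G).obj U'.unop)
        change G.obj.map (cmp (p.str.pull a.unop)).op
          (G.obj.map ((Over.map g).map (Over.homMk a.unop.left rfl :
            Over.mk (a.unop.left ≫ p.str.hom) ⟶ Over.mk p.str.hom)).op p.sec) =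
          G.obj.map a.unop.op (G.obj.map (cmp p.str).op p.sec)
        refine (gmap_map G.obj _ _ _).trans ?_
        refine Eq.trans ?_ (gmap_map G.obj _ _ _).symm
        refine gmap_eq G.obj ?_ _
        ext
        simp }

lemma sigUnit_app (F : Sheaf (L.over S) (Type (u + 1))) (T : Over S) (x : F.obj.obj (op T)) :
    (sigUnit g L F).hom.app (op T) x =
      (⟨Str.taut T, x⟩ : SigObj g F.obj ((Over.map g).obj T)) := rfl

lemma sigCounit_app (G : Sheaf (L.over S') (Type (u + 1))) (U' : Over S')
    (p : SigObj g ((resSh g L).obj G).obj U') :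
    (sigCounit g L G).hom.app (op U') p = G.obj.map (cmp p.str).op p.sec := rfl

/-- The extension functor is left adjoint to the restriction functor. -/
def sigAdj : sigSh g L ⊣ resSh g L :=
  Adjunction.mkOfUnitCounit
    { unit :=
        { app := sigUnit g L
          naturality := by
            intro F F' α
            apply Sheaf.hom_ext
            ext T x
            rfl }
      counit :=
        { app := sigCounit g L
          naturality := by
            intro G G' β
            apply Sheaf.hom_ext
            ext U' (p : SigObj g ((resSh g L).obj G).obj U'.unop)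
            change G'.obj.map (cmp p.str).op (β.hom.app _ p.sec) =
              β.hom.app _ (G.obj.map (cmp p.str).op p.sec)
            exact (ConcreteCategory.congr_hom (β.hom.naturality (cmp p.str).op) p.sec).symm }
      left_triangle := by
        ext F : 2
        apply Sheaf.hom_ext
        ext U' (p : SigObj g F.obj U'.unop)
        change sigMap g F.obj (cmp p.str) ⟨Str.taut (Over.mk p.str.hom), p.sec⟩ = p
        refine sig_ext ?_ ?_
        · simp [sigMap, Str.taut]
        · refine (map_map F.obj _ _ _).trans ?_
          refine (map_eq F.obj (f' := 𝟙 _) ?_ _).trans (map_id' F.obj _)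
          ext
          simp
      right_triangle := by
        ext G : 2
        apply Sheaf.hom_ext
        ext T (y : G.obj.obj (op ((Over.map g).obj T.unop)))
        change G.obj.map (cmp (Str.taut T.unop)).op y = y
        refine (gmap_eq G.obj (f' := 𝟙 _) ?_ _).trans (gmap_id G.obj _)
        ext
        simp }

instance : (resSh g L).IsRightAdjoint := (sigAdj g L).isRightAdjoint

/-- The abstract inverse image functor along `Over.map g` is the explicit extension functor. -/
noncomputable def sigIso :
    (Over.map g).sheafPullback (Type (u + 1)) (L.over S) (L.over S') ≅ sigSh g L :=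
  Adjunction.leftAdjointUniq
    ((Over.map g).sheafAdjunctionContinuous (Type (u + 1)) (L.over S) (L.over S')) (sigAdj g L)

end Groth.Agent.H1.Slice
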