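import Groth.Agent.Lib.Helper1.SliceC

/-!
# Fibre products of sections of the extension of a sheaf (helper1)
-/

set_option autoImplicit false
universe u

namespace Groth.Agent.H1.Slice

open CategoryTheory CategoryTheory.Limits Opposite

variable {ℰ : Type (u + 1)} [Category.{u} ℰ] {S S' : ℰ} {g : S ⟶ S'}
  (L : GrothendieckTopology ℰ) [L.Subcanonical]

section Up

variable {F : Sheaf (L.over S) (Type (u + 1))} {T' U' : Over S'}
  {p₁ : SigObj g F.obj T'} {p₂ : SigObj g F.obj U'}

/-- Fibre products of sections of `F` give fibre products of sections of the extension. -/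
theorem isFib_up {V : Over S} {m : V ⟶ Over.mk p₁.str.hom} {n : V ⟶ Over.mk p₂.str.hom}
    (h : IsFib (G := F) p₁.sec p₂.sec m n) :
    IsFib (G := (sigSh g L).obj F) p₁ p₂ (iota p₁.str m) (iota p₂.str n) where
  comm := by
    change sigMap g F.obj (iota p₁.str m) p₁ = sigMap g F.obj (iota p₂.str n) p₂
    have h1 : m.left ≫ p₁.str.hom = V.hom := Over.w m
    have h2 : n.left ≫ p₂.str.hom = V.hom := Over.w n
    refine sig_ext (h1.trans h2.symm) ?_
    refine (map_map F.obj _ _ _).trans ?_
    have h3 := congrArg (fun t => F.obj.map (tr h2 : Over.mk (n.left ≫ p₂.str.hom) ⟶ V).op t)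
      h.comm
    refine (map_eq F.obj (f' := tr h2 ≫ m) ?_ _).trans ?_
    · ext
      simp [sigMap]
    refine (map_map F.obj _ _ _).symm.trans (h3.trans ?_)
    refine (map_map F.obj _ _ _).trans (map_eq F.obj ?_ _)
    ext
    simp [sigMap]
  lift := by
    intro W' p q hpq
    have hpq' : sigMap g F.obj p p₁ = sigMap g F.obj q p₂ := hpq
    obtain ⟨e, he⟩ := sig_ext_iff.1 hpq'
    have e' : p.left ≫ p₁.str.hom = q.left ≫ p₂.str.hom := e
    let pt : Over.mk (q.left ≫ p₂.str.hom) ⟶ Over.mk p₁.str.hom := Over.homMk p.left e'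
    let qt : Over.mk (q.left ≫ p₂.str.hom) ⟶ Over.mk p₂.str.hom := Over.homMk q.left rfl
    have h1 : F.obj.map pt.op p₁.sec = F.obj.map qt.op p₂.sec := by
      refine Eq.trans ?_ (((map_map F.obj _ _ _).symm.trans he))
      refine map_eq F.obj ?_ _
      ext
      simp [pt, sigMap]
    obtain ⟨r, hr1, hr2⟩ := h.lift pt qt h1
    have hw : r.left ≫ V.hom ≫ g = W'.hom := by
      have h2 : r.left ≫ V.hom = q.left ≫ p₂.str.hom := Over.w r
      rw [← Category.assoc, h2, Category.assoc, p₂.str.w, Over.w]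
    refine ⟨Over.homMk r.left hw, ?_, ?_⟩
    · ext
      have := congrArg (fun t => t.left) hr1
      simpa [pt] using this
    · ext
      have := congrArg (fun t => t.left) hr2
      simpa [qt] using this
  uniq := by
    intro W' r r' h1 h2
    have h1' : r.left ≫ m.left = r'.left ≫ m.left := by
      have := congrArg (fun t => t.left) h1
      simpa using this
    have h2' : r.left ≫ n.left = r'.left ≫ n.left := by
      have := congrArg (fun t => t.left) h2
      simpa using this
    have hV : r.left ≫ V.hom = r'.left ≫ V.hom := by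
      have h3 : m.left ≫ p₁.str.hom = V.hom := Over.w m
      exact (congrArg (fun t => r.left ≫ t) h3.symm).trans ((Category.assoc _ _ _).symm.trans
        ((congrArg (fun t => t ≫ p₁.str.hom) h1').trans ((Category.assoc _ _ _).trans
          (congrArg (fun t => r'.left ≫ t) h3))))
    let rt : Over.mk (r.left ≫ V.hom) ⟶ V := Over.homMk r.left rfl
    let rt' : Over.mk (r.left ≫ V.hom) ⟶ V := Over.homMk r'.left hV.symm
    have h4 : rt = rt' := by
      refine h.uniq rt rt' ?_ ?_
      · ext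
        simpa [rt, rt'] using h1'
      · ext
        simpa [rt, rt'] using h2'
    ext
    exact congrArg (fun t => t.left) h4

end Up

section Down

variable {F : Sheaf (L.over S) (Type (u + 1))} {T' U' : Over S'}
  {p₁ : SigObj g F.obj T'} {p₂ : SigObj g F.obj U'}

lemma str_eq_of_isFib {V' : Over S'} {m' : V' ⟶ T'} {n' : V' ⟶ U'}
    (h : IsFib (G := (sigSh g L).obj F) p₁ p₂ m' n') :
    m'.left ≫ p₁.str.hom = n'.left ≫ p₂.str.hom := by
  have h1 : sigMap g F.obj m' p₁ = sigMap g F.obj n' p₂ := h.comm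
  obtain ⟨e, -⟩ := sig_ext_iff.1 h1
  exact e

/-- Fibre products of sections of the extension give fibre products of sections of `F`. -/
theorem isFib_down {V' : Over S'} {m' : V' ⟶ T'} {n' : V' ⟶ U'}
    (h : IsFib (G := (sigSh g L).obj F) p₁ p₂ m' n') :
    IsFib (G := F) p₁.sec p₂.sec
      (Over.homMk m'.left rfl : Over.mk (m'.left ≫ p₁.str.hom) ⟶ Over.mk p₁.str.hom)
      (Over.homMk n'.left (str_eq_of_isFib L h).symm :
        Over.mk (m'.left ≫ p₁.str.hom) ⟶ Over.mk p₂.str.hom) where
  comm := by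
    have h1 : sigMap g F.obj m' p₁ = sigMap g F.obj n' p₂ := h.comm
    obtain ⟨e, he⟩ := sig_ext_iff.1 h1
    have e' : m'.left ≫ p₁.str.hom = n'.left ≫ p₂.str.hom := e
    have h2 := congrArg (fun t => F.obj.map (tr e' : Over.mk (m'.left ≫ p₁.str.hom) ⟶
      Over.mk (n'.left ≫ p₂.str.hom)).op t) he
    have h3 : F.obj.map (tr e' : Over.mk (m'.left ≫ p₁.str.hom) ⟶
        Over.mk (n'.left ≫ p₂.str.hom)).op (F.obj.map (tr e.symm).op (sigMap g F.obj m' p₁).sec) =
        (sigMap g F.obj m' p₁).sec := by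
      refine (map_map F.obj _ _ _).trans ?_
      refine (map_eq F.obj (f' := 𝟙 _) ?_ _).trans (map_id' F.obj _)
      ext
      simp
    refine (h3.symm.trans h2).trans ?_
    refine (map_map F.obj _ _ _).trans (map_eq F.obj ?_ _)
    ext
    simp
  lift := by
    intro W p q hpq
    have hp : p.left ≫ p₁.str.hom = W.hom := Over.w p
    have hq : q.left ≫ p₂.str.hom = W.hom := Over.w q
    have hsig : sigMap g F.obj (iota p₁.str p) p₁ = sigMap g F.obj (iota p₂.str q) p₂ := by
      refine sig_ext (hp.trans hq.symm) ?_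
      refine (map_map F.obj _ _ _).trans ?_
      have h3 := congrArg (fun t => F.obj.map (tr hq : Over.mk (q.left ≫ p₂.str.hom) ⟶ W).op t)
        hpq
      refine (map_eq F.obj (f' := tr hq ≫ p) ?_ _).trans ?_
      · ext
        simp [sigMap]
      refine (map_map F.obj _ _ _).symm.trans (h3.trans ?_)
      refine (map_map F.obj _ _ _).trans (map_eq F.obj ?_ _)
      ext
      simp [sigMap]
    obtain ⟨r', hr1, hr2⟩ := h.lift (iota p₁.str p) (iota p₂.str q) hsig
    have hr1' : r'.left ≫ m'.left = p.left := by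
      have := congrArg (fun t => t.left) hr1
      simpa using this
    have hr2' : r'.left ≫ n'.left = q.left := by
      have := congrArg (fun t => t.left) hr2
      simpa using this
    have hw : r'.left ≫ m'.left ≫ p₁.str.hom = W.hom := by
      rw [← Category.assoc, hr1', hp]
    refine ⟨Over.homMk r'.left hw, ?_, ?_⟩
    · ext
      simpa using hr1'
    · ext
      simpa using hr2'
  uniq := by
    intro W r r' h1 h2
    have h1' : r.left ≫ m'.left = r'.left ≫ m'.left := by
      have := congrArg (fun t => t.left) h1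
      simpa using this
    have h2' : r.left ≫ n'.left = r'.left ≫ n'.left := by
      have := congrArg (fun t => t.left) h2
      simpa using this
    have hV : V'.hom = (m'.left ≫ p₁.str.hom) ≫ g := by
      rw [Category.assoc, p₁.str.w, Over.w]
    have hr : r.left ≫ m'.left ≫ p₁.str.hom = W.hom := Over.w r
    have hr' : r'.left ≫ m'.left ≫ p₁.str.hom = W.hom := Over.w r'
    let rt : Over.mk (W.hom ≫ g) ⟶ V' := Over.homMk r.left (by
      change r.left ≫ V'.hom = W.hom ≫ g
      rw [hV, ← Category.assoc, hr])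
    let rt' : Over.mk (W.hom ≫ g) ⟶ V' := Over.homMk r'.left (by
      change r'.left ≫ V'.hom = W.hom ≫ g
      rw [hV, ← Category.assoc, hr'])
    have h4 : rt = rt' := by
      refine h.uniq rt rt' ?_ ?_
      · ext
        simpa [rt, rt'] using h1'
      · ext
        simpa [rt, rt'] using h2'
    ext
    exact congrArg (fun t => t.left) h4

end Down

section Elem

variable {C : Type (u + 1)} [Category.{u} C] {J : GrothendieckTopology C} [J.Subcanonical]

/-- Any two sections of `G` over objects of the site have a fibre product in the site. -/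
def HasFibs (G : Sheaf J (Type (u + 1))) : Prop :=
  ∀ ⦃T U : C⦄ (α : G.obj.obj (op T)) (β : G.obj.obj (op U)),
    ∃ (V : C) (m : V ⟶ T) (n : V ⟶ U), IsFib α β m n

/-- The fibre products of the section `π` with all sections have second projection in `P`. -/
def IsAtl (P : MorphismProperty C) {G : Sheaf J (Type (u + 1))} {U₀ : C}
    (π : G.obj.obj (op U₀)) : Prop :=
  ∀ ⦃U : C⦄ (β : G.obj.obj (op U)),
    ∃ (V : C) (m : V ⟶ U₀) (n : V ⟶ U), IsFib π β m n ∧ P n

theorem relRep_iff {T : C} {G : Sheaf J (Type (u + 1))} (f : (y J).obj T ⟶ G) :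
    (y J).relativelyRepresentable f ↔
      ∀ ⦃U : C⦄ (β : G.obj.obj (op U)), ∃ (V : C) (m : V ⟶ T) (n : V ⟶ U),
        IsFib (yEquiv f) β m n := by
  constructor
  · intro h U β
    obtain ⟨V, n, fst, hpb⟩ := h (yEquiv.symm β)
    obtain ⟨m, rfl⟩ := (y J).map_surjective fst
    refine ⟨V, m, n, isFib_of_isPullback ?_⟩
    rw [yEquiv.symm_apply_apply]
    exact hpb
  · intro h U b
    obtain ⟨V, m, n, hfib⟩ := h (yEquiv b)
    refine ⟨V, n, (y J).map m, ?_⟩
    have := isPullback_of_isFib hfib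
    rwa [yEquiv.symm_apply_apply, yEquiv.symm_apply_apply] at this

theorem relative_iff_isAtl (P : MorphismProperty C) [P.RespectsIso] {T : C}
    {G : Sheaf J (Type (u + 1))} (f : (y J).obj T ⟶ G) :
    P.relative (y J) f ↔ IsAtl P (yEquiv f) := by
  constructor
  · intro h U β
    obtain ⟨V, m, n, hfib⟩ := (relRep_iff f).1 h.rep β
    refine ⟨V, m, n, hfib, h.property (yEquiv.symm β) ((y J).map m) n ?_⟩
    have := isPullback_of_isFib hfib
    rwa [yEquiv.symm_apply_apply] at this
  · intro h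
    refine MorphismProperty.relative.of_exists ?_
    intro U b
    obtain ⟨V, m, n, hfib, hP⟩ := h (yEquiv b)
    refine ⟨V, (y J).map m, n, ?_, hP⟩
    have := isPullback_of_isFib hfib
    rwa [yEquiv.symm_apply_apply, yEquiv.symm_apply_apply] at this

end Elem

section Transfer

variable {F : Sheaf (L.over S) (Type (u + 1))} (Q : MorphismProperty ℰ)

theorem exists_isFib_sig_iff {T' U' : Over S'} (p₁ : SigObj g F.obj T') (p₂ : SigObj g F.obj U') :
    (∃ (V' : Over S') (m' : V' ⟶ T') (n' : V' ⟶ U'),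
      IsFib (G := (sigSh g L).obj F) p₁ p₂ m' n' ∧ Q n'.left) ↔
    (∃ (V : Over S) (m : V ⟶ Over.mk p₁.str.hom) (n : V ⟶ Over.mk p₂.str.hom),
      IsFib (G := F) p₁.sec p₂.sec m n ∧ Q n.left) := by
  constructor
  · rintro ⟨V', m', n', h, hQ⟩
    exact ⟨_, _, _, isFib_down L h, hQ⟩
  · rintro ⟨V, m, n, h, hQ⟩
    exact ⟨_, _, _, isFib_up L h, hQ⟩

theorem hasFibs_sig_iff : HasFibs ((sigSh g L).obj F) ↔ HasFibs F := by
  constructor
  · intro h T U x₁ x₂
    let p₁ : SigObj g F.obj ((Over.map g).obj T) := ⟨Str.taut T, x₁⟩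
    let p₂ : SigObj g F.obj ((Over.map g).obj U) := ⟨Str.taut U, x₂⟩
    obtain ⟨V', m', n', hfib⟩ := h (T := (Over.map g).obj T) (U := (Over.map g).obj U) p₁ p₂
    obtain ⟨V, m, n, hfib', -⟩ := (exists_isFib_sig_iff L ⊤ p₁ p₂).1 ⟨V', m', n', hfib, trivial⟩
    exact ⟨V, m, n, hfib'⟩
  · intro h T' U' p₁ p₂
    obtain ⟨V, m, n, hfib⟩ := h p₁.sec p₂.sec
    obtain ⟨V', m', n', hfib', -⟩ := (exists_isFib_sig_iff L ⊤ p₁ p₂).2 ⟨V, m, n, hfib, trivial⟩
    exact ⟨V', m', n', hfib'⟩

theorem isAtl_sig_iff {U₀' : Over S'} (π' : SigObj g F.obj U₀') :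
    IsAtl (Q.inverseImage (Over.forget S')) (G := (sigSh g L).obj F) π' ↔
      IsAtl (Q.inverseImage (Over.forget S)) (G := F) π'.sec := by
  constructor
  · intro h U β
    let p₂ : SigObj g F.obj ((Over.map g).obj U) := ⟨Str.taut U, β⟩
    obtain ⟨V', m', n', hfib, hQ⟩ := h (U := (Over.map g).obj U) p₂
    exact (exists_isFib_sig_iff L Q π' p₂).1 ⟨V', m', n', hfib, hQ⟩
  · intro h U' p₂
    obtain ⟨V, m, n, hfib, hQ⟩ := h p₂.sec
    exact (exists_isFib_sig_iff L Q π' p₂).2 ⟨V, m, n, hfib, hQ⟩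


variable (S) in
/-- The element-level form of the definition of an algebraic space: fibre products of sections
exist, and some section has all its fibre products with second projection in `Q₁` and `Q₂`. -/
structure IsAlgEl (Q₁ Q₂ : MorphismProperty ℰ) (F : Sheaf (L.over S) (Type (u + 1))) : Prop where
  fibs : HasFibs F
  atlas : ∃ (U₀ : Over S) (π : F.obj.obj (op U₀)),
    IsAtl (Q₁.inverseImage (Over.forget S)) (G := F) π ∧
      IsAtl (Q₂.inverseImage (Over.forget S)) (G := F) π

theorem isAlgEl_sig_iff (Q₁ Q₂ : MorphismProperty ℰ) :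
    IsAlgEl S' L Q₁ Q₂ ((sigSh g L).obj F) ↔ IsAlgEl S L Q₁ Q₂ F := by
  constructor
  · rintro ⟨h1, U₀', π', h2, h3⟩
    exact ⟨(hasFibs_sig_iff L).1 h1, Over.mk π'.str.hom, π'.sec,
      (isAtl_sig_iff L Q₁ π').1 h2, (isAtl_sig_iff L Q₂ π').1 h3⟩
  · rintro ⟨h1, U₀, π, h2, h3⟩
    let π' : SigObj g F.obj ((Over.map g).obj U₀) := ⟨Str.taut U₀, π⟩
    exact ⟨(hasFibs_sig_iff L).2 h1, (Over.map g).obj U₀, π',
      (isAtl_sig_iff L Q₁ π').2 h2, (isAtl_sig_iff L Q₂ π').2 h3⟩

end Transfer

end Groth.Agent.H1.Slice
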