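import Groth.Agent.Lib.Helper1.SliceD
import Groth.Prelude.Def_AlgSp

/-!
# Algebraic spaces in terms of sections (helper1)
-/

set_option autoImplicit false
universe u

namespace Groth.Agent.H1.Slice

open CategoryTheory CategoryTheory.Limits AlgebraicGeometry Opposite

variable {S : Scheme.{u}}

theorem diag_iff_hasFibs (F : AlgSp.Sp S) :
    AlgSp.Representable (Limits.diag F) ↔ HasFibs (J := Scheme.fppfTopology.over S) F := by
  refine (Functor.relativelyRepresentable.diag_iff (F := AlgSp.yon S) (X := F)).trans ?_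
  constructor
  · intro h T U α β
    have h1 := (relRep_iff (J := Scheme.fppfTopology.over S) (yEquiv.symm α)).1 (h _) β
    rwa [yEquiv.apply_symm_apply] at h1
  · intro h T f
    exact (relRep_iff (J := Scheme.fppfTopology.over S) f).2 (fun U β => h _ β)

theorem repWith_iff_isAtl (Q : MorphismProperty Scheme.{u}) [Q.IsStableUnderBaseChange]
    {F : AlgSp.Sp S} {T : Over S} (f : (AlgSp.yon S).obj T ⟶ F) :
    AlgSp.RepWith Q f ↔
      IsAtl (J := Scheme.fppfTopology.over S) (Q.inverseImage (Over.forget S)) (yEquiv f) :=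
  relative_iff_isAtl (J := Scheme.fppfTopology.over S) _ f

theorem isAlgSpace_iff (F : AlgSp.Sp S) :
    AlgSp.IsAlgSpace F ↔ IsAlgEl S Scheme.fppfTopology @Etale @Surjective F := by
  constructor
  · rintro ⟨h1, U₀, p, h2, h3⟩
    exact ⟨(diag_iff_hasFibs F).1 h1, U₀, yEquiv p, (repWith_iff_isAtl _ p).1 h2,
      (repWith_iff_isAtl _ p).1 h3⟩
  · rintro ⟨h1, U₀, π, h2, h3⟩
    refine ⟨(diag_iff_hasFibs F).2 h1, U₀, yEquiv.symm π, ?_, ?_⟩
    · rw [repWith_iff_isAtl, yEquiv.apply_symm_apply]
      exact h2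
    · rw [repWith_iff_isAtl, yEquiv.apply_symm_apply]
      exact h3

end Groth.Agent.H1.Slice
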