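import Groth.Agent.Lib.Helper1.SliceD

/-!
# The extension of a representable sheaf (helper1)
-/

set_option autoImplicit false
universe u

namespace Groth.Agent.H1.Slice

open CategoryTheory CategoryTheory.Limits Opposite

variable {ℰ : Type (u + 1)} [Category.{u} ℰ] {S S' : ℰ} (g : S ⟶ S')
  (L : GrothendieckTopology ℰ) [L.Subcanonical]

lemma yObj_map {X T T₂ : Over S} (k : T₂ ⟶ T) (a : T ⟶ X) :
    ((y (L.over S)).obj X).obj.map k.op (ULift.up a) = ULift.up (k ≫ a) := rfl

/-- The extension of the sheaf represented by `X` is represented by the image of `X`. -/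
def sigYonRep (X : Over S) :
    ((sigSh g L).obj ((y (L.over S)).obj X)).obj.RepresentableBy ((Over.map g).obj X) where
  homEquiv {U'} :=
    { toFun := fun b =>
        (⟨⟨b.left ≫ X.hom, by
            have := Over.w b
            simpa using this⟩, ULift.up (Over.homMk b.left rfl)⟩ :
          SigObj g ((y (L.over S)).obj X).obj U')
      invFun := fun p => Over.homMk p.sec.down.left (by
        have h1 : p.sec.down.left ≫ X.hom = p.str.hom := Over.w p.sec.down
        change p.sec.down.left ≫ X.hom ≫ g = U'.hom
        rw [← Category.assoc, h1, p.str.w])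
      left_inv := by
        intro b
        ext
        rfl
      right_inv := by
        intro p
        have h1 : p.sec.down.left ≫ X.hom = p.str.hom := Over.w p.sec.down
        refine sig_ext h1 ?_
        obtain ⟨ψ, ⟨a⟩⟩ := p
        refine (yObj_map L _ _).trans (congrArg ULift.up ?_)
        ext
        simp }
  homEquiv_comp := by
    intro U' V' f b
    change _ = sigMap g _ f _
    refine sig_ext (by simp [sigMap]) ?_
    refine (yObj_map L _ _).trans ?_
    refine Eq.trans (congrArg ULift.up ?_) (yObj_map L _ _).symm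
    ext
    simp


/-- The isomorphism between the sheaf represented by the image of `X` and the extension of the
sheaf represented by `X`. -/
noncomputable def sigYonIso (X : Over S) :
    (y (L.over S')).obj ((Over.map g).obj X) ≅ (sigSh g L).obj ((y (L.over S)).obj X) :=
  (fullyFaithfulSheafToPresheaf _ _).preimageIso
    ((Functor.RepresentableBy.equivUliftYonedaIso _ _) (sigYonRep g L X))

lemma yEquiv_sigYonIso_hom (X : Over S) :
    yEquiv (sigYonIso g L X).hom =
      (⟨Str.taut X, ULift.up (𝟙 X)⟩ : SigObj g ((y (L.over S)).obj X).obj ((Over.map g).obj X)) := by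
  have h1 : yEquiv (sigYonIso g L X).hom = (sigYonRep g L X).homEquiv (𝟙 _) := rfl
  rw [h1]
  refine sig_ext (Category.id_comp _) ?_
  refine (yObj_map L _ _).trans (congrArg ULift.up ?_)
  ext
  simp [sigYonRep, Str.taut]

lemma yEquiv_comp {C : Type (u + 1)} [Category.{u} C] {J : GrothendieckTopology C}
    [J.Subcanonical] {X : C} {F G : Sheaf J (Type (u + 1))} (a : (y J).obj X ⟶ F) (φ : F ⟶ G) :
    yEquiv (a ≫ φ) = φ.hom.app (op X) (yEquiv a) := rfl

lemma yEquiv_sigYonIso_hom_comp (X : Over S) {F : Sheaf (L.over S) (Type (u + 1))}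
    (f : (y (L.over S)).obj X ⟶ F) :
    yEquiv ((sigYonIso g L X).hom ≫ (sigSh g L).map f) =
      (⟨Str.taut X, yEquiv f⟩ : SigObj g F.obj ((Over.map g).obj X)) := by
  rw [yEquiv_comp, yEquiv_sigYonIso_hom]
  rfl

end Groth.Agent.H1.Slice
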