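import Groth.Agent.Lib.Helper1.SliceD

/-!
# The extension of a restriction is a product (helper1)
-/

set_option autoImplicit false
universe u

namespace Groth.Agent.H1.Slice

open CategoryTheory CategoryTheory.Limits Opposite

variable {ℰ : Type (u + 1)} [Category.{u} ℰ] {S S' : ℰ} (g : S ⟶ S')
  (L : GrothendieckTopology ℰ) [L.Subcanonical]

/-- The structure morphism of the extension of a sheaf to the sheaf represented by `S`. -/
def sigStr (F : Sheaf (L.over S) (Type (u + 1))) :
    (sigSh g L).obj F ⟶ (y (L.over S')).obj (Over.mk g) :=
  ObjectProperty.homMk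
    { app := fun U' => ↾fun p : SigObj g F.obj U'.unop =>
        ULift.up (Over.homMk p.str.hom p.str.w : U'.unop ⟶ Over.mk g)
      naturality := by
        intro U' V' a
        ext (p : SigObj g F.obj U'.unop)
        change ULift.up _ = ULift.up (a.unop ≫ _)
        refine congrArg ULift.up ?_
        ext
        rfl }

lemma sigStr_app (F : Sheaf (L.over S) (Type (u + 1))) {U' : Over S'} (p : SigObj g F.obj U') :
    (sigStr g L F).hom.app (op U') p =
      ULift.up (Over.homMk p.str.hom p.str.w : U' ⟶ Over.mk g) := rfl

variable {g}

/-- The lift of the structure morphism attached to a morphism to `S` over `S'`. -/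
def strOf {U' : Over S'} (c : U' ⟶ Over.mk g) : Str g U' := ⟨c.left, Over.w c⟩

@[simp]
lemma strOf_hom {U' : Over S'} (c : U' ⟶ Over.mk g) : (strOf c).hom = c.left := rfl

/-- The inverse of `cmp`. -/
def cmpInv {U' : Over S'} (ψ : Str g U') : (Over.map g).obj (Over.mk ψ.hom) ⟶ U' :=
  Over.homMk (𝟙 _) (by simp [ψ.w])

@[simp]
lemma cmpInv_left {U' : Over S'} (ψ : Str g U') : (cmpInv ψ).left = 𝟙 _ := rfl

variable (g)

section Prod

variable (G : Sheaf (L.over S') (Type (u + 1)))

lemma res_map {T T₂ : Over S} (k : T₂ ⟶ T) (x : G.obj.obj (op ((Over.map g).obj T))) :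
    ((resSh g L).obj G).obj.map k.op x = G.obj.map ((Over.map g).map k).op x := rfl

variable {G} {g}

lemma hS_nat {T : Sheaf (L.over S') (Type (u + 1))} (a : T ⟶ (y (L.over S')).obj (Over.mk g))
    {U' V' : Over S'} (k : V' ⟶ U') (t : T.obj.obj (op U')) :
    (a.hom.app (op V') (T.obj.map k.op t)).down = k ≫ (a.hom.app (op U') t).down := by
  have h := ConcreteCategory.congr_hom (a.hom.naturality k.op) t
  exact congrArg ULift.down h

lemma G_nat {T : Sheaf (L.over S') (Type (u + 1))} (b : T ⟶ G)
    {U' V' : Over S'} (k : V' ⟶ U') (t : T.obj.obj (op U')) :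
    b.hom.app (op V') (T.obj.map k.op t) = G.obj.map k.op (b.hom.app (op U') t) :=
  ConcreteCategory.congr_hom (b.hom.naturality k.op) t

/-- The morphism to the extension of the restriction determined by morphisms to the two
factors. -/
def prodLift {T : Sheaf (L.over S') (Type (u + 1))} (a : T ⟶ (y (L.over S')).obj (Over.mk g))
    (b : T ⟶ G) : T ⟶ (sigSh g L).obj ((resSh g L).obj G) :=
  ObjectProperty.homMk
    { app := fun U' => ↾fun t : T.obj.obj U' =>
        (⟨strOf (a.hom.app U' t).down,
          G.obj.map (cmpInv (strOf (a.hom.app U' t).down)).op (b.hom.app U' t)⟩ :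
          SigObj g ((resSh g L).obj G).obj U'.unop)
      naturality := by
        intro U' V' k
        ext (t : T.obj.obj U')
        change (⟨strOf (a.hom.app V' (T.obj.map k t)).down,
          G.obj.map (cmpInv (strOf (a.hom.app V' (T.obj.map k t)).down)).op
            (b.hom.app V' (T.obj.map k t))⟩ : SigObj g ((resSh g L).obj G).obj V'.unop) =
          sigMap g ((resSh g L).obj G).obj k.unop ⟨strOf (a.hom.app U' t).down,
            G.obj.map (cmpInv (strOf (a.hom.app U' t).down)).op (b.hom.app U' t)⟩
        have h1 := hS_nat L a k.unop t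
        have h2 := G_nat L b k.unop t
        have h3 : (a.hom.app V' (T.obj.map k t)).down.left =
            k.unop.left ≫ (a.hom.app U' t).down.left := by
          have := congrArg (fun c => c.left) h1
          simpa using this
        refine sig_ext h3 ?_
        · change G.obj.map ((Over.map g).map (tr h3.symm)).op (G.obj.map _ (b.hom.app V' (T.obj.map k t))) =
            G.obj.map ((Over.map g).map _).op (G.obj.map _ (b.hom.app U' t))
          have h2' : b.hom.app V' (T.obj.map k t) = G.obj.map k.unop.op (b.hom.app U' t) := h2
          rw [h2']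
          refine (gmap_map G.obj _ _ _).trans ?_
          refine (gmap_map G.obj _ _ _).trans ?_
          refine Eq.trans ?_ (gmap_map G.obj _ _ _).symm
          refine gmap_eq G.obj ?_ _
          ext
          simp }

lemma prodLift_app {T : Sheaf (L.over S') (Type (u + 1))}
    (a : T ⟶ (y (L.over S')).obj (Over.mk g)) (b : T ⟶ G) {U' : Over S'} (t : T.obj.obj (op U')) :
    (prodLift L a b).hom.app (op U') t =
      (⟨strOf (a.hom.app (op U') t).down,
        G.obj.map (cmpInv (strOf (a.hom.app (op U') t).down)).op (b.hom.app (op U') t)⟩ :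
        SigObj g ((resSh g L).obj G).obj U') := rfl

variable (g G)

/-- The extension of the restriction of `G` is the product of `G` with the sheaf represented by
`S`. -/
def sigResIsLimit :
    IsLimit (BinaryFan.mk (sigStr g L ((resSh g L).obj G)) (sigCounit g L G)) :=
  BinaryFan.IsLimit.mk _ (fun a b => prodLift L a b)
    (by
      intro T a b
      apply Sheaf.hom_ext
      ext U' (t : T.obj.obj U')
      change ULift.up _ = ULift.up (a.hom.app U' t).down
      refine congrArg ULift.up ?_
      exact Over.OverMorphism.ext rfl)
    (by
      intro T a b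
      apply Sheaf.hom_ext
      ext U' (t : T.obj.obj U')
      change G.obj.map (cmp _).op (G.obj.map (cmpInv _).op (b.hom.app U' t)) = b.hom.app U' t
      refine (gmap_map G.obj _ _ _).trans ?_
      refine (gmap_eq G.obj (f' := 𝟙 _) ?_ _).trans (gmap_id G.obj _)
      ext
      simp)
    (by
      intro T a b m h1 h2
      apply Sheaf.hom_ext
      ext U' (t : T.obj.obj U')
      obtain ⟨U'⟩ := U'
      change m.hom.app (op U') t = (prodLift L a b).hom.app (op U') t
      rw [prodLift_app]
      have h1' : (sigStr g L ((resSh g L).obj G)).hom.app (op U') (m.hom.app (op U') t) =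
          a.hom.app (op U') t := by
        rw [← h1]
        rfl
      have h2' : (sigCounit g L G).hom.app (op U') (m.hom.app (op U') t) =
          b.hom.app (op U') t := by
        rw [← h2]
        rfl
      rw [sigStr_app] at h1'
      rw [sigCounit_app] at h2'
      have h3 : (m.hom.app (op U') t).str.hom = (a.hom.app (op U') t).down.left := by
        have := congrArg (fun c => c.down.left) h1'
        simpa using this
      refine sig_ext h3 ?_
      rw [← h2']
      change G.obj.map ((Over.map g).map (tr h3.symm)).op _ = _
      refine Eq.trans ?_ (gmap_map G.obj _ _ _).symm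
      refine gmap_eq G.obj ?_ _
      ext
      simp)

end Prod

end Groth.Agent.H1.Slice
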