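import Groth.Agent.Lib.Helper1.SliceD

/-!
# The restriction of an algebraic space along a localization morphism (helper1)
-/

set_option autoImplicit false
universe u

namespace Groth.Agent.H1.Slice

open CategoryTheory CategoryTheory.Limits Opposite

variable {ℰ : Type (u + 1)} [Category.{u} ℰ] {S S' : ℰ} (g : S ⟶ S')
  (L : GrothendieckTopology ℰ) [L.Subcanonical]

section Rep

variable [HasPullbacks ℰ]

/-- The restriction of the sheaf represented by `X'` is represented by the base change of
`X'`. -/
noncomputable def resYonRep (X' : Over S') :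
    ((resSh g L).obj ((y (L.over S')).obj X')).obj.RepresentableBy
      (Over.mk (pullback.snd X'.hom g)) where
  homEquiv {T} :=
    { toFun := fun a => ULift.up (Over.homMk (a.left ≫ pullback.fst X'.hom g) (by
        have h1 : a.left ≫ pullback.snd X'.hom g = T.hom := Over.w a
        change (a.left ≫ pullback.fst X'.hom g) ≫ X'.hom = T.hom ≫ g
        rw [Category.assoc, pullback.condition, ← Category.assoc, h1]) :
          (Over.map g).obj T ⟶ X')
      invFun := fun b => Over.homMk (pullback.lift b.down.left T.hom (Over.w b.down))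
        (pullback.lift_snd _ _ _)
      left_inv := by
        intro a
        have h1 : a.left ≫ pullback.snd X'.hom g = T.hom := Over.w a
        ext
        apply pullback.hom_ext
        · exact pullback.lift_fst _ _ _
        · exact (pullback.lift_snd _ _ _).trans h1.symm
      right_inv := by
        intro b
        refine congrArg ULift.up (?_ : _ = b.down)
        exact Over.OverMorphism.ext (pullback.lift_fst _ _ _) }
  homEquiv_comp := by
    intro T T₂ f a
    change ULift.up _ = ULift.up ((Over.map g).map f ≫ _)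
    refine congrArg ULift.up ?_
    ext
    simp

end Rep

section Fibs

variable [HasEqualizers ℰ] {G : Sheaf (L.over S') (Type (u + 1))}

variable {g} in
/-- The fibre product of two sections of the restriction, from a fibre product of the sections
over `S'`. -/
theorem isFib_res {T U : Over S} {x₁ : G.obj.obj (op ((Over.map g).obj T))}
    {x₂ : G.obj.obj (op ((Over.map g).obj U))} {V' : Over S'} {m' : V' ⟶ (Over.map g).obj T}
    {n' : V' ⟶ (Over.map g).obj U} (h : IsFib (G := G) x₁ x₂ m' n') :
    ∃ (V : Over S) (m : V ⟶ T) (n : V ⟶ U), IsFib (G := (resSh g L).obj G) x₁ x₂ m n := by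
  let a : V'.left ⟶ S := m'.left ≫ T.hom
  let b : V'.left ⟶ S := n'.left ≫ U.hom
  let e : equalizer a b ⟶ V'.left := equalizer.ι a b
  have he : e ≫ a = e ≫ b := equalizer.condition a b
  have hV1 : V'.hom = a ≫ g := by
    have := Over.w m'
    simpa [a] using this.symm
  have hV2 : V'.hom = b ≫ g := by
    have := Over.w n'
    simpa [b] using this.symm
  let V : Over S := Over.mk (e ≫ a)
  let m : V ⟶ T := Over.homMk (e ≫ m'.left) (by simp [V, a])
  let n : V ⟶ U := Over.homMk (e ≫ n'.left) (by
    change (e ≫ n'.left) ≫ U.hom = e ≫ a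
    rw [he]
    simp [b])
  let E' : (Over.map g).obj V ⟶ V' := Over.homMk e (by
    change e ≫ V'.hom = (e ≫ a) ≫ g
    rw [hV1]
    simp [a])
  have hm : (Over.map g).map m = E' ≫ m' := by
    ext
    simp [m, E']
  have hn : (Over.map g).map n = E' ≫ n' := by
    ext
    simp [n, E']
  refine ⟨V, m, n, ?_, ?_, ?_⟩
  · change G.obj.map ((Over.map g).map m).op x₁ = G.obj.map ((Over.map g).map n).op x₂
    rw [hm, hn]
    refine (gmap_map G.obj _ _ _).symm.trans ?_
    refine Eq.trans ?_ (gmap_map G.obj _ _ _)
    exact congrArg (fun t => G.obj.map E'.op t) h.comm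
  · intro W p q hpq
    have hpq' : G.obj.map ((Over.map g).map p).op x₁ = G.obj.map ((Over.map g).map q).op x₂ := hpq
    obtain ⟨r', hr1, hr2⟩ := h.lift _ _ hpq'
    have hr1' : r'.left ≫ m'.left = p.left := by
      have := congrArg (fun t => t.left) hr1
      simpa using this
    have hr2' : r'.left ≫ n'.left = q.left := by
      have := congrArg (fun t => t.left) hr2
      simpa using this
    have hpa : r'.left ≫ a = W.hom := by
      change r'.left ≫ m'.left ≫ T.hom = W.hom
      rw [← Category.assoc, hr1']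
      exact Over.w p
    have hpb : r'.left ≫ b = W.hom := by
      change r'.left ≫ n'.left ≫ U.hom = W.hom
      rw [← Category.assoc, hr2']
      exact Over.w q
    let r₀ : W.left ⟶ equalizer a b := equalizer.lift r'.left (hpa.trans hpb.symm)
    have hr₀ : r₀ ≫ e = r'.left := equalizer.lift_ι _ _
    refine ⟨Over.homMk r₀ (by
      change r₀ ≫ e ≫ a = W.hom
      rw [← Category.assoc, hr₀, hpa]), ?_, ?_⟩
    · ext
      change r₀ ≫ e ≫ m'.left = p.left
      rw [← Category.assoc, hr₀, hr1']
    · ext
      change r₀ ≫ e ≫ n'.left = q.left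
      rw [← Category.assoc, hr₀, hr2']
  · intro W r₁ r₂ h1 h2
    have h1' : (r₁.left ≫ e) ≫ m'.left = (r₂.left ≫ e) ≫ m'.left := by
      have := congrArg (fun t => t.left) h1
      simpa [m] using this
    have h2' : (r₁.left ≫ e) ≫ n'.left = (r₂.left ≫ e) ≫ n'.left := by
      have := congrArg (fun t => t.left) h2
      simpa [n] using this
    have hw₁ : r₁.left ≫ e ≫ a = W.hom := Over.w r₁
    have hw₂ : r₂.left ≫ e ≫ a = W.hom := Over.w r₂
    let R₁ : (Over.map g).obj W ⟶ V' := Over.homMk (r₁.left ≫ e) (by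
      change (r₁.left ≫ e) ≫ V'.hom = W.hom ≫ g
      rw [hV1, ← hw₁]
      simp)
    let R₂ : (Over.map g).obj W ⟶ V' := Over.homMk (r₂.left ≫ e) (by
      change (r₂.left ≫ e) ≫ V'.hom = W.hom ≫ g
      rw [hV1, ← hw₂]
      simp)
    have hR : R₁ = R₂ := by
      refine h.uniq R₁ R₂ ?_ ?_
      · ext
        simpa [R₁, R₂] using h1'
      · ext
        simpa [R₁, R₂] using h2'
    have h3 : r₁.left ≫ e = r₂.left ≫ e := congrArg (fun t => t.left) hR
    ext
    exact equalizer.hom_ext h3

theorem hasFibs_res (hG : HasFibs G) : HasFibs ((resSh g L).obj G) := by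
  intro T U x₁ x₂
  obtain ⟨V', m', n', hfib⟩ := hG (T := (Over.map g).obj T) (U := (Over.map g).obj U) x₁ x₂
  exact isFib_res L hfib

end Fibs

section Atlas

variable [HasPullbacks ℰ] {G : Sheaf (L.over S') (Type (u + 1))}

variable {g} in
/-- The projection from the base change of `U₀'`. -/
noncomputable def bcPr (U₀' : Over S') :
    (Over.map g).obj (Over.mk (pullback.snd U₀'.hom g)) ⟶ U₀' :=
  Over.homMk (pullback.fst U₀'.hom g) pullback.condition

theorem isAtl_res (Q : MorphismProperty ℰ) {U₀' : Over S'} {π' : G.obj.obj (op U₀')}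
    (h : IsAtl (Q.inverseImage (Over.forget S')) (G := G) π') :
    IsAtl (Q.inverseImage (Over.forget S)) (G := (resSh g L).obj G)
      (U₀ := Over.mk (pullback.snd U₀'.hom g)) (G.obj.map (bcPr (g := g) U₀').op π') := by
  intro U β
  obtain ⟨V', m', n', hfib, hQ⟩ := h (U := (Over.map g).obj U) β
  have hV : V'.hom = (n'.left ≫ U.hom) ≫ g := by
    have := Over.w n'
    simpa using this.symm
  let V : Over S := Over.mk (n'.left ≫ U.hom)
  let n : V ⟶ U := Over.homMk n'.left rfl
  let m₀ : V'.left ⟶ pullback U₀'.hom g := pullback.lift m'.left (n'.left ≫ U.hom) (by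
    rw [Over.w m', hV])
  let m : V ⟶ Over.mk (pullback.snd U₀'.hom g) := Over.homMk m₀ (pullback.lift_snd _ _ _)
  let c : (Over.map g).obj V ⟶ V' := Over.homMk (𝟙 _) (by
    change 𝟙 _ ≫ V'.hom = (n'.left ≫ U.hom) ≫ g
    rw [Category.id_comp, hV])
  have hm₀1 : m₀ ≫ pullback.fst U₀'.hom g = m'.left := pullback.lift_fst _ _ _
  have hm₀2 : m₀ ≫ pullback.snd U₀'.hom g = n'.left ≫ U.hom := pullback.lift_snd _ _ _
  have hm : (Over.map g).map m ≫ bcPr U₀' = c ≫ m' := by
    ext
    change m₀ ≫ pullback.fst U₀'.hom g = 𝟙 _ ≫ m'.left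
    rw [Category.id_comp]
    exact hm₀1
  have hn : (Over.map g).map n = c ≫ n' := by
    ext
    simp [n, c]
  refine ⟨V, m, n, ⟨?_, ?_, ?_⟩, hQ⟩
  · change G.obj.map ((Over.map g).map m).op (G.obj.map (bcPr U₀').op π') =
      G.obj.map ((Over.map g).map n).op β
    refine (gmap_map G.obj _ _ _).trans ?_
    rw [hm, hn]
    refine (gmap_map G.obj _ _ _).symm.trans ?_
    refine Eq.trans ?_ (gmap_map G.obj _ _ _)
    exact congrArg (fun t => G.obj.map c.op t) hfib.comm
  · intro W p q hpq
    have hpq' : G.obj.map ((Over.map g).map p ≫ bcPr U₀').op π' =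
        G.obj.map ((Over.map g).map q).op β :=
      (gmap_map G.obj _ _ _).symm.trans hpq
    obtain ⟨r', hr1, hr2⟩ := hfib.lift _ _ hpq'
    have hr1' : r'.left ≫ m'.left = p.left ≫ pullback.fst U₀'.hom g := by
      have := congrArg (fun t => t.left) hr1
      simpa [bcPr] using this
    have hr2' : r'.left ≫ n'.left = q.left := by
      have := congrArg (fun t => t.left) hr2
      simpa using this
    have hw : r'.left ≫ n'.left ≫ U.hom = W.hom := by
      rw [← Category.assoc, hr2']
      exact Over.w q
    refine ⟨Over.homMk r'.left hw, ?_, ?_⟩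
    · ext
      change r'.left ≫ m₀ = p.left
      apply pullback.hom_ext
      · rw [Category.assoc, hm₀1]
        exact hr1'
      · have h1 : p.left ≫ pullback.snd U₀'.hom g = W.hom := Over.w p
        rw [Category.assoc, hm₀2, h1]
        exact hw
    · ext
      exact hr2'
  · intro W r₁ r₂ h1 h2
    have h1' : r₁.left ≫ m₀ = r₂.left ≫ m₀ := by
      have := congrArg (fun t => t.left) h1
      simpa [m] using this
    have h2' : r₁.left ≫ n'.left = r₂.left ≫ n'.left := by
      have := congrArg (fun t => t.left) h2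
      simpa [n] using this
    have hw₁ : r₁.left ≫ n'.left ≫ U.hom = W.hom := Over.w r₁
    have hw₂ : r₂.left ≫ n'.left ≫ U.hom = W.hom := Over.w r₂
    let R₁ : (Over.map g).obj W ⟶ V' := Over.homMk r₁.left (by
      change r₁.left ≫ V'.hom = W.hom ≫ g
      rw [hV, ← hw₁]
      simp)
    let R₂ : (Over.map g).obj W ⟶ V' := Over.homMk r₂.left (by
      change r₂.left ≫ V'.hom = W.hom ≫ g
      rw [hV, ← hw₂]
      simp)
    have hR : R₁ = R₂ := by
      refine hfib.uniq R₁ R₂ ?_ ?_
      · ext
        have h3 : (r₁.left ≫ m₀) ≫ pullback.fst U₀'.hom g =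
            (r₂.left ≫ m₀) ≫ pullback.fst U₀'.hom g :=
          congrArg (fun t => t ≫ pullback.fst U₀'.hom g) h1'
        rw [Category.assoc, Category.assoc, hm₀1] at h3
        exact h3
      · ext
        simpa [R₁, R₂] using h2'
    ext
    exact congrArg (fun t => t.left) hR

end Atlas

theorem isAlgEl_res [HasPullbacks ℰ] [HasEqualizers ℰ] (Q₁ Q₂ : MorphismProperty ℰ)
    {G : Sheaf (L.over S') (Type (u + 1))} (hG : IsAlgEl S' L Q₁ Q₂ G) :
    IsAlgEl S L Q₁ Q₂ ((resSh g L).obj G) := by
  obtain ⟨h1, U₀', π', h2, h3⟩ := hG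
  exact ⟨hasFibs_res g L h1, _, _, isAtl_res g L Q₁ h2, isAtl_res g L Q₂ h3⟩

end Groth.Agent.H1.Slice
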