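import Groth.Agent.Lib.Helper1.SliceG

/-!
# The extension functor is fully faithful onto sheaves over the sheaf represented by `S` (helper1)
-/

set_option autoImplicit false
universe u

namespace Groth.Agent.H1.Slice

open CategoryTheory CategoryTheory.Limits Opposite

variable {ℰ : Type (u + 1)} [Category.{u} ℰ] {S S' : ℰ} (g : S ⟶ S')
  (L : GrothendieckTopology ℰ) [L.Subcanonical]

section FF

variable {F G : Sheaf (L.over S) (Type (u + 1))}

lemma sigSh_map_app (α : F ⟶ G) {U' : Over S'} (p : SigObj g F.obj U') :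
    ((sigSh g L).map α).hom.app (op U') p =
      (⟨p.str, α.hom.app _ p.sec⟩ : SigObj g G.obj U') := rfl

@[reassoc]
lemma sigSh_map_sigStr (α : F ⟶ G) : (sigSh g L).map α ≫ sigStr g L G = sigStr g L F := by
  apply Sheaf.hom_ext
  ext U' (p : SigObj g F.obj U'.unop)
  rfl

variable {g} in
omit [L.Subcanonical] in
lemma sec_eq_of_eq {T : Over S} {x y : F.obj.obj (op T)}
    (h : (⟨Str.taut T, x⟩ : SigObj g F.obj ((Over.map g).obj T)) = ⟨Str.taut T, y⟩) : x = y := by
  obtain ⟨e, he⟩ := sig_ext_iff.1 h
  have h2 : F.obj.map (tr (rfl : T.hom = T.hom)).op x = x := by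
    rw [tr_rfl]
    exact map_id' F.obj x
  exact h2.symm.trans he

theorem sigSh_map_injective {α β : F ⟶ G} (h : (sigSh g L).map α = (sigSh g L).map β) :
    α = β := by
  apply Sheaf.hom_ext
  ext T x
  obtain ⟨T⟩ := T
  have h1 := congrArg (fun t => t.hom.app (op ((Over.map g).obj T))
    (⟨Str.taut T, x⟩ : SigObj g F.obj ((Over.map g).obj T))) h
  exact sec_eq_of_eq L h1

variable {g} in
omit [L.Subcanonical] in
/-- Every section of the extension is the restriction of a tautological one. -/
lemma sig_eq_map_taut {U' : Over S'} (p : SigObj g F.obj U') :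
    p = sigMap g F.obj (cmp p.str) ⟨Str.taut (Over.mk p.str.hom), p.sec⟩ := by
  symm
  refine sig_ext ?_ ?_
  · simp [sigMap, Str.taut]
  · refine (map_map F.obj _ _ _).trans ?_
    refine (map_eq F.obj (f' := 𝟙 _) ?_ _).trans (map_id' F.obj _)
    ext
    simp

variable {g} in
lemma str_hom_of_comm (φ : (sigSh g L).obj F ⟶ (sigSh g L).obj G)
    (hφ : φ ≫ sigStr g L G = sigStr g L F) {U' : Over S'} (p : SigObj g F.obj U') :
    p.str.hom = (φ.hom.app (op U') p).str.hom := by
  have h1 := congrArg (fun t => t.hom.app (op U') p) hφ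
  have h2 : ULift.up (Over.homMk (φ.hom.app (op U') p).str.hom (φ.hom.app (op U') p).str.w :
      U' ⟶ Over.mk g) = ULift.up (Over.homMk p.str.hom p.str.w) := h1
  have h3 := congrArg (fun c => c.down.left) h2
  exact h3.symm

lemma phi_nat (φ : (sigSh g L).obj F ⟶ (sigSh g L).obj G) {U' V' : Over S'} (a : V' ⟶ U')
    (p : SigObj g F.obj U') :
    φ.hom.app (op V') (sigMap g F.obj a p) = sigMap g G.obj a (φ.hom.app (op U') p) :=
  ConcreteCategory.congr_hom (φ.hom.naturality a.op) p

/-- The preimage of a morphism between extensions compatible with the structure morphisms. -/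
def sigPreimage (φ : (sigSh g L).obj F ⟶ (sigSh g L).obj G)
    (hφ : φ ≫ sigStr g L G = sigStr g L F) : F ⟶ G :=
  ObjectProperty.homMk
    { app := fun T => ↾fun x : F.obj.obj T =>
        G.obj.map (tr (str_hom_of_comm L φ hφ
          (⟨Str.taut T.unop, x⟩ : SigObj g F.obj ((Over.map g).obj T.unop)))).op
          (φ.hom.app (op ((Over.map g).obj T.unop)) ⟨Str.taut T.unop, x⟩).sec
      naturality := by
        intro T T₂ k
        ext (x : F.obj.obj T)
        obtain ⟨T⟩ := T
        obtain ⟨T₂⟩ := T₂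
        have hk : k = k.unop.op := rfl
        generalize k.unop = k' at hk
        subst hk
        change G.obj.map (tr _).op
            (φ.hom.app (op ((Over.map g).obj T₂)) ⟨Str.taut T₂, F.obj.map k'.op x⟩).sec =
          G.obj.map k'.op (G.obj.map (tr _).op
            (φ.hom.app (op ((Over.map g).obj T)) ⟨Str.taut T, x⟩).sec)
        have h1 : (⟨Str.taut T₂, F.obj.map k'.op x⟩ : SigObj g F.obj ((Over.map g).obj T₂)) =
            sigMap g F.obj ((Over.map g).map k') ⟨Str.taut T, x⟩ :=
          ConcreteCategory.congr_hom ((sigUnit g L F).hom.naturality k'.op) x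
        have h2 : φ.hom.app (op ((Over.map g).obj T₂)) ⟨Str.taut T₂, F.obj.map k'.op x⟩ =
            sigMap g G.obj ((Over.map g).map k')
              (φ.hom.app (op ((Over.map g).obj T)) ⟨Str.taut T, x⟩) := by
          rw [h1]
          exact phi_nat g L φ _ _
        have hs := str_hom_of_comm L φ hφ
          (⟨Str.taut T, x⟩ : SigObj g F.obj ((Over.map g).obj T))
        refine (sec_of_eq h2 _ (tr (by
          rw [sigMap_str_hom, ← hs]
          exact (Over.w k').symm)) rfl).trans ?_
        refine (map_map G.obj _ _ _).trans ?_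
        refine Eq.trans ?_ (map_map G.obj _ _ _).symm
        refine map_eq G.obj ?_ _
        ext
        simp }

lemma sigPreimage_app (φ : (sigSh g L).obj F ⟶ (sigSh g L).obj G)
    (hφ : φ ≫ sigStr g L G = sigStr g L F) (T : Over S) (x : F.obj.obj (op T)) :
    (sigPreimage g L φ hφ).hom.app (op T) x =
      G.obj.map (tr (str_hom_of_comm L φ hφ
          (⟨Str.taut T, x⟩ : SigObj g F.obj ((Over.map g).obj T)))).op
          (φ.hom.app (op ((Over.map g).obj T)) ⟨Str.taut T, x⟩).sec := rfl

theorem sigSh_map_sigPreimage (φ : (sigSh g L).obj F ⟶ (sigSh g L).obj G)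
    (hφ : φ ≫ sigStr g L G = sigStr g L F) : (sigSh g L).map (sigPreimage g L φ hφ) = φ := by
  apply Sheaf.hom_ext
  ext U' (p : SigObj g F.obj U'.unop)
  obtain ⟨U'⟩ := U'
  change ((sigSh g L).map (sigPreimage g L φ hφ)).hom.app (op U') p = φ.hom.app (op U') p
  rw [sigSh_map_app, sigPreimage_app]
  have h1 := sig_eq_map_taut L p
  have h2 : φ.hom.app (op U') p = sigMap g G.obj (cmp p.str)
      (φ.hom.app (op ((Over.map g).obj (Over.mk p.str.hom)))
        ⟨Str.taut (Over.mk p.str.hom), p.sec⟩) := by
    conv_lhs => rw [h1]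
    exact phi_nat g L φ _ _
  have hs := str_hom_of_comm L φ hφ
    (⟨Str.taut (Over.mk p.str.hom), p.sec⟩ :
      SigObj g F.obj ((Over.map g).obj (Over.mk p.str.hom)))
  have hs' : p.str.hom = (φ.hom.app (op ((Over.map g).obj (Over.mk p.str.hom)))
      ⟨Str.taut (Over.mk p.str.hom), p.sec⟩).str.hom := hs
  rw [h2]
  refine sig_ext ?_ ?_
  · change p.str.hom = 𝟙 _ ≫ _
    exact hs'.trans (Category.id_comp _).symm
  · refine (map_map G.obj _ _ _).trans ?_
    refine map_eq G.obj ?_ _
    ext
    simp

end FF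

end Groth.Agent.H1.Slice
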