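import Groth.Agent.Lib.Helper1.SliceI

/-!
# Sheaves over the sheaf represented by `S` are extensions (helper1)
-/

set_option autoImplicit false
universe u

namespace Groth.Agent.H1.Slice

open CategoryTheory CategoryTheory.Limits Opposite

variable {ℰ : Type (u + 1)} [Category.{u} ℰ] {S S' : ℰ} (g : S ⟶ S')
  (L : GrothendieckTopology ℰ) [L.Subcanonical]

/-- The canonical morphism from the image of `T` to `S` over `S'`. -/
def can (T : Over S) : (Over.map g).obj T ⟶ Over.mk g := Over.homMk T.hom rfl

@[simp]
lemma can_left (T : Over S) : (can g T).left = T.hom := rfl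

lemma map_comp_can {T T₂ : Over S} (k : T₂ ⟶ T) : (Over.map g).map k ≫ can g T = can g T₂ := by
  ext
  simp

section Fibre

variable {G : Sheaf (L.over S') (Type (u + 1))} (π : G ⟶ (y (L.over S')).obj (Over.mk g))

/-- The subpresheaf of the restriction of `G` of the sections lying over the canonical section
of the sheaf represented by `S`. -/
def fibSub : Subfunctor ((resSh g L).obj G).obj where
  obj T := {x | (π.hom.app (op ((Over.map g).obj T.unop)) x).down = can g T.unop}
  map := by
    intro T T₂ i x hx
    have hx' : (π.hom.app (op ((Over.map g).obj T.unop)) x).down = can g T.unop := hx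
    change (π.hom.app (op ((Over.map g).obj T₂.unop))
      (G.obj.map ((Over.map g).map i.unop).op x)).down = can g T₂.unop
    rw [hS_nat L π ((Over.map g).map i.unop) x, hx', map_comp_can]

lemma mem_fibSub {T : Over S} (x : G.obj.obj (op ((Over.map g).obj T))) :
    x ∈ (fibSub g L π).obj (op T) ↔
      (π.hom.app (op ((Over.map g).obj T)) x).down = can g T := Iff.rfl

theorem fibSub_isSheaf : Presieve.IsSheaf (L.over S) (fibSub g L π).toFunctor := by
  rw [Subfunctor.isSheaf_iff _ ((isSheaf_iff_isSheaf_of_type _ _).1 ((resSh g L).obj G).property)]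
  intro T s hs
  obtain ⟨T⟩ := T
  have hsh := (isSheaf_iff_isSheaf_of_type _ _).1
    ((resSh g L).obj ((y (L.over S')).obj (Over.mk g))).property
  have key : π.hom.app (op ((Over.map g).obj T)) s = ULift.up (can g T) := by
    refine (hsh _ hs).isSeparatedFor.ext ?_
    intro V i hi
    have hi' : (π.hom.app (op ((Over.map g).obj V))
      (G.obj.map ((Over.map g).map i).op s)).down = can g V := hi
    change ((y (L.over S')).obj (Over.mk g)).obj.map ((Over.map g).map i).op
        (π.hom.app (op ((Over.map g).obj T)) s) =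
      ((y (L.over S')).obj (Over.mk g)).obj.map ((Over.map g).map i).op (ULift.up (can g T))
    have h1 : (π.hom.app (op ((Over.map g).obj V))
        (G.obj.map ((Over.map g).map i).op s)) =
        ((y (L.over S')).obj (Over.mk g)).obj.map ((Over.map g).map i).op
          (π.hom.app (op ((Over.map g).obj T)) s) :=
      ConcreteCategory.congr_hom (π.hom.naturality ((Over.map g).map i).op) s
    rw [← h1]
    change _ = ULift.up ((Over.map g).map i ≫ can g T)
    rw [map_comp_can]
    exact ULift.ext _ _ hi'
  exact congrArg ULift.down key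

/-- The sheaf on `Over S` of sections of `G` lying over the canonical section. -/
def fibSh : Sheaf (L.over S) (Type (u + 1)) :=
  ⟨(fibSub g L π).toFunctor, (isSheaf_iff_isSheaf_of_type _ _).2 (fibSub_isSheaf g L π)⟩

/-- The inclusion of the fibre sheaf. -/
def fibIncl : fibSh g L π ⟶ (resSh g L).obj G := ObjectProperty.homMk (fibSub g L π).ι

/-- The comparison morphism from the extension of the fibre sheaf. -/
def sigTheta : (sigSh g L).obj (fibSh g L π) ⟶ G :=
  (sigSh g L).map (fibIncl g L π) ≫ sigCounit g L G

lemma sigTheta_app {U' : Over S'} (p : SigObj g (fibSh g L π).obj U') :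
    (sigTheta g L π).hom.app (op U') p = G.obj.map (cmp p.str).op p.sec.1 := rfl

lemma pi_sigTheta_app {U' : Over S'} (p : SigObj g (fibSh g L π).obj U') :
    (π.hom.app (op U') ((sigTheta g L π).hom.app (op U') p)).down =
      Over.homMk p.str.hom p.str.w := by
  rw [sigTheta_app, hS_nat L π (cmp p.str) p.sec.1]
  have h1 : (π.hom.app (op ((Over.map g).obj (Over.mk p.str.hom))) p.sec.1).down =
      can g (Over.mk p.str.hom) := p.sec.2
  rw [h1]
  exact Over.OverMorphism.ext (by simp)

lemma sigTheta_comp : sigTheta g L π ≫ π = sigStr g L (fibSh g L π) := by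
  apply Sheaf.hom_ext
  ext U' (p : SigObj g (fibSh g L π).obj U'.unop)
  obtain ⟨U'⟩ := U'
  exact ULift.ext _ _ (pi_sigTheta_app g L π p)

lemma fibSh_map_val {T T₂ : Over S} (k : T₂ ⟶ T) (x : (fibSh g L π).obj.obj (op T)) :
    ((fibSh g L π).obj.map k.op x).1 = G.obj.map ((Over.map g).map k).op x.1 := rfl

theorem sigTheta_bijective (U' : Over S') :
    Function.Bijective ((sigTheta g L π).hom.app (op U')) := by
  constructor
  · intro p q hpq
    have hpq' : G.obj.map (cmp p.str).op p.sec.1 = G.obj.map (cmp q.str).op q.sec.1 := hpq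
    have h1 := pi_sigTheta_app g L π p
    have h2 := pi_sigTheta_app g L π q
    have hpq2 : (sigTheta g L π).hom.app (op U') p = (sigTheta g L π).hom.app (op U') q := hpq
    rw [hpq2, h2] at h1
    have h3 : p.str.hom = q.str.hom := (congrArg (fun c => c.left) h1).symm
    refine sig_ext h3 ?_
    apply Subtype.ext
    rw [fibSh_map_val]
    have h4 := congrArg (fun t => G.obj.map (cmpInv q.str).op t) hpq'
    have h5 : G.obj.map (cmpInv q.str).op (G.obj.map (cmp q.str).op q.sec.1) = q.sec.1 := by
      refine (gmap_map G.obj _ _ _).trans ?_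
      refine (gmap_eq G.obj (f' := 𝟙 _) ?_ _).trans (gmap_id G.obj _)
      ext
      simp
    refine Eq.trans ?_ (h4.trans h5)
    refine Eq.trans ?_ (gmap_map G.obj _ _ _).symm
    refine gmap_eq G.obj ?_ _
    ext
    simp
  · intro z
    let ψ : Str g U' := strOf (π.hom.app (op U') z).down
    let x : G.obj.obj (op ((Over.map g).obj (Over.mk ψ.hom))) := G.obj.map (cmpInv ψ).op z
    have hx : x ∈ (fibSub g L π).obj (op (Over.mk ψ.hom)) := by
      rw [mem_fibSub]
      change (π.hom.app _ (G.obj.map (cmpInv ψ).op z)).down = _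
      rw [hS_nat L π (cmpInv ψ) z]
      exact Over.OverMorphism.ext (by simp [ψ])
    refine ⟨⟨ψ, ⟨x, hx⟩⟩, ?_⟩
    change G.obj.map (cmp ψ).op (G.obj.map (cmpInv ψ).op z) = z
    refine (gmap_map G.obj _ _ _).trans ?_
    refine (gmap_eq G.obj (f' := 𝟙 _) ?_ _).trans (gmap_id G.obj _)
    ext
    simp

instance sigTheta_isIso : IsIso (sigTheta g L π) := by
  have h1 : IsIso (sigTheta g L π).hom := by
    have : ∀ U', IsIso ((sigTheta g L π).hom.app U') := by
      intro U'
      obtain ⟨U'⟩ := U'
      exact (isIso_iff_bijective _).2 (sigTheta_bijective g L π U')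
    exact NatIso.isIso_of_isIso_app _
  have h2 : IsIso ((sheafToPresheaf _ _).map (sigTheta g L π)) := h1
  exact isIso_of_reflects_iso _ (sheafToPresheaf _ _)

end Fibre

end Groth.Agent.H1.Slice
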