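import Groth.Agent.Lib.Helper1.EtFppfCmp
import Groth.Agent.Lib.Helper5.FppfBoot5
import Groth.Agent.Lib.Helper5.AlgSpFpqcRep
import Groth.Agent.Lib.Helper5.AlgSpLocPInst2
import Groth.Agent.Lib.Helper11.AlgSpBasic
import Groth.Agent.S10505
import Groth.Agent.S0412
import Mathlib.AlgebraicGeometry.Morphisms.LocalFlatDescent

/-!
# Étale sheaves with a smooth presentation are algebraic spaces (helper1)

A presheaf `F` which is a sheaf for the big étale topology, with a map `a : h_W ⟶ F` which has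
étale local sections and whose kernel pair is a scheme `R` with smooth projections, is an fppf sheaf
and an algebraic space: it is isomorphic to the fppf quotient `W/R`.
-/

set_option autoImplicit false
universe u
open CategoryTheory CategoryTheory.Limits AlgebraicGeometry Opposite

namespace Groth.Agent.H1.SmFppf

open AlgSp Groth.Agent.H1.EtFppf

variable {S : Scheme.{u}}

/-- Two étale sheaves receiving étale-locally split maps from `h_W` with the same kernel pair are
isomorphic. -/
theorem nonempty_iso_of_common_kernelPair {F G : PSp S} (hF : Presheaf.IsSheaf (Jet S) F)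
    (hG : Presheaf.IsSheaf (Jet S) G) {W R : Over S}
    (a : (pyon S).obj W ⟶ F) (b : (pyon S).obj W ⟶ G) (s t : R ⟶ W)
    (hka : IsPullback ((pyon S).map t) ((pyon S).map s) a a)
    (hkb : IsPullback ((pyon S).map t) ((pyon S).map s) b b)
    (hla : ∀ {T : Over S} (ξ : (pyon S).obj T ⟶ F), ∃ (I : Over S) (i : I ⟶ T) (l : I ⟶ W),
      Etale i.left ∧ Surjective i.left ∧ (pyon S).map i ≫ ξ = (pyon S).map l ≫ a)
    (hlb : ∀ {T : Over S} (ξ : (pyon S).obj T ⟶ G), ∃ (I : Over S) (i : I ⟶ T) (l : I ⟶ W),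
      Etale i.left ∧ Surjective i.left ∧ (pyon S).map i ≫ ξ = (pyon S).map l ≫ b) :
    Nonempty (F ≅ G) := by
  let Wet : Et S := ⟨(pyon S).obj W, isSheaf_et_of_fppf ((yon S).obj W).property⟩
  let Ret : Et S := ⟨(pyon S).obj R, isSheaf_et_of_fppf ((yon S).obj R).property⟩
  let Fet : Et S := ⟨F, hF⟩
  let Get : Et S := ⟨G, hG⟩
  let a' : Wet ⟶ Fet := ObjectProperty.homMk a
  let b' : Wet ⟶ Get := ObjectProperty.homMk b
  let t' : Ret ⟶ Wet := ObjectProperty.homMk ((pyon S).map t)
  let s' : Ret ⟶ Wet := ObjectProperty.homMk ((pyon S).map s)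
  have hk1 : IsKernelPair a' t' s' :=
    IsPullback.of_map_of_faithful (sheafToPresheaf (Jet S) (Type (u + 1))) hka
  have hk2 : IsKernelPair b' t' s' :=
    IsPullback.of_map_of_faithful (sheafToPresheaf (Jet S) (Type (u + 1))) hkb
  haveI : Epi a' := by
    refine epi_of_etale_local a' (fun T σ => ?_)
    obtain ⟨I, i, l, hi1, hi2, hil⟩ := hla (uliftYonedaEquiv.{u + 1}.symm σ)
    refine ⟨I, i, ULift.up l, hi1, hi2, ?_⟩
    have h2 := app_up_eq_of_comm a _ i l hil
    rw [Equiv.apply_symm_apply] at h2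
    exact h2
  haveI : Epi b' := by
    refine epi_of_etale_local b' (fun T σ => ?_)
    obtain ⟨I, i, l, hi1, hi2, hil⟩ := hlb (uliftYonedaEquiv.{u + 1}.symm σ)
    refine ⟨I, i, ULift.up l, hi1, hi2, ?_⟩
    have h2 := app_up_eq_of_comm b _ i l hil
    rw [Equiv.apply_symm_apply] at h2
    exact h2
  haveI : IsRegularEpi a' := IsRegularEpiCategory.regularEpiOfEpi a'
  haveI : IsRegularEpi b' := IsRegularEpiCategory.regularEpiOfEpi b'
  have c1 := hk1.toCoequalizer'
  have c2 := hk2.toCoequalizer'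
  let e : Fet ≅ Get := c1.coconePointUniqueUpToIso c2
  exact ⟨(sheafToPresheaf (Jet S) (Type (u + 1))).mapIso e⟩

/-- A smooth surjective morphism has sections étale locally on the target. -/
theorem exists_etale_local_section {I T : Over S} (i : I ⟶ T) (hi : Smooth i.left)
    (hs : Surjective i.left) :
    ∃ (I' : Over S) (i' : I' ⟶ T) (l : I' ⟶ I), Etale i'.left ∧ Surjective i'.left ∧
      l ≫ i = i' := by
  have h := fun t : ↥T.left => Groth.Agent.S0412.result i.left t (hs.surj t)
  choose S' g s' hg hgs h hh using h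
  let d : (∐ S') ⟶ T.left := Sigma.desc g
  let dI : (∐ S') ⟶ I.left := Sigma.desc h
  have hd : dI ≫ i.left = d := by
    apply Sigma.hom_ext
    intro t
    rw [Sigma.ι_desc_assoc, Sigma.ι_desc, hh]
  let I' : Over S := Over.mk (d ≫ T.hom)
  let i' : I' ⟶ T := Over.homMk d rfl
  let l : I' ⟶ I := Over.homMk dI (by
    change dI ≫ I.hom = d ≫ T.hom
    rw [← Over.w i, ← Category.assoc, hd])
  refine ⟨I', i', l, ?_, ?_, ?_⟩
  · change Etale d
    apply IsZariskiLocalAtSource.of_openCover (P := @Etale) (sigmaOpenCover S')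
    intro t
    rw [sigmaOpenCover_f]
    change Etale (Sigma.ι S' t ≫ Sigma.desc g)
    rw [Sigma.ι_desc]
    exact hg t
  · change Surjective d
    refine ⟨fun t => ⟨Sigma.ι S' t (s' t), ?_⟩⟩
    rw [← Scheme.Hom.comp_apply]
    change (Sigma.ι S' t ≫ Sigma.desc g) (s' t) = t
    rw [Sigma.ι_desc]
    exact hgs t
  · apply Over.OverMorphism.ext
    exact hd

open Groth.Agent.Lib.helper5 Groth.Agent.Lib.helper5.FppfBoot in
/-- **Étale sheaves with a smooth presentation are algebraic spaces.** -/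
theorem isAlgSpaceP_of_smooth_presentation (F : PSp S) (h1 : Presheaf.IsSheaf (Jet S) F)
    {W R : Over S} (a : (pyon S).obj W ⟶ F) (s t : R ⟶ W)
    (hk : IsPullback ((pyon S).map t) ((pyon S).map s) a a)
    (hs : Smooth s.left) (ht : Smooth t.left)
    (hloc : ∀ {T : Over S} (ξ : (pyon S).obj T ⟶ F), ∃ (I : Over S) (i : I ⟶ T) (l : I ⟶ W),
      Etale i.left ∧ Surjective i.left ∧ (pyon S).map i ≫ ξ = (pyon S).map l ≫ a) :
    IsAlgSpaceP F := by
  -- the equivalence relation
  have hrel : ∀ {T : Over S} (x y : T ⟶ W), (∃ r : T ⟶ R, r ≫ t = x ∧ r ≫ s = y) ↔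
      (pyon S).map x ≫ a = (pyon S).map y ≫ a := by
    intro T x y
    constructor
    · rintro ⟨r, rfl, rfl⟩
      rw [Functor.map_comp, Functor.map_comp, Category.assoc, Category.assoc, hk.w]
    · intro h
      obtain ⟨r, hr⟩ := (pyon S).map_surjective (hk.lift _ _ h)
      refine ⟨r, (pyon S).map_injective ?_, (pyon S).map_injective ?_⟩
      · rw [Functor.map_comp, hr, hk.lift_fst]
      · rw [Functor.map_comp, hr, hk.lift_snd]
  let s' : (yon S).obj R ⟶ (yon S).obj W := (yon S).map s
  let t' : (yon S).obj R ⟶ (yon S).obj W := (yon S).map t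
  have hrel' : ∀ {T : Over S} (α β : (yon S).obj T ⟶ (yon S).obj W),
      (∃ r : (yon S).obj T ⟶ (yon S).obj R, r ≫ t' = α ∧ r ≫ s' = β) ↔
        α.hom ≫ a = β.hom ≫ a := by
    intro T α β
    obtain ⟨x, rfl⟩ := (yon S).map_surjective α
    obtain ⟨y, rfl⟩ := (yon S).map_surjective β
    constructor
    · rintro ⟨r, h1, h2⟩
      obtain ⟨ρ, rfl⟩ := (yon S).map_surjective r
      refine (hrel x y).1 ⟨ρ, (yon S).map_injective ?_, (yon S).map_injective ?_⟩
      · rw [Functor.map_comp]; exact h1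
      · rw [Functor.map_comp]; exact h2
    · intro h
      obtain ⟨ρ, h1, h2⟩ := (hrel x y).2 h
      exact ⟨(yon S).map ρ, by rw [← h1, Functor.map_comp], by rw [← h2, Functor.map_comp]⟩
  have hj : IsEqvRelSp s' t' :=
    { injective := by
        intro T r r' h1 h2
        obtain ⟨ρ, rfl⟩ := (yon S).map_surjective r
        obtain ⟨ρ', rfl⟩ := (yon S).map_surjective r'
        have e1 : ρ ≫ t = ρ' ≫ t := (yon S).map_injective (by
          rw [Functor.map_comp, Functor.map_comp]; exact h1)
        have e2 : ρ ≫ s = ρ' ≫ s := (yon S).map_injective (by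
          rw [Functor.map_comp, Functor.map_comp]; exact h2)
        congr 1
        apply (pyon S).map_injective
        apply hk.hom_ext
        · rw [← Functor.map_comp, ← Functor.map_comp, e1]
        · rw [← Functor.map_comp, ← Functor.map_comp, e2]
      equivalence := by
        intro T
        refine ⟨fun α => (hrel' α α).2 rfl, fun {α β} h => (hrel' β α).2 ((hrel' α β).1 h).symm,
          fun {α β γ} h h' => (hrel' α γ).2 (((hrel' α β).1 h).trans ((hrel' β γ).1 h'))⟩ }
  haveI : Smooth s.left := hs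
  haveI : Smooth t.left := ht
  have hsf : LocP @Flat s' := locP_yon_map_of LocPBC.locPData_flat s inferInstance
  have hsl : LocP @LocallyOfFinitePresentation s' :=
    locP_yon_map_of LocPBC.locPData_lfp s inferInstance
  have htf : LocP @Flat t' := locP_yon_map_of LocPBC.locPData_flat t inferInstance
  have htl : LocP @LocallyOfFinitePresentation t' :=
    locP_yon_map_of LocPBC.locPData_lfp t inferInstance
  have hR := IsAlgSpace.yon_obj R
  have hW := IsAlgSpace.yon_obj W
  have hQ : IsAlgSpace (quotSp s' t') := isAlgSpace_quotSp hR hW s' t' hj ⟨hsf, hsl⟩ ⟨htf, htl⟩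
  obtain ⟨hπs, hπf, hπl⟩ := quotSpπ_fppf hR hW s' t' hj ⟨hsf, hsl⟩ ⟨htf, htl⟩ hQ
  have hkπ : IsPullback t' s' (quotSpπ s' t') (quotSpπ s' t') := isPullback_quotSpπ s' t' hj
  have hrep : Representable (quotSpπ s' t') := hQ.representable_from_yon _
  -- `π` is smooth, by fpqc descent
  have href : FpqcRep.FpqcRefinable (fun _ : PUnit.{u + 1} => (yon S).obj W)
      (fun _ => quotSpπ s' t') :=
    (Groth.Agent.S10505.result (⟨quotSp s' t', hQ⟩ : Space S)
      (fun _ : PUnit.{u + 1} => (⟨(yon S).obj W, hW⟩ : Space S))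
      (fun _ => ObjectProperty.homMk (quotSpπ s' t'))
      ⟨fun _ => ⟨hπf, hπl⟩, fun x => ⟨PUnit.unit, hπs x⟩⟩).2
  have hπsm : RepWith @Smooth (quotSpπ s' t') :=
    FpqcRep.repWith_of_fpqcRefinable @Smooth (quotSpπ s' t') hrep
      (fun _ : PUnit.{u + 1} => (yon S).obj W) (fun _ => quotSpπ s' t') href
      (fun _ => (yon S).obj R) (fun _ => s') (fun _ => t') (fun _ => hkπ)
      (fun _ => (repWith_yon_map_iff _ _).2 hs)
  have hπsurj : RepWith @Surjective (quotSpπ s' t') := by
    refine Groth.Agent.Lib.helper11.repWith_surjective_of_surjective _ hrep (fun y => ?_)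
    obtain ⟨x, hx⟩ := hπs y
    refine ⟨Points.toScheme W x, ?_⟩
    rw [Points.ofPt_eq_map_ofScheme, Points.ofScheme_toScheme, hx]
  -- compare
  have hkb : IsPullback ((pyon S).map t) ((pyon S).map s) (quotSpπ s' t').hom
      (quotSpπ s' t').hom := hkπ.map (sheafToPresheaf (AlgSp.J S) (Type (u + 1)))
  obtain ⟨e⟩ := nonempty_iso_of_common_kernelPair h1 (isSheaf_et_of_fppf (quotSp s' t').property)
    a (quotSpπ s' t').hom s t hk hkb hloc (by
      intro T ξ
      let ξ' : (yon S).obj T ⟶ quotSp s' t' := ObjectProperty.homMk ξ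
      obtain ⟨I, i, fst, sq⟩ := hrep ξ'
      obtain ⟨l₀, rfl⟩ := (yon S).map_surjective fst
      have hi1 : Smooth i.left := hπsm.2 ξ' _ i sq
      have hi2 : Surjective i.left := hπsurj.2 ξ' _ i sq
      obtain ⟨I', i', l, h3, h4, h5⟩ := exists_etale_local_section i hi1 hi2
      refine ⟨I', i', l ≫ l₀, h3, h4, ?_⟩
      have hw : (pyon S).map i ≫ ξ = (pyon S).map l₀ ≫ (quotSpπ s' t').hom :=
        (congrArg (fun φ => φ.hom) sq.w).symm
      rw [← h5, Functor.map_comp, Functor.map_comp, Category.assoc, Category.assoc, hw])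
  exact ((isAlgSpaceP_obj_iff (quotSp s' t')).2 hQ).of_iso e.symm

end Groth.Agent.H1.SmFppf
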