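import Groth.Agent.Lib.Helper1.EtaleReducedScheme

set_option autoImplicit false
universe u
open CategoryTheory CategoryTheory.Limits AlgebraicGeometry

namespace Groth.Agent.H1.SmoothReduced

/-- A smooth algebra over a reduced ring is reduced. -/
theorem isReduced_of_smooth_ring (A C : Type u) [CommRing A] [IsReduced A] [CommRing C]
    [Algebra A C] [Algebra.Smooth A C] : IsReduced C := by
  constructor
  intro c hc
  by_contra hc0
  have hne : Ideal.span {c} ≠ ⊥ := by
    rw [Ne, Ideal.span_singleton_eq_bot]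
    exact hc0
  have hann : (Ideal.span {c}).annihilator ≠ ⊤ := by
    intro h
    rw [Submodule.annihilator_eq_top_iff] at h
    exact hne h
  obtain ⟨Q, hQ, hle⟩ := Ideal.exists_le_maximal _ hann
  have hQp : Q.IsPrime := hQ.isPrime
  obtain ⟨f, hfQ, n, inst, hst, hf⟩ :=
    Algebra.IsSmoothAt.exists_isStandardEtale_mvPolynomial (R := A) (p := Q)
  have hred := Groth.Agent.Lib.Helper24.EtaleReduced.isReduced_of_isStandardEtale
    (MvPolynomial (Fin n) A) (Localization.Away f)
  have h0 : algebraMap C (Localization.Away f) c = 0 := (hc.map _).eq_zero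
  rw [IsLocalization.map_eq_zero_iff (Submonoid.powers f)] at h0
  obtain ⟨⟨_, j, rfl⟩, hj⟩ := h0
  have hmem : f ^ j ∈ (Ideal.span {c}).annihilator := by
    rw [Submodule.mem_annihilator_span_singleton]
    exact hj
  exact hfQ (hQp.mem_of_pow_mem j (hle hmem))

/-- A scheme smooth over a reduced scheme is reduced. -/
theorem isReduced_of_smooth {X Y : Scheme.{u}} (f : X ⟶ Y) [Smooth f] [IsReduced Y] :
    IsReduced X := by
  have : ∀ x : X, _root_.IsReduced (X.presheaf.stalk x) := by
    intro x
    obtain ⟨V, hV, hxV, -⟩ := exists_isAffineOpen_mem_and_subset (x := f x) (U := ⊤) trivial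
    obtain ⟨W, hW, hxW, hWV⟩ := exists_isAffineOpen_mem_and_subset (x := x) (U := f ⁻¹ᵁ V) hxV
    have hsm := Smooth.smooth_appLE f hV hW hWV
    algebraize [(f.appLE V W hWV).hom]
    have hA : Algebra.Smooth Γ(Y, V) Γ(X, W) := hsm
    have hred : _root_.IsReduced Γ(X, W) := isReduced_of_smooth_ring Γ(Y, V) Γ(X, W)
    have hloc := hW.isLocalization_stalk ⟨x, hxW⟩
    exact @isReduced_localizationPreserves _ _ (hW.primeIdealOf ⟨x, hxW⟩).asIdeal.primeCompl
      (X.presheaf.stalk x) _ (X.presheaf.algebra_section_stalk ⟨x, hxW⟩) hloc hred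
  exact isReduced_of_isReduced_stalk X

end Groth.Agent.H1.SmoothReduced
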