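import Groth.Agent.Lib.Helper1.BcTower
import Groth.Agent.S0621

/-!
# Base change to a limit of étale neighbourhoods, in degree zero and on injectives (helper1)

For `f : X ⟶ S` qcqs and a tower of qcqs étale `V_i ⟶ S` with affine transition maps and limit `g : S̄ ⟶ S`:
`bc0_top_bijective`: the base change map `g⁻¹ f_* F ⟶ f̄_* g'⁻¹ F` is bijective on global sections over `S̄`;
`H_pull_injective_eq_zero`: `H^{n+1}(X ×_S S̄, g'⁻¹ I) = 0` for injective `I`.
-/

set_option autoImplicit false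
set_option linter.unusedSectionVars false
universe u
open CategoryTheory CategoryTheory.Limits AlgebraicGeometry Opposite CategoryTheory.Abelian

namespace Groth.Agent.H1.StrictLocBC

open Groth.Agent.Lib.helper27 Groth.Agent.Lib.helper27.PullFunEt
  Groth.Agent.H1.EtCartan Groth.Agent.H1.LimCoh Groth.Agent.H1.PullGerm Groth.Agent.H1.SecPullEtale
  Groth.Agent.H1.TowerSec Groth.Agent.H1.BcTower

section Ext

variable {X Y X' Y' : Scheme.{u}} (f : X ⟶ Y) (g : Y' ⟶ Y) (f' : X' ⟶ Y') (g' : X' ⟶ X)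
  (w : g' ≫ f = f' ≫ g)

lemma bc_bc_hom_ext {V : Y.Etale} {A : X'.Etale}
    (ξ ξ' : A ⟶ (EtCoh.bc g').obj ((EtCoh.bc f).obj V))
    (h : ξ.left ≫ pr g' ((EtCoh.bc f).obj V) ≫ pr f V =
      ξ'.left ≫ pr g' ((EtCoh.bc f).obj V) ≫ pr f V) : ξ = ξ' := by
  apply MorphismProperty.Over.Hom.ext
  refine Groth.Agent.S0621.plain_lift_ext V.hom f g' _ _ h ?_
  exact (MorphismProperty.Over.w ξ).trans (MorphismProperty.Over.w ξ').symm

end Ext

variable {ι : Type u} [Preorder ι] {Vs : ιᵒᵖ ⥤ Scheme.{u}} (cS : Cone Vs) {S X : Scheme.{u}}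
  (ε : ∀ i : ι, Vs.obj (op i) ⟶ S) [∀ i, Etale (ε i)]
  (hε : ∀ ⦃i j : ι⦄ (h : i ≤ j), tr Vs h ≫ ε i = ε j)
  (g : cS.pt ⟶ S) (hg : ∀ i, pj Vs cS i ≫ ε i = g) (f : X ⟶ S)

instance etale_e (i : ι) : Etale (e ε hε f i) := inferInstanceAs (Etale (pullback.snd (ε i) f))

/-- the second projection `X ×_S S̄ ⟶ S̄` -/
noncomputable abbrev fbar : pullback f g ⟶ cS.pt := pullback.snd f g

/-- the first projection `X ×_S S̄ ⟶ X` -/
noncomputable abbrev gp : pullback f g ⟶ X := pullback.fst f g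

lemma sq : gp cS g f ≫ f = fbar cS g f ≫ g := pullback.condition

lemma graph_MV (j : ι) :
    (EtCoh.bc (fbar cS g f)).map (κ cS ε g hg j) ≫
        Groth.Agent.S0621.MV f g (fbar cS g f) (gp cS g f) (sq cS g f) (E (ε j)) =
      (EtCore.bcTopIso (fbar cS g f)).hom ≫
        κ (cX cS ε hε g hg f) (e ε hε f) (gp cS g f) (hgX cS ε hε g hg f) j := by
  apply bc_bc_hom_ext
  have h1 : (Groth.Agent.S0621.MV f g (fbar cS g f) (gp cS g f) (sq cS g f) (E (ε j))).left ≫
      pr (gp cS g f) ((EtCoh.bc f).obj (E (ε j))) ≫ pr f (E (ε j)) =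
      pr (fbar cS g f) ((EtCoh.bc g).obj (E (ε j))) ≫ pr g (E (ε j)) :=
    Groth.Agent.S0621.MV_fst_fst f g (fbar cS g f) (gp cS g f) (sq cS g f) (E (ε j))
  have h2 : (κ (cX cS ε hε g hg f) (e ε hε f) (gp cS g f) (hgX cS ε hε g hg f) j).left ≫
      pr (gp cS g f) ((EtCoh.bc f).obj (E (ε j))) = (cX cS ε hε g hg f).π.app (op j) :=
    κ'_left_pr _ _ _ _
  have h3 : (cX cS ε hε g hg f).π.app (op j) ≫ pr f (E (ε j)) = fbar cS g f ≫ cS.π.app (op j) :=
    cX_π_fst cS ε hε g hg f (op j)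
  have h4 : (κ cS ε g hg j).left ≫ pr g (E (ε j)) = cS.π.app (op j) := κ'_left_pr _ _ _ _
  have h5 : pr (fbar cS g f) (EtCoh.top cS.pt) =
      ((EtCoh.bc (fbar cS g f)).obj (EtCoh.top cS.pt)).hom ≫ fbar cS g f :=
    (Category.comp_id _).symm.trans pullback.condition
  have L : ((EtCoh.bc (fbar cS g f)).map (κ cS ε g hg j)).left ≫
      (Groth.Agent.S0621.MV f g (fbar cS g f) (gp cS g f) (sq cS g f) (E (ε j))).left ≫
        pr (gp cS g f) ((EtCoh.bc f).obj (E (ε j))) ≫ pr f (E (ε j)) =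
      ((EtCoh.bc (fbar cS g f)).obj (EtCoh.top cS.pt)).hom ≫ fbar cS g f ≫ cS.π.app (op j) :=
    (congrArg (fun k => ((EtCoh.bc (fbar cS g f)).map (κ cS ε g hg j)).left ≫ k) h1).trans
      ((bc_map_pr_assoc (fbar cS g f) (κ cS ε g hg j) (pr g (E (ε j)))).trans
        ((congrArg (fun k => pr (fbar cS g f) (EtCoh.top cS.pt) ≫ k) h4).trans
          ((congrArg (fun k => k ≫ cS.π.app (op j)) h5).trans (Category.assoc _ _ _))))
  have R : (EtCore.bcTopIso (fbar cS g f)).hom.left ≫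
      (κ (cX cS ε hε g hg f) (e ε hε f) (gp cS g f) (hgX cS ε hε g hg f) j).left ≫
        pr (gp cS g f) ((EtCoh.bc f).obj (E (ε j))) ≫ pr f (E (ε j)) =
      ((EtCoh.bc (fbar cS g f)).obj (EtCoh.top cS.pt)).hom ≫ fbar cS g f ≫ cS.π.app (op j) := by
    refine (congrArg (fun k => (EtCore.bcTopIso (fbar cS g f)).hom.left ≫ k)
      ((Category.assoc _ _ _).symm.trans ((congrArg (fun k => k ≫ pr f (E (ε j))) h2).trans h3))).trans ?_
    exact congrArg (fun k => k ≫ fbar cS g f ≫ cS.π.app (op j))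
      (left_to_top (EtCore.bcTopIso (fbar cS g f)).hom)
  exact ((Category.assoc _ _ _).trans L).trans ((Category.assoc _ _ _).trans R).symm

theorem bc0_can (F : EtCoh.Ab X) (j : ι) (t : F.obj.obj (op (E (e ε hε f j)))) :
    (EtCoh.baseChange0 f g (fbar cS g f) (gp cS g f) (sq cS g f) F).hom.app (op (EtCoh.top cS.pt))
        (can cS ε g hg ((EtCoh.push f).obj F) j t) =
      ((EtCoh.pull (gp cS g f)).obj F).obj.map (EtCore.bcTopIso (fbar cS g f)).hom.op
        (can (cX cS ε hε g hg f) (e ε hε f) (gp cS g f) (hgX cS ε hε g hg f) F j t) := by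
  have nat := NatTrans.naturality_apply
    (EtCoh.baseChange0 f g (fbar cS g f) (gp cS g f) (sq cS g f) F).hom (κ cS ε g hg j).op
    (usec g ((EtCoh.push f).obj F) (E (ε j)) t)
  refine nat.trans ?_
  have hphi := Groth.Agent.S0621.phi_usec f g (fbar cS g f) (gp cS g f) (sq cS g f) F (E (ε j)) t
  refine (congrArg _ hphi).trans ?_
  have hL := (map_comp_apply ((EtCoh.pull (gp cS g f)).obj F)
    ((EtCoh.bc (fbar cS g f)).map (κ cS ε g hg j))
    (Groth.Agent.S0621.MV f g (fbar cS g f) (gp cS g f) (sq cS g f) (E (ε j)))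
    (usec (gp cS g f) F ((EtCoh.bc f).obj (E (ε j))) t)).symm
  have hR := (map_comp_apply ((EtCoh.pull (gp cS g f)).obj F)
    (EtCore.bcTopIso (fbar cS g f)).hom
    (κ (cX cS ε hε g hg f) (e ε hε f) (gp cS g f) (hgX cS ε hε g hg f) j)
    (usec (gp cS g f) F ((EtCoh.bc f).obj (E (ε j))) t)).symm
  refine Eq.trans ?_ (hR.symm)
  refine hL.trans ?_
  exact congrArg (fun k => ((EtCoh.pull (gp cS g f)).obj F).obj.map k.op
    (usec (gp cS g f) F ((EtCoh.bc f).obj (E (ε j))) t)) (graph_MV cS ε hε g hg f j)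

lemma can_zero {ι : Type u} [Preorder ι] {Ys : ιᵒᵖ ⥤ Scheme.{u}} (c : Cone Ys) {Y : Scheme.{u}}
    (e : ∀ i : ι, Ys.obj (op i) ⟶ Y) [∀ i, Etale (e i)] (g' : c.pt ⟶ Y)
    (hg : ∀ i : ι, pj Ys c i ≫ e i = g') (G : EtCoh.Ab Y) (j : ι) : can c e g' hg G j 0 = 0 := by
  unfold can
  exact (congrArg _ (map_zero _)).trans (map_zero _)

section Bij

variable {cS} [IsDirected ι (· ≤ ·)] [Nonempty ι] (hcS : IsLimit cS)
  (haff : ∀ ⦃a b : ιᵒᵖ⦄ (h : a ⟶ b), IsAffineHom (Vs.map h))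
  [∀ i : ι, CompactSpace (Vs.obj (op i))] [∀ i : ι, QuasiSeparatedSpace (Vs.obj (op i))]
  [QuasiCompact f] [QuasiSeparated f]

include hcS haff hε hg in
theorem bc0_top_bijective (F : EtCoh.Ab X) :
    Function.Bijective
      ((EtCoh.baseChange0 f g (fbar cS g f) (gp cS g f) (sq cS g f) F).hom.app
        (op (EtCoh.top cS.pt))) := by
  haveI : ∀ i : ι, CompactSpace ((Xs ε hε f).obj (op i)) := fun i => compactSpace_Xs ε hε f i
  haveI : ∀ i : ι, QuasiSeparatedSpace ((Xs ε hε f).obj (op i)) :=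
    fun i => quasiSeparatedSpace_Xs ε hε f i
  have hcX : IsLimit (cX cS ε hε g hg f) := isLimitCX cS ε hε g hg f hcS
  have haffX := isAffineHom_Xs_map ε hε f haff
  constructor
  · intro x x' hxx
    have hsub : (EtCoh.baseChange0 f g (fbar cS g f) (gp cS g f) (sq cS g f) F).hom.app
        (op (EtCoh.top cS.pt)) (x - x') = 0 := by
      rw [map_sub, hxx, sub_self]
    obtain ⟨j, t, ht⟩ := can_surj ε hε g hg ((EtCoh.push f).obj F) hcS haff (x - x')
    have h0 : (EtCoh.baseChange0 f g (fbar cS g f) (gp cS g f) (sq cS g f) F).hom.app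
        (op (EtCoh.top cS.pt)) (can cS ε g hg ((EtCoh.push f).obj F) j t) = 0 :=
      (congrArg _ ht).trans hsub
    have h1' := (bc0_can cS ε hε g hg f F j t).symm.trans h0
    have h1 : can (cX cS ε hε g hg f) (e ε hε f) (gp cS g f) (hgX cS ε hε g hg f) F j t = 0 := by
      apply map_iso_injective ((EtCoh.pull (gp cS g f)).obj F)
        (EtCore.bcTopIso (fbar cS g f)).hom
      exact h1'.trans (map_zero _).symm
    have hci := @can_inj ι _ (Xs ε hε f) (cX cS ε hε g hg f) X (e ε hε f) _ (he ε hε f) (gp cS g f)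
      (hgX cS ε hε g hg f) F _ _ hcX haffX _ _ j
    obtain ⟨k, hk, h2⟩ := hci t h1
    have h3 := can_tr cS ε hε g hg ((EtCoh.push f).obj F) hk t
    have h4 : ((EtCoh.push f).obj F).obj.map (trE ε hε hk).op t = 0 := h2
    have h5 : can cS ε g hg ((EtCoh.push f).obj F) j t = 0 :=
      h3.symm.trans ((congrArg (can cS ε g hg ((EtCoh.push f).obj F) k) h4).trans
        (can_zero cS ε g hg ((EtCoh.push f).obj F) k))
    exact sub_eq_zero.1 (ht.symm.trans h5)
  · intro y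
    have hcs := @can_surj ι _ (Xs ε hε f) (cX cS ε hε g hg f) X (e ε hε f) _ (he ε hε f) (gp cS g f)
      (hgX cS ε hε g hg f) F _ _ hcX haffX _ _
    obtain ⟨j, t, ht⟩ := hcs
      (((EtCoh.pull (gp cS g f)).obj F).obj.map (EtCore.bcTopIso (fbar cS g f)).inv.op y)
    refine ⟨can cS ε g hg ((EtCoh.push f).obj F) j t, ?_⟩
    refine (bc0_can cS ε hε g hg f F j t).trans ((congrArg _ ht).trans ?_)
    refine (map_comp_apply ((EtCoh.pull (gp cS g f)).obj F) (EtCore.bcTopIso (fbar cS g f)).hom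
      (EtCore.bcTopIso (fbar cS g f)).inv y).symm.trans ?_
    rw [Iso.hom_inv_id]
    simp

include hcS haff hε hg in
theorem H_pull_injective_eq_zero (I : EtCoh.Ab X) [Injective I] (n : ℕ)
    (x : EtCoh.H (pullback f g) ((EtCoh.pull (gp cS g f)).obj I) (n + 1)) : x = 0 := by
  haveI : ∀ i : ι, CompactSpace ((Xs ε hε f).obj (op i)) := fun i => compactSpace_Xs ε hε f i
  haveI : ∀ i : ι, QuasiSeparatedSpace ((Xs ε hε f).obj (op i)) :=
    fun i => quasiSeparatedSpace_Xs ε hε f i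
  have hcX : IsLimit (cX cS ε hε g hg f) := isLimitCX cS ε hε g hg f hcS
  have haffX := isAffineHom_Xs_map ε hε f haff
  have hcol := @e_colim ι _ (Xs ε hε f) (cX cS ε hε g hg f) X (e ε hε f) (he ε hε f) (gp cS g f)
    (hgX cS ε hε g hg f) I _ _ hcX haffX _ _ (n + 1)
  obtain ⟨j, ξj, hξ⟩ := hcol.1 x
  haveI : Injective ((eSys (e ε hε f) (he ε hε f) I).F j) :=
    Injective.of_iso ((Groth.Agent.S14454.pullIsoRestr' (e ε hε f j)).app I).symm
      (Groth.Agent.S14454.injective_restrAlong (e ε hε f j) I)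
  have h0 : ξj = 0 := Ext.eq_zero_of_injective ξj
  exact hξ.symm.trans ((congrArg _ h0).trans (map_zero _))

end Bij

end Groth.Agent.H1.StrictLocBC
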