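import Groth.Agent.Lib.Helper1.StrictLocBC
import Groth.Agent.Lib.Helper27.RpushNat
import Groth.Agent.Lib.Helper27.ExtDelta

/-!
# The stalk of `Rⁿf_*` at the limit of a tower of étale neighbourhoods (helper1)

`main`: for `f : X ⟶ S` qcqs, a tower of qcqs étale `V_i ⟶ S` with affine transition maps and limit `g : S̄ ⟶ S`, and a
geometric point `ξ₀` of `S̄` at which global sections of every sheaf on `S̄` are the stalk: the functors
`F ↦ (Rⁿf_*F)_{g ξ₀}` and `F ↦ Hⁿ(X ×_S S̄, g'⁻¹F)` are isomorphic (universal δ-functors agreeing in degree zero).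
-/

set_option autoImplicit false
set_option linter.unusedSectionVars false
universe u
open CategoryTheory CategoryTheory.Limits AlgebraicGeometry Opposite CategoryTheory.Abelian

namespace Groth.Agent.H1.StrictLocMain

open Groth.Agent.Lib.helper27 Groth.Agent.Lib.helper27.PullFunEt DeltaF
  Groth.Agent.H1.EtCartan Groth.Agent.H1.LimCoh Groth.Agent.H1.PullGerm Groth.Agent.H1.SecPullEtale
  Groth.Agent.H1.TowerSec Groth.Agent.H1.BcTower Groth.Agent.H1.StrictLocBC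
  Groth.Agent.H1.EtGerm

section Nat

variable {X Y X' Y' : Scheme.{u}} (f : X ⟶ Y) (g : Y' ⟶ Y) (f' : X' ⟶ Y') (g' : X' ⟶ X)
  (w : g' ≫ f = f' ≫ g)

/-- `β` as a natural transformation -/
noncomputable def betaN : EtCoh.push f ⟶ EtCoh.pull g' ⋙ EtCoh.push f' ⋙ EtCoh.push g :=
  Functor.whiskerRight (EtCoh.pullPushAdj g').unit (EtCoh.push f) ≫
    Functor.whiskerLeft (EtCoh.pull g')
      ((EtCoh.pushComp f g').hom ≫ (EtCoh.pushCongr w).hom ≫ (EtCoh.pushComp g f').inv)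

lemma betaN_app (F : EtCoh.Ab X) :
    (betaN f g f' g' w).app F = Groth.Agent.S0621.beta f g f' g' w F := rfl

lemma baseChange0_eq (F : EtCoh.Ab X) : EtCoh.baseChange0 f g f' g' w F =
    ((EtCoh.pullPushAdj g).homEquiv _ _).symm (Groth.Agent.S0621.beta f g f' g' w F) := rfl

/-- the degree zero base change morphism as a natural transformation -/
noncomputable def bcN : EtCoh.push f ⋙ EtCoh.pull g ⟶ EtCoh.pull g' ⋙ EtCoh.push f' where
  app F := EtCoh.baseChange0 f g f' g' w F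
  naturality F F' φ := by
    have nat := (betaN f g f' g' w).naturality φ
    rw [betaN_app, betaN_app] at nat
    rw [baseChange0_eq, baseChange0_eq]
    change (EtCoh.pull g).map ((EtCoh.push f).map φ) ≫ _ =
      _ ≫ (EtCoh.push f').map ((EtCoh.pull g').map φ)
    rw [← Adjunction.homEquiv_naturality_left_symm, ← Adjunction.homEquiv_naturality_right_symm]
    exact congrArg _ nat

end Nat

section Gen

variable (Y : Scheme.{u})

/-- `H⁰` is the global sections functor -/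
noncomputable def hfZeroIso : EtCoh.HF Y 0 ≅ EtCore.gsec Y :=
  NatIso.ofComponents
    (fun F => (Sheaf.H.equiv₀ F (EtCore.topIsTerminal Y)).toAddCommGrpIso)
    (by
      intro F F' φ
      apply AddCommGrpCat.hom_ext
      apply AddMonoidHom.ext
      intro x
      exact (Sheaf.H.equiv₀_naturality (EtCore.topIsTerminal Y) φ x).symm)

/-- `H^n` as an `Ext` functor -/
noncomputable def hfExtIso (n : ℕ) : EtCoh.HF Y n ≅ (extFunctor.{u + 1} n).obj (op (Z Y)) :=
  NatIso.ofComponents (fun F => Iso.refl _) (by intro F F' φ; rfl)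

variable {Y} {Ω : Type u} [Field Ω] [IsSepClosed Ω] (ξ₀ : Spec (CommRingCat.of Ω) ⟶ Y)
  (y₀ : Lift ξ₀ (EtCoh.top Y))

instance : (EtCoh.stalk ξ₀).Additive := Functor.additive_of_preserves_binary_products _

/-- global sections to the stalk -/
noncomputable def secToStalk : EtCore.gsec Y ⟶ EtCoh.stalk ξ₀ :=
  Functor.whiskerLeft (sheafToPresheaf _ _)
    ((Scheme.pointSmallEtale ξ₀).toPresheafFiberNatTrans (A := AddCommGrpCat.{u + 1})
      (EtCoh.top Y) y₀)

theorem isIso_secToStalk (hloc : ∀ M : EtCoh.Ab Y, Function.Bijective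
    ((Scheme.pointSmallEtale ξ₀).toPresheafFiber (EtCoh.top Y) y₀ M.obj)) :
    IsIso (secToStalk ξ₀ y₀) := by
  haveI : ∀ M, IsIso ((secToStalk ξ₀ y₀).app M) := fun M =>
    (ConcreteCategory.isIso_iff_bijective _).2 (hloc M)
  exact NatIso.isIso_of_isIso_app _

end Gen

section Main

variable {ι : Type u} [Preorder ι] {Vs : ιᵒᵖ ⥤ Scheme.{u}} {cS : Cone Vs} {S X : Scheme.{u}}
  (ε : ∀ i : ι, Vs.obj (op i) ⟶ S) [∀ i, Etale (ε i)]
  (hε : ∀ ⦃i j : ι⦄ (h : i ≤ j), tr Vs h ≫ ε i = ε j)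
  (g : cS.pt ⟶ S) (hg : ∀ i, pj Vs cS i ≫ ε i = g) (f : X ⟶ S)
  [IsDirected ι (· ≤ ·)] [Nonempty ι] (hcS : IsLimit cS)
  (haff : ∀ ⦃a b : ιᵒᵖ⦄ (h : a ⟶ b), IsAffineHom (Vs.map h))
  [∀ i : ι, CompactSpace (Vs.obj (op i))] [∀ i : ι, QuasiSeparatedSpace (Vs.obj (op i))]
  [QuasiCompact f] [QuasiSeparated f]
  {Ω : Type u} [Field Ω] [IsSepClosed Ω] (ξ₀ : Spec (CommRingCat.of Ω) ⟶ cS.pt)
  (y₀ : Lift ξ₀ (EtCoh.top cS.pt))
  (hloc : ∀ M : EtCoh.Ab cS.pt, Function.Bijective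
    ((Scheme.pointSmallEtale ξ₀).toPresheafFiber (EtCoh.top cS.pt) y₀ M.obj))

include hε hg hcS haff in
theorem isIso_bcN_gsec :
    IsIso (Functor.whiskerRight (bcN f g (fbar cS g f) (gp cS g f) (sq cS g f))
      (EtCore.gsec cS.pt)) := by
  haveI : ∀ F, IsIso ((Functor.whiskerRight (bcN f g (fbar cS g f) (gp cS g f) (sq cS g f))
      (EtCore.gsec cS.pt)).app F) := fun F =>
    (ConcreteCategory.isIso_iff_bijective _).2 (bc0_top_bijective ε hε g hg f hcS haff F)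
  exact NatIso.isIso_of_isIso_app _

include hε hg hcS haff hloc in
/-- the comparison in degree zero -/
theorem nonempty_zeroIso :
    Nonempty (EtCoh.push f ⋙ EtCoh.stalk (ξ₀ ≫ g) ≅
      EtCoh.pull (gp cS g f) ⋙ EtCoh.HF (pullback f g) 0) := by
  haveI := isIso_secToStalk ξ₀ y₀ hloc
  haveI := isIso_bcN_gsec ε hε g hg f hcS haff
  let e₁ : EtCoh.push f ⋙ EtCoh.stalk (ξ₀ ≫ g) ≅
      EtCoh.push f ⋙ (EtCoh.pull g ⋙ EtCore.gsec cS.pt) :=
    Functor.isoWhiskerLeft (EtCoh.push f)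
      ((Groth.Agent.H1.EtStalkPull.stalkPullIso g ξ₀).symm ≪≫
        Functor.isoWhiskerLeft (EtCoh.pull g) (asIso (secToStalk ξ₀ y₀)).symm)
  let e₂ : (EtCoh.push f ⋙ EtCoh.pull g) ⋙ EtCore.gsec cS.pt ≅
      (EtCoh.pull (gp cS g f) ⋙ EtCoh.push (fbar cS g f)) ⋙ EtCore.gsec cS.pt :=
    asIso (Functor.whiskerRight (bcN f g (fbar cS g f) (gp cS g f) (sq cS g f))
      (EtCore.gsec cS.pt))
  let e₃ : EtCoh.pull (gp cS g f) ⋙ (EtCoh.push (fbar cS g f) ⋙ EtCore.gsec cS.pt) ≅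
      EtCoh.pull (gp cS g f) ⋙ EtCore.gsec (pullback f g) :=
    Functor.isoWhiskerLeft (EtCoh.pull (gp cS g f)) (EtCore.pushGsecIso (fbar cS g f))
  let e₄ : EtCoh.pull (gp cS g f) ⋙ EtCore.gsec (pullback f g) ≅
      EtCoh.pull (gp cS g f) ⋙ EtCoh.HF (pullback f g) 0 :=
    Functor.isoWhiskerLeft (EtCoh.pull (gp cS g f)) (hfZeroIso (pullback f g)).symm
  exact ⟨e₁ ≪≫ (Functor.associator _ _ _).symm ≪≫ e₂ ≪≫ Functor.associator _ _ _ ≪≫ e₃ ≪≫ e₄⟩

include hε hg hcS haff hloc in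
/-- **the stalk of `Rⁿf_*` at the limit point is the cohomology of the base change to the limit**,
naturally in the sheaf -/
theorem main (n : ℕ) :
    Nonempty (EtCoh.Rpush f n ⋙ EtCoh.stalk (ξ₀ ≫ g) ≅
      EtCoh.pull (gp cS g f) ⋙ EtCoh.HF (pullback f g) n) := by
  obtain ⟨e₀⟩ := nonempty_zeroIso ε hε g hg f hcS haff ξ₀ y₀ hloc
  let T : CohDeltaFunctor (EtCoh.Ab X) AddCommGrpCat.{u + 1} ℕ :=
    RpushNat.postcomp (Horseshoe.derivedLES (EtCoh.push f)).toCohDeltaFunctor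
      (EtCoh.stalk (ξ₀ ≫ g))
  let U : CohDeltaFunctor (EtCoh.Ab X) AddCommGrpCat.{u + 1} ℕ :=
    DeltaFPre.precomp (ExtDelta.extDelta.{u + 1} (Z (pullback f g))) (EtCoh.pull (gp cS g f))
  have hT : T.IsEffaceable := by
    intro m F
    obtain ⟨Y, a, ha, h0⟩ :=
      rder_isEffaceable (EtCoh.push f) (Horseshoe.derivedLES (EtCoh.push f)) m F
    refine ⟨Y, a, ha, ?_⟩
    exact (congrArg (EtCoh.stalk (ξ₀ ≫ g)).map h0).trans (Functor.map_zero _ _ _)
  have hU : U.IsEffaceable := by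
    intro m F
    refine ⟨Injective.under F, Injective.ι F, inferInstance, ?_⟩
    have : Subsingleton (Ext.{u + 1} (Z (pullback f g))
        ((EtCoh.pull (gp cS g f)).obj (Injective.under F)) (m + 1)) :=
      subsingleton_of_forall_eq 0 fun x =>
        H_pull_injective_eq_zero ε hε g hg f hcS haff (Injective.under F) m x
    have hz : IsZero ((U.F (m + 1)).obj (Injective.under F)) :=
      AddCommGrpCat.isZero_of_subsingleton (AddCommGrpCat.of (Ext.{u + 1} (Z (pullback f g))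
        ((EtCoh.pull (gp cS g f)).obj (Injective.under F)) (m + 1)))
    exact hz.eq_of_tgt _ _
  have e : T.F 0 ≅ U.F 0 :=
    Functor.isoWhiskerRight (EtCoh.push f).rightDerivedZeroIsoSelf (EtCoh.stalk (ξ₀ ≫ g)) ≪≫ e₀ ≪≫
      Functor.isoWhiskerLeft (EtCoh.pull (gp cS g f)) (hfExtIso (pullback f g) 0)
  obtain ⟨i⟩ := DeltaFPre.natIso_of_isUniversal T U (isUniversal_of_isEffaceable hT)
    (isUniversal_of_isEffaceable hU) e n
  exact ⟨i ≪≫ Functor.isoWhiskerLeft (EtCoh.pull (gp cS g f)) (hfExtIso (pullback f g) n).symm⟩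

end Main

end Groth.Agent.H1.StrictLocMain
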