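import Groth.Agent.Lib.Helper1.StrictLocMain
import Groth.Agent.S0074
import Groth.Prelude.Def_PBC

/-!
# The stalk of `Rⁿf_*` at a strict localisation given by an ind-étale algebra over an étale affine chart (helper1)

`strictLoc_main`: `j : Spec B ⟶ S` étale, `R` strictly henselian local and ind-étale over `B`, `g : Spec R ⟶ Spec B ⟶ S`;
then `F ↦ (Rⁿf_*F)_{closed geometric point}` and `F ↦ Hⁿ(X ×_S Spec R, g'⁻¹F)` are isomorphic functors.
-/

set_option autoImplicit false
set_option linter.unusedSectionVars false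
universe u
open CategoryTheory CategoryTheory.Limits AlgebraicGeometry Opposite CategoryTheory.Abelian

namespace Groth.Agent.H1.StrictLocRing

open Groth.Agent.H1.LimCoh Groth.Agent.H1.EtGerm

section Tower

variable {α : Type u} [PartialOrder α] {B : CommRingCat.{u}} (Dr : α ⥤ Under B)
  (c : Cocone Dr) {S : Scheme.{u}} (j : Spec B ⟶ S)

/-- the tower of spectra -/
noncomputable abbrev Vs : αᵒᵖ ⥤ Scheme.{u} := (Dr ⋙ Under.forget B).op ⋙ Scheme.Spec

/-- the cone of spectra -/
noncomputable abbrev cS : Cone (Vs Dr) := Scheme.Spec.mapCone ((Under.forget B).mapCocone c).op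

/-- the structure maps -/
noncomputable abbrev ε (a : α) : (Vs Dr).obj (op a) ⟶ S := Spec.map (Dr.obj a).hom ≫ j

lemma hε ⦃a b : α⦄ (h : a ≤ b) : tr (Vs Dr) h ≫ ε Dr j a = ε Dr j b := by
  change Spec.map (Dr.map (homOfLE h)).right ≫ Spec.map (Dr.obj a).hom ≫ j =
    Spec.map (Dr.obj b).hom ≫ j
  rw [← Category.assoc, ← Spec.map_comp, Under.w]

lemma hg (a : α) : pj (Vs Dr) (cS Dr c) a ≫ ε Dr j a = Spec.map c.pt.hom ≫ j := by
  change Spec.map (c.ι.app a).right ≫ Spec.map (Dr.obj a).hom ≫ j = Spec.map c.pt.hom ≫ j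
  rw [← Category.assoc, ← Spec.map_comp, Under.w]
  rfl

variable [IsDirected α (· ≤ ·)] [Nonempty α]

/-- the cone of spectra is a limit cone -/
noncomputable def hcS (hc : IsColimit c) : IsLimit (cS Dr c) :=
  isLimitOfPreserves Scheme.Spec (isColimitOfPreserves (Under.forget B) hc).op

lemma haff ⦃a b : αᵒᵖ⦄ (h : a ⟶ b) : IsAffineHom ((Vs Dr).map h) := by
  change IsAffineHom (Spec.map _)
  infer_instance

instance (a : α) : CompactSpace ((Vs Dr).obj (op a)) := by
  change CompactSpace (Spec _)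
  infer_instance

instance (a : α) : QuasiSeparatedSpace ((Vs Dr).obj (op a)) := by
  change QuasiSeparatedSpace (Spec _)
  infer_instance

end Tower

section Main

variable {X S : Scheme.{u}} (f : X ⟶ S) [QuasiCompact f] [QuasiSeparated f]
  (R : Type u) [CommRing R] [HenselianLocalRing R] [IsSepClosed (IsLocalRing.ResidueField R)]
  {B : Type u} [CommRing B] (j : Spec (CommRingCat.of B) ⟶ S) [Etale j] [Algebra B R]

theorem strictLoc_main (h : EtPBC.IsIndEtale B R) (n : ℕ) :
    Nonempty (EtCoh.Rpush f n ⋙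
        EtCoh.stalk (Spec.map (CommRingCat.ofHom (IsLocalRing.residue R)) ≫
          (Spec.map (CommRingCat.ofHom (algebraMap B R)) ≫ j)) ≅
      EtCoh.pull (pullback.fst f (Spec.map (CommRingCat.ofHom (algebraMap B R)) ≫ j)) ⋙
        EtCoh.HF (pullback f (Spec.map (CommRingCat.ofHom (algebraMap B R)) ≫ j)) n) := by
  obtain ⟨J, _, _, D, c, hc, het, ⟨iso⟩⟩ := h
  obtain ⟨α, _, _, _, Φ, _⟩ := IsFiltered.exists_directed J
  let Dr : α ⥤ Under (CommRingCat.of B) := Φ ⋙ D
  let c' : Cocone Dr :=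
    { pt := Under.mk (CommRingCat.ofHom (algebraMap B R))
      ι := (c.whisker Φ).ι ≫ (Functor.const α).map iso.hom }
  have hc' : IsColimit c' :=
    IsColimit.ofIsoColimit ((Functor.Final.isColimitWhiskerEquiv Φ c).symm hc)
      (Cocone.ext iso (fun a => rfl))
  haveI : ∀ a : α, Etale (ε Dr j a) := fun a => by
    have h1 : RingHom.Etale (Dr.obj a).hom.hom := het (Φ.obj a)
    haveI : Etale (Spec.map (Dr.obj a).hom) := (HasRingHomProperty.Spec_iff (P := @Etale)).2 h1
    exact inferInstanceAs (Etale (Spec.map (Dr.obj a).hom ≫ j))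
  exact Groth.Agent.H1.StrictLocMain.main (cS := cS Dr c') (ε Dr j) (hε Dr j)
    (Spec.map (CommRingCat.ofHom (algebraMap B R)) ≫ j) (hg Dr c' j) f (hcS Dr c' hc') (haff Dr)
    (Spec.map (CommRingCat.ofHom (IsLocalRing.residue R)))
    (Over.homMk (Spec.map (CommRingCat.ofHom (IsLocalRing.residue R))) (Category.comp_id _))
    (fun M => Groth.Agent.S0074.result R M) n

end Main

end Groth.Agent.H1.StrictLocRing
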