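import Mathlib
import Groth.Prelude.Def_Hens2
import Groth.Agent.S12237
import Groth.Agent.Lib.Helper24.IndEtaleProps
import Groth.Agent.Lib.Helper24.StrictHensProps

set_option autoImplicit false
universe u
open CategoryTheory CategoryTheory.Limits AlgebraicGeometry Opposite

namespace Groth.Agent.H1.StrictLocSpec

/-- A morphism into `Spec 𝒪_{X,x}` which over `X` factors through `Spec 𝒪_{X,x'}` by a map hitting
the closed point: then `x' ⤳ x` and the morphism is the composite with the specialization map. -/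
theorem factor_stalk (X : Scheme.{u}) (x x' : X) {B : CommRingCat.{u}}
    (m : Spec B ⟶ Spec (X.presheaf.stalk x)) (β : X.presheaf.stalk x' ⟶ B)
    (hm : m ≫ X.fromSpecStalk x = Spec.map β ≫ X.fromSpecStalk x')
    (b : Spec B) (hb : Spec.map β b = IsLocalRing.closedPoint (X.presheaf.stalk x')) :
    ∃ h : x' ⤳ x, m = Spec.map (X.presheaf.stalkSpecializes h ≫ β) := by
  have h : x' ⤳ x := by
    have h1 : (m ≫ X.fromSpecStalk x) b = x' := by
      rw [hm, Scheme.Hom.comp_apply, hb, Scheme.fromSpecStalk_closedPoint]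
    have h2 : x' ∈ Set.range (X.fromSpecStalk x) := ⟨m b, by rw [← h1]; rfl⟩
    rwa [Scheme.range_fromSpecStalk] at h2
  refine ⟨h, ?_⟩
  rw [← cancel_mono (X.fromSpecStalk x), hm, Spec.map_comp, Category.assoc,
    Scheme.SpecMap_stalkSpecializes_fromSpecStalk]


section Main

variable (X : Scheme.{u}) (x x' : X)
  (R : Type u) [CommRing R] [IsLocalRing R] [Algebra (X.presheaf.stalk x) R]
  [IsLocalHom (algebraMap (X.presheaf.stalk x) R)] [Hensel.IsStrictHenselization (X.presheaf.stalk x) R]
  (R' : Type u) [CommRing R'] [IsLocalRing R'] [Algebra (X.presheaf.stalk x') R']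
  [IsLocalHom (algebraMap (X.presheaf.stalk x') R')]

/-- the `𝒪_{X,x}`-algebra structure on an `𝒪_{X,x'}`-algebra, for `x' ⤳ x` -/
noncomputable abbrev algOfSpec (h : x' ⤳ x) : Algebra (X.presheaf.stalk x) R' :=
  ((algebraMap (X.presheaf.stalk x') R').comp (X.presheaf.stalkSpecializes h).hom).toAlgebra

/-- an `X`-morphism `Spec B ⟶ Spec R` (for an `𝒪_{X,x'}`-algebra `B` with a point over the closed
point) is `Spec` of an `𝒪_{X,x}`-algebra map -/
theorem exists_algHom_of_over {B : Type u} [CommRing B] [Algebra (X.presheaf.stalk x') B]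
    (g : Spec (CommRingCat.of B) ⟶ Spec (CommRingCat.of R))
    (hg : g ≫ Hens2.specOf X x R = Hens2.specOf X x' B)
    (b : Spec (CommRingCat.of B))
    (hb : Spec.map (CommRingCat.ofHom (algebraMap (X.presheaf.stalk x') B)) b =
      IsLocalRing.closedPoint (X.presheaf.stalk x')) :
    ∃ (h : x' ⤳ x), letI := algOfSpec X x x' B h
      ∃ φ : R →ₐ[X.presheaf.stalk x] B, g = Spec.map (CommRingCat.ofHom φ.toRingHom) := by
  have hm : (g ≫ Spec.map (CommRingCat.ofHom (algebraMap (X.presheaf.stalk x) R))) ≫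
      X.fromSpecStalk x =
      Spec.map (CommRingCat.ofHom (algebraMap (X.presheaf.stalk x') B)) ≫ X.fromSpecStalk x' := by
    rw [Category.assoc]
    exact hg
  obtain ⟨h, hh⟩ := factor_stalk X x x' _ _ hm b hb
  refine ⟨h, ?_⟩
  letI := algOfSpec X x x' B h
  obtain ⟨φ, rfl⟩ := Spec.map_surjective g
  rw [← Spec.map_comp] at hh
  have hh' := Spec.map_injective hh
  refine ⟨{ φ.hom with commutes' := fun a => ?_ }, rfl⟩
  exact ConcreteCategory.congr_hom hh' a

end Main

end Groth.Agent.H1.StrictLocSpec
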