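import Mathlib
import Groth.Agent.Lib.Helper1.StrictLocSpec
import Groth.Agent.S0733
import Groth.Agent.Lib.Helper24.IndEtaleField

set_option autoImplicit false
universe u
open CategoryTheory CategoryTheory.Limits AlgebraicGeometry Opposite
open scoped TensorProduct

namespace Groth.Agent.H1.StrictLocSpec

/-- a faithfully flat ind-étale algebra maps to every separably closed field over the base -/
theorem exists_algHom_of_sepClosed (A R L : Type u) [CommRing A] [CommRing R] [Algebra A R]
    [Module.FaithfullyFlat A R] (hR : EtPBC.IsIndEtale A R) [Field L] [IsSepClosed L]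
    [Algebra A L] : Nonempty (R →ₐ[A] L) := by
  let p : Ideal A := RingHom.ker (algebraMap A L)
  haveI : p.IsPrime := RingHom.ker_isPrime _
  let k := p.ResidueField
  let ι : k →+* L := Ideal.ResidueField.lift p (algebraMap A L) le_rfl (by
    intro a ha
    show IsUnit (algebraMap A L a)
    rw [isUnit_iff_ne_zero]
    exact fun h => ha h)
  letI : Algebra k L := ι.toAlgebra
  have hι : ∀ a : A, algebraMap k L (algebraMap A k a) = algebraMap A L a := fun a =>
    Ideal.ResidueField.lift_algebraMap p (algebraMap A L) le_rfl _ a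
  have hF : EtPBC.IsIndEtale k (k ⊗[A] R) := Groth.Agent.S0733.result A R k hR
  haveI : Nontrivial (k ⊗[A] R) := Module.FaithfullyFlat.rTensor_nontrivial A R k
  obtain ⟨m, hm⟩ := Ideal.exists_maximal (k ⊗[A] R)
  letI : Field ((k ⊗[A] R) ⧸ m) := Ideal.Quotient.field m
  let π : (k ⊗[A] R) →ₐ[k] ((k ⊗[A] R) ⧸ m) := Ideal.Quotient.mkₐ k m
  haveI : Algebra.IsSeparable k ((k ⊗[A] R) ⧸ m) := ⟨fun x => by
    obtain ⟨z, rfl⟩ := Ideal.Quotient.mk_surjective x
    exact Groth.Agent.Lib.Helper24.IndEtaleField.isSeparable_of_isIndEtale k (k ⊗[A] R) hF _ π z⟩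
  let σ : ((k ⊗[A] R) ⧸ m) →ₐ[k] L := IsSepClosed.lift
  let j : R →ₐ[A] k ⊗[A] R := Algebra.TensorProduct.includeRight
  refine ⟨{ (σ.toRingHom.comp (π.toRingHom.comp j.toRingHom)) with commutes' := fun a => ?_ }⟩
  show σ (π (j (algebraMap A R a))) = algebraMap A L a
  rw [j.commutes, IsScalarTower.algebraMap_apply A k (k ⊗[A] R), π.commutes, σ.commutes, hι]

end Groth.Agent.H1.StrictLocSpec
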