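import Groth.Agent.Lib.Helper1.TorsColim
import Groth.Agent.Lib.Helper21.SuppConstr

/-!
# Torsion sheaves with a vanishing stalk as colimits of constructible sheaves supported away from
the point (helper1)
-/

set_option autoImplicit false
universe u
open CategoryTheory CategoryTheory.Limits AlgebraicGeometry Opposite

namespace Groth.Agent.H1.TorsColimSupp

open Groth.Agent.H1.ExtZero Groth.Agent.H1.ConstrGen Groth.Agent.H1.EtCartan Groth.Agent.H1.Cpt
  Groth.Agent.H1.EtFiltH Groth.Agent.Lib.helper21.Constr Groth.Agent.H1.TorsColim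
  Groth.Agent.H1.EtStalk Groth.Agent.H1.EtGerm

section Topology

variable {T : Type*} [TopologicalSpace T]

theorem interior_or_of_isConstructible (η : T) (hη : IsGenericPoint η (⊤ : Set T)) {E : Set T}
    (hE : Topology.IsConstructible E) : η ∈ interior E ∨ η ∈ interior Eᶜ := by
  induction hE using Topology.IsConstructible.empty_union_induction with
  | open_retrocompact U hUo hUc =>
    by_cases h : η ∈ U
    · left
      rwa [hUo.interior_eq]
    · right
      have hU : U = ∅ := by
        by_contra hne
        apply h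
        rw [hη.mem_open_set_iff hUo]
        rcases Set.nonempty_iff_ne_empty.2 hne with ⟨x, hx⟩
        exact ⟨x, trivial, hx⟩
      subst hU
      simp
  | union s hs t ht ihs iht =>
    rcases ihs with h | h
    · left
      exact interior_mono Set.subset_union_left h
    · rcases iht with h' | h'
      · left
        exact interior_mono Set.subset_union_right h'
      · right
        rw [Set.compl_union, interior_inter]
        exact ⟨h, h'⟩
  | compl s hs ih =>
    rcases ih with h | h
    · right
      rwa [compl_compl]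
    · left
      exact h

/-- the generic point is not in the closure of a constructible set not containing it -/
theorem not_mem_closure_of_isConstructible (η : T) (hη : IsGenericPoint η (⊤ : Set T)) {E : Set T}
    (hE : Topology.IsConstructible E) (h : η ∉ E) : η ∉ closure E := by
  rcases interior_or_of_isConstructible η hη hE with h' | h'
  · exact absurd (interior_subset h') h
  · rw [closure_eq_compl_interior_compl]
    exact fun hc => hc h'

end Topology

variable {X : Scheme.{u}}

theorem supp_of_iso {F G : EtCoh.Ab X} (e : F ≅ G) : EtPBC.supp F = EtPBC.supp G := by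
  ext x
  constructor
  · rintro ⟨Ω, _, _, ξ, hξ, hne⟩
    exact ⟨Ω, _, _, ξ, hξ, fun h => hne (h.of_iso ((EtCoh.stalk ξ).mapIso e))⟩
  · rintro ⟨Ω, _, _, ξ, hξ, hne⟩
    exact ⟨Ω, _, _, ξ, hξ, fun h => hne (h.of_iso ((EtCoh.stalk ξ).mapIso e.symm))⟩

variable [CompactSpace X] [QuasiSeparatedSpace X] (F : EtCoh.Ab X)

/-- **cofinality**: every constructible sheaf over `F` maps to one whose support misses a point
at which the stalk of `F` vanishes -/
theorem exists_quot_away (x : X) (hx : IsZero ((EtCoh.stalk (geomPt X x)).obj F)) (j : JObj F) :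
    ∃ (j' : JObj F) (_ : j ⟶ j'), x ∉ EtPBC.supp j'.i.G := by
  obtain ⟨N, hN, hGN⟩ := exists_killedBy j.i.G j.hc
  haveI : NeZero N := ⟨hN.ne'⟩
  haveI := finite_stalk j.i.G j.hc (geomPt X x)
  -- for each element of the stalk a representative killed by `j.m`
  have key : ∀ p : (EtCoh.stalk (geomPt X x)).obj j.i.G,
      ∃ (W : X.Etale) (_ : IsAffine W.left) (w : Lift (geomPt X x) W) (t : j.i.G.obj.obj (op W)),
        germ (geomPt X x) j.i.G W w t = p ∧ j.m.hom.app (op W) t = 0 := by
    intro p
    obtain ⟨V, y, s, hs⟩ := germ_surjective j.i.G p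
    have h0 : germ (geomPt X x) F V y (j.m.hom.app (op V) s) = 0 :=
      (AddCommGrpCat.subsingleton_of_isZero hx).elim _ _
    obtain ⟨V', g, y', hy', hg⟩ := (germ_eq_zero_iff F V y _).1 h0
    obtain ⟨W, g', ⟨e, he⟩, hW⟩ := restrict_affine V' (y'.hom.base default)
    obtain ⟨w, hw, -⟩ := exists_lift_of_point g' y' e he
    refine ⟨W, hW, w, j.i.G.obj.map (g' ≫ g).op s, ?_, ?_⟩
    · rw [germ_res, ← hs]
      have hl : Lift.map (g' ≫ g) w = y := by
        have h1 : Lift.map (g' ≫ g) w = Lift.map g (Lift.map g' w) :=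
          Lift.ext (by simp only [Lift.map_hom]; exact (Category.assoc _ _ _).symm)
        rw [h1, hw, hy']
      rw [hl]
    · have h1 := congrArg (fun m => (ConcreteCategory.hom m) s) (j.m.hom.naturality (g' ≫ g).op)
      have h2 : j.m.hom.app (op W) (j.i.G.obj.map (g' ≫ g).op s) =
          F.obj.map (g' ≫ g).op (j.m.hom.app (op V) s) := h1
      rw [h2, op_comp, CategoryTheory.Functor.map_comp]
      change F.obj.map g'.op (F.obj.map g.op (j.m.hom.app (op V) s)) = 0
      rw [hg, map_zero]
  choose W hW w t ht htm using key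
  have hs : ∀ p, N • t p = 0 := fun p => hGN _ (t p)
  obtain ⟨π, hπ⟩ : ∃ π : PP.{u} N W ⟶ j.i.G, π = genMap N j.i.G W t hs := ⟨_, rfl⟩
  have hπm : π ≫ j.m = 0 := by
    rw [hπ]
    apply biproduct.hom_ext'
    intro p
    rw [← Category.assoc, ι_genMap, comp_zero]
    apply (isExtZero_ez (W p) (Zn.{u} N)).hom_ext
    apply Zn_hom_ext
    change j.m.hom.app (op (W p)) ((secMap N (t p) (hs p)).hom.app (op (W p))
      (gen (W p) (Zn.{u} N) ⟨1⟩)) = 0
    rw [secMap_gen, htm]
  have hc' : EtPBC.IsConstructible (cokernel π) := by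
    rw [hπ]
    exact isConstructible_cokernel_genMap N hN j.i.G j.hc W hW t hs
  have hzero : IsZero ((EtCoh.stalk (geomPt X x)).obj (cokernel π)) := by
    have h0 : ∀ q : (EtCoh.stalk (geomPt X x)).obj (cokernel π), q = 0 := by
      intro q
      obtain ⟨p, rfl⟩ := stalk_surjective_of_epi (geomPt X x) (cokernel.π π) q
      obtain ⟨r, hr⟩ := exists_genMap_eq N j.i.G W t hs p
      rw [← hπ] at hr
      rw [← ht p, ← hr, ← stalk_map_germ, ← ConcreteCategory.comp_apply, ← Functor.map_comp,
        cokernel.condition, Functor.map_zero]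
      rfl
    haveI : Subsingleton ((EtCoh.stalk (geomPt X x)).obj (cokernel π)) :=
      ⟨fun a b => by rw [h0 a, h0 b]⟩
    exact AddCommGrpCat.isZero_of_subsingleton _
  have hns := not_mem_supp _ hc' (geomPt X x) hzero
  rw [show (geomPt X x) default = x from geomPt_default X x] at hns
  obtain ⟨j', e, he⟩ := exists_model (cokernel π) hc' (cokernel.desc π j.m hπm)
  refine ⟨j', ⟨cokernel.π π ≫ e.hom, by rw [Category.assoc, he, cokernel.π_desc]⟩, ?_⟩
  rw [← supp_of_iso e]
  exact hns

end Groth.Agent.H1.TorsColimSupp
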