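import Groth.Agent.Lib.Helper1.LimCohESys
import Groth.Agent.Lib.Helper1.SecPullEtale

/-!
# Sections of a pulled-back sheaf on the limit of a tower of étale schemes over a base (helper1)

`Y_i ⟶ Y` étale (`e i`), compatible, with limit `g' : Y' ⟶ Y`, `G` a sheaf on `Y`.  The maps
`can j : G(Y_j) → Γ(Y', g'⁻¹G)` are compatible (`can_tr`), jointly surjective (`can_surj`) and a section killed by
`can j` dies at a later stage (`can_inj`).
-/

set_option autoImplicit false
set_option linter.unusedSectionVars false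
universe u
open CategoryTheory CategoryTheory.Limits AlgebraicGeometry Opposite CategoryTheory.Abelian

namespace Groth.Agent.H1.TowerSec

open Groth.Agent.Lib.helper27 Groth.Agent.Lib.helper27.PullFunEt
  Groth.Agent.H1.EtCartan Groth.Agent.H1.LimCoh Groth.Agent.H1.PullGerm Groth.Agent.H1.SecPullEtale

/-- a morphism to the terminal object of the small étale site has the structure map as underlying map -/
lemma left_to_top {Z : Scheme.{u}} {A : Z.Etale} (φ : A ⟶ EtCoh.top Z) : φ.left = A.hom :=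
  (Category.comp_id _).symm.trans (MorphismProperty.Over.w φ)

lemma map_iso_injective {Z : Scheme.{u}} (M : EtCoh.Ab Z) {A B : Z.Etale} (φ : A ⟶ B) [IsIso φ] :
    Function.Injective (M.obj.map φ.op) := by
  have : IsIso (M.obj.map φ.op) := inferInstance
  exact (ConcreteCategory.bijective_of_isIso _).1

lemma map_comp_apply {Z : Scheme.{u}} (M : EtCoh.Ab Z) {A B C : Z.Etale} (φ : A ⟶ B) (ψ : B ⟶ C)
    (x : M.obj.obj (op C)) : M.obj.map (φ ≫ ψ).op x = M.obj.map φ.op (M.obj.map ψ.op x) := by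
  rw [op_comp, Functor.map_comp]
  rfl

section K

variable {S Y Y' : Scheme.{u}} (F : EtCoh.Ab S) (g : Y' ⟶ Y) (a : Y ⟶ S) (a' : Y' ⟶ S)
  (w : g ≫ a = a')

theorem θ_usec (V : S.Etale) (t : F.obj.obj (op V)) :
    (θ F g a a' w).hom.app (op ((EtCoh.bc a).obj V)) (usec a F V t) =
      ((EtCoh.pull a').obj F).obj.map ((bcTri g a a' w).hom.app V).op (usec a' F V t) := by
  have h := homEquiv_θ F g a a' w
  have h1 : ((adj a).unit.app F ≫ (EtCoh.push a).map (θ F g a a' w)).hom.app (op V) t =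
      ((adj a').unit.app F ≫
        (pushTri g a a' w).inv.app ((EtCoh.pull a').obj F)).hom.app (op V) t := by
    rw [h]
  refine Eq.trans ?_ (h1.trans ?_)
  · rfl
  · exact ConcreteCategory.congr_hom (pushTri_inv_app g a a' w _ V) _

theorem θ_map_usec (V : S.Etale) {W : Y.Etale} (m : W ⟶ (EtCoh.bc a).obj V)
    (t : F.obj.obj (op V)) :
    (θ F g a a' w).hom.app (op W) (((EtCoh.pull a).obj F).obj.map m.op (usec a F V t)) =
      ((EtCoh.pull a').obj F).obj.map
        ((EtCoh.bc g).map m ≫ (bcTri g a a' w).hom.app V).op (usec a' F V t) := by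
  have nat := NatTrans.naturality_apply (θ F g a a' w).hom m.op (usec a F V t)
  refine nat.trans ?_
  rw [θ_usec, op_comp, Functor.map_comp]
  rfl

variable [Etale a]

/-- the graph of `g`, as a morphism of the small étale site of `Y'` -/
noncomputable def κ' : EtCoh.top Y' ⟶ (EtCoh.bc a').obj (E a) :=
  MorphismProperty.Over.homMk
    (pullback.lift g (𝟙 Y') (w.trans (Category.id_comp _).symm))
    (pullback.lift_snd _ _ _) trivial

lemma κ'_left_pr : (κ' g a a' w).left ≫ pr a' (E a) = g := pullback.lift_fst _ _ _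

lemma δ_left_pr : (δ a).left ≫ pr a (E a) = 𝟙 Y := pullback.lift_fst _ _ _

lemma graph_eq : (EtCoh.bc g).map (δ a) ≫ (bcTri g a a' w).hom.app (E a) =
    (EtCore.bcTopIso g).hom ≫ κ' g a a' w := by
  apply bc_hom_ext
  change (((EtCoh.bc g).map (δ a)).left ≫ ((bcTri g a a' w).hom.app (E a)).left) ≫ pr a' (E a) =
    ((EtCore.bcTopIso g).hom.left ≫ (κ' g a a' w).left) ≫ pr a' (E a)
  rw [Category.assoc, Category.assoc, κ'_left_pr, bcTri_hom_pr, bc_map_pr_assoc, δ_left_pr,
    left_to_top]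
  exact pullback.condition

theorem θ_uMap (t : F.obj.obj (op (E a))) :
    (θ F g a a' w).hom.app (op (EtCoh.top Y)) (uMap a F t) =
      ((EtCoh.pull a').obj F).obj.map ((EtCore.bcTopIso g).hom ≫ κ' g a a' w).op
        (usec a' F (E a) t) := by
  unfold uMap
  rw [θ_map_usec, graph_eq]

end K

section Tower

variable {ι : Type u} [Preorder ι] {Ys : ιᵒᵖ ⥤ Scheme.{u}} (c : Cone Ys) {Y : Scheme.{u}}
  (e : ∀ i : ι, Ys.obj (op i) ⟶ Y) [∀ i, Etale (e i)]
  (he : ∀ ⦃i j : ι⦄ (h : i ≤ j), tr Ys h ≫ e i = e j)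
  (g' : c.pt ⟶ Y) (hg : ∀ i : ι, pj Ys c i ≫ e i = g') (G : EtCoh.Ab Y)

/-- the transition maps between the stages, in the small étale site of `Y` -/
noncomputable def trE {j k : ι} (h : j ≤ k) : E (e k) ⟶ E (e j) :=
  MorphismProperty.Over.homMk (tr Ys h) (he h) trivial

lemma trE_left {j k : ι} (h : j ≤ k) : (trE e he h).left = tr Ys h := rfl

/-- the canonical map from the limit to the base change of a stage -/
noncomputable abbrev κ (j : ι) : EtCoh.top c.pt ⟶ (EtCoh.bc g').obj (E (e j)) :=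
  κ' (pj Ys c j) (e j) g' (hg j)

lemma κ_tr {j k : ι} (h : j ≤ k) :
    κ c e g' hg k ≫ (EtCoh.bc g').map (trE e he h) = κ c e g' hg j := by
  apply bc_hom_ext
  change ((κ c e g' hg k).left ≫ ((EtCoh.bc g').map (trE e he h)).left) ≫ pr g' (E (e j)) = _
  rw [Category.assoc, bc_map_pr, ← Category.assoc, κ'_left_pr, κ'_left_pr, trE_left]
  exact pj_tr Ys c h

lemma δ_tr {j k : ι} (h : j ≤ k) :
    δ (e k) ≫ (EtCoh.bc (e k)).map (trE e he h) = κ' (tr Ys h) (e j) (e k) (he h) := by
  apply bc_hom_ext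
  change ((δ (e k)).left ≫ ((EtCoh.bc (e k)).map (trE e he h)).left) ≫ pr (e k) (E (e j)) = _
  rw [Category.assoc, bc_map_pr, ← Category.assoc, δ_left_pr, κ'_left_pr, trE_left]
  exact Category.id_comp _

/-- sections over a stage give global sections on the limit -/
noncomputable def can (j : ι) (t : G.obj.obj (op (E (e j)))) :
    ((EtCoh.pull g').obj G).obj.obj (op (EtCoh.top c.pt)) :=
  ((EtCoh.pull g').obj G).obj.map (κ c e g' hg j).op (usec g' G (E (e j)) t)

theorem can_tr {j k : ι} (h : j ≤ k) (t : G.obj.obj (op (E (e j)))) :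
    can c e g' hg G k (G.obj.map (trE e he h).op t) = can c e g' hg G j t := by
  unfold can
  rw [usec_res, ← map_comp_apply, κ_tr c e he g' hg h]

theorem lam_uMap (j : ι) (t : G.obj.obj (op (E (e j)))) :
    ((eLim c e he g' hg G).lam j).hom.app (op (EtCoh.top (Ys.obj (op j)))) (uMap (e j) G t) =
      ((EtCoh.pull g').obj G).obj.map (EtCore.bcTopIso (pj Ys c j)).hom.op
        (can c e g' hg G j t) := by
  unfold can
  rw [← map_comp_apply]
  exact θ_uMap G (pj Ys c j) (e j) g' (hg j) t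

theorem sysθ_uMap {j k : ι} (h : j ≤ k) (t : G.obj.obj (op (E (e j)))) :
    ((eSys e he G).θ h).hom.app (op (EtCoh.top (Ys.obj (op j)))) (uMap (e j) G t) =
      ((EtCoh.pull (e k)).obj G).obj.map (EtCore.bcTopIso (tr Ys h)).hom.op
        (uMap (e k) G (G.obj.map (trE e he h).op t)) := by
  have h1 : uMap (e k) G (G.obj.map (trE e he h).op t) =
      ((EtCoh.pull (e k)).obj G).obj.map (κ' (tr Ys h) (e j) (e k) (he h)).op
        (usec (e k) G (E (e j)) t) := by
    unfold uMap
    rw [usec_res, ← map_comp_apply, δ_tr]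
  rw [h1, ← map_comp_apply]
  exact θ_uMap G (tr Ys h) (e j) (e k) (he h) t

variable {c} [IsDirected ι (· ≤ ·)] [Nonempty ι] (hc : IsLimit c)
  (haff : ∀ ⦃a b : ιᵒᵖ⦄ (h : a ⟶ b), IsAffineHom (Ys.map h))
  [∀ i : ι, CompactSpace (Ys.obj (op i))] [∀ i : ι, QuasiSeparatedSpace (Ys.obj (op i))]

include hc haff in
theorem can_inj (j : ι) (t : G.obj.obj (op (E (e j)))) (h0 : can c e g' hg G j t = 0) :
    ∃ (k : ι) (hk : j ≤ k), G.obj.map (trE e he hk).op t = 0 := by
  have hI := e_h0Inj e he g' hg G hc haff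
  have h1 : ((eLim c e he g' hg G).lam j).hom.app (op (EtCoh.top (Ys.obj (op j))))
      (uMap (e j) G t) = 0 :=
    (lam_uMap c e he g' hg G j t).trans ((congrArg _ h0).trans (map_zero _))
  obtain ⟨k, hk, h2⟩ := hI j (EtCoh.top _) good_top (uMap (e j) G t) h1
  refine ⟨k, hk, ?_⟩
  rw [sysθ_uMap] at h2
  have h3 : uMap (e k) G (G.obj.map (trE e he hk).op t) = 0 := by
    apply map_iso_injective ((EtCoh.pull (e k)).obj G) (EtCore.bcTopIso (tr Ys hk)).hom
    exact h2.trans (map_zero _).symm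
  apply (uMap_bijective (e k) G).1
  refine h3.trans ?_
  unfold uMap
  exact ((congrArg _ (map_zero _)).trans (map_zero _)).symm

include hc haff he in
theorem can_surj (y : ((EtCoh.pull g').obj G).obj.obj (op (EtCoh.top c.pt))) :
    ∃ (j : ι) (t : G.obj.obj (op (E (e j)))), can c e g' hg G j t = y := by
  obtain ⟨i⟩ := ‹Nonempty ι›
  have hS := e_h0Surj e he g' hg G hc haff
  obtain ⟨j, hj, s, hs⟩ := hS i (EtCoh.top _) good_top
    (((EtCoh.pull g').obj G).obj.map (EtCore.bcTopIso (pj Ys c i)).hom.op y)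
  obtain ⟨t, ht⟩ := (uMap_bijective (e j) G).2
    (((EtCoh.pull (e j)).obj G).obj.map (EtCore.bcTopIso (tr Ys hj)).inv.op s)
  refine ⟨j, t, ?_⟩
  have hs' : s = ((EtCoh.pull (e j)).obj G).obj.map (EtCore.bcTopIso (tr Ys hj)).hom.op
      (uMap (e j) G t) := by
    rw [ht, ← map_comp_apply, Iso.hom_inv_id]
    simp
  have nat := NatTrans.naturality_apply ((eLim c e he g' hg G).lam j).hom
    (EtCore.bcTopIso (tr Ys hj)).hom.op (uMap (e j) G t)
  rw [lam_uMap] at nat
  rw [hs'] at hs
  apply map_iso_injective ((EtCoh.pull g').obj G) (EtCore.bcTopIso (pj Ys c i)).hom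
  refine Eq.trans ?_ hs
  refine Eq.trans ?_ (congrArg _ nat.symm)
  change _ = ((EtCoh.pull g').obj G).obj.map _
    (((EtCoh.pull g').obj G).obj.map ((EtCoh.bc (pj Ys c j)).map
      (EtCore.bcTopIso (tr Ys hj)).hom).op _)
  rw [← map_comp_apply, ← map_comp_apply]
  exact ConcreteCategory.congr_hom
    (map_terminal_eq ((EtCoh.pull g').obj G) (EtCore.topIsTerminal c.pt) _ _) _

end Tower

end Groth.Agent.H1.TowerSec
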