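import Groth.Agent.Lib.Helper1.FiveHom

set_option autoImplicit false
set_option linter.unusedSectionVars false

open CategoryTheory Category Limits Pretriangulated

namespace Groth.Agent.H1.TriFF

open Groth.Agent.H1.FiveHom

variable {C C' : Type*} [Category C] [Category C'] [HasZeroObject C] [HasZeroObject C']
  [Preadditive C] [Preadditive C'] [HasShift C ℤ] [HasShift C' ℤ]
  [∀ n : ℤ, (shiftFunctor C n).Additive] [∀ n : ℤ, (shiftFunctor C' n).Additive]
  [Pretriangulated C] [Pretriangulated C']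
  (L : C ⥤ C') [L.Additive] [L.CommShift ℤ] [L.IsTriangulated]

variable {L}

lemma BF.triangle_right {K : C} (T : Triangle C) (hT : T ∈ distTriang C)
    (h₁ : BF L K T.obj₁) (h₃ : BF L K T.obj₃) (h₃' : BF L K (T.obj₃⟦(-1 : ℤ)⟧))
    (h₁' : BF L K (T.obj₁⟦(1 : ℤ)⟧)) : BF L K T.obj₂ := by
  have hT' := inv_rot_of_distTriang _ hT
  refine BF.five_right T.invRotate.mor₁ T.mor₁ T.mor₂ T.mor₃
    (comp_distTriang_mor_zero₁₂ _ hT') (comp_distTriang_mor_zero₂₃ _ hT)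
    (fun f hf => Triangle.coyoneda_exact₂ T hT f hf)
    (fun f hf => Triangle.coyoneda_exact₃ T hT f hf)
    (fun f hf => Triangle.coyoneda_exact₂ _ (L.map_distinguished _ hT') f hf)
    (fun f hf => Triangle.coyoneda_exact₂ _ (L.map_distinguished _ hT) f hf)
    h₃'.2 h₁ h₃ h₁'.1

lemma BF.triangle_left {M : C} (T : Triangle C) (hT : T ∈ distTriang C)
    (h₁ : BF L T.obj₁ M) (h₃ : BF L T.obj₃ M) (h₃' : BF L (T.obj₃⟦(-1 : ℤ)⟧) M)
    (h₁' : BF L (T.obj₁⟦(1 : ℤ)⟧) M) : BF L T.obj₂ M := by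
  have hT' := inv_rot_of_distTriang _ hT
  refine BF.five_left T.invRotate.mor₁ T.mor₁ T.mor₂ T.mor₃
    (comp_distTriang_mor_zero₁₂ _ hT') (comp_distTriang_mor_zero₂₃ _ hT)
    (fun f hf => Triangle.yoneda_exact₂ _ hT' f hf)
    (fun f hf => Triangle.yoneda_exact₂ T hT f hf)
    (fun f hf => Triangle.yoneda_exact₂ _ (L.map_distinguished _ hT) f hf)
    (fun f hf => ?_)
    h₁'.2 h₃ h₁ h₃'.1
  obtain ⟨g, hg⟩ := Triangle.yoneda_exact₃ _ (L.map_distinguished _ hT) f hf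
  refine ⟨(L.commShiftIso (1 : ℤ)).hom.app T.obj₁ ≫ g, ?_⟩
  rw [hg, ← assoc]
  rfl

lemma map_shift_eq {K N : C} (m : ℤ) (φ : K ⟶ N) :
    L.map (φ⟦m⟧') = (L.commShiftIso m).hom.app K ≫ (L.map φ)⟦m⟧' ≫
      (L.commShiftIso m).inv.app N := by
  have := (L.commShiftIso m).hom.naturality φ
  dsimp at this
  rw [← assoc, ← this, assoc, Iso.hom_inv_id_app]
  simp

lemma BF.shift {K N : C} (m : ℤ) (h : BF L K N) : BF L (K⟦m⟧) (N⟦m⟧) := by
  constructor
  · intro φ₁' φ₂' h12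
    dsimp at h12
    obtain ⟨φ₁, rfl⟩ := (shiftFunctor C m).map_surjective φ₁'
    obtain ⟨φ₂, rfl⟩ := (shiftFunctor C m).map_surjective φ₂'
    rw [map_shift_eq, map_shift_eq] at h12
    have h1 : (L.map φ₁)⟦m⟧' = (L.map φ₂)⟦m⟧' := by
      have := (L.commShiftIso m).inv.app K ≫= h12 =≫ (L.commShiftIso m).hom.app N
      simpa using this
    have h2 : L.map φ₁ = L.map φ₂ := (shiftFunctor C' m).map_injective h1
    rw [h.1 h2]
  · intro χ
    obtain ⟨ψ, hψ⟩ := (shiftFunctor C' m).map_surjective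
      ((L.commShiftIso m).inv.app K ≫ χ ≫ (L.commShiftIso m).hom.app N)
    obtain ⟨φ, rfl⟩ := h.2 ψ
    refine ⟨φ⟦m⟧', ?_⟩
    dsimp at hψ ⊢
    rw [map_shift_eq, hψ]
    simp

variable (L) in
/-- `L` is bijective on `Hom(K, M[n])` for all `n` -/
def FF (K M : C) : Prop := ∀ n : ℤ, BF L K (M⟦n⟧)

lemma FF.of_iso_right {K M M' : C} (e : M ≅ M') (h : FF L K M) : FF L K M' := fun n =>
  (h n).of_iso_right ((shiftFunctor C n).mapIso e)

lemma FF.of_iso_left {K K' M : C} (e : K ≅ K') (h : FF L K M) : FF L K' M := fun n =>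
  (h n).of_iso_left e

lemma FF.shift_right {K M : C} (m : ℤ) (h : FF L K M) : FF L K (M⟦m⟧) := fun n =>
  (h (m + n)).of_iso_right ((shiftFunctorAdd' C m n (m + n) rfl).app M)

lemma FF.shift_left {K M : C} (m : ℤ) (h : FF L K M) : FF L (K⟦m⟧) M := fun n =>
  BF.of_iso_right ((shiftFunctorAdd' C (n - m) m n (by omega)).app M).symm
    (BF.shift m (h (n - m)))

lemma FF.bf {K M : C} (h : FF L K M) : BF L K M :=
  (h 0).of_iso_right ((shiftFunctorZero C ℤ).app M)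

lemma FF.triangle_right {K : C} (T : Triangle C) (hT : T ∈ distTriang C)
    (h₁ : FF L K T.obj₁) (h₃ : FF L K T.obj₃) : FF L K T.obj₂ := by
  intro n
  have hTn := Triangle.shift_distinguished T hT n
  exact BF.triangle_right _ hTn (h₁ n) (h₃ n) (h₃.shift_right n (-1)) (h₁.shift_right n 1)

lemma FF.triangle_left {M : C} (T : Triangle C) (hT : T ∈ distTriang C)
    (h₁ : FF L T.obj₁ M) (h₃ : FF L T.obj₃ M) : FF L T.obj₂ M := by
  intro n
  exact BF.triangle_left T hT (h₁ n) (h₃ n) (h₃.shift_left (-1) n) (h₁.shift_left 1 n)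

lemma FF.of_isZero_right {K M : C} (hM : IsZero M) : FF L K M := by
  intro n
  have h1 : IsZero (M⟦n⟧) := (shiftFunctor C n).map_isZero hM
  have h2 : IsZero (L.obj (M⟦n⟧)) := L.map_isZero h1
  exact ⟨fun _ _ _ => h1.eq_of_tgt _ _, fun χ => ⟨0, h2.eq_of_tgt _ _⟩⟩

lemma FF.of_isZero_left {K M : C} (hK : IsZero K) : FF L K M := by
  intro n
  have h2 : IsZero (L.obj K) := L.map_isZero hK
  exact ⟨fun _ _ _ => hK.eq_of_src _ _, fun χ => ⟨0, h2.eq_of_src _ _⟩⟩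

end Groth.Agent.H1.TriFF
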