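import Mathlib

set_option autoImplicit false
set_option linter.unusedSectionVars false

open CategoryTheory Category Limits Pretriangulated

namespace Groth.Agent.H1.TriNat

section

variable {C D : Type*} [Category C] [Category D] [HasZeroObject C] [HasZeroObject D]
  [Preadditive C] [Preadditive D] [HasShift C ℤ] [HasShift D ℤ]
  [∀ n : ℤ, (shiftFunctor C n).Additive] [∀ n : ℤ, (shiftFunctor D n).Additive]
  [Pretriangulated C] [Pretriangulated D]
  {F G : C ⥤ D} [F.CommShift ℤ] [G.CommShift ℤ] (τ : F ⟶ G) [NatTrans.CommShift τ ℤ]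

set_option backward.isDefEq.respectTransparency.types false in
set_option backward.defeqAttrib.useBackward true in
/-- the morphism of triangles induced by a natural transformation commuting with shifts -/
@[simps]
def mapTriangleHom (T : Triangle C) : F.mapTriangle.obj T ⟶ G.mapTriangle.obj T where
  hom₁ := τ.app _
  hom₂ := τ.app _
  hom₃ := τ.app _
  comm₁ := by simp
  comm₂ := by simp
  comm₃ := by
    dsimp
    simp only [assoc, NatTrans.shift_app_comm τ (1 : ℤ) T.obj₁,
      NatTrans.naturality_assoc]

variable [F.IsTriangulated] [G.IsTriangulated]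

lemma isIso_app₂ (T : Triangle C) (hT : T ∈ distTriang C) (h₁ : IsIso (τ.app T.obj₁))
    (h₃ : IsIso (τ.app T.obj₃)) : IsIso (τ.app T.obj₂) := by
  have : IsIso (mapTriangleHom τ T).hom₁ := h₁
  have : IsIso (mapTriangleHom τ T).hom₃ := h₃
  exact isIso₂_of_isIso₁₃ (mapTriangleHom τ T) (F.map_distinguished T hT)
    (G.map_distinguished T hT) inferInstance inferInstance

lemma isIso_app_shift (X : C) (n : ℤ) (h : IsIso (τ.app X)) : IsIso (τ.app (X⟦n⟧)) := by
  have e := NatTrans.shift_app_comm τ n X
  have h1 : IsIso ((F.commShiftIso n).hom.app X ≫ (τ.app X)⟦n⟧') := inferInstance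
  rw [e] at h1
  exact IsIso.of_isIso_comp_right _ ((G.commShiftIso n).hom.app X)

lemma isIso_app_of_iso {X Y : C} (e : X ≅ Y) (h : IsIso (τ.app X)) : IsIso (τ.app Y) := by
  have : τ.app Y = F.map e.inv ≫ τ.app X ≫ G.map e.hom := by
    rw [τ.naturality_assoc, ← G.map_comp, e.inv_hom_id, G.map_id, comp_id]
  rw [this]
  infer_instance

lemma isIso_app_of_isZero (X : C) (h : IsZero X) : IsIso (τ.app X) := by
  have h1 : IsZero (F.obj X) := F.map_isZero h
  have h2 : IsZero (G.obj X) := G.map_isZero h
  exact ⟨0, h1.eq_of_src _ _, h2.eq_of_src _ _⟩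

end

end Groth.Agent.H1.TriNat
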