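import Groth.Agent.Lib.Helper1.WayOutCoh

/-!
Helper library (helper1): homology of truncations in the derived category; `D_P` is stable
under truncations; vanishing windows.
-/

set_option autoImplicit false
set_option linter.unusedSectionVars false

universe w v u

open CategoryTheory Category Limits Pretriangulated

namespace Groth.Agent.H1.TruncCoh

open Groth.Agent.H1.WayOut Groth.Agent.H1.WSerreTri Groth.Agent.H1.WayOutCoh DerivedCategory

variable {A : Type u} [Category.{v} A] [Abelian A] [HasDerivedCategory.{w} A]

/-- In a distinguished triangle whose first object has vanishing cohomology in degrees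
`i` and `i + 1`, the second map is an isomorphism on `H^i`. -/
lemma isIso_homology_mor₂ (T : Triangle (DerivedCategory A)) (hT : T ∈ distTriang _) (i : ℤ)
    (h₁ : IsZero ((homologyFunctor A i).obj T.obj₁))
    (h₁' : IsZero ((homologyFunctor A (i + 1)).obj T.obj₁)) :
    IsIso ((homologyFunctor A i).map T.mor₂) := by
  have h1 : Mono ((homologyFunctor A i).map T.mor₂) :=
    (HomologySequence.mono_homologyMap_mor₂_iff T hT i).2 (h₁.eq_of_src _ _)
  have h2 : Epi ((homologyFunctor A i).map T.mor₂) :=
    (HomologySequence.epi_homologyMap_mor₂_iff T hT i (i + 1) rfl).2 (h₁'.eq_of_tgt _ _)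
  exact isIso_of_mono_of_epi _

lemma isIso_homology_truncGEπ (X : DerivedCategory A) (c i : ℤ) (hi : c ≤ i) :
    IsIso ((homologyFunctor A i).map ((TStructure.t.truncGEπ c).app X)) := by
  let t : Triangulated.TStructure (DerivedCategory A) := TStructure.t
  let T := (t.triangleLEGE (c - 1) c (by omega)).obj X
  have hT : T ∈ distTriang _ := t.triangleLEGE_distinguished (c - 1) c (by omega) X
  have h1LE : T.obj₁.IsLE (c - 1) := by
    change t.IsLE ((t.truncLE (c - 1)).obj X) (c - 1)
    infer_instance
  exact isIso_homology_mor₂ T hT i (isZero_of_isLE T.obj₁ (c - 1) i (by omega))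
    (isZero_of_isLE T.obj₁ (c - 1) (i + 1) (by omega))

variable (P : ObjectProperty A) [WSerre.IsWeakSerre P]

lemma cohIn_truncLE (X : DerivedCategory A) (h : WSerre.cohIn P X) (c : ℤ) :
    WSerre.cohIn P ((TStructure.t.truncLE c).obj X) := by
  intro i
  by_cases hi : i ≤ c
  · have := isIso_homology_truncLEι X c i hi
    exact P.prop_of_iso (asIso ((homologyFunctor A i).map ((TStructure.t.truncLEι c).app X))).symm
      (h i)
  · exact P.prop_of_isZero (isZero_of_isLE _ c i (by omega))

lemma cohIn_truncGE (X : DerivedCategory A) (h : WSerre.cohIn P X) (c : ℤ) :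
    WSerre.cohIn P ((TStructure.t.truncGE c).obj X) := by
  intro i
  by_cases hi : c ≤ i
  · have := isIso_homology_truncGEπ X c i hi
    exact P.prop_of_iso (asIso ((homologyFunctor A i).map ((TStructure.t.truncGEπ c).app X)))
      (h i)
  · exact P.prop_of_isZero (isZero_of_isGE _ c i (by omega))

omit P in
/-- if `H^i(X) = 0` for `a ≤ i ≤ b`, then `τ_{≥ a} X` is `≥ b + 1` -/
lemma isGE_truncGE_of_window (X : DerivedCategory A) (a b : ℤ)
    (h : ∀ i : ℤ, a ≤ i → i ≤ b → IsZero ((homologyFunctor A i).obj X)) :
    ((TStructure.t.truncGE a).obj X).IsGE (b + 1) := by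
  rw [isGE_iff]
  intro i hi
  by_cases hia : a ≤ i
  · have := isIso_homology_truncGEπ X a i hia
    exact (h i hia (by omega)).of_iso
      (asIso ((homologyFunctor A i).map ((TStructure.t.truncGEπ a).app X))).symm
  · exact isZero_of_isGE _ a i (by omega)

end Groth.Agent.H1.TruncCoh
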