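import Groth.Agent.Lib.Helper1.TruncTower
import Groth.Agent.Lib.Helper1.RlimAdj
import Groth.Agent.Lib.Helper1.ProjHom

/-!
Helper library (helper1): abstract form of "`D(ℬ) ≃ D_A(O)`": an exact fully faithful functor
`Φ : ℬ ⥤ Mod(O)` from an abelian category with a projective generator `P₀` onto a weak Serre
class `A` of modules on a ringed site with enough objects of finite cohomological dimension,
with `Φ P₀ ≅ freeOn W` for a good object `W`, induces a fully faithful functor on unbounded
derived categories with essential image `D_A(O)`.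
-/

set_option autoImplicit false
set_option linter.unusedSectionVars false
set_option linter.style.haveILetI false
universe w w' u
open CategoryTheory CategoryTheory.Limits Opposite DerivedCategory Pretriangulated

namespace Groth.Agent.H1.UnbddProj

open Groth.Agent.H1.AdjExact Groth.Agent.H1.WayOutCoh Groth.Agent.H1.WSerreTri
  Groth.Agent.H1.TriNat Groth.Agent.H1.TruncTower Groth.Agent.H1.RlimAdj
  Groth.Agent.H1.RlimCoh Groth.Agent.H1.GoodCd Groth.Agent.H1.HjSite Groth.Agent.H1.ProjHom

/-- a functor which is fully faithful reflects isomorphisms (explicit form) -/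
lemma isIso_of_map_isIso {𝒜 ℬ : Type*} [Category 𝒜] [Category ℬ] (Φ : ℬ ⥤ 𝒜)
    (hff : ∀ F' G' : ℬ, Function.Bijective (fun φ : F' ⟶ G' => Φ.map φ))
    {F' G' : ℬ} (φ : F' ⟶ G') (h : IsIso (Φ.map φ)) : IsIso φ := by
  obtain ⟨ψ, hψ⟩ := (hff G' F').2 (inv (Φ.map φ))
  dsimp only at hψ
  refine ⟨ψ, ?_, ?_⟩
  · apply (hff F' F').1
    dsimp only
    rw [Functor.map_comp, hψ, IsIso.hom_inv_id, CategoryTheory.Functor.map_id]
  · apply (hff G' G').1
    dsimp only
    rw [Functor.map_comp, hψ, IsIso.inv_hom_id, CategoryTheory.Functor.map_id]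

variable {C : Type u} [SmallCategory C] {J : GrothendieckTopology C} {O : Sheaf J CommRingCat.{u}}
  [HasDerivedCategory.{w} (ModSite.Mod O)]
  {ℬ : Type (u + 1)} [Category.{u} ℬ] [Abelian ℬ] [HasDerivedCategory.{w'} ℬ]
  (Φ : ℬ ⥤ ModSite.Mod O) [Φ.Additive] [PreservesFiniteLimits Φ] [PreservesFiniteColimits Φ]
  {RG : DerivedCategory (ModSite.Mod O) ⥤ DerivedCategory ℬ}
  (adj : Φ.mapDerivedCategory ⊣ RG)
  (A : ObjectProperty (ModSite.Mod O)) [WSerre.IsWeakSerre A] {B : Set C}

theorem main
    (h2a : ∀ F' : ℬ, A (Φ.obj F'))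
    (h2b : ∀ F' G' : ℬ, Function.Bijective (fun φ : F' ⟶ G' => Φ.map φ))
    (h2c : ∀ F : ModSite.Mod O, A F → ∃ F' : ℬ, Nonempty (Φ.obj F' ≅ F))
    (h3 : ∀ F' : ℬ, IsIso (adj.unit.app ((singleFunctor ℬ 0).obj F')))
    (hB : ∀ U : C, ∃ (ι : Type u) (Y : ι → C) (g : ∀ i, Y i ⟶ U),
      Sieve.ofArrows Y g ∈ J U ∧ ∀ i, Y i ∈ B)
    (hA : ∀ V ∈ B, ∃ d : ℕ, ∀ T ∈ J V, ∃ (ι : Type u) (Y : ι → C) (g : ∀ i, Y i ⟶ V),
      (∀ i, T.arrows (g i)) ∧ Sieve.ofArrows Y g ∈ J V ∧ ∀ i, GoodFor O A d (Y i))
    (P₀ : ℬ) [Projective P₀]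
    (hP₀ : ∀ {M M' : ℬ} (φ : M ⟶ M'),
      Function.Bijective (fun x : P₀ ⟶ M => x ≫ φ) → IsIso φ)
    {d : ℕ} {W : C} (hW : GoodFor O A d W) (eW : Φ.obj P₀ ≅ ModSite.freeOn O W) :
    (∀ Y : DerivedCategory ℬ,
      WSerre.cohIn A (Φ.mapDerivedCategory.obj Y) ∧ IsIso (adj.unit.app Y)) ∧
    (∀ X : DerivedCategory (ModSite.Mod O), WSerre.cohIn A X → IsIso (adj.counit.app X)) := by
  letI : RG.CommShift ℤ := adj.rightAdjointCommShift ℤ
  haveI : adj.CommShift ℤ := adj.commShift_of_leftAdjoint ℤ
  haveI : RG.IsTriangulated := adj.isTriangulated_rightAdjoint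
  haveI : RG.Additive := adj.right_adjoint_additive
  -- the counit at single objects of `A`
  have key : ∀ F : ModSite.Mod O, A F →
      IsIso (adj.counit.app ((singleFunctor (ModSite.Mod O) 0).obj F)) := by
    intro F hF
    obtain ⟨F', ⟨e⟩⟩ := h2c F hF
    have hu := h3 F'
    let e' : Φ.mapDerivedCategory.obj ((singleFunctor ℬ 0).obj F') ≅
        (singleFunctor (ModSite.Mod O) 0).obj F :=
      (Φ.mapDerivedCategorySingleFunctor 0).app F' ≪≫ (singleFunctor _ 0).mapIso e
    have h1 : IsIso (adj.counit.app (Φ.mapDerivedCategory.obj ((singleFunctor ℬ 0).obj F'))) := by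
      have tri := adj.left_triangle_components ((singleFunctor ℬ 0).obj F')
      have : IsIso (Φ.mapDerivedCategory.map (adj.unit.app ((singleFunctor ℬ 0).obj F'))) :=
        inferInstance
      exact IsIso.of_isIso_fac_left tri
    exact isIso_app_of_iso adj.counit e' h1
  have plusX : ∀ X : DerivedCategory (ModSite.Mod O), WSerre.cohInPlus A X →
      IsIso (adj.counit.app X) := by
    rintro X ⟨hX, n, hn⟩
    exact isIso_counit_app adj X n hn (fun q => key _ (hX q))
  have cons : ∀ {F' G' : ℬ} (φ : F' ⟶ G'), IsIso (Φ.map φ) → IsIso φ :=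
    fun φ h => isIso_of_map_isIso Φ h2b φ h
  have p1 : ∀ Y : DerivedCategory ℬ, WSerre.cohIn A (Φ.mapDerivedCategory.obj Y) :=
    fun Y i => A.prop_of_iso (homologyMapIso Φ Y i).symm (h2a _)
  have p2 : ∀ X : DerivedCategory (ModSite.Mod O), WSerre.cohIn A X →
      IsIso (adj.counit.app X) := by
    intro X hX
    have hKplus : ∀ n, WSerre.cohInPlus A (CohCx.truncTower X n) :=
      cohInPlus_truncTower A X hX
    -- `H^i(RG π_n)` is an isomorphism for large `n`
    have hRπ : ∀ (i : ℤ) (n : ℕ), (d : ℤ) + 3 - i ≤ n →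
        IsIso ((homologyFunctor ℬ i).map (RG.map (CohCx.toTruncTower X n))) := by
      intro i n hn
      apply hP₀
      apply bijective_comp_homology (P := P₀)
      -- transfer along the adjunction
      have hup := bijective_comp_toTruncTower (B := B) hB hA hW X hX i n hn
      let eX : Φ.mapDerivedCategory.obj ((singleFunctor ℬ i).obj P₀) ≅ Xj O W i :=
        (Φ.mapDerivedCategorySingleFunctor i).app P₀ ≪≫ (singleFunctor _ i).mapIso eW
      have hup' := bijective_comp_of_iso eX (CohCx.toTruncTower X n) hup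
      constructor
      · intro σ σ' hσ
        dsimp only at hσ
        apply (adj.homEquiv _ _).symm.injective
        apply hup'.1
        dsimp only
        rw [← adj.homEquiv_naturality_right_symm, ← adj.homEquiv_naturality_right_symm, hσ]
      · intro τ
        obtain ⟨ρ, hρ⟩ := hup'.2 ((adj.homEquiv _ _).symm τ)
        dsimp only at hρ
        refine ⟨adj.homEquiv _ _ ρ, ?_⟩
        dsimp only
        apply (adj.homEquiv _ _).symm.injective
        rw [adj.homEquiv_naturality_right_symm, Equiv.symm_apply_apply, hρ]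
    rw [DerivedCategory.isIso_iff]
    intro i
    let n : ℕ := max ((d : ℤ) + 3 - i).toNat (-i).toNat
    have nat := adj.counit_naturality (CohCx.toTruncTower X n)
    have h1 : IsIso (adj.counit.app (CohCx.truncTower X n)) := plusX _ (hKplus n)
    have h3' : IsIso ((homologyFunctor (ModSite.Mod O) i).map (CohCx.toTruncTower X n)) :=
      isIso_homology_toTruncTower X _ i (by
        have : (-i).toNat ≤ n := le_max_right _ _
        omega)
    have h6 : IsIso ((homologyFunctor (ModSite.Mod O) i).map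
        (Φ.mapDerivedCategory.map (RG.map (CohCx.toTruncTower X n)))) := by
      rw [isIso_homology_map_iff Φ]
      have := hRπ i n (by
        have : ((d : ℤ) + 3 - i).toNat ≤ n := le_max_left _ _
        omega)
      infer_instance
    have h4 := congrArg (fun φ => (homologyFunctor (ModSite.Mod O) i).map φ) nat
    rw [Functor.map_comp, Functor.map_comp] at h4
    have h5 : IsIso ((homologyFunctor (ModSite.Mod O) i).map (adj.counit.app X) ≫
        (homologyFunctor (ModSite.Mod O) i).map (CohCx.toTruncTower X n)) := by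
      rw [← h4]
      infer_instance
    exact IsIso.of_isIso_comp_right _
      ((homologyFunctor (ModSite.Mod O) i).map (CohCx.toTruncTower X n))
  refine ⟨fun Y => ⟨p1 Y, ?_⟩, p2⟩
  have hε := p2 _ (p1 Y)
  have tri := adj.left_triangle_components Y
  have hLη : IsIso (Φ.mapDerivedCategory.map (adj.unit.app Y)) := by
    have h7 : Φ.mapDerivedCategory.map (adj.unit.app Y) =
        inv (adj.counit.app (Φ.mapDerivedCategory.obj Y)) := by
      rw [← cancel_mono (adj.counit.app (Φ.mapDerivedCategory.obj Y)), tri, IsIso.inv_hom_id]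
      rfl
    rw [h7]
    infer_instance
  rw [DerivedCategory.isIso_iff]
  intro i
  apply cons
  rw [← isIso_homology_map_iff Φ]
  infer_instance

end Groth.Agent.H1.UnbddProj
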