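import Mathlib
import Groth.Prelude.Def_SiteCmp
import Groth.Agent.Lib.Helper1.FreeOnLoc
import Groth.Agent.Lib.Helper1.HjSite
import Groth.Agent.Lib.Helper1.RlimCoh
import Groth.Agent.Lib.Helper1.TruncTower2
import Groth.Agent.S6153

set_option autoImplicit false
set_option linter.unusedSectionVars false
universe u
open CategoryTheory CategoryTheory.Limits Opposite DerivedCategory
attribute [local instance] HasDerivedCategory.standard

namespace Groth.Agent.H1.UnitInD

open Groth.Agent.H1.FreeOnLoc Groth.Agent.H1.SingleHom Groth.Agent.H1.HjSite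
  Groth.Agent.H1.RlimCoh Groth.Agent.H1.TruncTower2

variable {C : Type u} [SmallCategory C] {J : GrothendieckTopology C} {O_C : Sheaf J CommRingCat.{u}}
  {D : Type u} [SmallCategory D] {K : GrothendieckTopology D} {O_D : Sheaf K CommRingCat.{u}}
  (f : ModSite.RMor O_C O_D) [PreservesFiniteLimits f.pull] [SiteCmp.HasRpushD f]
  (adj : SiteCmp.pullD f ⊣ SiteCmp.RpushD f) (F' : ModSite.Mod O_D)

/-- the unit composed: `σ ≫ η = homEquiv (L σ)` -/
lemma comp_unit_eq {X Y : DerivedCategory (ModSite.Mod O_D)} (σ : X ⟶ Y) :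
    σ ≫ adj.unit.app Y = adj.homEquiv _ _ ((SiteCmp.pullD f).map σ) := by
  rw [Adjunction.homEquiv_unit]
  exact adj.unit.naturality σ

lemma homEquiv_symm_zero {X : DerivedCategory (ModSite.Mod O_D)}
    {Y : DerivedCategory (ModSite.Mod O_C)} :
    (adj.homEquiv X Y).symm 0 = 0 := by
  rw [Adjunction.homEquiv_counit, Functor.map_zero, zero_comp]

lemma pullD_map_eq_zero_of_comp_unit {X Y : DerivedCategory (ModSite.Mod O_D)} (σ : X ⟶ Y)
    (h : σ ≫ adj.unit.app Y = 0) : (SiteCmp.pullD f).map σ = 0 := by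
  rw [comp_unit_eq] at h
  have := congrArg (adj.homEquiv _ _).symm h
  rw [Equiv.symm_apply_apply, homEquiv_symm_zero] at this
  exact this

/-- `pullD (single_j M) ≅ single_j (pull M)` -/
noncomputable abbrev isoS (j : ℤ) (M : ModSite.Mod O_D) :
    (SiteCmp.pullD f).obj ((singleFunctor _ j).obj M) ≅ (singleFunctor _ j).obj (f.pull.obj M) :=
  (f.pull.mapDerivedCategorySingleFunctor j).app M

lemma isoS_naturality (j : ℤ) {M N : ModSite.Mod O_D} (q : M ⟶ N) :
    (SiteCmp.pullD f).map ((singleFunctor _ j).map q) ≫ (isoS f j N).hom =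
      (isoS f j M).hom ≫ (singleFunctor _ j).map (f.pull.map q) :=
  (f.pull.mapDerivedCategorySingleFunctor j).hom.naturality q

variable (B' : Set D)
  (hB' : ∀ U : D, ∃ (ι : Type u) (Y : ι → D) (g : ∀ i, Y i ⟶ U),
    Sieve.ofArrows Y g ∈ K U ∧ ∀ i, Y i ∈ B')
  (hv : ∀ V ∈ B', ∀ k : ℕ, 0 < k →
    Subsingleton (ModSite.HU O_C (f.pull.obj F') k (f.fn.obj V)))
  (hbij : ∀ V : D, Function.Bijective (fun φ : ModSite.freeOn O_D V ⟶ F' => f.pull.map φ))

include adj hv in
/-- vanishing of `Hom(single_j (freeOn V), Rf_* f^* F')` for `j ≠ 0`, `V ∈ B'` -/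
lemma hom_eq_zero (V : D) (hV : V ∈ B') (j : ℤ) (hj : j ≠ 0)
    (σ : Xj O_D V j ⟶ (SiteCmp.RpushD f).obj ((SiteCmp.pullD f).obj (SiteCmp.inD O_D F'))) :
    σ = 0 := by
  obtain ⟨e0⟩ := Groth.Agent.S6153.result f V
  let iso1 : (SiteCmp.pullD f).obj (Xj O_D V j) ≅ Xj O_C (f.fn.obj V) j :=
    isoS f j _ ≪≫ (singleFunctor _ j).mapIso e0
  let iso2 := isoS f 0 F'
  let σ' := (adj.homEquiv _ _).symm σ
  have h0 : iso1.inv ≫ σ' ≫ iso2.hom = 0 := by
    apply hom_single_eq_zero_of_HU (f.fn.obj V) (f.pull.obj F') j 0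
    intro h0j
    apply hv V hV
    omega
  have hσ' : σ' = 0 := by
    have : σ' = iso1.hom ≫ (iso1.inv ≫ σ' ≫ iso2.hom) ≫ iso2.inv := by simp
    rw [this, h0, zero_comp, comp_zero]
  have : σ = adj.homEquiv _ _ σ' := by simp [σ']
  rw [this, hσ', ← homEquiv_symm_zero f adj, Equiv.apply_symm_apply]

include adj hB' hv in
lemma isZero_homology (j : ℤ) (hj : j ≠ 0) :
    IsZero ((homologyFunctor _ j).obj
      ((SiteCmp.RpushD f).obj ((SiteCmp.pullD f).obj (SiteCmp.inD O_D F')))) := by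
  apply isZero_of_sections O_D
  intro X s
  obtain ⟨T, hT, hl⟩ := exists_local_rep O_D _ j s
  apply hom_ext_of_cover O_D s 0 T hT
  intro Y g hg
  obtain ⟨σ, hσ⟩ := hl g hg
  rw [comp_zero, ← hσ]
  apply eq_zero_of_cover hB'
  intro V hV w
  rw [← rho_precomp]
  have := hom_eq_zero f adj F' B' hv V hV j hj ((singleFunctor _ j).map (fmap O_D w) ≫ σ)
  rw [this, rho_zero]

include adj hbij in
lemma isIso_homology_zero :
    IsIso ((homologyFunctor _ 0).map (adj.unit.app (SiteCmp.inD O_D F'))) := by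
  let Y0 := SiteCmp.inD O_D F'
  let η := adj.unit.app Y0
  let ι0 : F' ≅ (homologyFunctor _ 0).obj Y0 :=
    ((singleFunctorCompHomologyFunctorIso _ 0).app F').symm
  have hrho : ∀ {X : D} (q : ModSite.freeOn O_D X ⟶ F'),
      rho ((singleFunctor _ 0).map q) = q ≫ ι0.hom := by
    intro X q
    have := rho_precomp q (𝟙 ((singleFunctor _ 0).obj F'))
    rw [Category.comp_id] at this
    rw [this]
    congr 1
    simp [rho, ι0]
  apply isIso_of_sections O_D
  · intro X s hs
    let s₀ := s ≫ ι0.inv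
    have hs₀ : s = s₀ ≫ ι0.hom := by simp [s₀]
    let σ : Xj O_D X 0 ⟶ Y0 := (singleFunctor _ 0).map s₀
    have h1 : rho (σ ≫ η) = 0 := by rw [rho_comp, hrho, ← hs₀, hs]
    obtain ⟨T, hT, hl⟩ := exists_local_zero O_D _ 0 (σ ≫ η) h1
    have : s₀ = 0 := by
      apply hom_ext_of_cover O_D s₀ 0 T hT
      intro Y g hg
      rw [comp_zero]
      have h2 := hl g hg
      have h3 : (singleFunctor _ 0).map (fmap O_D g ≫ s₀) ≫ η = 0 := by
        rw [Functor.map_comp, Category.assoc]; exact h2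
      have h4 := pullD_map_eq_zero_of_comp_unit f adj _ h3
      have h5 := isoS_naturality f 0 (fmap O_D g ≫ s₀)
      rw [h4, zero_comp] at h5
      have h6 : (singleFunctor _ 0).map (f.pull.map (fmap O_D g ≫ s₀)) = 0 := by
        rw [← cancel_epi (isoS f 0 _).hom, ← h5, comp_zero]
      have h7 : f.pull.map (fmap O_D g ≫ s₀) = 0 :=
        (singleFunctor _ 0).map_injective (by rw [h6, Functor.map_zero])
      exact (hbij Y).1 (by simpa using h7)
    rw [hs₀, this, zero_comp]
  · intro X s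
    obtain ⟨T, hT, hl⟩ := exists_local_rep O_D _ 0 s
    refine ⟨T, hT, fun Y g hg => ?_⟩
    obtain ⟨σ, hσ⟩ := hl g hg
    let σ' := (adj.homEquiv _ _).symm σ
    obtain ⟨t, ht⟩ := (singleFunctor _ 0).map_surjective
      ((isoS f 0 _).inv ≫ σ' ≫ (isoS f 0 F').hom)
    obtain ⟨q, hq⟩ := (hbij Y).2 t
    have h1 : σ' = (SiteCmp.pullD f).map ((singleFunctor _ 0).map q) := by
      have := isoS_naturality f 0 q
      rw [← cancel_mono (isoS f 0 F').hom, this]
      change _ = _ ≫ (singleFunctor _ 0).map (f.pull.map q)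
      rw [show f.pull.map q = t from hq, ht]
      simp
    have h2 : σ = (singleFunctor _ 0).map q ≫ η := by
      rw [comp_unit_eq, ← h1]; simp [σ']
    refine ⟨q ≫ ι0.hom, ?_⟩
    rw [← hσ, h2, rho_comp, hrho]

include adj hB' hv hbij in
/-- the unit `F' ⟶ Rf_* f^* F'` is an isomorphism if the higher cohomology of `f^* F'`
vanishes on a basis and `f^*` is bijective on sections of `F'` -/
theorem isIso_unit : IsIso (adj.unit.app (SiteCmp.inD O_D F')) := by
  rw [DerivedCategory.isIso_iff]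
  intro n
  by_cases hn : n = 0
  · subst hn
    exact isIso_homology_zero f adj F' hbij
  · have h1 : IsZero ((homologyFunctor _ n).obj (SiteCmp.inD O_D F')) := by
      have g1 : ((singleFunctor (ModSite.Mod O_D) 0).obj F').IsLE 0 := inferInstance
      have g2 : ((singleFunctor (ModSite.Mod O_D) 0).obj F').IsGE 0 := inferInstance
      rcases lt_or_gt_of_ne hn with h | h
      · exact DerivedCategory.isZero_of_isGE _ 0 n h
      · exact DerivedCategory.isZero_of_isLE _ 0 n h
    have h2 := isZero_homology f adj F' B' hB' hv n hn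
    exact ⟨⟨0, h1.eq_of_src _ _, h2.eq_of_src _ _⟩⟩

end Groth.Agent.H1.UnitInD
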