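import Groth.Agent.Lib.Helper1.ProjHom
import Groth.Agent.Lib.Helper1.AdjExact

/-!
Helper library (helper1): the unit of `Φ.mapDerivedCategory ⊣ RG` at a single object, for an exact
fully faithful `Φ : ℬ ⥤ 𝒜` where `ℬ` has a projective generator `P₀` whose image has no higher
cohomology with coefficients in the image of `Φ`.
-/

set_option autoImplicit false
set_option linter.unusedSectionVars false
universe w w' v v' u u'
open CategoryTheory CategoryTheory.Limits DerivedCategory

namespace Groth.Agent.H1.UnitSingle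

open Groth.Agent.H1.ProjHom Groth.Agent.H1.SingleHom

variable {𝒜 : Type u} [Category.{v} 𝒜] [Abelian 𝒜] [HasDerivedCategory.{w} 𝒜]
  {ℬ : Type u'} [Category.{v'} ℬ] [Abelian ℬ] [HasDerivedCategory.{w'} ℬ]
  (Φ : ℬ ⥤ 𝒜) [Φ.Additive] [PreservesFiniteLimits Φ] [PreservesFiniteColimits Φ]
  [Φ.Full] [Φ.Faithful]
  {RG : DerivedCategory 𝒜 ⥤ DerivedCategory ℬ} (adj : Φ.mapDerivedCategory ⊣ RG)

theorem isIso_unit_single (P₀ : ℬ) [Projective P₀]
    (hP₀ : ∀ {M M' : ℬ} (φ : M ⟶ M'),
      Function.Bijective (fun x : P₀ ⟶ M => x ≫ φ) → IsIso φ)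
    (M : ℬ)
    (hvan : ∀ p : ℤ, p ≠ 0 →
      ∀ τ : Φ.mapDerivedCategory.obj ((singleFunctor ℬ p).obj P₀) ⟶
        Φ.mapDerivedCategory.obj ((singleFunctor ℬ 0).obj M), τ = 0) :
    IsIso (adj.unit.app ((singleFunctor ℬ 0).obj M)) := by
  rw [DerivedCategory.isIso_iff]
  intro p
  apply hP₀
  apply bijective_comp_homology (P := P₀)
  -- reduce to bijectivity of `Lf.map`
  have hcomp : ∀ σ : (singleFunctor ℬ p).obj P₀ ⟶ (singleFunctor ℬ 0).obj M,
      σ ≫ adj.unit.app ((singleFunctor ℬ 0).obj M) =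
        adj.homEquiv _ _ (Φ.mapDerivedCategory.map σ) := by
    intro σ
    rw [Adjunction.homEquiv_unit]
    exact (adj.unit_naturality σ).symm
  suffices h : Function.Bijective
      (fun σ : (singleFunctor ℬ p).obj P₀ ⟶ (singleFunctor ℬ 0).obj M =>
        Φ.mapDerivedCategory.map σ) by
    constructor
    · intro σ σ' hσ
      dsimp only at hσ
      rw [hcomp, hcomp] at hσ
      exact h.1 ((adj.homEquiv _ _).injective hσ)
    · intro τ
      obtain ⟨σ, hσ⟩ := h.2 ((adj.homEquiv _ _).symm τ)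
      dsimp only at hσ
      refine ⟨σ, ?_⟩
      dsimp only
      rw [hcomp, hσ, Equiv.apply_symm_apply]
  by_cases hp : p = 0
  · subst hp
    let e := Φ.mapDerivedCategorySingleFunctor 0
    have hnat : ∀ f : P₀ ⟶ M, Φ.mapDerivedCategory.map ((singleFunctor ℬ 0).map f) =
        e.hom.app P₀ ≫ (singleFunctor 𝒜 0).map (Φ.map f) ≫ e.inv.app M := by
      intro f
      have := e.hom.naturality f
      dsimp only [Functor.comp_map] at this
      rw [← Category.assoc, ← this, Category.assoc, ← NatTrans.comp_app, e.hom_inv_id,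
        NatTrans.id_app]
      exact (Category.comp_id _).symm
    constructor
    · intro σ σ' hσ
      dsimp only at hσ
      obtain ⟨f, rfl⟩ := (singleFunctor ℬ 0).map_surjective σ
      obtain ⟨f', rfl⟩ := (singleFunctor ℬ 0).map_surjective σ'
      rw [hnat, hnat] at hσ
      have h1 : (singleFunctor 𝒜 0).map (Φ.map f) = (singleFunctor 𝒜 0).map (Φ.map f') := by
        have h2 := (cancel_epi (e.hom.app P₀)).1 hσ
        exact (cancel_mono (e.inv.app M)).1 h2
      rw [Φ.map_injective ((singleFunctor 𝒜 0).map_injective h1)]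
    · intro τ
      obtain ⟨g, hg⟩ := (singleFunctor 𝒜 0).map_surjective (e.inv.app P₀ ≫ τ ≫ e.hom.app M)
      obtain ⟨f, rfl⟩ := Φ.map_surjective g
      refine ⟨(singleFunctor ℬ 0).map f, ?_⟩
      dsimp only
      rw [hnat, hg]
      simp only [Category.assoc, ← NatTrans.comp_app_assoc, ← NatTrans.comp_app, e.hom_inv_id,
        NatTrans.id_app, Category.id_comp]
      exact Category.comp_id _
  · -- both sides vanish
    have hz : IsZero ((homologyFunctor ℬ p).obj ((singleFunctor ℬ 0).obj M)) := by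
      rcases lt_or_gt_of_ne hp with h | h
      · exact isZero_of_isGE _ 0 p h
      · exact isZero_of_isLE _ 0 p h
    have hs : ∀ σ : (singleFunctor ℬ p).obj P₀ ⟶ (singleFunctor ℬ 0).obj M, σ = 0 := by
      intro σ
      apply eq_zero_of_rho_eq_zero
      exact hz.eq_of_tgt _ _
    constructor
    · intro σ σ' _
      rw [hs σ, hs σ']
    · intro τ
      exact ⟨0, by dsimp only; rw [hvan p hp τ, Functor.map_zero]⟩

end Groth.Agent.H1.UnitSingle
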