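import Mathlib
import Groth.Agent.Lib.Helper3.WEtaleSch
import Groth.Agent.Lib.Helper3.WEtale5

/-!
# Lifting geometric points along weakly étale morphisms (helper1)
-/

set_option autoImplicit false
universe u
open CategoryTheory CategoryTheory.Limits AlgebraicGeometry Opposite

namespace Groth.Agent.H1.WEtaleLift

open Groth.Agent.Lib.helper3

/-- a nonzero weakly étale algebra over a separably closed field has a retraction to the field -/
theorem exists_retraction (k : Type u) [Field k] [IsSepClosed k] (B : Type u) [CommRing B]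
    [Nontrivial B] [Algebra k B] [Algebra.WeaklyEtale k B] :
    ∃ ψ : B →+* k, ψ.comp (algebraMap k B) = RingHom.id k := by
  obtain ⟨q, hq⟩ := Ideal.exists_maximal B
  letI : Field (B ⧸ q) := Ideal.Quotient.field q
  haveI : Algebra.WeaklyEtale k (B ⧸ q) := WEtale3.weaklyEtale_quotient q
  haveI : Algebra.IsIntegral k (B ⧸ q) := WEtale3.isIntegral (k := k) (B := B ⧸ q)
  haveI : Algebra.IsSeparable k (B ⧸ q) :=
    ⟨fun x => WEtale5.separable_minpoly (K := k) (B := B ⧸ q) x⟩
  have hb := IsSepClosed.algebraMap_bijective k (B ⧸ q)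
  let e : k ≃+* (B ⧸ q) := RingEquiv.ofBijective (algebraMap k (B ⧸ q)) hb
  refine ⟨(e.symm : (B ⧸ q) →+* k).comp (Ideal.Quotient.mk q), ?_⟩
  ext a
  change e.symm (Ideal.Quotient.mk q (algebraMap k B a)) = a
  have : Ideal.Quotient.mk q (algebraMap k B a) = e a := rfl
  rw [this, RingEquiv.symm_apply_apply]

/-- a nonempty scheme weakly étale over a separably closed field has a rational point -/
theorem exists_section {k : Type u} [Field k] [IsSepClosed k] {P : Scheme.{u}}
    (p : P ⟶ Spec (CommRingCat.of k)) [WeaklyEtale p] (x : P) :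
    ∃ s : Spec (CommRingCat.of k) ⟶ P, s ≫ p = 𝟙 _ := by
  obtain ⟨_, ⟨W, hW, rfl⟩, hxW, -⟩ := P.isBasis_affineOpens.exists_subset_of_mem_open
    (Set.mem_univ x) isOpen_univ
  obtain ⟨W, rfl⟩ : ∃ W' : P.Opens, W' = W := ⟨W, rfl⟩
  haveI : Nonempty W := ⟨⟨x, hxW⟩⟩
  obtain ⟨φ, hφ⟩ := Spec.map_surjective (hW.isoSpec.inv ≫ W.ι ≫ p)
  haveI : WeaklyEtale (Spec.map φ) := by
    rw [hφ]
    infer_instance
  have hQ := (WEtaleSch.weaklyEtale_SpecMap_iff φ).1 inferInstance
  unfold WEtaleSch.Q at hQ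
  letI : Algebra k Γ(P, W) := φ.hom.toAlgebra
  haveI : Algebra.WeaklyEtale k Γ(P, W) := hQ
  haveI : Nontrivial Γ(P, W) := by
    haveI : Nonempty (Spec Γ(P, W)) := ⟨hW.isoSpec.hom.base ⟨x, hxW⟩⟩
    exact (PrimeSpectrum.nonempty_iff_nontrivial).1 ‹_›
  obtain ⟨ψ, hψ⟩ := exists_retraction k Γ(P, W)
  refine ⟨Spec.map (CommRingCat.ofHom ψ) ≫ hW.isoSpec.inv ≫ W.ι, ?_⟩
  rw [Category.assoc, Category.assoc, ← hφ, ← Spec.map_comp]
  have : φ ≫ CommRingCat.ofHom ψ = 𝟙 _ := by
    ext a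
    exact congrArg (fun f : k →+* k => f a) hψ
  rw [this, Spec.map_id]

/-- **lifting of geometric points along weakly étale morphisms** -/
theorem exists_lift {V U : Scheme.{u}} (g : V ⟶ U) [WeaklyEtale g] {k : Type u} [Field k]
    [IsSepClosed k] (ξ : Spec (CommRingCat.of k) ⟶ U) (v : V) (hv : g.base v = ξ.base default) :
    ∃ ξ' : Spec (CommRingCat.of k) ⟶ V, ξ' ≫ g = ξ := by
  obtain ⟨z, -, -⟩ := Scheme.Pullback.exists_preimage_pullback v default hv
  obtain ⟨s, hs⟩ := exists_section (pullback.snd g ξ) z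
  refine ⟨s ≫ pullback.fst g ξ, ?_⟩
  rw [Category.assoc, pullback.condition, ← Category.assoc, hs, Category.id_comp]

end Groth.Agent.H1.WEtaleLift
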