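import Mathlib
import Groth.Prelude.Def_WeakSerre
import Groth.Agent.Lib.Helper1.AdjFF

set_option autoImplicit false
set_option linter.unusedSectionVars false
open CategoryTheory CategoryTheory.Limits Opposite

namespace Groth.Agent.H1.WSerreMap

open Groth.Agent.H1.AdjFF

universe v₁ v₂ u₁ u₂

variable {𝒞 : Type u₁} {𝒟 : Type u₂} [Category.{v₁} 𝒞] [Category.{v₂} 𝒟] [Abelian 𝒞] [Abelian 𝒟]
  {L : 𝒟 ⥤ 𝒞} {R : 𝒞 ⥤ 𝒟} (adj : L ⊣ R)
  [R.Full] [R.Faithful] [R.Additive] [L.Additive] [PreservesFiniteLimits L]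
  (A : ObjectProperty 𝒞) [WSerre.IsWeakSerre A]
  (hE : ∀ S : ShortComplex 𝒞, S.ShortExact → A S.X₁ → Epi (R.map S.g))

include adj hE

lemma shortExact_map {S : ShortComplex 𝒞} (hS : S.ShortExact) (h1 : A S.X₁) :
    (S.map R).ShortExact := by
  have := adj.rightAdjoint_preservesLimits
  have := hS.mono_f
  have hepi := hE S hS h1
  exact ShortComplex.ShortExact.mk'
    (hS.exact.map_of_mono_of_preservesKernel R hS.mono_f inferInstance)
    (inferInstance : Mono (R.map S.f)) hepi

lemma containsZero_map : (A.map R).ContainsZero := by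
  obtain ⟨Z, hZ, hAZ⟩ := A.exists_prop_of_containsZero
  exact ⟨⟨R.obj Z, R.map_isZero hZ, A.prop_map_obj R hAZ⟩⟩

lemma isClosedUnderKernels_map : (A.map R).IsClosedUnderKernels where
  kernels_le := by
    rintro _ ⟨f', k, hk, ⟨hX₁, hX₂⟩⟩
    have := adj.rightAdjoint_preservesLimits
    obtain ⟨F₁, hF₁, ⟨e₁⟩⟩ := (A.prop_map_iff R _).1 hX₁
    obtain ⟨F₂, hF₂, ⟨e₂⟩⟩ := (A.prop_map_iff R _).1 hX₂
    let f : F₁ ⟶ F₂ := R.preimage (e₁.hom ≫ f' ≫ e₂.inv)
    have hf : R.map f = e₁.hom ≫ f' ≫ e₂.inv := R.map_preimage _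
    have hK : A (kernel f) := A.prop_kernel f hF₁ hF₂
    refine (A.prop_map_iff R _).2 ⟨kernel f, hK, ⟨?_⟩⟩
    have e3 := IsLimit.conePointUniqueUpToIso (kernelIsKernel f') hk
    exact PreservesKernel.iso R f ≪≫ kernel.mapIso (R.map f) f' e₁ e₂ (by rw [hf]; simp) ≪≫ e3

lemma isClosedUnderCokernels_map : (A.map R).IsClosedUnderCokernels where
  cokernels_le := by
    rintro _ ⟨f', k, hk, ⟨hX₁, hX₂⟩⟩
    obtain ⟨F₁, hF₁, ⟨e₁⟩⟩ := (A.prop_map_iff R _).1 hX₁
    obtain ⟨F₂, hF₂, ⟨e₂⟩⟩ := (A.prop_map_iff R _).1 hX₂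
    let f : F₁ ⟶ F₂ := R.preimage (e₁.hom ≫ f' ≫ e₂.inv)
    have hf : R.map f = e₁.hom ≫ f' ≫ e₂.inv := R.map_preimage _
    have hQ : A (cokernel f) := A.prop_cokernel f hF₁ hF₂
    have hI : A (Abelian.image f) := A.prop_kernel (cokernel.π f) hF₂ hQ
    have hK : A (kernel (Abelian.factorThruImage f)) :=
      A.prop_kernel (Abelian.factorThruImage f) hF₁ hI
    -- first short exact sequence
    let S1 : ShortComplex 𝒞 :=
      ShortComplex.mk (kernel.ι (Abelian.factorThruImage f)) (Abelian.factorThruImage f) (by simp)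
    have hS1 : S1.ShortExact := ShortComplex.ShortExact.mk'
      (ShortComplex.exact_of_f_is_kernel _ (kernelIsKernel _))
      (inferInstance : Mono (kernel.ι _)) (inferInstance : Epi (Abelian.factorThruImage f))
    have hp : Epi (R.map (Abelian.factorThruImage f)) := hE S1 hS1 hK
    -- second short exact sequence
    let S2 : ShortComplex 𝒞 :=
      ShortComplex.mk (Abelian.image.ι f) (cokernel.π f) (by simp)
    have hS2 : S2.ShortExact := ShortComplex.ShortExact.mk'
      (ShortComplex.exact_of_f_is_kernel _ (kernelIsKernel _))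
      (inferInstance : Mono (kernel.ι _)) (inferInstance : Epi (cokernel.π f))
    have hS2' : (S2.map R).ShortExact := shortExact_map adj A hE hS2 hI
    have hc : IsColimit (CokernelCofork.ofπ (f := R.map (Abelian.image.ι f))
        (R.map (cokernel.π f)) (by rw [← R.map_comp]; simp)) := hS2'.gIsCokernel
    have hc' := isCokernelEpiComp hc (R.map (Abelian.factorThruImage f)) (h := R.map f)
      (by rw [← Functor.map_comp]; congr 1; exact (Abelian.image.fac f).symm)
    refine (A.prop_map_iff R _).2 ⟨cokernel f, hQ, ⟨?_⟩⟩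
    have e4 := IsColimit.coconePointUniqueUpToIso hc' (cokernelIsCokernel (R.map f))
    have e3 := IsColimit.coconePointUniqueUpToIso (cokernelIsCokernel f') hk
    exact e4 ≪≫ cokernel.mapIso (R.map f) f' e₁ e₂ (by rw [hf]; simp) ≪≫ e3

lemma isClosedUnderExtensions_map : (A.map R).IsClosedUnderExtensions where
  prop_X₂_of_shortExact {S'} hS' h₁ h₃ := by
    have := adj.leftAdjoint_preservesColimits
    have hL : (S'.map L).ShortExact := hS'.map_of_exact L
    have a₁ : A (L.obj S'.X₁) := prop_L_of_map adj A h₁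
    have a₃ : A (L.obj S'.X₃) := prop_L_of_map adj A h₃
    have a₂ : A (L.obj S'.X₂) := A.prop_X₂_of_shortExact hL a₁ a₃
    have hRL : ((S'.map L).map R).ShortExact := shortExact_map adj A hE hL a₁
    let φ : S' ⟶ (S'.map L).map R :=
      { τ₁ := adj.unit.app _
        τ₂ := adj.unit.app _
        τ₃ := adj.unit.app _
        comm₁₂ := (adj.unit.naturality S'.f).symm
        comm₂₃ := (adj.unit.naturality S'.g).symm }
    have i1 : IsIso φ.τ₁ := isIso_unit_of_map adj A h₁
    have i3 : IsIso φ.τ₃ := isIso_unit_of_map adj A h₃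
    have i2 : IsIso φ.τ₂ := ShortComplex.isIso₂_of_shortExact_of_isIso₁₃ φ hS' hRL
    exact map_of_isIso_unit adj A a₂ i2

theorem isWeakSerre_map : WSerre.IsWeakSerre (A.map R) := by
  have := containsZero_map adj A hE
  have := isClosedUnderKernels_map adj A hE
  have := isClosedUnderCokernels_map adj A hE
  have := isClosedUnderExtensions_map adj A hE
  exact {}

end Groth.Agent.H1.WSerreMap
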