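import Groth.Agent.Lib.Helper1.TriNat
import Groth.Agent.Lib.Helper23.Devissage

set_option autoImplicit false
set_option linter.unusedSectionVars false

universe w w' v v' u u'

open CategoryTheory Category Limits Pretriangulated

namespace Groth.Agent.H1.WayOut

open Groth.Agent.H1.TriNat DerivedCategory

section homology

variable {A : Type u} [Category.{v} A] [Abelian A] [HasDerivedCategory.{w} A]

/-- In a distinguished triangle whose third object has vanishing cohomology in degrees
`i - 1` and `i`, the first map is an isomorphism on `H^i`. -/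
lemma isIso_homology_mor₁ (T : Triangle (DerivedCategory A)) (hT : T ∈ distTriang _) (i : ℤ)
    (h₃ : IsZero ((homologyFunctor A i).obj T.obj₃))
    (h₃' : IsZero ((homologyFunctor A (i - 1)).obj T.obj₃)) :
    IsIso ((homologyFunctor A i).map T.mor₁) := by
  have h1 : Epi ((homologyFunctor A i).map T.mor₁) :=
    (HomologySequence.epi_homologyMap_mor₁_iff T hT i).2 (h₃.eq_of_tgt _ _)
  have h2 : Mono ((homologyFunctor A i).map T.mor₁) :=
    (HomologySequence.mono_homologyMap_mor₁_iff T hT (i - 1) i (by omega)).2 (h₃'.eq_of_src _ _)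
  exact isIso_of_mono_of_epi _

end homology

section

variable {A : Type u} [Category.{v} A] [Abelian A] [HasDerivedCategory.{w} A]
  {B : Type u'} [Category.{v'} B] [HasZeroObject B] [Preadditive B] [HasShift B ℤ]
  [∀ n : ℤ, (shiftFunctor B n).Additive] [Pretriangulated B]
  {F G : DerivedCategory A ⥤ B} [F.CommShift ℤ] [G.CommShift ℤ]
  [F.IsTriangulated] [G.IsTriangulated]
  (τ : F ⟶ G) [NatTrans.CommShift τ ℤ]

/-- Dévissage: a natural transformation of triangulated functors which is an isomorphism on
the cohomology objects of a bounded object is an isomorphism on that object. -/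
theorem isIso_app_of_bounded (X : DerivedCategory A) (a b : ℤ) [X.IsGE a] [X.IsLE b]
    (h : ∀ i : ℤ, IsIso (τ.app ((singleFunctor A 0).obj ((homologyFunctor A i).obj X)))) :
    IsIso (τ.app X) := by
  refine Groth.Agent.Lib.helper23.Devissage.devissage_homology
    (fun X => IsIso (τ.app X)) (fun X Y e hX => isIso_app_of_iso τ e hX)
    (fun X hX => isIso_app_of_isZero τ X hX) (fun X n hX => isIso_app_shift τ X n hX)
    (fun T hT h₁ h₃ => isIso_app₂ τ T hT h₁ h₃) (b - a + 1).toNat b X ?_ ?_ h
  · intro i hi
    exact isZero_of_isLE X b i hi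
  · intro i hi
    exact isZero_of_isGE X a i (by omega)

end

section

variable {A : Type u} [Category.{v} A] [Abelian A] [HasDerivedCategory.{w} A]
  {B : Type u'} [Category.{v'} B] [Abelian B] [HasDerivedCategory.{w'} B]
  {F G : DerivedCategory A ⥤ DerivedCategory B} [F.CommShift ℤ] [G.CommShift ℤ]
  [F.IsTriangulated] [G.IsTriangulated]
  (τ : F ⟶ G) [NatTrans.CommShift τ ℤ]

/-- Way-out lemma: for left t-exact triangulated functors `F`, `G` between derived categories,
a natural transformation which is an isomorphism on the cohomology objects of a bounded below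
object is an isomorphism on that object. -/
theorem isIso_app_of_isGE
    (hF : ∀ (X : DerivedCategory A) (n : ℤ), X.IsGE n → (F.obj X).IsGE n)
    (hG : ∀ (X : DerivedCategory A) (n : ℤ), X.IsGE n → (G.obj X).IsGE n)
    (X : DerivedCategory A) (n₀ : ℤ) [X.IsGE n₀]
    (h : ∀ i : ℤ, IsIso (τ.app ((singleFunctor A 0).obj ((homologyFunctor A i).obj X)))) :
    IsIso (τ.app X) := by
  rw [DerivedCategory.isIso_iff]
  intro j
  let t : Triangulated.TStructure (DerivedCategory A) := TStructure.t
  let T := (t.triangleLEGE j (j + 1) rfl).obj X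
  have hT : T ∈ distTriang _ := t.triangleLEGE_distinguished j (j + 1) rfl X
  let X' := (t.truncLE j).obj X
  let ι : X' ⟶ X := (t.truncLEι j).app X
  have h3GE : T.obj₃.IsGE (j + 1) := by
    change t.IsGE ((t.truncGE (j + 1)).obj X) (j + 1)
    infer_instance
  -- claim 1
  have c1 : ∀ i : ℤ, i ≤ j → IsIso ((homologyFunctor A i).map ι) := by
    intro i hi
    exact isIso_homology_mor₁ T hT i (isZero_of_isGE T.obj₃ (j + 1) i (by omega))
      (isZero_of_isGE T.obj₃ (j + 1) (i - 1) (by omega))
  -- claim 2
  have c2 : ∀ (H : DerivedCategory A ⥤ DerivedCategory B) [H.CommShift ℤ] [H.IsTriangulated],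
      (∀ (X : DerivedCategory A) (n : ℤ), X.IsGE n → (H.obj X).IsGE n) →
      IsIso ((homologyFunctor B j).map (H.map ι)) := by
    intro H _ _ hH
    have hT' := H.map_distinguished T hT
    have : (H.obj T.obj₃).IsGE (j + 1) := hH _ _ h3GE
    exact isIso_homology_mor₁ _ hT' j (isZero_of_isGE (H.obj T.obj₃) (j + 1) j (by omega))
      (isZero_of_isGE (H.obj T.obj₃) (j + 1) (j - 1) (by omega))
  have c2F := c2 F hF
  have c2G := c2 G hG
  -- claim 3
  have hX'GE : X'.IsGE n₀ := by
    change t.IsGE ((t.truncLE j).obj X) n₀
    infer_instance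
  have hX'LE : X'.IsLE j := by
    change t.IsLE ((t.truncLE j).obj X) j
    infer_instance
  have c3 : IsIso (τ.app X') := by
    refine isIso_app_of_bounded τ X' n₀ j ?_
    intro i
    by_cases hi : i ≤ j
    · have := c1 i hi
      exact isIso_app_of_iso τ ((singleFunctor A 0).mapIso
        (asIso ((homologyFunctor A i).map ι))).symm (h i)
    · exact isIso_app_of_isZero τ _
        (Functor.map_isZero _ (isZero_of_isLE X' j i (by omega)))
  have nat : (homologyFunctor B j).map (F.map ι) ≫ (homologyFunctor B j).map (τ.app X) =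
      (homologyFunctor B j).map (τ.app X') ≫ (homologyFunctor B j).map (G.map ι) := by
    rw [← Functor.map_comp, ← Functor.map_comp, τ.naturality]
  have : IsIso ((homologyFunctor B j).map (F.map ι) ≫ (homologyFunctor B j).map (τ.app X)) := by
    rw [nat]
    infer_instance
  exact IsIso.of_isIso_comp_left ((homologyFunctor B j).map (F.map ι)) _

end

end Groth.Agent.H1.WayOut
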