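import Groth.Agent.Lib.Helper1.ZSplitA
import Groth.Agent.Lib.Helper10.AlgSpPoints

/-!
# Étale-local splitting of the finite part of a separated quasi-finite morphism (helper1), part B

`assemble`: from scheme-level data (an étale `g : U₁ ⟶ T` and an open `V` of `W' ×_T U₁` finite over `U₁`)
to an open and closed subspace of any fibre product `U ×_Y X`, finite over `U`.
-/

set_option autoImplicit false
universe u
open CategoryTheory CategoryTheory.Limits AlgebraicGeometry Opposite

namespace Groth.Agent.H1.ZSplit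

open AlgSp Groth.Agent.Lib.helper5 Groth.Agent.Lib.helper5.OpenSub Groth.Agent.Lib.helper5.NearLocus
  Groth.Agent.Lib.helper5.LqfLocus Groth.Agent.Lib.helper11

variable {S : Scheme.{u}}

set_option maxHeartbeats 1600000 in
theorem assemble {X Y X' : Space S} (f : X ⟶ Y) (hf2 : IsSeparatedMor f.hom) (j : X' ⟶ X)
    (hj : RepWith @IsOpenImmersion j.hom)
    {T W' : Over S} (b₀ : (yon S).obj T ⟶ Y.obj) (w' : W' ⟶ T) (c' : (yon S).obj W' ⟶ X'.obj)
    (sq : IsPullback c' ((yon S).map w') (j.hom ≫ f.hom) b₀)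
    {U₁ : Scheme.{u}} (g : U₁ ⟶ T.left) (V : (pullback w'.left g).Opens)
    (hfin : IsFinite (V.ι ≫ pullback.snd w'.left g))
    (P : Space S) (prX : P ⟶ X) (prU : P.obj ⟶ (yon S).obj (Over.mk (g ≫ T.hom)))
    (hP : IsPullback prX.hom prU f.hom
      ((yon S).map (Over.homMk g rfl : Over.mk (g ≫ T.hom) ⟶ T) ≫ b₀)) :
    ∃ (Vsp : Space S) (jV : Vsp ⟶ P), RepWith @IsOpenImmersion jV.hom ∧
      RepWith @IsClosedImmersion jV.hom ∧ IsFiniteMor (jV.hom ≫ prU) ∧
      (∀ v : Points Vsp.obj, ∃ z : ↥(pullback w'.left g), z ∈ V ∧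
        Points.map (jV.hom ≫ prX.hom) v = Points.ofPt (c' ≫ j.hom) (pullback.fst w'.left g z) ∧
        Points.map (jV.hom ≫ prU) v =
          Points.ofScheme (Over.mk (g ≫ T.hom)) (pullback.snd w'.left g z)) ∧
      (∀ z : ↥(pullback w'.left g), z ∈ V → ∃ v : Points Vsp.obj,
        Points.map (jV.hom ≫ prX.hom) v = Points.ofPt (c' ≫ j.hom) (pullback.fst w'.left g z) ∧
        Points.map (jV.hom ≫ prU) v =
          Points.ofScheme (Over.mk (g ≫ T.hom)) (pullback.snd w'.left g z)) ∧
      (∀ w : Points P.obj, w ∉ Set.range (Points.map jV.hom) →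
        Points.map prX.hom w ∈ Set.range (Points.map j.hom) →
        ∃ z : ↥(pullback w'.left g), z ∉ V ∧
          Points.map prX.hom w = Points.ofPt (c' ≫ j.hom) (pullback.fst w'.left g z) ∧
          Points.map prU w = Points.ofScheme (Over.mk (g ≫ T.hom)) (pullback.snd w'.left g z)) := by
  let U : Over S := Over.mk (g ≫ T.hom)
  let gO : U ⟶ T := Over.homMk g rfl
  let Q : Over S := Over.mk (pullback.snd w'.left g ≫ U.hom)
  let fstO : Q ⟶ W' := Over.homMk (pullback.fst w'.left g) (by
    show pullback.fst w'.left g ≫ W'.hom = pullback.snd w'.left g ≫ g ≫ T.hom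
    rw [← Over.w w', ← Category.assoc, pullback.condition, Category.assoc])
  let sndO : Q ⟶ U := Over.homMk (pullback.snd w'.left g) rfl
  have sq0 : IsPullback fstO sndO w' gO := by
    apply IsPullback.of_map (Over.forget S)
    · apply (Over.forget S).map_injective
      simp only [Functor.map_comp]
      exact pullback.condition
    · exact IsPullback.of_hasPullback w'.left g
  have sqY := sq0.map (yon S)
  have sqQ : IsPullback ((yon S).map fstO ≫ c') ((yon S).map sndO) (j.hom ≫ f.hom)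
      ((yon S).map gO ≫ b₀) := sqY.paste_horiz sq
  have hcomm : ((yon S).map fstO ≫ c' ≫ j.hom) ≫ f.hom = (yon S).map sndO ≫ ((yon S).map gO ≫ b₀) := by
    have := sqQ.w
    simpa only [Category.assoc] using this
  let k : (yon S).obj Q ⟶ P.obj := hP.lift _ _ hcomm
  have hk1 : k ≫ prX.hom = (yon S).map fstO ≫ c' ≫ j.hom := hP.lift_fst _ _ _
  have hk2 : k ≫ prU = (yon S).map sndO := hP.lift_snd _ _ _
  have sqk : IsPullback k ((yon S).map fstO ≫ c') prX.hom j.hom := by
    refine IsPullback.of_right ?_ ?_ hP.flip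
    · rw [hk2]
      exact sqQ.flip
    · rw [hk1, Category.assoc]
  have hk : RepWith @IsOpenImmersion k :=
    (RepWith (S := S) @IsOpenImmersion).of_isPullback sqk.flip hj
  let VO : Over S := subOver Q V
  let ιO : VO ⟶ Q := subOverι Q V
  have hι : RepWith @IsOpenImmersion ((yon S).map ιO) := repWith_subOverι Q V
  have hjV : RepWith @IsOpenImmersion ((yon S).map ιO ≫ k) :=
    (RepWith (S := S) @IsOpenImmersion).comp_mem _ _ hι hk
  have hprU : IsSeparatedMor prU := QDesc.isSeparatedMor_of_isPullback hP hf2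
  have hm : ((yon S).map ιO ≫ k) ≫ prU = (yon S).map (ιO ≫ sndO) := by
    rw [Category.assoc, hk2, Functor.map_comp]
  haveI : IsFinite (ιO ≫ sndO).left := hfin
  have hci := repWith_isClosedImmersion_of_finite_comp _ hjV prU hprU (ιO ≫ sndO) hm
  have hX1 : ((yon S).map ιO ≫ k) ≫ prX.hom = (yon S).map ιO ≫ (yon S).map fstO ≫ (c' ≫ j.hom) := by
    rw [Category.assoc, hk1]
  -- point computations
  have pX : ∀ v₀ : ↥VO.left, Points.map (((yon S).map ιO ≫ k) ≫ prX.hom) (Points.ofScheme VO v₀) =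
      Points.ofPt (c' ≫ j.hom) (pullback.fst w'.left g (ιO.left v₀)) := by
    intro v₀
    rw [← Points.ofPt_eq_map_ofScheme, hX1, ofPt_yon_map_comp, ofPt_yon_map_comp]
    rfl
  have pU : ∀ v₀ : ↥VO.left, Points.map (((yon S).map ιO ≫ k) ≫ prU) (Points.ofScheme VO v₀) =
      Points.ofScheme U (pullback.snd w'.left g (ιO.left v₀)) := by
    intro v₀
    rw [← Points.ofPt_eq_map_ofScheme, hm, ofPt_yon_map]
    rfl
  refine ⟨⟨(yon S).obj VO, IsAlgSpace.yon_obj VO⟩, ObjectProperty.homMk ((yon S).map ιO ≫ k),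
    hjV, hci, ?_, ?_, ?_, ?_⟩
  · show IsFiniteMor (((yon S).map ιO ≫ k) ≫ prU)
    rw [hm]
    exact isFiniteMor_yon_map _
  · intro v
    refine ⟨ιO.left (Points.toScheme VO v), ?_, ?_, ?_⟩
    · exact (Points.toScheme VO v).2
    · have := pX (Points.toScheme VO v)
      rw [Points.ofScheme_toScheme] at this
      exact this
    · have := pU (Points.toScheme VO v)
      rw [Points.ofScheme_toScheme] at this
      exact this
  · intro z hz
    exact ⟨Points.ofScheme VO ⟨z, hz⟩, pX ⟨z, hz⟩, pU ⟨z, hz⟩⟩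
  · intro w hw hx
    obtain ⟨x', hx'⟩ := hx
    obtain ⟨q, hq1, hq2⟩ := Groth.Agent.Lib.helper10.exists_point_of_isPullback sqk w x' hx'.symm
    have hq : q = Points.ofScheme Q (Points.toScheme Q q) := (Points.ofScheme_toScheme Q q).symm
    refine ⟨Points.toScheme Q q, ?_, ?_, ?_⟩
    · intro hz
      apply hw
      refine ⟨Points.ofScheme VO ⟨Points.toScheme Q q, hz⟩, ?_⟩
      show Points.map ((yon S).map ιO ≫ k) _ = w
      rw [← Points.ofPt_eq_map_ofScheme, ofPt_yon_map_comp, ← hq1]
      conv_rhs => rw [hq]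
      rw [← Points.ofPt_eq_map_ofScheme]
      rfl
    · rw [← hq1, ← Points.map_comp, hk1]
      conv_lhs => rw [hq]
      rw [← Points.ofPt_eq_map_ofScheme, ofPt_yon_map_comp]
      rfl
    · rw [← hq1, ← Points.map_comp, hk2]
      conv_lhs => rw [hq]
      rw [← Points.ofPt_eq_map_ofScheme, ofPt_yon_map]
      rfl

end Groth.Agent.H1.ZSplit
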