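import Groth.Agent.S0670

/-!
# Continuity of `X.Opens ⥤ X.Etale` (helper1)

`EtZar.ZarCont X` holds for every scheme: the functor is representably flat and preserves covers.
-/

set_option autoImplicit false
open CategoryTheory CategoryTheory.Limits AlgebraicGeometry Opposite TopologicalSpace
universe u

namespace Groth.Agent.H1.ZarContProof

theorem coverPreserving_zarToEt (X : Scheme.{u}) :
    CoverPreserving (Opens.grothendieckTopology X) X.smallEtaleTopology (EtZar.zarToEt X) where
  cover_preserve {U S} hS := by
    change _ ∈ X.smallEtaleTopology ((EtZar.zarToEt X).obj U)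
    have key : S.functorPushforward (EtZar.zarToEt X) ∈
        (X.smallPretopology @Etale @Etale).toGrothendieck ((EtZar.zarToEt X).obj U) := by
      refine (Scheme.mem_toGrothendieck_smallPretopology _ _).2 ?_
      rintro ⟨x, hx⟩
      obtain ⟨V, g, hg, hxV⟩ := hS x hx
      refine ⟨(EtZar.zarToEt X).obj V, (EtZar.zarToEt X).map g, ⟨x, hxV⟩,
        ⟨V, g, 𝟙 _, hg, (Category.id_comp _).symm⟩, ?_, ?_⟩
      · change Etale (X.homOfLE g.le)
        infer_instance
      · exact Scheme.homOfLE_apply' g.le x hxV
    rw [← Scheme.smallGrothendieckTopology_eq_toGrothendieck_smallPretopology X le_rfl] at key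
    exact key

theorem zarCont (X : Scheme.{u}) : EtZar.ZarCont X :=
  Functor.isContinuous_of_coverPreserving (compatiblePreservingOfFlat _ _)
    (coverPreserving_zarToEt X)

end Groth.Agent.H1.ZarContProof
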