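import Groth.Agent.S17614
import Groth.Agent.Lib.Helper1.FlasqueU
import Groth.Agent.Lib.Helper1.FreeYonedaU
import Groth.Agent.Lib.Helper1.SheafExactLoc

/-!
# Flasque Zariski sheaves with coefficients one universe up are acyclic (helper1)

For `X : Scheme.{u}` and `EtZar.Ab X = Sheaf (Opens X) AddCommGrpCat.{u+1}`:
* `isFl_of_injective` (any coefficient universe `max w u`);
* `isFl_quotient`, `ext_eq_zero_of_isFl : Ext^{n+1}(ℤ, A) = 0` for `A` flasque.
-/

set_option autoImplicit false
open CategoryTheory CategoryTheory.Limits AlgebraicGeometry Opposite TopologicalSpace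
universe w u

namespace Groth.Agent.H1.ZarFlasque

open Groth.Agent.H1.FlasqueU Abelian

section Inj

variable {X : TopCat.{u}} [HasSheafify (Opens.grothendieckTopology X) AddCommGrpCat.{max w u}]

theorem isFl_of_injective (F : Sheaf (Opens.grothendieckTopology X) AddCommGrpCat.{max w u})
    [Injective F] : IsFl F := by
  intro U V h s
  let J := Opens.grothendieckTopology X
  let i : U ⟶ V := homOfLE h
  have hmono : Mono i := ⟨fun _ _ _ => Subsingleton.elim _ _⟩
  let a : (FreeYonedaU.freeSheaf.{w} J).obj U ⟶ F := (FreeYonedaU.homEquiv.{w} J U F).symm s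
  let b : (FreeYonedaU.freeSheaf.{w} J).obj V ⟶ F :=
    Injective.factorThru a ((FreeYonedaU.freeSheaf.{w} J).map i)
  have hb : (FreeYonedaU.freeSheaf.{w} J).map i ≫ b = a := Injective.comp_factorThru _ _
  refine ⟨FreeYonedaU.homEquiv.{w} J V F b, ?_⟩
  have := FreeYonedaU.homEquiv_naturality_left.{w} J i F b
  rw [hb] at this
  simp only [a, Equiv.apply_symm_apply] at this
  exact this.symm

end Inj

section Zar

variable {X : Scheme.{u}}

instance wEqualsLocallyBijectiveZar (X : Scheme.{u}) :
    (Opens.grothendieckTopology X).WEqualsLocallyBijective AddCommGrpCat.{u + 1} :=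
  GrothendieckTopology.WEqualsLocallyBijective.ofEssentiallySmall (Opens.grothendieckTopology X)

/-- sections of a short exact sequence whose kernel is flasque -/
theorem surjective_of_shortExact {Sc : ShortComplex (EtZar.Ab X)} (hSc : Sc.ShortExact)
    (h1 : IsFl (X := X.toTopCat) Sc.X₁) (U : X.Opens) :
    Function.Surjective (Sc.g.hom.app (op U)) := by
  haveI := hSc.mono_f
  haveI := hSc.epi_g
  refine surjective_of_isFl (X := X.toTopCat) (A := Sc.X₁) (B := Sc.X₂) (C := Sc.X₃) Sc.f h1 ?_ ?_ ?_ U
  · intro V a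
    have := congrArg (fun k => k.hom.app (op V)) Sc.zero
    exact ConcreteCategory.congr_hom this a
  · intro V b hb
    exact Groth.Agent.H1.SheafExactLoc.exact_app Sc hSc.exact (op V) b hb
  · intro V c x hx
    have hls : Sheaf.IsLocallySurjective Sc.g :=
      (Sheaf.isLocallySurjective_iff_epi' (φ := Sc.g)).2 inferInstance
    have hmem := hls.imageSieve_mem c
    obtain ⟨W, g, ⟨b, hb⟩, hxW⟩ := hmem x hx
    exact ⟨W, leOfHom g, hxW, b, hb⟩

theorem isFl_quotient {Sc : ShortComplex (EtZar.Ab X)} (hSc : Sc.ShortExact)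
    (h1 : IsFl (X := X.toTopCat) Sc.X₁) (h2 : IsFl (X := X.toTopCat) Sc.X₂) :
    IsFl (X := X.toTopCat) Sc.X₃ := by
  intro U V h q
  obtain ⟨j, rfl⟩ := surjective_of_shortExact hSc h1 U q
  obtain ⟨j', rfl⟩ := h2 h j
  exact ⟨Sc.g.hom.app (op V) j', (hom_res (X := X.toTopCat) Sc.g h j').symm⟩

open Groth.Agent.S17614 in
/-- flasque sheaves are acyclic -/
theorem ext_eq_zero_of_isFl (n : ℕ) : ∀ (A : EtZar.Ab X), IsFl (X := X.toTopCat) A →
    ∀ x : Ext (constZ X) A (n + 1), x = 0 := by
  induction n with
  | zero =>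
    intro A hA x
    let Sc : ShortComplex (EtZar.Ab X) :=
      ShortComplex.mk (Injective.ι A) (cokernel.π (Injective.ι A)) (cokernel.condition _)
    have hSc : Sc.ShortExact :=
      { exact := ShortComplex.exact_cokernel (Injective.ι A)
        mono_f := inferInstanceAs (Mono (Injective.ι A))
        epi_g := inferInstanceAs (Epi (cokernel.π (Injective.ι A))) }
    haveI : Injective Sc.X₂ := inferInstanceAs (Injective (Injective.under A))
    have hsurj := surjective_of_shortExact hSc hA ⊤
    have := subsingleton_ext_one_of_lift hSc (constZ X) (fun φ =>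
      exists_lift_constZ Sc.g hsurj φ)
    exact Subsingleton.elim _ _
  | succ n ih =>
    intro A hA x
    let Sc : ShortComplex (EtZar.Ab X) :=
      ShortComplex.mk (Injective.ι A) (cokernel.π (Injective.ι A)) (cokernel.condition _)
    have hSc : Sc.ShortExact :=
      { exact := ShortComplex.exact_cokernel (Injective.ι A)
        mono_f := inferInstanceAs (Mono (Injective.ι A))
        epi_g := inferInstanceAs (Epi (cokernel.π (Injective.ι A))) }
    haveI : Injective Sc.X₂ := inferInstanceAs (Injective (Injective.under A))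
    have hinj : Injective Sc.X₂ := inferInstanceAs (Injective (Injective.under A))
    have h2 : IsFl (X := X.toTopCat) Sc.X₂ :=
      @isFl_of_injective.{u + 1, u} X.toTopCat (EtZar.hasSheafifyZar X) Sc.X₂ hinj
    have hQ := isFl_quotient hSc hA h2
    have hsub : Subsingleton (Ext (constZ X) Sc.X₃ (n + 1)) :=
      ⟨fun a b => (ih Sc.X₃ hQ a).trans (ih Sc.X₃ hQ b).symm⟩
    have := subsingleton_ext_succ_of_injective hSc (constZ X) (n + 1) hsub
    exact Subsingleton.elim _ _

end Zar

end Groth.Agent.H1.ZarFlasque
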