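import Groth.Agent.Lib.Helper14.AlgSpQuot2
import Groth.Agent.Lib.Helper7.AlgSpMono
import Mathlib.AlgebraicGeometry.Gluing

/-!
# Gluing representable open subsheaves (helper1)

A sheaf `X` on `Over S` covered by representable open subsheaves `h_{W i} ⟶ X` is representable.
-/

set_option autoImplicit false
universe u
open CategoryTheory CategoryTheory.Limits AlgebraicGeometry Opposite

namespace Groth.Agent.H1.ZarGlue

open AlgSp Groth.Agent.Lib.Helper14.AlgSpQuot

variable {S : Scheme.{u}} {X : Sp S} {ι : Type u} {W : ι → Over S}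
  {a : ∀ i, (yon S).obj (W i) ⟶ X} (ha : ∀ i, RepWith @IsOpenImmersion (a i))

include ha in
theorem mono_a (i : ι) : Mono (a i) :=
  Groth.Agent.Lib.helper7.mono_of_repWith (P := @IsOpenImmersion) (fun _ _ g hg => by
    have : IsOpenImmersion g := hg
    exact (inferInstance : Mono g)) (ha i)

theorem fst'_self_eq_snd (i : ι) : (ha i).rep.fst' (a i) = (ha i).rep.snd (a i) := by
  have := mono_a ha i
  apply (yon S).map_injective
  rw [← cancel_mono (a i), ((ha i).rep.isPullback' (a i)).w]

theorem isIso_fst'_self (i : ι) : IsIso ((ha i).rep.fst' (a i)) := by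
  have := mono_a ha i
  have := ((ha i).rep.isPullback' (a i)).isIso_fst_of_mono
  exact isIso_of_fully_faithful (yon S) _

theorem isOpenImmersion_fst' (i j : ι) : IsOpenImmersion ((ha i).rep.fst' (a j)).left :=
  (ha j).property _ _ _ ((ha i).1.isPullback' (a j)).flip

set_option backward.isDefEq.respectTransparency false in
open Functor.relativelyRepresentable in
/-- The gluing datum in `Over S`. -/
noncomputable def gd : CategoryTheory.GlueData (Over S) where
  J := ι
  U := W
  V := fun (i, j) ↦ (ha i).rep.pullback (a j)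
  f i j := (ha i).rep.fst' (a j)
  f_mono i j := by
    have := isOpenImmersion_fst' ha i j
    have : Mono ((ha i).rep.fst' (a j)).left := inferInstance
    exact (Over.forget S).mono_of_mono_map this
  f_id i := isIso_fst'_self ha i
  t i j := (ha i).rep.symmetry (ha j).rep
  t_id i := by
    apply (ha i).rep.hom_ext' <;> simp [fst'_self_eq_snd ha i]
  t' i j k := lift₃ _ _ _ (pullback₃.p₂ _ _ _) (pullback₃.p₃ _ _ _) (pullback₃.p₁ _ _ _)
    (by simp) (by simp)
  t_fac i j k := (ha j).rep.hom_ext' (by simp) (by simp)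
  cocycle i j k := pullback₃.hom_ext (by simp) (by simp) (by simp)


/-- The gluing datum of schemes. -/
noncomputable def sgd : Scheme.GlueData where
  toGlueData := (gd ha).mapGlueData (Over.forget S)
  f_open i j := isOpenImmersion_fst' ha i j

theorem gHom_aux (i j : ι) :
    ((gd ha).f i j).left ≫ (W i).hom =
      (((gd ha).t i j).left ≫ ((gd ha).f j i).left) ≫ (W j).hom := by
  have h1 : ((gd ha).f i j).left ≫ (W i).hom = ((gd ha).V (i, j)).hom := Over.w ((gd ha).f i j)
  have h2 : ((gd ha).f j i).left ≫ (W j).hom = ((gd ha).V (j, i)).hom := Over.w ((gd ha).f j i)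
  have h3 : ((gd ha).t i j).left ≫ ((gd ha).V (j, i)).hom = ((gd ha).V (i, j)).hom :=
    Over.w ((gd ha).t i j)
  rw [h1, Category.assoc, h2, h3]

/-- The structure morphism of the glued scheme. -/
noncomputable def gHom : (sgd ha).glued ⟶ S :=
  Multicoequalizer.desc (sgd ha).toGlueData.diagram S (fun i => (W i).hom) (by
    rintro ⟨i, j⟩
    exact gHom_aux ha i j)

/-- The glued scheme over `S`. -/
noncomputable def G : Over S := Over.mk (gHom ha)

theorem ι_gHom (i : ι) : (sgd ha).ι i ≫ gHom ha = (W i).hom :=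
  Multicoequalizer.π_desc _ _ _ _ _

/-- The inclusions of the pieces. -/
noncomputable def gι (i : ι) : W i ⟶ G ha := Over.homMk ((sgd ha).ι i) (ι_gHom ha i)

instance (i : ι) : IsOpenImmersion (gι ha i).left :=
  inferInstanceAs (IsOpenImmersion ((sgd ha).ι i))

/-- The overlaps. -/
noncomputable abbrev V (i j : ι) : Over S := (ha i).rep.pullback (a j)

/-- First projection of the overlap. -/
noncomputable abbrev p₁ (i j : ι) : V ha i j ⟶ W i := (ha i).rep.fst' (a j)

/-- Second projection of the overlap. -/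
noncomputable abbrev p₂ (i j : ι) : V ha i j ⟶ W j := (ha i).rep.snd (a j)

theorem isPullback_gι (i j : ι) :
    IsPullback (p₁ ha i j) (p₂ ha i j) (gι ha i) (gι ha j) := by
  have h := IsPullback.of_isLimit ((sgd ha).vPullbackConeIsLimit i j)
  have h1 : ((ha i).rep.symmetry (ha j).rep) ≫ (ha j).rep.fst' (a i) = (ha i).rep.snd (a j) :=
    Functor.relativelyRepresentable.symmetry_fst _ _
  have h' : IsPullback (p₁ ha i j).left
      ((ha i).rep.symmetry (ha j).rep ≫ (ha j).rep.fst' (a i)).left (gι ha i).left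
      (gι ha j).left := h
  rw [h1] at h'
  refine IsPullback.of_map (Over.forget S) ?_ h'
  apply Over.OverMorphism.ext
  exact h'.w

theorem cover_mem : Sieve.ofArrows W (gι ha) ∈ J S (G ha) := by
  refine cover_mem_family W (gι ha) (fun i => inferInstance) (fun i => inferInstance) ?_
  intro x
  obtain ⟨i, y, hy⟩ := (sgd ha).ι_jointly_surjective x
  exact ⟨i, y, hy⟩


theorem compat (i j : ι) :
    (yon S).map (p₁ ha i j) ≫ a i = (yon S).map (p₂ ha i j) ≫ a j :=
  ((ha i).rep.isPullback' (a j)).w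

theorem exists_desc : ∃ α : (yon S).obj (G ha) ⟶ X, ∀ i, (yon S).map (gι ha i) ≫ α = a i := by
  have hX : Presieve.IsSheaf (J S) X.obj := (isSheaf_iff_isSheaf_of_type _ _).1 X.property
  have hs := hX _ (cover_mem ha)
  rw [Sieve.ofArrows, ← Presieve.isSheafFor_iff_generate, Presieve.isSheafFor_arrows_iff] at hs
  obtain ⟨ξ, hξ, -⟩ := hs (fun i => (J S).uliftYonedaEquiv (a i)) (by
    intro i j Z gi gj hg
    obtain ⟨l, hl1, hl2⟩ := (isPullback_gι ha i j).exists_lift gi gj hg
    rw [GrothendieckTopology.uliftYonedaEquiv_naturality,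
      GrothendieckTopology.uliftYonedaEquiv_naturality]
    congr 1
    rw [← hl1, ← hl2, Functor.map_comp, Functor.map_comp, Category.assoc, Category.assoc,
      compat ha i j])
  refine ⟨(J S).uliftYonedaEquiv.symm ξ, fun i => ?_⟩
  apply (J S).uliftYonedaEquiv.injective
  rw [← GrothendieckTopology.uliftYonedaEquiv_naturality, Equiv.apply_symm_apply]
  exact hξ i

/-- Two morphisms to pieces with the same image in `X` have the same image in the glued scheme. -/
theorem comp_gι_eq {Z : Over S} {i j : ι} (u : Z ⟶ W i) (v : Z ⟶ W j)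
    (h : (yon S).map u ≫ a i = (yon S).map v ≫ a j) : u ≫ gι ha i = v ≫ gι ha j := by
  have e1 : (ha i).rep.lift' u v h ≫ p₁ ha i j = u :=
    Functor.relativelyRepresentable.lift'_fst _ _ _ _
  have e2 : (ha i).rep.lift' u v h ≫ p₂ ha i j = v :=
    Functor.relativelyRepresentable.lift'_snd _ _ _ _
  calc u ≫ gι ha i = ((ha i).rep.lift' u v h ≫ p₁ ha i j) ≫ gι ha i := by rw [e1]
    _ = ((ha i).rep.lift' u v h ≫ p₂ ha i j) ≫ gι ha j := by
        rw [Category.assoc, Category.assoc, (isPullback_gι ha i j).w]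
    _ = v ≫ gι ha j := by rw [e2]

theorem mono_of_desc (α : (yon S).obj (G ha) ⟶ X) (hα : ∀ i, (yon S).map (gι ha i) ≫ α = a i) :
    Mono α := by
  refine ⟨fun {Y} c d hcd => ?_⟩
  apply GrothendieckTopology.hom_ext_uliftYoneda.{u + 1, u, u + 1} (J := AlgSp.J S)
  intro Z e
  obtain ⟨c', hc'⟩ := (yon S).map_surjective (e ≫ c)
  obtain ⟨d', hd'⟩ := (yon S).map_surjective (e ≫ d)
  have hcd' : (yon S).map c' ≫ α = (yon S).map d' ≫ α := by
    rw [hc', hd', Category.assoc, Category.assoc, hcd]
  change e ≫ c = e ≫ d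
  rw [← hc', ← hd']
  congr 1
  -- `c' = d'` by separatedness of `h_G`
  have hsh : Presieve.IsSheaf (J S) ((yon S).obj (G ha)).obj :=
    (isSheaf_iff_isSheaf_of_type _ _).1 ((yon S).obj (G ha)).property
  have hmem : (Sieve.ofArrows W (gι ha)).pullback c' ⊓ (Sieve.ofArrows W (gι ha)).pullback d' ∈
      J S Z :=
    (J S).intersection_covering ((J S).pullback_stable c' (cover_mem ha))
      ((J S).pullback_stable d' (cover_mem ha))
  have hsep := (hsh _ hmem).isSeparatedFor
  have key : (⟨c'⟩ : ((yon S).obj (G ha)).obj.obj (op Z)) = ⟨d'⟩ := by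
    apply hsep.ext
    rintro Z' γ ⟨⟨_, u, _, ⟨i⟩, fac₁⟩, ⟨_, v, _, ⟨j⟩, fac₂⟩⟩
    change (⟨γ ≫ c'⟩ : ULift (Z' ⟶ G ha)) = ⟨γ ≫ d'⟩
    congr 1
    rw [← fac₁, ← fac₂]
    apply comp_gι_eq ha
    rw [← hα i, ← hα j, ← Category.assoc, ← Category.assoc, ← Functor.map_comp, ← Functor.map_comp,
      fac₁, fac₂, Functor.map_comp, Functor.map_comp, Category.assoc, Category.assoc, hcd']
  exact congrArg ULift.down key

/-- The sieve of morphisms along which `η` factors through one of the pieces. -/
def famSieve (a : ∀ i, (yon S).obj (W i) ⟶ X) {Z : Over S} (η : (yon S).obj Z ⟶ X) : Sieve Z where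
  arrows Z' c := ∃ (i : ι) (u : Z' ⟶ W i), (yon S).map u ≫ a i = (yon S).map c ≫ η
  downward_closed := by
    rintro Z' Z'' c ⟨i, u, hu⟩ d
    exact ⟨i, d ≫ u, by rw [Functor.map_comp, Category.assoc, hu, Functor.map_comp, Category.assoc]⟩

include ha in
/-- **Gluing.** A sheaf covered by representable open subsheaves is representable. -/
theorem exists_rep (hcov : ∀ (Z : Over S) (η : (yon S).obj Z ⟶ X), famSieve a η ∈ J S Z) :
    ∃ (G₀ : Over S) (α : (yon S).obj G₀ ⟶ X) (g : ∀ i, W i ⟶ G₀), IsIso α ∧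
      (∀ i, (yon S).map (g i) ≫ α = a i) ∧ (∀ i, IsOpenImmersion (g i).left) ∧
      (∀ x : G₀.left, ∃ i, x ∈ Set.range (g i).left) := by
  obtain ⟨α, hα⟩ := exists_desc ha
  haveI := mono_of_desc ha α hα
  refine ⟨G ha, α, gι ha, ?_, hα, fun i => inferInstance, ?_⟩
  · apply isIso_of_mono_of_liftSieve
    intro Z η
    refine (J S).superset_covering ?_ (hcov Z η)
    rintro Z' c ⟨i, u, hu⟩
    exact ⟨(yon S).map (u ≫ gι ha i), by rw [Functor.map_comp, Category.assoc, hα, hu]⟩
  · intro x
    obtain ⟨i, y, hy⟩ := (sgd ha).ι_jointly_surjective x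
    exact ⟨i, y, hy⟩

end Groth.Agent.H1.ZarGlue
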