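import Groth.Agent.Lib.Helper1.ZarFlasque
import Groth.Agent.Lib.Helper1.ExtShift
import Groth.Prelude.Def_Coh

/-!
# Zariski cohomology does not depend on the universe of the coefficients (helper1)

For `X : Scheme.{u}` and an abelian sheaf `F` on `X` with values in `AddCommGrpCat.{u}`, the sheaf
`Φ F = F ⋙ ulift` with values in `AddCommGrpCat.{u+1}` has the same cohomology:
`Sheaf.H F i ≃+ Sheaf.H (Φ F) i` (`nonempty_H_addEquiv`).
-/

set_option autoImplicit false
open CategoryTheory CategoryTheory.Limits AlgebraicGeometry Opposite TopologicalSpace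
universe w u

namespace Groth.Agent.H1.ZarUlift

open Groth.Agent.H1.FlasqueU Groth.Agent.H1.ZarFlasque Abelian Groth.Agent.S17614

/-- morphisms out of `ℤ` (lifted to the universe) are elements -/
noncomputable def evOne (M : AddCommGrpCat.{w}) : (AddCommGrpCat.of (ULift.{w} ℤ) ⟶ M) ≃+ M where
  toFun f := f.hom ⟨1⟩
  invFun m := AddCommGrpCat.ofHom ((zmultiplesHom M m).comp AddEquiv.ulift.toAddMonoidHom)
  left_inv f := by
    apply AddCommGrpCat.hom_ext
    have key : ∀ (f h : ULift.{w} ℤ →+ M), f ⟨1⟩ = h ⟨1⟩ → f = h := by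
      intro f h hfh
      have : f.comp (AddEquiv.ulift (α := ℤ)).symm.toAddMonoidHom =
          h.comp (AddEquiv.ulift (α := ℤ)).symm.toAddMonoidHom := by
        apply AddMonoidHom.ext_int
        exact hfh
      ext ⟨n⟩
      exact DFunLike.congr_fun this n
    apply key
    change (AddEquiv.ulift (⟨1⟩ : ULift.{w} ℤ)) • f.hom ⟨1⟩ = f.hom ⟨1⟩
    exact one_smul ℤ _
  right_inv m := by
    change (AddEquiv.ulift (⟨1⟩ : ULift.{w} ℤ)) • m = m
    exact one_smul ℤ m
  map_add' f g := rfl

theorem evOne_comp {M N : AddCommGrpCat.{w}} (f : AddCommGrpCat.of (ULift.{w} ℤ) ⟶ M) (h : M ⟶ N) :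
    evOne N (f ≫ h) = h.hom (evOne M f) := rfl

variable (X : Scheme.{u})

/-- abelian sheaves with small coefficients -/
abbrev ShU : Type (u + 1) := Sheaf (Opens.grothendieckTopology X) AddCommGrpCat.{u}

/-- the constant sheaf `ℤ` with small coefficients -/
noncomputable abbrev ZU : ShU X :=
  (constantSheaf (Opens.grothendieckTopology X) AddCommGrpCat.{u}).obj
    (AddCommGrpCat.of (ULift.{u} ℤ))

/-- lifting the universe of the coefficients -/
noncomputable abbrev Φ : ShU X ⥤ EtZar.Ab X :=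
  sheafCompose (Opens.grothendieckTopology X) AddCommGrpCat.uliftFunctor.{u + 1, u}

instance : (Φ X).Additive where
  map_add {F G f g} := by
    apply Sheaf.hom_ext
    ext U x
    rfl

noncomputable abbrev adjU :=
  constantSheafAdj (Opens.grothendieckTopology X) AddCommGrpCat.{u}
    (isTerminalTop : IsTerminal (⊤ : X.Opens))

noncomputable abbrev adjB :=
  constantSheafAdj (Opens.grothendieckTopology X) AddCommGrpCat.{u + 1}
    (isTerminalTop : IsTerminal (⊤ : X.Opens))

variable {X}

/-- global sections, small coefficients -/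
noncomputable def ψU (F : ShU X) : (ZU X ⟶ F) ≃+ F.obj.obj (op ⊤) :=
  ((adjU X).homAddEquiv _ F).trans (evOne (F.obj.obj (op ⊤)))

/-- global sections of the lifted sheaf -/
noncomputable def ψB (F : ShU X) : (constZ X ⟶ (Φ X).obj F) ≃+ F.obj.obj (op ⊤) :=
  (((adjB X).homAddEquiv _ ((Φ X).obj F)).trans (evOne (((Φ X).obj F).obj.obj (op ⊤)))).trans
    AddEquiv.ulift

theorem ψU_comp {F F' : ShU X} (f : F ⟶ F') (x : ZU X ⟶ F) :
    ψU F' (x ≫ f) = f.hom.app (op ⊤) (ψU F x) := by
  unfold ψU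
  rw [AddEquiv.trans_apply, AddEquiv.trans_apply]
  change evOne _ ((adjU X).homEquiv _ _ (x ≫ f)) = _
  rw [Adjunction.homEquiv_naturality_right]
  rfl

theorem ψB_comp {F F' : ShU X} (f : F ⟶ F') (y : constZ X ⟶ (Φ X).obj F) :
    ψB F' (y ≫ (Φ X).map f) = f.hom.app (op ⊤) (ψB F y) := by
  unfold ψB
  rw [AddEquiv.trans_apply, AddEquiv.trans_apply, AddEquiv.trans_apply, AddEquiv.trans_apply]
  change AddEquiv.ulift (evOne _ ((adjB X).homEquiv _ _ (y ≫ (Φ X).map f))) = _
  rw [Adjunction.homEquiv_naturality_right]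
  rfl

/-- the comparison of global sections -/
noncomputable def φ (F : ShU X) : (ZU X ⟶ F) ≃+ (constZ X ⟶ (Φ X).obj F) :=
  (ψU F).trans (ψB F).symm

theorem hφ {F F' : ShU X} (f : F ⟶ F') (x : ZU X ⟶ F) :
    φ F' (x ≫ f) = φ F x ≫ (Φ X).map f := by
  apply (ψB F').injective
  rw [ψB_comp]
  unfold φ
  rw [AddEquiv.trans_apply, AddEquiv.trans_apply, AddEquiv.apply_symm_apply,
    AddEquiv.apply_symm_apply, ψU_comp]


section Exact

theorem Φ_map_app {F G : ShU X} (f : F ⟶ G) (U : (X.Opens)ᵒᵖ) (x : ((Φ X).obj F).obj.obj U) :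
    ((Φ X).map f).hom.app U x = ⟨f.hom.app U x.down⟩ := rfl

theorem Φ_obj_map (F : ShU X) {U V : (X.Opens)ᵒᵖ} (i : U ⟶ V) (x : ((Φ X).obj F).obj.obj U) :
    ((Φ X).obj F).obj.map i x = ⟨F.obj.map i x.down⟩ := rfl

theorem Φ_shortExact {Sc : ShortComplex (ShU X)} (hSc : Sc.ShortExact) :
    (Sc.map (Φ X)).ShortExact := by
  haveI := hSc.mono_f
  haveI := hSc.epi_g
  have hmono : Mono ((Φ X).map Sc.f) := by
    have hinj := Groth.Agent.H1.SheafExactLoc.injective_app_of_mono Sc.f
    have h1 : ∀ U, Mono (((Φ X).map Sc.f).hom.app U) := by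
      intro U
      rw [AddCommGrpCat.mono_iff_injective]
      intro x y hxy
      have h2 : Sc.f.hom.app U x.down = Sc.f.hom.app U y.down := congrArg ULift.down hxy
      exact ULift.ext _ _ (hinj U h2)
    have h3 : Mono ((sheafToPresheaf _ _).map ((Φ X).map Sc.f)) :=
      @NatTrans.mono_of_mono_app _ _ _ _ _ _ ((sheafToPresheaf _ _).map ((Φ X).map Sc.f)) h1
    exact (sheafToPresheaf _ _).mono_of_mono_map h3
  have hex : (Sc.map (Φ X)).Exact := by
    refine Groth.Agent.H1.SheafExactLoc.exact_of_locally (Sc.map (Φ X)) (fun U x hx => ?_)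
    have hx' : Sc.g.hom.app (op U) x.down = 0 := congrArg ULift.down hx
    obtain ⟨a, ha⟩ := Groth.Agent.H1.SheafExactLoc.exact_app Sc hSc.exact (op U) x.down hx'
    refine ⟨⊤, GrothendieckTopology.top_mem _ _, fun {V} g _ => ?_⟩
    refine ⟨⟨Sc.X₁.obj.map g.op a⟩, ?_⟩
    change (⟨Sc.f.hom.app (op V) (Sc.X₁.obj.map g.op a)⟩ : ULift _) = ⟨Sc.X₂.obj.map g.op x.down⟩
    congr 1
    rw [← ha]
    exact ConcreteCategory.congr_hom (Sc.f.hom.naturality g.op) a
  have hepi : Epi ((Φ X).map Sc.g) := by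
    have hls : Sheaf.IsLocallySurjective Sc.g :=
      (Sheaf.isLocallySurjective_iff_epi' (φ := Sc.g)).2 inferInstance
    have hls' : Sheaf.IsLocallySurjective ((Φ X).map Sc.g) := by
      refine ⟨fun {U} s => ?_⟩
      have hmem := hls.imageSieve_mem s.down
      refine GrothendieckTopology.superset_covering _ ?_ hmem
      rintro V g ⟨b, hb⟩
      exact ⟨⟨b⟩, congrArg ULift.up hb⟩
    exact (Sheaf.isLocallySurjective_iff_epi' (φ := (Φ X).map Sc.g)).1 hls'
  exact
    { exact := hex
      mono_f := hmono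
      epi_g := hepi }

end Exact

theorem isFl_Φ (F : ShU X) (hF : IsFl (X := X.toTopCat) F) : IsFl (X := X.toTopCat) ((Φ X).obj F) := by
  intro U V h s
  obtain ⟨t, ht⟩ := hF h s.down
  exact ⟨⟨t⟩, congrArg ULift.up ht⟩

/-- **Zariski cohomology is independent of the universe of the coefficients.** -/
theorem nonempty_H_addEquiv (F : ShU X) (i : ℕ) :
    Nonempty (Sheaf.H F i ≃+ Sheaf.H ((Φ X).obj F) i) := by
  refine Groth.Agent.H1.ExtShift.nonempty_ext_addEquiv (Φ X) (ZU X) (constZ X) φ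
    (fun f x => hφ f x) (fun _ => True) ?_ i F trivial
  intro G _
  let Sc : ShortComplex (ShU X) :=
    ShortComplex.mk (Injective.ι G) (cokernel.π (Injective.ι G)) (cokernel.condition _)
  have hSc : Sc.ShortExact :=
    { exact := ShortComplex.exact_cokernel (Injective.ι G)
      mono_f := inferInstanceAs (Mono (Injective.ι G))
      epi_g := inferInstanceAs (Epi (cokernel.π (Injective.ι G))) }
  have hinj : Injective (Injective.under G) := inferInstance
  have hfl : IsFl (X := X.toTopCat) (Injective.under G) :=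
    @isFl_of_injective.{u, u} X.toTopCat inferInstance (Injective.under G) hinj
  exact ⟨Injective.under G, cokernel (Injective.ι G), Injective.ι G, cokernel.π (Injective.ι G),
    cokernel.condition _, hSc, Φ_shortExact hSc, inferInstance, trivial,
    fun n x => ext_eq_zero_of_isFl n _ (isFl_Φ _ hfl) x⟩

end Groth.Agent.H1.ZarUlift
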